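import Mathlib.Algebra.Category.ModuleCat.Ext.HasExt
import Mathlib.Algebra.Homology.DerivedCategory.Ext.Linear
import Mathlib.Algebra.Homology.DerivedCategory.Ext.ExactSequences
import Mathlib.RingTheory.Regular.RegularSequence
import Mathlib.RingTheory.Regular.Category

/-!
# `Ext(M, -)` and quotients of the second variable by a regular sequence (helper34)

If `Ext^i(M, N) = 0` for all `i > 0` and `rs` is weakly regular on `N` then
`Ext^i(M, N/(rs)N) = 0` for all `i > 0` and every map `M → N/(rs)N` lifts to `M → N`.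
Also: `N' ⊓ (rs)N = (rs)N'` when `rs` is weakly regular on `N/N'`.
-/

set_option autoImplicit false
universe u
open CategoryTheory Abelian Pointwise RingTheory.Sequence

namespace Groth.Agent.H34.ExtRegCov

variable {A : Type u} [CommRing A]

theorem ext_subsingleton_of_iso_right {X Y : ModuleCat.{u} A} (e : X ≅ Y) (Z : ModuleCat.{u} A)
    (n : ℕ) (h : Subsingleton (Ext Z X n)) : Subsingleton (Ext Z Y n) := by
  refine ⟨fun a b => ?_⟩
  have key : ∀ α : Ext Z Y n, α = 0 := by
    intro α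
    have h1 : (α.comp (Ext.mk₀ e.inv) (add_zero n)).comp (Ext.mk₀ e.hom) (add_zero n) = α := by
      rw [Ext.comp_assoc_of_third_deg_zero, Ext.mk₀_comp_mk₀, e.inv_hom_id, Ext.comp_mk₀_id]
    rw [← h1, h.elim (α.comp (Ext.mk₀ e.inv) (add_zero n)) 0, Ext.zero_comp]
  rw [key a, key b]

/-- one regular element. -/
theorem step (M N : ModuleCat.{u} A) (r : A) (hr : IsSMulRegular N r)
    (hvan : ∀ i, 0 < i → Subsingleton (Ext M N i)) :
    (∀ i, 0 < i → Subsingleton (Ext M (ModuleCat.of A (QuotSMulTop r N)) i)) ∧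
    ∀ φ : M ⟶ ModuleCat.of A (QuotSMulTop r N),
      ∃ ψ : M ⟶ N, ψ ≫ (ModuleCat.smulShortComplex N r).g = φ := by
  have hS : (ModuleCat.smulShortComplex N r).ShortExact := hr.smulShortComplex_shortExact
  constructor
  · intro i hi
    refine ⟨fun a b => ?_⟩
    have key : ∀ x₃ : Ext M (ModuleCat.smulShortComplex N r).X₃ i, x₃ = 0 := by
      intro x₃
      have h0 : x₃.comp hS.extClass rfl = 0 := (hvan (i + 1) (by omega)).elim _ _
      obtain ⟨x₂, hx₂⟩ := Ext.covariant_sequence_exact₃ M hS x₃ rfl h0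
      have : x₂ = 0 := (hvan i hi).elim _ _
      rw [← hx₂, this, Ext.zero_comp]
    exact (key a).trans (key b).symm
  · intro φ
    have h0 : (Ext.mk₀ φ).comp hS.extClass (zero_add 1) = 0 := (hvan 1 one_pos).elim _ _
    obtain ⟨x₂, hx₂⟩ := Ext.covariant_sequence_exact₃ M hS (Ext.mk₀ φ) (zero_add 1) h0
    obtain ⟨ψ, rfl⟩ := (Ext.mk₀_bijective _ _).2 x₂
    rw [Ext.mk₀_comp_mk₀] at hx₂
    exact ⟨ψ, (Ext.mk₀_bijective _ _).1 hx₂⟩

/-- regular sequences. -/
theorem main (M : Type u) [AddCommGroup M] [Module A M] :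
    ∀ (rs : List A) (N : Type u) [AddCommGroup N] [Module A N], IsWeaklyRegular N rs →
    (∀ i, 0 < i → Subsingleton (Ext (ModuleCat.of A M) (ModuleCat.of A N) i)) →
    (∀ i, 0 < i → Subsingleton (Ext (ModuleCat.of A M)
      (ModuleCat.of A (N ⧸ (Ideal.ofList rs • ⊤ : Submodule A N))) i)) ∧
    ∀ φ : M →ₗ[A] (N ⧸ (Ideal.ofList rs • ⊤ : Submodule A N)),
      ∃ ψ : M →ₗ[A] N, (Ideal.ofList rs • ⊤ : Submodule A N).mkQ ∘ₗ ψ = φ := by
  intro rs
  induction rs with
  | nil =>
    intro N _ _ _ hvan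
    have hbot : (Ideal.ofList ([] : List A) • ⊤ : Submodule A N) = ⊥ := by
      rw [Ideal.ofList_nil, Submodule.bot_smul]
    let e₀ : (N ⧸ (Ideal.ofList ([] : List A) • ⊤ : Submodule A N)) ≃ₗ[A] N :=
      Submodule.quotEquivOfEqBot _ hbot
    constructor
    · intro i hi
      exact ext_subsingleton_of_iso_right e₀.symm.toModuleIso _ i (hvan i hi)
    · intro φ
      refine ⟨e₀.toLinearMap ∘ₗ φ, ?_⟩
      ext m
      simp only [LinearMap.coe_comp, LinearEquiv.coe_coe, Function.comp_apply]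
      obtain ⟨n, hn⟩ := Submodule.mkQ_surjective _ (φ m)
      rw [← hn]
      congr 1
  | cons r rs ih =>
    intro N _ _ hreg hvan
    obtain ⟨hr, hrs⟩ := (isWeaklyRegular_cons_iff N r rs).mp hreg
    obtain ⟨hstep1, hstep2⟩ := step (ModuleCat.of A M) (ModuleCat.of A N) r hr hvan
    obtain ⟨hih1, hih2⟩ := ih (QuotSMulTop r N) hrs hstep1
    let e₁ := Submodule.quotOfListConsSMulTopEquivQuotSMulTopInner N r rs
    constructor
    · intro i hi
      exact ext_subsingleton_of_iso_right e₁.symm.toModuleIso _ i (hih1 i hi)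
    · intro φ
      obtain ⟨ψ₁, hψ₁⟩ := hih2 (e₁.toLinearMap ∘ₗ φ)
      obtain ⟨ψ, hψ⟩ := hstep2 (ModuleCat.ofHom ψ₁)
      refine ⟨ψ.hom, ?_⟩
      ext m
      apply e₁.injective
      have h1 := LinearMap.congr_fun hψ₁ m
      have h2 := congrArg (fun t => t.hom m) hψ
      simp only [LinearMap.coe_comp, LinearEquiv.coe_coe, Function.comp_apply] at h1 ⊢
      rw [← h1]
      have h3 : ((ModuleCat.smulShortComplex (ModuleCat.of A N) r).g).hom (ψ.hom m) = ψ₁ m := h2
      rw [← h3]
      rfl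

section Inter

open Submodule

/-- `(N/N')/r(N/N') ≃ (N/rN)/(image of N')`. -/
noncomputable def quotSwap (N : Type u) [AddCommGroup N] [Module A N] (N' : Submodule A N)
    (r : A) :
    QuotSMulTop r (N ⧸ N') ≃ₗ[A]
      (QuotSMulTop r N ⧸ N'.map (r • (⊤ : Submodule A N)).mkQ) :=
  (quotEquivOfEq (r • (⊤ : Submodule A (N ⧸ N'))) ((r • (⊤ : Submodule A N)).map N'.mkQ)
      (by rw [map_pointwise_smul, Submodule.map_top, range_mkQ])) ≪≫ₗ
    (quotientQuotientEquivQuotientSup N' (r • (⊤ : Submodule A N))) ≪≫ₗ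
    (quotEquivOfEq _ _ (sup_comm _ _)) ≪≫ₗ
    (quotientQuotientEquivQuotientSup (r • (⊤ : Submodule A N)) N').symm

/-- `N' ⊓ (rs)N = (rs)N'` when `rs` is weakly regular on `N/N'`. -/
theorem inf_smul_top_eq : ∀ (rs : List A) (N : Type u) [AddCommGroup N] [Module A N]
    (N' : Submodule A N), IsWeaklyRegular (N ⧸ N') rs →
    N' ⊓ (Ideal.ofList rs • ⊤ : Submodule A N) = Ideal.ofList rs • N' := by
  intro rs
  induction rs with
  | nil =>
    intro N _ _ N' _
    rw [Ideal.ofList_nil, Submodule.bot_smul, Submodule.bot_smul, inf_bot_eq]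
  | cons r rs ih =>
    intro N _ _ N' h
    obtain ⟨hr, hrs⟩ := (isWeaklyRegular_cons_iff (N ⧸ N') r rs).mp h
    set π : N →ₗ[A] QuotSMulTop r N := (r • (⊤ : Submodule A N)).mkQ with hπ
    have hrs' : IsWeaklyRegular (QuotSMulTop r N ⧸ N'.map π) rs :=
      ((quotSwap N N' r).isWeaklyRegular_congr rs).mp hrs
    have hih := ih (QuotSMulTop r N) (N'.map π) hrs'
    rw [Ideal.ofList_cons_smul r rs ⊤, Ideal.ofList_cons_smul r rs N']
    apply le_antisymm
    · rintro x ⟨hxN', hx⟩
      have h1 : π x ∈ N'.map π ⊓ (Ideal.ofList rs • ⊤ : Submodule A (QuotSMulTop r N)) := by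
        refine ⟨Submodule.mem_map_of_mem hxN', ?_⟩
        have h2 : π x ∈ (r • (⊤ : Submodule A N) ⊔ Ideal.ofList rs • ⊤).map π :=
          Submodule.mem_map_of_mem hx
        rw [Submodule.map_sup, Submodule.map_smul'', Submodule.map_top, hπ, Submodule.range_mkQ,
          Submodule.mkQ_map_self, bot_sup_eq] at h2
        exact h2
      rw [hih, ← Submodule.map_smul''] at h1
      obtain ⟨z, hz, hzx⟩ := h1
      have hzN' : z ∈ N' := Submodule.smul_le_right hz
      have h3 : x - z ∈ r • (⊤ : Submodule A N) := by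
        rw [← Submodule.ker_mkQ (r • (⊤ : Submodule A N)), LinearMap.mem_ker, map_sub]
        exact sub_eq_zero.mpr hzx.symm
      obtain ⟨n, -, hn⟩ := (Submodule.mem_smul_pointwise_iff_exists _ _ _).mp h3
      have hrn : r • n ∈ N' := by
        rw [hn]
        exact N'.sub_mem hxN' hzN'
      have hnN' : n ∈ N' := by
        have h4 : r • N'.mkQ n = r • (0 : N ⧸ N') := by
          rw [← map_smul, smul_zero]
          exact (Submodule.Quotient.mk_eq_zero N').mpr hrn
        have h5 := hr h4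
        exact (Submodule.Quotient.mk_eq_zero N').mp h5
      have hx' : x = r • n + z := by rw [hn]; abel
      rw [hx']
      exact Submodule.add_mem_sup (Submodule.smul_mem_pointwise_smul n r N' hnN') hz
    · refine sup_le (le_inf ?_ ?_) (le_inf ?_ ?_)
      · intro y hy
        obtain ⟨n, hn, rfl⟩ := (Submodule.mem_smul_pointwise_iff_exists _ _ _).mp hy
        exact N'.smul_mem r hn
      · exact le_sup_of_le_left (smul_mono_right r le_top)
      · exact Submodule.smul_le_right
      · exact le_sup_of_le_right (smul_mono_right _ le_top)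

end Inter

end Groth.Agent.H34.ExtRegCov
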