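import Groth.Agent.H34.GorDual
import Groth.Agent.Lib.Helper79.ExtRepD
import Groth.Agent.Lib.Helper85.HS.FiniteLength
import Groth.Agent.Lib.Helper60.LocalCohBasic

/-!
# Top local cohomology of a Gorenstein local ring is the injective hull of the residue field
(helper34)
-/

set_option autoImplicit false
universe u

namespace Groth.Agent.H34.GorHull

open IsLocalRing Groth.Agent.Lib.Helper60 Groth.Agent.Lib.Helper79.ExtRep CategoryTheory Abelian

variable (A : Type u) [CommRing A] [IsLocalRing A] [IsNoetherianRing A]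

theorem isFiniteLength_of_killed (X : Type u) [AddCommGroup X] [Module A X] [Module.Finite A X]
    (k : ℕ) (hX : Killed (maximalIdeal A) k X) : IsFiniteLength A X := by
  have h1 : IsFiniteLength A (A ⧸ maximalIdeal A ^ k) :=
    Groth.Agent.Lib.Helper2.isFiniteLength_quot_of_pow_le (maximalIdeal A ^ k) k le_rfl
  rw [isFiniteLength_iff_isNoetherian_isArtinian] at h1
  haveI : IsArtinian A (A ⧸ maximalIdeal A ^ k) := h1.2
  haveI : IsArtinianRing (A ⧸ maximalIdeal A ^ k) :=
    isArtinian_of_tower A (inferInstance : IsArtinian A (A ⧸ maximalIdeal A ^ k))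
  exact Groth.Agent.Lib.Helper85.HS.isFiniteLength_of_finite_of_torsion (maximalIdeal A ^ k) X
    (fun a ha p => hX a ha p)

/-- If `Ext^•(−, A)` is dualizing on finite length modules (concentrated in degree `n`, length
preserving), then `H^n_m(A)` is an injective hull of the residue field. -/
theorem exists_isInjectiveHull_of_ext_duality (n : ℕ)
    (hdual : ∀ (M : Type u) [AddCommGroup M] [Module A M], IsFiniteLength A M →
      (∀ i : ℕ, i ≠ n → Subsingleton (Ext (ModuleCat.of A M) (ModuleCat.of A A) i)) ∧
      Module.length A (Ext (ModuleCat.of A M) (ModuleCat.of A A) n) = Module.length A M) :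
    ∃ f : ResidueField A →ₗ[A] LocCoh.H (maximalIdeal A) n A, InjHull.IsInjectiveHull f := by
  have hVan : Van (maximalIdeal A) (ModuleCat.of A A) n := by
    intro X _ _ hfin hk i hi
    obtain ⟨k, hk⟩ := hk
    exact (hdual X (isFiniteLength_of_killed A X k hk)).1 i (by omega)
  apply Groth.Agent.Lib.Helper2.exists_isInjectiveHull_of_powerTorsion_socle_length
    (LocCoh.H (maximalIdeal A) n A) (fun y => lc_isPowerTorsion (maximalIdeal A) n _ y) ?_
    (fun j => maximalIdeal A ^ j) (fun j => ⟨j, le_rfl⟩) (fun N => ⟨N, le_rfl⟩) ?_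
  · -- socle
    have hkill : Killed (maximalIdeal A) 1 (ResidueField A) := by
      intro a ha x
      rw [pow_one] at ha
      obtain ⟨x, rfl⟩ := Ideal.Quotient.mk_surjective x
      change Ideal.Quotient.mk _ (a * x) = 0
      rw [Ideal.Quotient.eq_zero_iff_mem]
      exact Ideal.mul_mem_right _ _ ha
    haveI : Module.Finite A (ModuleCat.of A (ResidueField A)) :=
      Module.Finite.of_surjective (Algebra.linearMap A (ResidueField A))
        Ideal.Quotient.mk_surjective
    obtain ⟨e⟩ := nonempty_linearEquiv hVan (ModuleCat.of A (ResidueField A)) hkill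
    have hflk : IsFiniteLength A (ResidueField A) :=
      isFiniteLength_of_killed A (ResidueField A) 1 hkill
    have h1 := (hdual (ResidueField A) hflk).2
    have h2 : Module.length A (ResidueField A) = 1 := by
      haveI : IsSimpleModule A (A ⧸ maximalIdeal A) :=
        isSimpleModule_iff_quot_maximal.mpr ⟨maximalIdeal A, inferInstance, ⟨LinearEquiv.refl _ _⟩⟩
      exact Module.length_eq_one A (A ⧸ maximalIdeal A)
    rw [h2, e.length_eq] at h1
    have hsimple := Module.length_eq_one_iff.mp h1
    obtain ⟨I, hI, ⟨eq⟩⟩ := isSimpleModule_iff_quot_maximal.mp hsimple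
    obtain rfl : I = maximalIdeal A := IsLocalRing.eq_maximalIdeal hI
    exact ⟨eq⟩
  · intro j
    have hkill : Killed (maximalIdeal A) j (A ⧸ maximalIdeal A ^ j) := by
      intro a ha x
      obtain ⟨x, rfl⟩ := Ideal.Quotient.mk_surjective x
      change Ideal.Quotient.mk _ (a * x) = 0
      rw [Ideal.Quotient.eq_zero_iff_mem]
      exact Ideal.mul_mem_right _ _ ha
    haveI : Module.Finite A (ModuleCat.of A (A ⧸ maximalIdeal A ^ j)) :=
      (inferInstance : Module.Finite A (A ⧸ maximalIdeal A ^ j))
    obtain ⟨e⟩ := nonempty_linearEquiv hVan (ModuleCat.of A (A ⧸ maximalIdeal A ^ j)) hkill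
    have hfl : IsFiniteLength A (A ⧸ maximalIdeal A ^ j) :=
      isFiniteLength_of_killed A _ j hkill
    rw [← (hdual (A ⧸ maximalIdeal A ^ j) hfl).2]
    exact e.length_eq

/-- **`H^n_m(R) = E(k)` for a Gorenstein local ring of dimension `n`.** -/
theorem main (R : Type u) [CommRing R] [LocCoh.IsGorensteinLocalRing R] (n : ℕ)
    (hn : ringKrullDim R = n) :
    ∃ g : ResidueField R →ₗ[R] LocCoh.H (maximalIdeal R) n R, InjHull.IsInjectiveHull g :=
  exists_isInjectiveHull_of_ext_duality R n
    (fun M _ _ hM => Groth.Agent.H34.GorDual.ext_self_of_isFiniteLength R n hn M hM)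

end Groth.Agent.H34.GorHull
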