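import Mathlib
import Groth.Agent.Lib.Helper60.BC
import Groth.Agent.Lib.Helper29.Hartshorne
import Groth.Agent.Lib.Helper29.DepthSelf

/-!
# Liaison: elementary facts about ideals linked by a Gorenstein ideal (helper34)
-/

set_option autoImplicit false
universe u

namespace Groth.Agent.H34.Liaison

open Groth.Agent.Lib.Helper29 Groth.Agent.Lib.Helper60

/-- In a Gorenstein ring, `depth S_P = ht P`. -/
theorem depth_eq_height_of_gorenstein (S : Type u) [CommRing S] [LocCoh.IsGorensteinRing S]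
    (P : Ideal S) [P.IsPrime] :
    LocCoh.depth (Localization.AtPrime P) (Localization.AtPrime P) = P.height := by
  haveI := LocCoh.IsGorensteinRing.isGorensteinLocalRing_localization (A := S) P
  obtain ⟨t, ht, hdim, -⟩ := gorenstein_data (A := Localization.AtPrime P)
    LocCoh.IsGorensteinLocalRing.exists_hasInjectiveDimensionLT
  rw [Module.supportDim_self_eq_ringKrullDim, IsLocalization.AtPrime.ringKrullDim_eq_height P]
    at hdim
  rw [ht]
  exact (WithBot.coe_injective hdim).symm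

/-- In a Gorenstein ring, associated primes of the ring are minimal. -/
theorem mem_minimalPrimes_of_mem_associatedPrimes_self (S : Type u) [CommRing S]
    [LocCoh.IsGorensteinRing S] {Q : Ideal S} (hQ : Q ∈ associatedPrimes S S) :
    Q ∈ minimalPrimes S :=
  mem_minimalPrimes_of_mem_associatedPrimes_of_hasSk_two
    (fun p _ => by rw [depth_eq_height_of_gorenstein]; exact min_le_right _ _) hQ

variable {R : Type u} [CommRing R] [IsNoetherianRing R]

/-- If `R ⧸ 𝔠` is Gorenstein, the associated primes of `R ⧸ 𝔠` are minimal over `𝔠`. -/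
theorem mem_minimalPrimes_of_mem_associatedPrimes (𝔠 : Ideal R) [LocCoh.IsGorensteinRing (R ⧸ 𝔠)]
    {p : Ideal R} (hp : p ∈ associatedPrimes R (R ⧸ 𝔠)) : p ∈ 𝔠.minimalPrimes := by
  obtain ⟨hpp, x, hx⟩ := isAssociatedPrime_iff.mp hp
  have hmem : ∀ a : R, a ∈ p ↔ Ideal.Quotient.mk 𝔠 a * x = 0 := by
    intro a
    rw [hx, Submodule.mem_colon_singleton, Submodule.mem_bot]
    rfl
  have h𝔠p : 𝔠 ≤ p := by
    intro a ha
    rw [hmem, Ideal.Quotient.eq_zero_iff_mem.mpr ha, zero_mul]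
  have hker : RingHom.ker (Ideal.Quotient.mk 𝔠) ≤ p := by rwa [Ideal.mk_ker]
  have hcomap : (p.map (Ideal.Quotient.mk 𝔠)).comap (Ideal.Quotient.mk 𝔠) = p := by
    rw [Ideal.comap_map_of_surjective _ Ideal.Quotient.mk_surjective, ← RingHom.ker_eq_comap_bot,
      sup_eq_left.mpr hker]
  haveI : (p.map (Ideal.Quotient.mk 𝔠)).IsPrime :=
    Ideal.map_isPrime_of_surjective Ideal.Quotient.mk_surjective hker
  have hQ : p.map (Ideal.Quotient.mk 𝔠) ∈ associatedPrimes (R ⧸ 𝔠) (R ⧸ 𝔠) := by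
    rw [AssociatedPrimes.mem_iff, isAssociatedPrime_iff]
    refine ⟨inferInstance, x, ?_⟩
    ext y
    obtain ⟨a, rfl⟩ := Ideal.Quotient.mk_surjective y
    rw [Submodule.mem_colon_singleton, Submodule.mem_bot, smul_eq_mul, ← hmem, ← hcomap,
      Ideal.mem_comap, hcomap]
  have hmin := mem_minimalPrimes_of_mem_associatedPrimes_self (R ⧸ 𝔠) hQ
  rw [Ideal.minimalPrimes_eq_comap]
  exact ⟨_, hmin, hcomap⟩

/-- Directly linked ideals without common associated prime are geometrically linked. -/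
theorem inf_eq_of_linked (𝔠 I J : Ideal R) [LocCoh.IsGorensteinRing (R ⧸ 𝔠)]
    (hIJ : 𝔠.colon (I : Set R) = J) (hJI : 𝔠.colon (J : Set R) = I)
    (hdisj : Disjoint (associatedPrimes R (R ⧸ I)) (associatedPrimes R (R ⧸ J))) :
    I ⊓ J = 𝔠 := by
  have h𝔠I : 𝔠 ≤ I := by
    rw [← hJI]
    intro a ha
    rw [Submodule.mem_colon]
    intro b _
    exact 𝔠.mul_mem_right _ ha
  have h𝔠J : 𝔠 ≤ J := by
    rw [← hIJ]
    intro a ha
    rw [Submodule.mem_colon]
    intro b _
    exact 𝔠.mul_mem_right _ ha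
  apply le_antisymm _ (le_inf h𝔠I h𝔠J)
  by_contra hle
  obtain ⟨x, hxIJ, hx𝔠⟩ := Set.not_subset.mp hle
  -- an associated prime of `R/𝔠` of the form `𝔠 : y` with `y ∈ I ⊓ J`
  let N : Submodule R (R ⧸ 𝔠) := Submodule.map (Submodule.mkQ 𝔠) (I ⊓ J)
  have hxN : Ideal.Quotient.mk 𝔠 x ∈ N := ⟨x, hxIJ, rfl⟩
  have hne : (⟨Ideal.Quotient.mk 𝔠 x, hxN⟩ : N) ≠ 0 := by
    intro h
    apply hx𝔠
    have := congrArg Subtype.val h
    simpa [Ideal.Quotient.eq_zero_iff_mem] using this
  obtain ⟨P, hPass, -⟩ := exists_le_isAssociatedPrime_of_isNoetherianRing R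
    (⟨Ideal.Quotient.mk 𝔠 x, hxN⟩ : N) hne
  have hPass' : P ∈ associatedPrimes R (R ⧸ 𝔠) := hPass.map_of_injective N.subtype N.subtype_injective
  have hPmin := mem_minimalPrimes_of_mem_associatedPrimes 𝔠 hPass'
  obtain ⟨hPprime, y, hy⟩ := isAssociatedPrime_iff.mp hPass
  obtain ⟨y0, hy0, hy0eq⟩ := y.2
  have hmem : ∀ a : R, a ∈ P ↔ a * y0 ∈ 𝔠 := by
    intro a
    rw [hy, Submodule.mem_colon_singleton, Submodule.mem_bot, ← Subtype.coe_inj,
      Submodule.coe_smul, Submodule.coe_zero, ← hy0eq]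
    change Ideal.Quotient.mk 𝔠 (a * y0) = 0 ↔ _
    rw [Ideal.Quotient.eq_zero_iff_mem]
  have hy0I : y0 ∈ I := hy0.1
  have hy0J : y0 ∈ J := hy0.2
  by_cases hIP : I ≤ P
  · by_cases hJP : J ≤ P
    · have hminI : P ∈ I.minimalPrimes := by
        refine ⟨⟨hPprime, hIP⟩, fun q hq hqP => ?_⟩
        exact hPmin.2 ⟨hq.1, h𝔠I.trans hq.2⟩ hqP
      have hminJ : P ∈ J.minimalPrimes := by
        refine ⟨⟨hPprime, hJP⟩, fun q hq hqP => ?_⟩
        exact hPmin.2 ⟨hq.1, h𝔠J.trans hq.2⟩ hqP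
      have hPI : P ∈ associatedPrimes R (R ⧸ I) := by
        apply Module.associatedPrimes.minimalPrimes_annihilator_subset_associatedPrimes R (R ⧸ I)
        rwa [Ideal.annihilator_quotient]
      have hPJ : P ∈ associatedPrimes R (R ⧸ J) := by
        apply Module.associatedPrimes.minimalPrimes_annihilator_subset_associatedPrimes R (R ⧸ J)
        rwa [Ideal.annihilator_quotient]
      exact Set.disjoint_left.mp hdisj hPI hPJ
    · obtain ⟨b, hbJ, hbP⟩ := Set.not_subset.mp hJP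
      apply hbP
      change b ∈ P
      rw [hmem]
      have h1 : y0 ∈ 𝔠.colon (J : Set R) := by rw [hJI]; exact hy0I
      rw [Submodule.mem_colon] at h1
      have := h1 b hbJ
      rwa [smul_eq_mul, mul_comm] at this
  · obtain ⟨a, haI, haP⟩ := Set.not_subset.mp hIP
    apply haP
    change a ∈ P
    rw [hmem]
    have h1 : y0 ∈ 𝔠.colon (I : Set R) := by rw [hIJ]; exact hy0J
    rw [Submodule.mem_colon] at h1
    have := h1 a haI
    rwa [smul_eq_mul, mul_comm] at this

end Groth.Agent.H34.Liaison
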