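import Mathlib
import Groth.Agent.H34.Liaison
import Groth.Agent.Lib.Helper89.CMCatenary

/-!
# Equidimensionality of Cohen–Macaulay quotients at a prime (helper34)
-/

set_option autoImplicit false
universe u

namespace Groth.Agent.H34.Liaison

open Groth.Agent.Lib.Helper29 Groth.Agent.Lib.Helper60

section CMH

variable {R : Type u} [CommRing R]

theorem comap_map_mk_of_le {𝔭 𝔪 : Ideal R} (h : 𝔭 ≤ 𝔪) :
    (𝔪.map (Ideal.Quotient.mk 𝔭)).comap (Ideal.Quotient.mk 𝔭) = 𝔪 := by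
  rw [Ideal.comap_map_of_surjective _ Ideal.Quotient.mk_surjective, ← RingHom.ker_eq_comap_bot,
    Ideal.mk_ker, sup_eq_left.mpr h]

theorem map_mk_isPrime {𝔭 𝔪 : Ideal R} [𝔪.IsPrime] (h : 𝔭 ≤ 𝔪) :
    (𝔪.map (Ideal.Quotient.mk 𝔭)).IsPrime :=
  Ideal.map_isPrime_of_surjective Ideal.Quotient.mk_surjective (by rwa [Ideal.mk_ker])

/-- `dim (R_𝔪 / 𝔭 R_𝔪) = ht (𝔪/𝔭)`. -/
theorem ringKrullDim_quotient_map_atPrime (𝔭 𝔪 : Ideal R) [𝔪.IsPrime] (h : 𝔭 ≤ 𝔪) :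
    ringKrullDim (Localization.AtPrime 𝔪 ⧸ 𝔭.map (algebraMap R (Localization.AtPrime 𝔪))) =
      (𝔪.map (Ideal.Quotient.mk 𝔭)).height := by
  haveI : (𝔪.map (Ideal.Quotient.mk 𝔭)).IsPrime := map_mk_isPrime h
  have hsub : Algebra.algebraMapSubmonoid (R ⧸ 𝔭) 𝔪.primeCompl =
      (𝔪.map (Ideal.Quotient.mk 𝔭)).primeCompl := by
    ext y
    constructor
    · rintro ⟨a, ha, rfl⟩ hmem
      apply ha
      have h1 : a ∈ (𝔪.map (Ideal.Quotient.mk 𝔭)).comap (Ideal.Quotient.mk 𝔭) := hmem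
      rwa [comap_map_mk_of_le h] at h1
    · intro hy
      obtain ⟨b, rfl⟩ := Ideal.Quotient.mk_surjective y
      exact ⟨b, fun hb => hy (Ideal.mem_map_of_mem _ hb), rfl⟩
  have hloc : IsLocalization.AtPrime
      (Localization.AtPrime 𝔪 ⧸ 𝔭.map (algebraMap R (Localization.AtPrime 𝔪)))
      (𝔪.map (Ideal.Quotient.mk 𝔭)) := by
    have h1 : IsLocalization (Algebra.algebraMapSubmonoid (R ⧸ 𝔭) 𝔪.primeCompl)
        (Localization.AtPrime 𝔪 ⧸ 𝔭.map (algebraMap R (Localization.AtPrime 𝔪))) := inferInstance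
    rw [hsub] at h1
    exact h1
  exact IsLocalization.AtPrime.ringKrullDim_eq_height (𝔪.map (Ideal.Quotient.mk 𝔭)) _

variable [IsNoetherianRing R]

/-- In a ring whose localization at `𝔪` is Cohen–Macaulay: `ht(𝔪/𝔭) + ht 𝔭 = ht 𝔪`. -/
theorem height_map_mk_add_height (𝔭 𝔪 : Ideal R) [𝔭.IsPrime] [𝔪.IsPrime] (h : 𝔭 ≤ 𝔪)
    [hCM : LocCoh.IsCohenMacaulayLocalRing (Localization.AtPrime 𝔪)] :
    (((𝔪.map (Ideal.Quotient.mk 𝔭)).height : ℕ∞) : WithBot ℕ∞) + ((𝔭.height : ℕ∞) : WithBot ℕ∞) =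
      ((𝔪.height : ℕ∞) : WithBot ℕ∞) := by
  have hdisj : Disjoint (𝔪.primeCompl : Set R) (𝔭 : Set R) := by
    rw [Set.disjoint_left]
    intro x hx hxp
    exact hx (h hxp)
  haveI hp : (𝔭.map (algebraMap R (Localization.AtPrime 𝔪))).IsPrime :=
    IsLocalization.isPrime_of_isPrime_disjoint 𝔪.primeCompl _ 𝔭 inferInstance hdisj
  have h1 := Groth.Agent.Lib.Helper89.CMCatenary.ringKrullDim_quotient_add_height
    (Localization.AtPrime 𝔪) (Localization.AtPrime 𝔪) hCM.supportDim_eq_depth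
    (Groth.Agent.Lib.Helper89.CMCatenary.support_self_eq_univ _)
    ⟨𝔭.map (algebraMap R (Localization.AtPrime 𝔪)), hp⟩
  rw [IsLocalization.AtPrime.ringKrullDim_eq_height 𝔪 (Localization.AtPrime 𝔪)] at h1
  change ringKrullDim (Localization.AtPrime 𝔪 ⧸ 𝔭.map (algebraMap R (Localization.AtPrime 𝔪))) +
    (((𝔭.map (algebraMap R (Localization.AtPrime 𝔪))).height : ℕ∞) : WithBot ℕ∞) = _ at h1
  rw [ringKrullDim_quotient_map_atPrime 𝔭 𝔪 h,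
    IsLocalization.height_map_of_disjoint 𝔪.primeCompl 𝔭 hdisj] at h1
  exact h1

/-- Equidimensionality: if `R_𝔪` and `(R/𝔠)_𝔫` are Cohen–Macaulay, every minimal prime `𝔭 ≤ 𝔪` of `𝔠`
satisfies `ht 𝔭 + ht 𝔫 = ht 𝔪`. -/
theorem height_add_height_of_mem_minimalPrimes (𝔠 𝔪 : Ideal R) [𝔪.IsPrime] (h𝔠𝔪 : 𝔠 ≤ 𝔪)
    [LocCoh.IsCohenMacaulayLocalRing (Localization.AtPrime 𝔪)]
    (hCMB : haveI := map_mk_isPrime h𝔠𝔪
      LocCoh.IsCohenMacaulayLocalRing (Localization.AtPrime (𝔪.map (Ideal.Quotient.mk 𝔠))))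
    {𝔭 : Ideal R} (h𝔭 : 𝔭 ∈ 𝔠.minimalPrimes) (h𝔭𝔪 : 𝔭 ≤ 𝔪) :
    ((𝔭.height : ℕ∞) : WithBot ℕ∞) + (((𝔪.map (Ideal.Quotient.mk 𝔠)).height : ℕ∞) : WithBot ℕ∞) =
      ((𝔪.height : ℕ∞) : WithBot ℕ∞) := by
  haveI h𝔫 : (𝔪.map (Ideal.Quotient.mk 𝔠)).IsPrime := map_mk_isPrime h𝔠𝔪
  haveI : 𝔭.IsPrime := h𝔭.1.1
  have h𝔠𝔭 : 𝔠 ≤ 𝔭 := h𝔭.1.2
  haveI hQ : (𝔭.map (Ideal.Quotient.mk 𝔠)).IsPrime := map_mk_isPrime h𝔠𝔭
  have hQ𝔫 : 𝔭.map (Ideal.Quotient.mk 𝔠) ≤ 𝔪.map (Ideal.Quotient.mk 𝔠) := Ideal.map_mono h𝔭𝔪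
  -- `Q` is a minimal prime
  have hQmin : 𝔭.map (Ideal.Quotient.mk 𝔠) ∈ minimalPrimes (R ⧸ 𝔠) := by
    rw [Ideal.minimalPrimes_eq_comap] at h𝔭
    obtain ⟨Q', hQ', hQ'eq⟩ := h𝔭
    rw [← hQ'eq, Ideal.map_comap_of_surjective _ Ideal.Quotient.mk_surjective]
    exact hQ'
  have hQht : (𝔭.map (Ideal.Quotient.mk 𝔠)).height = 0 := Ideal.height_eq_zero_iff.mpr hQmin
  have hA := height_map_mk_add_height 𝔭 𝔪 h𝔭𝔪
  have hB := height_map_mk_add_height (𝔭.map (Ideal.Quotient.mk 𝔠))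
    (𝔪.map (Ideal.Quotient.mk 𝔠)) hQ𝔫
  rw [hQht] at hB
  -- identify the two heights via the third isomorphism theorem
  have hiso : ((𝔪.map (Ideal.Quotient.mk 𝔠)).map
      (Ideal.Quotient.mk (𝔭.map (Ideal.Quotient.mk 𝔠)))).height =
      (𝔪.map (Ideal.Quotient.mk 𝔭)).height := by
    have key : Ideal.map ((DoubleQuot.quotQuotEquivQuotOfLE h𝔠𝔭).toRingHom)
        ((𝔪.map (Ideal.Quotient.mk 𝔠)).map
          (Ideal.Quotient.mk (𝔭.map (Ideal.Quotient.mk 𝔠)))) = 𝔪.map (Ideal.Quotient.mk 𝔭) := by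
      rw [Ideal.map_map, Ideal.map_map]
      congr 1
    rw [← key]
    exact ((DoubleQuot.quotQuotEquivQuotOfLE h𝔠𝔭).height_map _).symm
  rw [hiso] at hB
  rw [← hA, ← hB]
  simp only [WithBot.coe_zero, add_zero]
  exact add_comm _ _

end CMH

end Groth.Agent.H34.Liaison
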