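import Groth.Agent.H34.GorLink
import Groth.Agent.H34.LiaisonEquidim
import Groth.Agent.Lib.Helper49.AnnIdealSheaf
import Groth.Agent.Lib.Helper29.FlatAscent2

/-!
# Peskine–Szpiro linkage in a Gorenstein ring (global form) (helper34)

`S` Gorenstein ring, `I`, `J` mutually annihilating ideals (`0 : I = J`, `0 : J = I`).
If `S/I` is Cohen–Macaulay then so is `S/J`.
-/

set_option autoImplicit false
universe u

namespace Groth.Agent.H34.GorLinkGlobal

open CategoryTheory IsLocalRing Groth.Agent.Lib.Helper29 Groth.Agent.Lib.Helper60 Groth.Agent.H34.GorMCM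
  Groth.Agent.H34.Liaison

section Basic

variable {S : Type u} [CommRing S]

/-- Cohen–Macaulay rings transfer along ring isomorphisms. -/
theorem isCohenMacaulayRing_of_ringEquiv {F G : Type u} [CommRing F] [CommRing G]
    (e : F ≃+* G) (h : LocCoh.IsCohenMacaulayRing F) : LocCoh.IsCohenMacaulayRing G := by
  have hN : IsNoetherianRing G := isNoetherianRing_of_ringEquiv F e
  refine { isCohenMacaulayLocalRing_localization := fun p hp => ?_ }
  have h1 := h.isCohenMacaulayLocalRing_localization (p.comap e)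
  exact isCohenMacaulayLocalRing_of_ringEquiv (IsLocalization.ringEquivOfRingEquiv
    (Localization.AtPrime (p.comap e)) (Localization.AtPrime p) e
    (e.map_primeCompl_comap_eq p)) h1

/-- local cohomology of a zero module vanishes. -/
theorem subsingleton_lc_of_subsingleton (J : Ideal S) (M : Type u) [AddCommGroup M] [Module S M]
    [Subsingleton M] (j : ℕ) : Subsingleton (LocCoh.H J j M) := by
  refine ⟨fun a b => ?_⟩
  have key : ∀ y : LocCoh.H J j M, y = 0 := by
    intro y
    have h1 : (𝟙 (ModuleCat.of S M)) = 0 := by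
      ext x
      exact Subsingleton.elim _ _
    rw [← Groth.Agent.Lib.Helper79.LocalDuality.lcMap_id_apply J j y, h1,
      Groth.Agent.Lib.Helper79.LocalDuality.lcMap_zero_apply]
  rw [key a, key b]

/-- annihilators of finitely generated ideals commute with localization. -/
theorem annihilator_map [IsNoetherianRing S] (M : Submonoid S) (A : Type u) [CommRing A]
    [Algebra S A] [IsLocalization M A] (I : Ideal S) :
    (Submodule.annihilator I).map (algebraMap S A) =
      Submodule.annihilator (I.map (algebraMap S A)) := by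
  have h := Groth.Agent.Lib.Helper49.AnnIdealSheaf.annihilator_map_of_isLocalizedModule
    (A := A) M (I.toLocalized' A M (Algebra.linearMap S A))
  rw [← Ideal.localized'_eq_map A M I]
  exact h

/-- If `I = 0 : J` in a Noetherian ring then every associated prime of `S/I` is an associated
prime of `S`. -/
theorem mem_associatedPrimes_self_of_annihilator [IsNoetherianRing S] (I J : Ideal S)
    (h2 : Submodule.annihilator J = I) {𝔭 : Ideal S} (h𝔭 : 𝔭 ∈ associatedPrimes S (S ⧸ I)) :
    𝔭 ∈ associatedPrimes S S := by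
  classical
  obtain ⟨hprime, xb, hx⟩ := isAssociatedPrime_iff.mp h𝔭
  obtain ⟨x, rfl⟩ := Ideal.Quotient.mk_surjective xb
  obtain ⟨T, hT⟩ := (IsNoetherian.noetherian J : J.FG)
  have hmem : ∀ a : S, a ∈ 𝔭 ↔ a * x ∈ I := by
    intro a
    rw [hx, Submodule.mem_colon_singleton, Submodule.mem_bot, ← Ideal.Quotient.eq_zero_iff_mem]
    rfl
  have hI : ∀ z : S, z ∈ I ↔ ∀ y ∈ T, z * y = 0 := by
    intro z
    rw [← h2, Submodule.mem_annihilator]
    constructor
    · intro h y hy
      have := h y (by rw [← hT]; exact Submodule.subset_span hy)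
      rwa [smul_eq_mul] at this
    · intro h y hy
      rw [← hT] at hy
      induction hy using Submodule.span_induction with
      | mem y hy => rw [smul_eq_mul]; exact h y hy
      | zero => rw [smul_zero]
      | add y₁ y₂ _ _ h₁ h₂ => rw [smul_add, h₁, h₂, add_zero]
      | smul c y _ hy => rw [smul_comm, hy, smul_zero]
  let f : S → Ideal S := fun y => (⊥ : Submodule S S).colon ({x * y} : Set S)
  have hf : ∀ (y a : S), a ∈ f y ↔ a * (x * y) = 0 := by
    intro y a
    simp only [f]
    rw [Submodule.mem_colon_singleton, Submodule.mem_bot, smul_eq_mul]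
  have hle : ∀ y ∈ T, 𝔭 ≤ f y := by
    intro y hy a ha
    rw [hf, ← mul_assoc]
    exact (hI _).mp ((hmem a).mp ha) y hy
  have hinf : T.inf f ≤ 𝔭 := by
    intro a ha
    rw [hmem, hI]
    intro y hy
    have h1 : a ∈ f y := (Finset.inf_le hy : T.inf f ≤ f y) ha
    rw [mul_assoc]
    exact (hf y a).mp h1
  obtain ⟨y, hyT, hy⟩ := (Ideal.IsPrime.inf_le' hprime).mp hinf
  rw [AssociatedPrimes.mem_iff, isAssociatedPrime_iff]
  exact ⟨hprime, x * y, le_antisymm (hle y hyT) hy⟩

/-- `(S/I)_{p/I} ≃ S_p / I S_p`. -/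
theorem nonempty_quotLocEquiv (I p : Ideal S) [p.IsPrime] (hIp : I ≤ p)
    [hP : (p.map (Ideal.Quotient.mk I)).IsPrime] :
    Nonempty (Localization.AtPrime (p.map (Ideal.Quotient.mk I)) ≃+*
      (Localization.AtPrime p ⧸ I.map (algebraMap S (Localization.AtPrime p)))) := by
  have h1 : IsLocalization (Algebra.algebraMapSubmonoid (S ⧸ I) p.primeCompl)
      (Localization.AtPrime p ⧸ I.map (algebraMap S (Localization.AtPrime p))) := inferInstance
  rw [algebraMapSubmonoid_quotient_primeCompl' S hIp] at h1
  have hAt : IsLocalization.AtPrime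
      (Localization.AtPrime p ⧸ I.map (algebraMap S (Localization.AtPrime p)))
      (p.map (Ideal.Quotient.mk I)) := h1
  exact ⟨(IsLocalization.algEquiv (p.map (Ideal.Quotient.mk I)).primeCompl
    (Localization.AtPrime (p.map (Ideal.Quotient.mk I)))
    (Localization.AtPrime p ⧸ I.map (algebraMap S (Localization.AtPrime p)))).toRingEquiv⟩

end Basic

section Main

variable (S : Type u) [CommRing S] [hG : LocCoh.IsGorensteinRing S]

/-- Gorenstein local rings are Cohen–Macaulay. -/
theorem isCohenMacaulayLocalRing_of_isGorensteinLocalRing (A : Type u) [CommRing A]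
    [hA : LocCoh.IsGorensteinLocalRing A] : LocCoh.IsCohenMacaulayLocalRing A := by
  obtain ⟨t, ht, hsd, -⟩ := gorenstein_data (A := A) hA.exists_hasInjectiveDimensionLT
  exact { supportDim_eq_depth := by rw [hsd, ht] }

/-- the local step of linkage. -/
theorem isCohenMacaulayLocalRing_quot_map (I J : Ideal S)
    (h1 : Submodule.annihilator I = J) (h2 : Submodule.annihilator J = I)
    [hCM : LocCoh.IsCohenMacaulayRing (S ⧸ I)] (p : Ideal S) [p.IsPrime] (hJp : J ≤ p) :
    LocCoh.IsCohenMacaulayLocalRing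
      (Localization.AtPrime p ⧸ J.map (algebraMap S (Localization.AtPrime p))) := by
  classical
  haveI : IsNoetherianRing S := inferInstance
  haveI hGA : LocCoh.IsGorensteinLocalRing (Localization.AtPrime p) :=
    hG.isGorensteinLocalRing_localization p
  haveI hCMA : LocCoh.IsCohenMacaulayLocalRing (Localization.AtPrime p) :=
    isCohenMacaulayLocalRing_of_isGorensteinLocalRing _
  set A := Localization.AtPrime p with hA
  have hnn : (0 : WithBot ℕ∞) ≤ ringKrullDim A := ringKrullDim_nonneg_of_nontrivial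
  obtain ⟨r, hr⟩ : ∃ r : ℕ, ringKrullDim A = r := by
    have htop : ringKrullDim A ≠ ⊤ := ringKrullDim_ne_top
    cases h : ringKrullDim A with
    | bot => rw [h] at hnn; simp at hnn
    | coe n =>
      have hn' : n ≠ ⊤ := by
        rintro rfl
        exact htop h
      obtain ⟨d, hd⟩ := ENat.ne_top_iff_exists.mp hn'
      exact ⟨d, by rw [← hd]; rfl⟩
  have ha : Submodule.annihilator (I.map (algebraMap S A)) = J.map (algebraMap S A) := by
    rw [← annihilator_map p.primeCompl A I, h1]
  have hJtop : J.map (algebraMap S A) ≠ ⊤ := by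
    rw [IsLocalization.map_algebraMap_ne_top_iff_disjoint p.primeCompl A J, Set.disjoint_left]
    intro x hx hxJ
    exact hx (hJp hxJ)
  have hv : LcVan A r (A ⧸ I.map (algebraMap S A)) := by
    by_cases hIp : I ≤ p
    · haveI hP : (p.map (Ideal.Quotient.mk I)).IsPrime := map_mk_isPrime hIp
      have hCMloc := hCM.isCohenMacaulayLocalRing_localization (p.map (Ideal.Quotient.mk I))
      obtain ⟨eI⟩ := nonempty_quotLocEquiv I p hIp
      haveI : LocCoh.IsCohenMacaulayLocalRing (A ⧸ I.map (algebraMap S A)) :=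
        isCohenMacaulayLocalRing_of_ringEquiv eI hCMloc
      have hdim : ringKrullDim (A ⧸ I.map (algebraMap S A)) = r := by
        obtain ⟨𝔭', hmin, hle⟩ := Ideal.exists_minimalPrimes_le hIp
        haveI : 𝔭'.IsPrime := hmin.1.1
        have hass : 𝔭' ∈ associatedPrimes S (S ⧸ I) := by
          apply Module.associatedPrimes.minimalPrimes_annihilator_subset_associatedPrimes S (S ⧸ I)
          rw [Ideal.annihilator_quotient]
          exact hmin
        have hass' := mem_associatedPrimes_self_of_annihilator I J h2 hass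
        have hmin' := mem_minimalPrimes_of_mem_associatedPrimes_self S hass'
        have hht : 𝔭'.height = 0 := Ideal.height_eq_zero_iff.mpr hmin'
        have hsum := height_map_mk_add_height 𝔭' p hle
        have h3 := ringKrullDim_quotient_map_atPrime 𝔭' p hle
        have h4 := IsLocalization.AtPrime.ringKrullDim_eq_height p A
        rw [hht] at hsum
        simp only [WithBot.coe_zero, add_zero] at hsum
        have h5 : ringKrullDim (A ⧸ 𝔭'.map (algebraMap S A)) = r := by
          rw [h3, hsum, ← h4, hr]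
        have hIle : I.map (algebraMap S A) ≤ 𝔭'.map (algebraMap S A) := Ideal.map_mono hmin.1.2
        have h6 : ringKrullDim (A ⧸ 𝔭'.map (algebraMap S A)) ≤
            ringKrullDim (A ⧸ I.map (algebraMap S A)) :=
          ringKrullDim_le_of_surjective (Ideal.Quotient.factor hIle)
            (Ideal.Quotient.factor_surjective hIle)
        have h7 : ringKrullDim (A ⧸ I.map (algebraMap S A)) ≤ ringKrullDim A :=
          ringKrullDim_le_of_surjective _ Ideal.Quotient.mk_surjective
        exact le_antisymm (h7.trans (le_of_eq hr)) (h5 ▸ h6)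
      exact Groth.Agent.H34.GorLink.lcVan_of_isCohenMacaulayLocalRing A r _ hdim
    · have htop : I.map (algebraMap S A) = ⊤ := by
        by_contra hne
        rw [← ne_eq, IsLocalization.map_algebraMap_ne_top_iff_disjoint p.primeCompl A I,
          Set.disjoint_left] at hne
        apply hIp
        intro x hx
        by_contra hxp
        exact hne hxp hx
      haveI : Subsingleton (A ⧸ I.map (algebraMap S A)) := by
        rw [htop]
        exact Ideal.Quotient.subsingleton_iff.mpr rfl
      exact fun j _ => subsingleton_lc_of_subsingleton _ _ j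
  have hv' := lcVan_quot_annihilator A r hr _ hv
  rw [ha] at hv'
  exact (Groth.Agent.H34.GorLink.isCohenMacaulayLocalRing_of_lcVan A r hr _ hJtop hv').1

/-- **Peskine–Szpiro linkage in a Gorenstein ring**: for mutually annihilating ideals `I`, `J`,
if `S/I` is Cohen–Macaulay then so is `S/J`. -/
theorem isCohenMacaulayRing_quot (I J : Ideal S)
    (h1 : Submodule.annihilator I = J) (h2 : Submodule.annihilator J = I)
    [hCM : LocCoh.IsCohenMacaulayRing (S ⧸ I)] : LocCoh.IsCohenMacaulayRing (S ⧸ J) := by
  haveI : IsNoetherianRing S := inferInstance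
  refine { isCohenMacaulayLocalRing_localization := fun q hq => ?_ }
  have hJp : J ≤ q.comap (Ideal.Quotient.mk J) := by
    intro x hx
    rw [Ideal.mem_comap, Ideal.Quotient.eq_zero_iff_mem.mpr hx]
    exact zero_mem _
  have hqeq : (q.comap (Ideal.Quotient.mk J)).map (Ideal.Quotient.mk J) = q :=
    Ideal.map_comap_of_surjective _ Ideal.Quotient.mk_surjective q
  haveI : (q.comap (Ideal.Quotient.mk J)).IsPrime := Ideal.comap_isPrime _ _
  have key := isCohenMacaulayLocalRing_quot_map S I J h1 h2 (q.comap (Ideal.Quotient.mk J)) hJp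
  haveI hP : ((q.comap (Ideal.Quotient.mk J)).map (Ideal.Quotient.mk J)).IsPrime := by
    rw [hqeq]; exact hq
  obtain ⟨e⟩ := nonempty_quotLocEquiv J (q.comap (Ideal.Quotient.mk J)) hJp
  have h3 := isCohenMacaulayLocalRing_of_ringEquiv e.symm key
  have h4 : ∀ (q' : Ideal (S ⧸ J)) (hq' : q'.IsPrime) (_ : q' = q),
      LocCoh.IsCohenMacaulayLocalRing (Localization.AtPrime q') →
      LocCoh.IsCohenMacaulayLocalRing (Localization.AtPrime q) := by
    intro q' hq' heq h
    subst heq
    exact h
  exact h4 _ hP hqeq h3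

end Main

section Colon

variable {R : Type u} [CommRing R]

theorem le_of_colon_eq {𝔠 I J : Ideal R} (h : 𝔠.colon (J : Set R) = I) : 𝔠 ≤ I := by
  intro a ha
  rw [← h, Submodule.mem_colon]
  intro j _
  rw [smul_eq_mul]
  exact 𝔠.mul_mem_right _ ha

/-- the colon condition `𝔠 : I = J` read in `R/𝔠`. -/
theorem annihilator_map_mk {𝔠 I J : Ideal R} (h𝔠J : 𝔠 ≤ J) (h : 𝔠.colon (I : Set R) = J) :
    Submodule.annihilator (I.map (Ideal.Quotient.mk 𝔠)) = J.map (Ideal.Quotient.mk 𝔠) := by
  ext y
  obtain ⟨x, rfl⟩ := Ideal.Quotient.mk_surjective y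
  rw [Ideal.mem_quotient_iff_mem h𝔠J, ← h, Submodule.mem_colon, Submodule.mem_annihilator]
  constructor
  · intro hx i hi
    have := hx (Ideal.Quotient.mk 𝔠 i) (Ideal.mem_map_of_mem _ hi)
    rw [smul_eq_mul, ← map_mul, Ideal.Quotient.eq_zero_iff_mem] at this
    rwa [smul_eq_mul]
  · intro hx z hz
    obtain ⟨i, hi, rfl⟩ := (Ideal.mem_map_iff_of_surjective _ Ideal.Quotient.mk_surjective).mp hz
    rw [smul_eq_mul, ← map_mul, Ideal.Quotient.eq_zero_iff_mem]
    have := hx i hi
    rwa [smul_eq_mul] at this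

/-- **Linkage preserves Cohen–Macaulayness**: if `R/𝔠` is Gorenstein and `I`, `J` are directly
linked by `𝔠`, then `R/I` Cohen–Macaulay implies `R/J` Cohen–Macaulay. -/
theorem isCohenMacaulayRing_of_linked (𝔠 I J : Ideal R) [LocCoh.IsGorensteinRing (R ⧸ 𝔠)]
    (hIJ : 𝔠.colon (I : Set R) = J) (hJI : 𝔠.colon (J : Set R) = I)
    (hCM : LocCoh.IsCohenMacaulayRing (R ⧸ I)) : LocCoh.IsCohenMacaulayRing (R ⧸ J) := by
  have h𝔠I : 𝔠 ≤ I := le_of_colon_eq hJI
  have h𝔠J : 𝔠 ≤ J := le_of_colon_eq hIJ
  have h1 := annihilator_map_mk h𝔠J hIJ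
  have h2 := annihilator_map_mk h𝔠I hJI
  haveI : LocCoh.IsCohenMacaulayRing ((R ⧸ 𝔠) ⧸ I.map (Ideal.Quotient.mk 𝔠)) :=
    isCohenMacaulayRing_of_ringEquiv (DoubleQuot.quotQuotEquivQuotOfLE h𝔠I).symm hCM
  have h3 := isCohenMacaulayRing_quot (R ⧸ 𝔠) _ _ h1 h2
  exact isCohenMacaulayRing_of_ringEquiv (DoubleQuot.quotQuotEquivQuotOfLE h𝔠J) h3

end Colon

end Groth.Agent.H34.GorLinkGlobal
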