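import Groth.Agent.H34.GorLD
import Groth.Agent.H34.GorHull
import Groth.Agent.H34.ExtRegCov
import Groth.Agent.Lib.Helper2.Matlis
import Groth.Agent.Lib.Helper60.BE
import Groth.Agent.Lib.Helper60.BA
import Groth.Agent.Lib.Helper89.ExtLoc
import Groth.Agent.Lib.Helper29.QuasiUnmixed
import Groth.Agent.H34.GorLinkGlobal

/-!
# Local duality and localization over a Gorenstein local ring (helper34)

* `ext_subsingleton_iff_lc`: `Ext^d(X, B) = 0 ↔ H^j_m(X) = 0` for `j + d = dim B`;
* `ext_localization_subsingleton_iff`: `Ext^d_{A_P}(M_P, A_P) = 0` iff `Ext^d_A(M, A)_P = 0`;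
* `le_radical_annihilator_lc_iff`: Faltings' annihilator theorem over a Gorenstein local ring.
-/

set_option autoImplicit false
universe u
open CategoryTheory Abelian IsLocalRing

namespace Groth.Agent.H34.LocDual

section A

variable (B : Type u) [CommRing B] [LocCoh.IsGorensteinLocalRing B] (r : ℕ)
  (hr : ringKrullDim B = r)

include hr in
/-- vanishing of `Ext^d(X, B)` and of `H^j_m(X)` for `j + d = dim B`. -/
theorem ext_subsingleton_iff_lc (X : Type u) [AddCommGroup X] [Module B X] [Module.Finite B X]
    (j d : ℕ) (h : j + d = r) :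
    Subsingleton (Ext (ModuleCat.of B X) (ModuleCat.of B B) d) ↔
      Subsingleton (LocCoh.H (maximalIdeal B) j X) := by
  obtain ⟨e⟩ := Groth.Agent.H34.GorLD.nonempty_linearEquiv B r hr X j d h
  obtain ⟨g, hg⟩ := Groth.Agent.H34.GorHull.main B r hr
  constructor
  · intro hs
    haveI : Subsingleton (Ext (ModuleCat.of B X) (ModuleCat.of B B) d →ₗ[B]
        LocCoh.H (maximalIdeal B) r B) :=
      ⟨fun a b => LinearMap.ext fun x => by rw [hs.elim x 0, map_zero, map_zero]⟩
    exact e.toEquiv.subsingleton
  · intro hs
    have hs' : Subsingleton (Ext (ModuleCat.of B X) (ModuleCat.of B B) d →ₗ[B]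
        LocCoh.H (maximalIdeal B) r B) := e.symm.toEquiv.subsingleton
    refine ⟨fun a b => ?_⟩
    have key : ∀ x : Ext (ModuleCat.of B X) (ModuleCat.of B B) d, x = 0 := by
      intro x
      by_contra hx
      obtain ⟨φ, hφ⟩ := Groth.Agent.Lib.Helper2.exists_hom_apply_ne_zero hg x hx
      apply hφ
      rw [hs'.elim φ 0, LinearMap.zero_apply]
    rw [key a, key b]

include hr in
theorem ext_subsingleton_of_gt (X : ModuleCat.{u} B) (d : ℕ) (hd : r < d) :
    Subsingleton (Ext X (ModuleCat.of B B) d) := by
  haveI : IsNoetherianRing B := inferInstance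
  haveI : IsLocalRing B := inferInstance
  obtain ⟨t, -, hsd, hinj⟩ := Groth.Agent.Lib.Helper60.gorenstein_data (A := B)
    (LocCoh.IsGorensteinLocalRing.exists_hasInjectiveDimensionLT)
  rw [Module.supportDim_self_eq_ringKrullDim, hr] at hsd
  have htr : r = t := by exact_mod_cast hsd
  exact HasInjectiveDimensionLT.subsingleton _ (t + 1) d (by omega) _

include hr in
/-- the annihilator of `H^i_m(X)` is that of `Ext^d(X, B)` for `i + d = dim B`. -/
theorem annihilator_lc_eq (X : Type u) [AddCommGroup X] [Module B X] [Module.Finite B X]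
    (i d : ℕ) (h : i + d = r) :
    Module.annihilator B (LocCoh.H (maximalIdeal B) i X) =
      Module.annihilator B (Ext (ModuleCat.of B X) (ModuleCat.of B B) d) := by
  obtain ⟨e⟩ := Groth.Agent.H34.GorLD.nonempty_linearEquiv B r hr X i d h
  obtain ⟨g, hg⟩ := Groth.Agent.H34.GorHull.main B r hr
  rw [e.annihilator_eq]
  ext a
  rw [Module.mem_annihilator, Module.mem_annihilator]
  constructor
  · intro ha x
    by_contra hx
    obtain ⟨φ, hφ⟩ := Groth.Agent.Lib.Helper2.exists_hom_apply_ne_zero hg (a • x) hx
    apply hφ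
    rw [map_smul, ← LinearMap.smul_apply, ha φ, LinearMap.zero_apply]
  · intro ha φ
    ext x
    rw [LinearMap.smul_apply, ← map_smul, ha x, map_zero, LinearMap.zero_apply]

end A

section C

variable {A : Type u} [CommRing A] (N : Type u) [AddCommGroup N] [Module A N] [Module.Finite A N]

/-- `J ⊆ rad (Ann N)` iff `N_P = 0` for all primes `P ⊉ J`. -/
theorem le_radical_annihilator_iff (J : Ideal A) :
    J ≤ (Module.annihilator A N).radical ↔
      ∀ (P : Ideal A) [P.IsPrime], ¬ J ≤ P → ∀ e : N, ∃ s : A, s ∉ P ∧ s • e = 0 := by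
  constructor
  · intro hJ P hP hJP e
    have hPs : (⟨P, hP⟩ : PrimeSpectrum A) ∉ Module.support A N := by
      rw [Module.mem_support_iff_of_finite]
      intro hle
      apply hJP
      exact hJ.trans (hP.radical_le_iff.mpr hle)
    obtain ⟨s, hs, hse⟩ := Module.notMem_support_iff'.mp hPs e
    exact ⟨s, hs, hse⟩
  · intro h
    rw [Ideal.radical_eq_sInf]
    refine le_sInf ?_
    rintro P ⟨hle, hP⟩
    by_contra hJP
    have hPs : (⟨P, hP⟩ : PrimeSpectrum A) ∈ Module.support A N := by
      rw [Module.mem_support_iff_of_finite]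
      exact hle
    refine absurd hPs ?_
    rw [Module.notMem_support_iff']
    intro e
    obtain ⟨s, hs, hse⟩ := h P hJP e
    exact ⟨s, hs, hse⟩

end C

section B

open Groth.Agent.Lib.Helper89.ExtLoc

theorem ext_subsingleton_of_iso_left {R : Type u} [CommRing R] {X X' : ModuleCat.{u} R}
    (e : X ≅ X') (Z : ModuleCat.{u} R) (n : ℕ) (h : Subsingleton (Ext X Z n)) :
    Subsingleton (Ext X' Z n) := by
  refine ⟨fun a b => ?_⟩
  have key : ∀ α : Ext X' Z n, α = 0 := by
    intro α
    have h1 : (Ext.mk₀ e.inv).comp ((Ext.mk₀ e.hom).comp α (zero_add n)) (zero_add n) = α := by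
      rw [Ext.mk₀_comp_mk₀_assoc, e.inv_hom_id, Ext.mk₀_id_comp]
    rw [← h1, h.elim ((Ext.mk₀ e.hom).comp α (zero_add n)) 0, Ext.comp_zero]
  rw [key a, key b]

variable (A : Type u) [CommRing A] [IsNoetherianRing A] (P : Ideal A) [P.IsPrime]

/-- the Mathlib localized module object is isomorphic to the naive one -/
noncomputable def locIso (M : Type u) [AddCommGroup M] [Module A M] (S : Submonoid A) :
    (L S).obj (ModuleCat.of A M) ≅ ModuleCat.of (Localization S) (LocalizedModule S M) :=
  (Shrink.linearEquiv (Localization S) (LocalizedModule S M)).toModuleIso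

/-- `Ext^d_{A_P}(M_P, A_P) = 0` iff every element of `Ext^d_A(M, A)` is killed by an element outside
`P`. -/
theorem ext_localization_subsingleton_iff (M : Type u) [AddCommGroup M] [Module A M]
    [Module.Finite A M] (d : ℕ) :
    Subsingleton (Ext (ModuleCat.of (Localization.AtPrime P) (LocalizedModule P.primeCompl M))
        (ModuleCat.of (Localization.AtPrime P) (Localization.AtPrime P)) d) ↔
      ∀ e : Ext (ModuleCat.of A M) (ModuleCat.of A A) d, ∃ s : A, s ∉ P ∧ s • e = 0 := by
  have hloc : IsLocalizedModule P.primeCompl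
      (mapExtLinG (L P.primeCompl) (L_map_smul_id P.primeCompl) (ModuleCat.of A M)
        (ModuleCat.of A A) d) :=
    isLocalizedModule_mapExtLinG_L P.primeCompl (ModuleCat.of A A) d (ModuleCat.of A M)
  set f := mapExtLinG (L P.primeCompl) (L_map_smul_id P.primeCompl) (ModuleCat.of A M)
        (ModuleCat.of A A) d with hf
  have step1 : Subsingleton (Ext ((L P.primeCompl).obj (ModuleCat.of A M))
      ((L P.primeCompl).obj (ModuleCat.of A A)) d) ↔
      ∀ e : Ext (ModuleCat.of A M) (ModuleCat.of A A) d, ∃ s : A, s ∉ P ∧ s • e = 0 := by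
    constructor
    · intro hs e
      have h0 : f e = 0 := hs.elim _ _
      obtain ⟨s, hs⟩ := (IsLocalizedModule.eq_zero_iff P.primeCompl f).mp h0
      exact ⟨s.1, s.2, hs⟩
    · intro h
      refine ⟨fun a b => ?_⟩
      have key : ∀ y : Ext ((L P.primeCompl).obj (ModuleCat.of A M))
          ((L P.primeCompl).obj (ModuleCat.of A A)) d, y = 0 := by
        intro y
        obtain ⟨⟨e, s⟩, hs⟩ := IsLocalizedModule.surj P.primeCompl f y
        obtain ⟨t, ht, hte⟩ := h e
        have h0 : f e = 0 :=
          (IsLocalizedModule.eq_zero_iff P.primeCompl f).mpr ⟨⟨t, ht⟩, hte⟩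
        rw [h0] at hs
        exact IsLocalizedModule.smul_injective f s (by
          change s • y = s • (0 : Ext _ _ d)
          rw [smul_zero]
          exact hs)
      rw [key a, key b]
  rw [← step1]
  constructor
  · intro h
    exact ext_subsingleton_of_iso_left (locIso A M P.primeCompl).symm _ d
      (Groth.Agent.H34.ExtRegCov.ext_subsingleton_of_iso_right
        ((locIso A A P.primeCompl) ≪≫
          Groth.Agent.Lib.Helper60.localizedModuleSelfIso A P).symm _ d h)
  · intro h
    exact ext_subsingleton_of_iso_left (locIso A M P.primeCompl) _ d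
      (Groth.Agent.H34.ExtRegCov.ext_subsingleton_of_iso_right
        ((locIso A A P.primeCompl) ≪≫
          Groth.Agent.Lib.Helper60.localizedModuleSelfIso A P) _ d h)

end B

section D

variable (A : Type u) [CommRing A] [LocCoh.IsGorensteinLocalRing A]

theorem isGorensteinLocalRing_localization (P : Ideal A) [P.IsPrime] :
    LocCoh.IsGorensteinLocalRing (Localization.AtPrime P) := by
  haveI : IsNoetherianRing A := inferInstance
  have h := (Groth.Agent.Lib.Helper60.exists_hasInjectiveDimensionLT_self_iff A).mp
    LocCoh.IsGorensteinLocalRing.exists_hasInjectiveDimensionLT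
  exact h.1.isGorensteinLocalRing_localization P

/-- `dim A_P + dim A/P = dim A`. -/
theorem exists_dims (n' : ℕ) (hn' : ringKrullDim A = n') (P : Ideal A) [P.IsPrime] :
    ∃ h' c : ℕ, ringKrullDim (Localization.AtPrime P) = h' ∧ ringKrullDim (A ⧸ P) = c ∧
      h' + c = n' := by
  haveI : IsNoetherianRing A := inferInstance
  haveI : IsLocalRing A := inferInstance
  haveI := Groth.Agent.H34.GorLinkGlobal.isCohenMacaulayLocalRing_of_isGorensteinLocalRing A
  have h1 := Groth.Agent.Lib.Helper29.ringKrullDim_quotient_add_height_of_isCohenMacaulayLocalRing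
    A P
  have h2 := IsLocalization.AtPrime.ringKrullDim_eq_height P (Localization.AtPrime P)
  obtain ⟨h', hh'⟩ : ∃ h' : ℕ, P.height = h' :=
    ⟨P.height.toNat, (ENat.natCast_toNat Ideal.height_ne_top_of_isPrime).symm⟩
  have hnn : (0 : WithBot ℕ∞) ≤ ringKrullDim (A ⧸ P) := ringKrullDim_nonneg_of_nontrivial
  obtain ⟨c, hc⟩ : ∃ c : ℕ, ringKrullDim (A ⧸ P) = c := by
    have htop : ringKrullDim (A ⧸ P) ≠ ⊤ := ringKrullDim_ne_top
    cases h : ringKrullDim (A ⧸ P) with
    | bot => rw [h] at hnn; simp at hnn
    | coe n =>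
      have hn' : n ≠ ⊤ := by
        rintro rfl
        exact htop h
      obtain ⟨d, hd⟩ := ENat.ne_top_iff_exists.mp hn'
      exact ⟨d, by rw [← hd]; rfl⟩
  refine ⟨h', c, by rw [h2, hh']; rfl, hc, ?_⟩
  rw [hc, hh', hn'] at h1
  have h3 : ((c + h' : ℕ) : WithBot ℕ∞) = ((n' : ℕ) : WithBot ℕ∞) := by
    rw [← h1]
    push_cast
    rfl
  have h4 : c + h' = n' := by exact_mod_cast h3
  omega

end D

section G

variable (A : Type u) [CommRing A] [LocCoh.IsGorensteinLocalRing A]

/-- **Faltings' annihilator theorem** over a Gorenstein local ring. -/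
theorem le_radical_annihilator_lc_iff (M : Type u) [AddCommGroup M] [Module A M]
    [Module.Finite A M] (J : Ideal A) (i : ℕ) :
    J ≤ (Module.annihilator A (LocCoh.H (maximalIdeal A) i M)).radical ↔
      ∀ (P : Ideal A) [P.IsPrime], ¬ J ≤ P → ∀ j : ℕ,
        (j : WithBot ℕ∞) + ringKrullDim (A ⧸ P) = i →
        Subsingleton (LocCoh.H (maximalIdeal (Localization.AtPrime P)) j
          (LocalizedModule P.primeCompl M)) := by
  classical
  haveI : IsNoetherianRing A := inferInstance
  haveI : IsLocalRing A := inferInstance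
  have hnn : (0 : WithBot ℕ∞) ≤ ringKrullDim A := ringKrullDim_nonneg_of_nontrivial
  obtain ⟨n', hn'⟩ : ∃ r : ℕ, ringKrullDim A = r := by
    have htop : ringKrullDim A ≠ ⊤ := ringKrullDim_ne_top
    cases h : ringKrullDim A with
    | bot => rw [h] at hnn; simp at hnn
    | coe n =>
      have hn' : n ≠ ⊤ := by
        rintro rfl
        exact htop h
      obtain ⟨d, hd⟩ := ENat.ne_top_iff_exists.mp hn'
      exact ⟨d, by rw [← hd]; rfl⟩
  by_cases hi : i ≤ n'
  · obtain ⟨d, hd⟩ : ∃ d, i + d = n' := ⟨n' - i, by omega⟩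
    rw [annihilator_lc_eq A n' hn' M i d hd]
    haveI : Module.Finite A (Ext (ModuleCat.of A M) (ModuleCat.of A A) d) :=
      Groth.Agent.Lib.Helper60.ext_finite d M A
    rw [le_radical_annihilator_iff]
    refine forall_congr' fun P => forall_congr' fun hP => forall_congr' fun hJP => ?_
    rw [← ext_localization_subsingleton_iff A P M d]
    haveI := isGorensteinLocalRing_localization A P
    haveI : Module.Finite (Localization.AtPrime P) (LocalizedModule P.primeCompl M) :=
      Module.Finite.of_isLocalizedModule P.primeCompl (LocalizedModule.mkLinearMap P.primeCompl M)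
    obtain ⟨h', c, hh', hc, hsum⟩ := exists_dims A n' hn' P
    by_cases hdh : d ≤ h'
    · rw [ext_subsingleton_iff_lc (Localization.AtPrime P) h' hh'
        (LocalizedModule P.primeCompl M) (h' - d) d (by omega)]
      constructor
      · intro hs j hj
        rw [hc] at hj
        have hj' : j + c = i := by exact_mod_cast hj
        have hj'' : j = h' - d := by omega
        subst hj''
        exact hs
      · intro h
        refine h (h' - d) ?_
        rw [hc]
        have : h' - d + c = i := by omega
        exact_mod_cast this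
    · constructor
      · intro _ j hj
        exfalso
        rw [hc] at hj
        have hj' : j + c = i := by exact_mod_cast hj
        omega
      · intro _
        exact ext_subsingleton_of_gt (Localization.AtPrime P) h' hh' _ d (by omega)
  · constructor
    · intro _ P hP hJP j hj
      obtain ⟨h', c, hh', hc, hsum⟩ := exists_dims A n' hn' P
      rw [hc] at hj
      have hj' : j + c = i := by exact_mod_cast hj
      apply Groth.Agent.Lib.Helper60.lc_subsingleton_of_supportDim_lt
      refine lt_of_le_of_lt (Module.supportDim_le_ringKrullDim _ _) ?_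
      rw [hh']
      have : h' < j := by omega
      exact_mod_cast this
    · intro _
      have hs : Subsingleton (LocCoh.H (maximalIdeal A) i M) := by
        apply Groth.Agent.Lib.Helper60.lc_subsingleton_of_supportDim_lt
        refine lt_of_le_of_lt (Module.supportDim_le_ringKrullDim _ _) ?_
        rw [hn']
        have : n' < i := by omega
        exact_mod_cast this
      rw [Module.annihilator_eq_top_iff.mpr hs, Ideal.radical_top]
      exact le_top

end G

end Groth.Agent.H34.LocDual
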