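import Mathlib
import Groth.Agent.H34.Liaison

/-!
# Double annihilators in zero-dimensional Gorenstein local rings (helper34)
-/

set_option autoImplicit false
universe u

namespace Groth.Agent.H34.DoubleAnn

open Groth.Agent.Lib.Helper29 Groth.Agent.Lib.Helper60 CategoryTheory

section Baer

variable {A : Type u} [CommRing A] [IsLocalRing A]

/-- A nonzero socle element exists when the maximal ideal is nilpotent. -/
theorem exists_socle (h : IsNilpotent (IsLocalRing.maximalIdeal A)) :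
    ∃ s : A, s ≠ 0 ∧ ∀ r ∈ IsLocalRing.maximalIdeal A, r * s = 0 := by
  classical
  obtain ⟨N, hN⟩ := h
  have hex : ∃ k : ℕ, (IsLocalRing.maximalIdeal A) ^ k = ⊥ := ⟨N, hN⟩
  set k := Nat.find hex with hk
  have hk0 : (IsLocalRing.maximalIdeal A) ^ k = ⊥ := Nat.find_spec hex
  have hkpos : k ≠ 0 := by
    intro h0
    rw [h0, pow_zero, Ideal.one_eq_top] at hk0
    exact top_ne_bot hk0
  obtain ⟨j, hj⟩ := Nat.exists_eq_succ_of_ne_zero hkpos
  have hjne : (IsLocalRing.maximalIdeal A) ^ j ≠ ⊥ := by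
    intro h0
    have := Nat.find_min' hex h0
    omega
  obtain ⟨s, hs, hs0⟩ := Submodule.exists_mem_ne_zero_of_ne_bot hjne
  refine ⟨s, hs0, fun r hr => ?_⟩
  have : r * s ∈ (IsLocalRing.maximalIdeal A) ^ k := by
    rw [hj, pow_succ']
    exact Ideal.mul_mem_mul hr hs
  rw [hk0] at this
  exact this

/-- Double annihilator property for a self-injective local ring with nilpotent maximal ideal. -/
theorem mem_of_forall_ann [Module.Injective A A]
    (h : IsNilpotent (IsLocalRing.maximalIdeal A)) (𝔞 : Ideal A) (b : A)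
    (hb : ∀ x : A, (∀ a ∈ 𝔞, x * a = 0) → x * b = 0) : b ∈ 𝔞 := by
  by_contra hb𝔞
  obtain ⟨s, hs0, hs⟩ := exists_socle h
  set J : Ideal A := 𝔞.colon ({b} : Set A) with hJ
  have hJmem : ∀ r : A, r ∈ J ↔ r * b ∈ 𝔞 := fun r => by
    rw [hJ, Submodule.mem_colon_singleton, smul_eq_mul]
  have hJne : J ≠ ⊤ := by
    intro htop
    apply hb𝔞
    have : (1 : A) ∈ J := htop ▸ Submodule.mem_top
    rwa [hJmem, one_mul] at this
  have hJ𝔪 : J ≤ IsLocalRing.maximalIdeal A := IsLocalRing.le_maximalIdeal hJne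
  let μ : A →ₗ[A] A ⧸ 𝔞 := (Submodule.mkQ 𝔞) ∘ₗ (LinearMap.toSpanSingleton A A b)
  have hμ : ∀ r : A, μ r = Ideal.Quotient.mk 𝔞 (r * b) := fun r => rfl
  have hμker : LinearMap.ker μ = J := by
    ext r
    rw [LinearMap.mem_ker, hμ, Ideal.Quotient.eq_zero_iff_mem, hJmem]
  let ι : A ⧸ J →ₗ[A] A ⧸ 𝔞 := Submodule.liftQ J μ hμker.ge
  have hι : Function.Injective ι := by
    rw [← LinearMap.ker_eq_bot]
    exact Submodule.ker_liftQ_eq_bot _ _ _ hμker.le
  let σ : A →ₗ[A] A := LinearMap.toSpanSingleton A A s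
  have hσ : ∀ r : A, σ r = r * s := fun r => rfl
  have hσker : J ≤ LinearMap.ker σ := by
    intro r hr
    rw [LinearMap.mem_ker, hσ]
    exact hs r (hJ𝔪 hr)
  let g : A ⧸ J →ₗ[A] A := Submodule.liftQ J σ hσker
  obtain ⟨hh, hhg⟩ := Module.Injective.extension_property A A _ _ ι hι g
  set x : A := hh (Ideal.Quotient.mk 𝔞 1) with hx
  have hxa : ∀ a ∈ 𝔞, x * a = 0 := by
    intro a ha
    have h1 : a • (Ideal.Quotient.mk 𝔞 1) = 0 := by
      have : a • (Ideal.Quotient.mk 𝔞 1) = Ideal.Quotient.mk 𝔞 (a * 1) := rfl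
      rw [this, mul_one, Ideal.Quotient.eq_zero_iff_mem]
      exact ha
    have h2 := congrArg hh h1
    rw [map_smul, map_zero, smul_eq_mul, mul_comm] at h2
    exact h2
  have hxb : x * b = s := by
    have h1 : b • (Ideal.Quotient.mk 𝔞 1) = ι (Submodule.Quotient.mk 1) := by
      have : b • (Ideal.Quotient.mk 𝔞 1) = Ideal.Quotient.mk 𝔞 (b * 1) := rfl
      rw [this]
      change _ = μ 1
      rw [hμ, mul_one, one_mul]
    have h2 := congrArg hh h1
    rw [map_smul, smul_eq_mul, ← LinearMap.comp_apply, hhg] at h2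
    have h3 : g (Submodule.Quotient.mk 1) = σ 1 := rfl
    rw [h3, hσ, one_mul, mul_comm] at h2
    exact h2
  exact hs0 (hxb ▸ hb x hxa)

end Baer

section Goren

/-- A zero-dimensional Gorenstein local ring is self-injective. -/
theorem injective_of_gorenstein_dim_zero (A : Type u) [CommRing A] [LocCoh.IsGorensteinLocalRing A]
    (hdim : ringKrullDim A = 0) : Module.Injective A A := by
  obtain ⟨t, ht, hsd, hinj⟩ := gorenstein_data (A := A)
    LocCoh.IsGorensteinLocalRing.exists_hasInjectiveDimensionLT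
  rw [Module.supportDim_self_eq_ringKrullDim, hdim] at hsd
  have ht0 : t = 0 := by
    have h1 : ((0 : ℕ∞) : WithBot ℕ∞) = ((t : ℕ∞) : WithBot ℕ∞) := hsd
    have h2 : (0 : ℕ∞) = (t : ℕ∞) := WithBot.coe_injective h1
    exact_mod_cast h2.symm
  subst ht0
  haveI : Injective (ModuleCat.of A A) := injective_iff_hasInjectiveDimensionLT_one.mpr hinj
  exact Module.injective_module_of_injective_object A A

theorem isNilpotent_maximalIdeal_of_dim_zero (A : Type u) [CommRing A] [IsNoetherianRing A]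
    [IsLocalRing A] (hdim : ringKrullDim A = 0) : IsNilpotent (IsLocalRing.maximalIdeal A) := by
  rw [← isArtinianRing_iff_isNilpotent_maximalIdeal, isArtinianRing_iff_krullDimLE_zero,
    Ring.krullDimLE_iff, hdim]
  rfl

end Goren

section Global

open Groth.Agent.H34.Liaison

theorem map_mk_isPrime' {R : Type u} [CommRing R] {𝔭 𝔪 : Ideal R} [𝔪.IsPrime] (h : 𝔭 ≤ 𝔪) :
    (𝔪.map (Ideal.Quotient.mk 𝔭)).IsPrime :=
  Ideal.map_isPrime_of_surjective Ideal.Quotient.mk_surjective (by rwa [Ideal.mk_ker])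

variable {R : Type u} [CommRing R] [IsNoetherianRing R]

/-- If `R/𝔠` is Gorenstein and `I ⊇ 𝔠` has all its associated primes minimal over `𝔠`, then
`𝔠 : (𝔠 : I) ≤ I`. -/
theorem colon_colon_le (𝔠 I : Ideal R) [LocCoh.IsGorensteinRing (R ⧸ 𝔠)] (h𝔠I : 𝔠 ≤ I)
    (hun : ∀ P ∈ associatedPrimes R (R ⧸ I), P ∈ 𝔠.minimalPrimes) :
    𝔠.colon ((𝔠.colon (I : Set R) : Ideal R) : Set R) ≤ I := by
  classical
  set J : Ideal R := 𝔠.colon (I : Set R) with hJ
  by_contra hle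
  obtain ⟨b₀, hb₀, hb₀I⟩ := Set.not_subset.mp hle
  let N : Submodule R (R ⧸ I) := Submodule.span R {Ideal.Quotient.mk I b₀}
  have hb₀N : Ideal.Quotient.mk I b₀ ∈ N := Submodule.subset_span rfl
  have hne : (⟨Ideal.Quotient.mk I b₀, hb₀N⟩ : N) ≠ 0 := by
    intro h
    apply hb₀I
    have := congrArg Subtype.val h
    simpa [Ideal.Quotient.eq_zero_iff_mem] using this
  obtain ⟨P, hPass, -⟩ := exists_le_isAssociatedPrime_of_isNoetherianRing R
    (⟨Ideal.Quotient.mk I b₀, hb₀N⟩ : N) hne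
  have hPass' : P ∈ associatedPrimes R (R ⧸ I) :=
    hPass.map_of_injective N.subtype N.subtype_injective
  obtain ⟨hPprime, y, hy⟩ := isAssociatedPrime_iff.mp hPass
  obtain ⟨r, hr⟩ := Submodule.mem_span_singleton.mp y.2
  set b : R := r * b₀ with hbdef
  have hbJ : b ∈ 𝔠.colon (J : Set R) := Ideal.mul_mem_left _ r hb₀
  have hmemP : ∀ a : R, a ∈ P ↔ a * b ∈ I := by
    intro a
    rw [hy, Submodule.mem_colon_singleton, Submodule.mem_bot, ← Subtype.coe_inj,
      Submodule.coe_smul, Submodule.coe_zero, ← hr]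
    change Ideal.Quotient.mk I (a * (r * b₀)) = 0 ↔ _
    rw [Ideal.Quotient.eq_zero_iff_mem]
  have hPmin : P ∈ 𝔠.minimalPrimes := hun P hPass'
  have h𝔠P : 𝔠 ≤ P := hPmin.1.2
  haveI hPbar : (P.map (Ideal.Quotient.mk 𝔠)).IsPrime := map_mk_isPrime' h𝔠P
  have hPbarmin : P.map (Ideal.Quotient.mk 𝔠) ∈ minimalPrimes (R ⧸ 𝔠) := by
    rw [Ideal.minimalPrimes_eq_comap] at hPmin
    obtain ⟨Q', hQ', hQ'eq⟩ := hPmin
    rw [← hQ'eq, Ideal.map_comap_of_surjective _ Ideal.Quotient.mk_surjective]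
    exact hQ'
  have hnotmem : ∀ v : R, v ∉ P → Ideal.Quotient.mk 𝔠 v ∈ (P.map (Ideal.Quotient.mk 𝔠)).primeCompl := by
    intro v hv hmem
    apply hv
    have h1 : v ∈ (P.map (Ideal.Quotient.mk 𝔠)).comap (Ideal.Quotient.mk 𝔠) := hmem
    rwa [Ideal.comap_map_of_surjective _ Ideal.Quotient.mk_surjective, ← RingHom.ker_eq_comap_bot,
      Ideal.mk_ker, sup_eq_left.mpr h𝔠P] at h1
  haveI := LocCoh.IsGorensteinRing.isGorensteinLocalRing_localization (A := R ⧸ 𝔠)
    (P.map (Ideal.Quotient.mk 𝔠))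
  have hdim : ringKrullDim (Localization.AtPrime (P.map (Ideal.Quotient.mk 𝔠))) = 0 := by
    rw [IsLocalization.AtPrime.ringKrullDim_eq_height (P.map (Ideal.Quotient.mk 𝔠)),
      Ideal.height_eq_zero_iff.mpr hPbarmin]
    rfl
  haveI := injective_of_gorenstein_dim_zero _ hdim
  have hnil := isNilpotent_maximalIdeal_of_dim_zero _ hdim
  let φ : R →+* (Localization.AtPrime (P.map (Ideal.Quotient.mk 𝔠))) := (algebraMap (R ⧸ 𝔠) (Localization.AtPrime (P.map (Ideal.Quotient.mk 𝔠)))).comp (Ideal.Quotient.mk 𝔠)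
  have hφunit : ∀ v : R, v ∉ P → IsUnit (φ v) := fun v hv =>
    IsLocalization.map_units (Localization.AtPrime (P.map (Ideal.Quotient.mk 𝔠))) (⟨Ideal.Quotient.mk 𝔠 v, hnotmem v hv⟩ :
      (P.map (Ideal.Quotient.mk 𝔠)).primeCompl)
  have hφzero : ∀ z : R, φ z = 0 → ∃ v : R, v ∉ P ∧ v * z ∈ 𝔠 := by
    intro z hz
    obtain ⟨⟨u, hu⟩, hu0⟩ := (IsLocalization.map_eq_zero_iff
      (P.map (Ideal.Quotient.mk 𝔠)).primeCompl (Localization.AtPrime (P.map (Ideal.Quotient.mk 𝔠))) (Ideal.Quotient.mk 𝔠 z)).mp hz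
    obtain ⟨v, rfl⟩ := Ideal.Quotient.mk_surjective u
    refine ⟨v, fun hv => hu (Ideal.mem_map_of_mem _ hv), ?_⟩
    rw [← Ideal.Quotient.eq_zero_iff_mem, map_mul]
    exact hu0
  have hmain : φ b ∈ I.map φ := by
    apply mem_of_forall_ann hnil
    intro x hx
    obtain ⟨⟨x₀, t⟩, hxt⟩ := IsLocalization.surj (P.map (Ideal.Quotient.mk 𝔠)).primeCompl x
    obtain ⟨y₀, hy₀⟩ := Ideal.Quotient.mk_surjective x₀
    have hxt' : x * algebraMap (R ⧸ 𝔠) (Localization.AtPrime (P.map (Ideal.Quotient.mk 𝔠))) t = φ y₀ := by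
      rw [hxt]
      change _ = algebraMap (R ⧸ 𝔠) (Localization.AtPrime (P.map (Ideal.Quotient.mk 𝔠))) (Ideal.Quotient.mk 𝔠 y₀)
      rw [hy₀]
    have htunit : IsUnit (algebraMap (R ⧸ 𝔠) (Localization.AtPrime (P.map (Ideal.Quotient.mk 𝔠))) t) := IsLocalization.map_units (Localization.AtPrime (P.map (Ideal.Quotient.mk 𝔠))) t
    -- for each `f ∈ I`, some `v ∉ P` has `v * (y₀ * f) ∈ 𝔠`
    have hf : ∀ f ∈ I, ∃ v : R, v ∉ P ∧ v * (y₀ * f) ∈ 𝔠 := by
      intro f hfI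
      apply hφzero
      rw [map_mul, ← hxt', mul_right_comm, hx _ (Ideal.mem_map_of_mem φ hfI), zero_mul]
    obtain ⟨T, hT⟩ : I.FG := IsNoetherian.noetherian I
    have hfT : ∀ f : T, ∃ v : R, v ∉ P ∧ v * (y₀ * f.1) ∈ 𝔠 := fun f =>
      hf f.1 (hT ▸ Ideal.subset_span f.2)
    choose v hvP hv𝔠 using hfT
    set w : R := ∏ f : T, v f with hw
    have hwP : w ∉ P := by
      intro hmem
      obtain ⟨f, -, hf'⟩ := (Ideal.IsPrime.prod_mem_iff).mp hmem
      exact hvP f hf'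
    have hwT : ∀ f ∈ T, w * y₀ * f ∈ 𝔠 := by
      intro f hfT'
      have hdvd : v ⟨f, hfT'⟩ ∣ w := Finset.dvd_prod_of_mem _ (Finset.mem_univ _)
      obtain ⟨c, hc⟩ := hdvd
      rw [hc, mul_assoc, mul_assoc, mul_left_comm]
      have := hv𝔠 ⟨f, hfT'⟩
      have h2 : c * (v ⟨f, hfT'⟩ * (y₀ * f)) ∈ 𝔠 := 𝔠.mul_mem_left c this
      exact h2
    have hwJ : w * y₀ ∈ J := by
      rw [hJ, Submodule.mem_colon]
      intro f hfI
      rw [smul_eq_mul]
      have hfI' : f ∈ Ideal.span (T : Set R) := hT ▸ hfI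
      refine Submodule.span_induction (p := fun f _ => w * y₀ * f ∈ 𝔠) ?_ ?_ ?_ ?_ hfI'
      · intro g hg
        exact hwT g hg
      · simp
      · intro g₁ g₂ _ _ h₁ h₂
        rw [mul_add]
        exact 𝔠.add_mem h₁ h₂
      · intro c g _ hg
        rw [smul_eq_mul, ← mul_assoc, mul_comm (w * y₀) c, mul_assoc]
        exact 𝔠.mul_mem_left c hg
    have hbw : b * (w * y₀) ∈ 𝔠 := by
      rw [Submodule.mem_colon] at hbJ
      have := hbJ (w * y₀) hwJ
      rwa [smul_eq_mul] at this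
    have h1 : φ b * φ w * φ y₀ = 0 := by
      rw [← map_mul, ← map_mul, mul_assoc]
      change algebraMap (R ⧸ 𝔠) (Localization.AtPrime (P.map (Ideal.Quotient.mk 𝔠))) (Ideal.Quotient.mk 𝔠 (b * (w * y₀))) = 0
      rw [Ideal.Quotient.eq_zero_iff_mem.mpr hbw, map_zero]
    have h2 : φ b * φ y₀ = 0 := by
      have : φ w * (φ b * φ y₀) = 0 := by rw [← h1]; ring
      exact (hφunit w hwP).mul_right_eq_zero.mp this
    have h3 : (x * φ b) * algebraMap (R ⧸ 𝔠) (Localization.AtPrime (P.map (Ideal.Quotient.mk 𝔠))) t = 0 := by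
      rw [mul_right_comm, hxt', mul_comm, h2]
    exact (htunit.mul_left_eq_zero).mp h3
  -- conclude
  have hmap : I.map φ = (I.map (Ideal.Quotient.mk 𝔠)).map (algebraMap (R ⧸ 𝔠) (Localization.AtPrime (P.map (Ideal.Quotient.mk 𝔠)))) := by
    rw [Ideal.map_map]
  rw [hmap, IsLocalization.mem_map_algebraMap_iff (P.map (Ideal.Quotient.mk 𝔠)).primeCompl (Localization.AtPrime (P.map (Ideal.Quotient.mk 𝔠)))]
    at hmain
  obtain ⟨⟨⟨i, hi⟩, ⟨u, hu⟩⟩, hiu⟩ := hmain
  obtain ⟨i₀, hi₀I, hi₀⟩ := (Ideal.mem_map_iff_of_surjective _ Ideal.Quotient.mk_surjective).mp hi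
  obtain ⟨w, rfl⟩ := Ideal.Quotient.mk_surjective u
  have hwP : w ∉ P := fun hw => hu (Ideal.mem_map_of_mem _ hw)
  have h0 : φ (b * w - i₀) = 0 := by
    rw [map_sub, map_mul, sub_eq_zero]
    change algebraMap (R ⧸ 𝔠) (Localization.AtPrime (P.map (Ideal.Quotient.mk 𝔠))) (Ideal.Quotient.mk 𝔠 b) * algebraMap (R ⧸ 𝔠) (Localization.AtPrime (P.map (Ideal.Quotient.mk 𝔠))) (Ideal.Quotient.mk 𝔠 w) =
      algebraMap (R ⧸ 𝔠) (Localization.AtPrime (P.map (Ideal.Quotient.mk 𝔠))) (Ideal.Quotient.mk 𝔠 i₀)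
    rw [hi₀]
    exact hiu
  obtain ⟨w', hw'P, hw'⟩ := hφzero _ h0
  have h4 : w' * w * b ∈ I := by
    have h5 : w' * (b * w - i₀) ∈ I := h𝔠I hw'
    have h6 : w' * w * b = w' * (b * w - i₀) + w' * i₀ := by ring
    rw [h6]
    exact I.add_mem h5 (I.mul_mem_left w' hi₀I)
  have h7 : w' * w ∈ P := (hmemP _).mpr h4
  rcases hPprime.mem_or_mem h7 with h8 | h8
  · exact hw'P h8
  · exact hwP h8

/-- Double-link identity `𝔠 : (𝔠 : I) = I` for an unmixed ideal `I ⊇ 𝔠` of the same height. -/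
theorem colon_colon_eq (𝔠 I : Ideal R) [LocCoh.IsGorensteinRing (R ⧸ 𝔠)] (c : ℕ)
    (h𝔠c : 𝔠.height = c) (hIu : ∀ p ∈ associatedPrimes R (R ⧸ I), p.height = c) (h𝔠I : 𝔠 ≤ I) :
    𝔠.colon ((𝔠.colon (I : Set R) : Ideal R) : Set R) = I := by
  apply le_antisymm
  · apply colon_colon_le 𝔠 I h𝔠I
    intro P hP
    have hPprime : P.IsPrime := hP.isPrime
    have hIP : I ≤ P := by
      obtain ⟨-, y, hy⟩ := isAssociatedPrime_iff.mp hP
      intro a ha
      rw [hy, Submodule.mem_colon_singleton, Submodule.mem_bot]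
      obtain ⟨y', rfl⟩ := Ideal.Quotient.mk_surjective y
      change Ideal.Quotient.mk I (a * y') = 0
      rw [Ideal.Quotient.eq_zero_iff_mem]
      exact I.mul_mem_right _ ha
    obtain ⟨Q, hQ, hQP⟩ := Ideal.exists_minimalPrimes_le (h𝔠I.trans hIP)
    haveI := hQ.1.1
    rcases hQP.lt_or_eq with hlt | heq
    · exfalso
      have h1 : Q.height + 1 ≤ P.height := Ideal.height_add_one_le_of_lt_of_isPrime hlt
      have h2 : 𝔠.height ≤ Q.height := Ideal.height_mono hQ.1.2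
      rw [hIu P hP] at h1
      rw [h𝔠c] at h2
      have h3 : (c : ℕ∞) + 1 ≤ c := (add_le_add_left h2 1).trans h1
      have h4 : (c : ℕ∞) < c + 1 := by
        exact_mod_cast Nat.lt_succ_self c
      exact absurd h3 (not_le.mpr h4)
    · exact heq ▸ hQ
  · intro a ha
    rw [Submodule.mem_colon]
    intro j hj
    rw [SetLike.mem_coe, Submodule.mem_colon] at hj
    have := hj a ha
    rw [smul_eq_mul] at this ⊢
    rwa [mul_comm]

end Global

end Groth.Agent.H34.DoubleAnn
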