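import Mathlib

/-!
# Descent of flatness along an injective map of rings with nilpotent "maximal" ideals (helper34)
-/

set_option autoImplicit false
open TensorProduct
universe u

namespace Groth.Agent.H34.ArtinDescent

section Nak

variable {A : Type*} [CommRing A] {N : Type*} [AddCommGroup N] [Module A N]

theorem eq_top_of_sup_smul_of_pow_eq_bot (𝔫 : Ideal A) (n : ℕ) (h𝔫 : 𝔫 ^ n = ⊥)
    (P : Submodule A N) (h : ⊤ ≤ P ⊔ 𝔫 • (⊤ : Submodule A N)) : P = ⊤ := by
  have key : ∀ m : ℕ, (⊤ : Submodule A N) ≤ P ⊔ 𝔫 ^ m • (⊤ : Submodule A N) := by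
    intro m
    induction m with
    | zero => simp
    | succ m ih =>
      calc (⊤ : Submodule A N) ≤ P ⊔ 𝔫 • (⊤ : Submodule A N) := h
        _ ≤ P ⊔ 𝔫 • (P ⊔ 𝔫 ^ m • (⊤ : Submodule A N)) :=
            sup_le_sup_left (Submodule.smul_mono le_rfl ih) _
        _ = P ⊔ (𝔫 • P ⊔ 𝔫 • (𝔫 ^ m • (⊤ : Submodule A N))) := by rw [Submodule.smul_sup]
        _ ≤ P ⊔ 𝔫 ^ (m + 1) • (⊤ : Submodule A N) := by
            apply sup_le le_sup_left
            apply sup_le (le_sup_of_le_left Submodule.smul_le_right)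
            rw [← mul_smul, ← pow_succ']
            exact le_sup_right
  have := key n
  rw [h𝔫, Submodule.bot_smul, sup_bot_eq] at this
  exact top_le_iff.mp this

theorem eq_bot_of_le_smul_of_pow_eq_bot (𝔫 : Ideal A) (n : ℕ) (h𝔫 : 𝔫 ^ n = ⊥)
    (K : Submodule A N) (h : K ≤ 𝔫 • K) : K = ⊥ := by
  have key : ∀ m : ℕ, K ≤ 𝔫 ^ m • K := by
    intro m
    induction m with
    | zero => simp
    | succ m ih =>
      calc K ≤ 𝔫 ^ m • K := ih
        _ ≤ 𝔫 ^ m • (𝔫 • K) := Submodule.smul_mono le_rfl h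
        _ = 𝔫 ^ (m + 1) • K := by rw [← mul_smul, ← pow_succ]
  have := key n
  rw [h𝔫, Submodule.bot_smul] at this
  exact le_bot_iff.mp this

end Nak

section Flat

variable {A : Type*} [CommRing A] {F N : Type*} [AddCommGroup F] [Module A F]
  [AddCommGroup N] [Module A N]

/-- For a surjection `π : F → N` onto a flat module: `ker π ∩ 𝔞 F = 𝔞 ker π`. -/
theorem mem_smul_ker_of_flat [Module.Flat A N] (π : F →ₗ[A] N) (hπ : Function.Surjective π)
    (𝔞 : Ideal A) (x : F) (hx : x ∈ 𝔞 • (⊤ : Submodule A F)) (hπx : π x = 0) :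
    x ∈ 𝔞 • LinearMap.ker π := by
  let mulF : 𝔞 ⊗[A] F →ₗ[A] F := (TensorProduct.lid A F).toLinearMap ∘ₗ (𝔞.subtype.rTensor F)
  let mulN : 𝔞 ⊗[A] N →ₗ[A] N := (TensorProduct.lid A N).toLinearMap ∘ₗ (𝔞.subtype.rTensor N)
  have hmulF : ∀ (a : 𝔞) (f : F), mulF (a ⊗ₜ f) = (a : A) • f := by
    intro a f
    simp [mulF]
  have hmulN_inj : Function.Injective mulN :=
    (TensorProduct.lid A N).injective.comp
      (Module.Flat.rTensor_preserves_injective_linearMap _ Subtype.val_injective)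
  obtain ⟨y, hy⟩ : ∃ y, mulF y = x := by
    refine Submodule.smul_induction_on hx ?_ ?_
    · intro a ha f _
      exact ⟨(⟨a, ha⟩ : 𝔞) ⊗ₜ f, hmulF _ _⟩
    · rintro _ _ ⟨y₁, rfl⟩ ⟨y₂, rfl⟩
      exact ⟨y₁ + y₂, map_add _ _ _⟩
  have hcomm : ∀ y, mulN ((π.lTensor 𝔞) y) = π (mulF y) := by
    intro y
    induction y with
    | zero => simp
    | tmul a f => simp [mulF, mulN]
    | add a b ha hb => simp only [map_add, ha, hb]
  have h1 : (π.lTensor 𝔞) y = 0 := hmulN_inj (by rw [hcomm, hy, hπx, map_zero])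
  have hex : Function.Exact ((LinearMap.ker π).subtype.lTensor 𝔞) (π.lTensor 𝔞) :=
    lTensor_exact 𝔞 (LinearMap.exact_subtype_ker_map π) hπ
  obtain ⟨w, hw⟩ := (hex y).mp h1
  have claim : ∀ w : 𝔞 ⊗[A] LinearMap.ker π,
      mulF (((LinearMap.ker π).subtype.lTensor 𝔞) w) ∈ 𝔞 • LinearMap.ker π := by
    intro w
    induction w with
    | zero => simp
    | tmul a k =>
      rw [LinearMap.lTensor_tmul, hmulF]
      exact Submodule.smul_mem_smul a.2 k.2
    | add a b ha hb =>
      rw [map_add, map_add]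
      exact Submodule.add_mem _ ha hb
  rw [← hy, ← hw]
  exact claim w

end Flat

section Main

variable {A A' : Type u} [CommRing A] [CommRing A'] [Algebra A A']

theorem tmul_mem_smul_top (𝔫 : Ideal A) (𝔫' : Ideal A') (hmap : 𝔫.map (algebraMap A A') ≤ 𝔫')
    {F : Type*} [AddCommGroup F] [Module A F] (a' : A') (k : F)
    (hk : k ∈ 𝔫 • (⊤ : Submodule A F)) :
    a' ⊗ₜ[A] k ∈ 𝔫' • (⊤ : Submodule A' (A' ⊗[A] F)) := by
  refine Submodule.smul_induction_on hk ?_ ?_
  · intro r hr f _
    have : a' ⊗ₜ[A] (r • f) = (algebraMap A A' r) • (a' ⊗ₜ[A] f) := by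
      rw [TensorProduct.tmul_smul, algebraMap_smul]
    rw [this]
    exact Submodule.smul_mem_smul (hmap (Ideal.mem_map_of_mem _ hr)) Submodule.mem_top
  · intro y₁ y₂ h₁ h₂
    rw [TensorProduct.tmul_add]
    exact Submodule.add_mem _ h₁ h₂

/-- Core: a surjection from a flat module with kernel in `𝔫 F` is injective, if the base change
of the target is flat. -/
theorem injective_of_ker_le (hinj : Function.Injective (algebraMap A A'))
    (𝔫 : Ideal A) (𝔫' : Ideal A') (n' : ℕ) (h𝔫' : 𝔫' ^ n' = ⊥)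
    (hmap : 𝔫.map (algebraMap A A') ≤ 𝔫')
    (N : Type u) [AddCommGroup N] [Module A N] [Module.Flat A' (A' ⊗[A] N)]
    (F : Type u) [AddCommGroup F] [Module A F] [Module.Flat A F]
    (π : F →ₗ[A] N) (hπsurj : Function.Surjective π)
    (hker : LinearMap.ker π ≤ 𝔫 • (⊤ : Submodule A F)) : Function.Injective π := by
  have hπ'surj : Function.Surjective (π.baseChange A') := LinearMap.lTensor_surjective A' hπsurj
  have hK' : LinearMap.ker (π.baseChange A') ≤ 𝔫' • ⊤ := by
    intro z hz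
    have hex : Function.Exact ((LinearMap.ker π).subtype.lTensor A') (π.lTensor A') :=
      lTensor_exact A' (LinearMap.exact_subtype_ker_map π) hπsurj
    have hz' : (π.lTensor A') z = 0 := hz
    obtain ⟨w, hw⟩ := (hex z).mp hz'
    have claim : ∀ w : A' ⊗[A] LinearMap.ker π,
        ((LinearMap.ker π).subtype.lTensor A') w ∈ 𝔫' • (⊤ : Submodule A' (A' ⊗[A] F)) := by
      intro w
      induction w with
      | zero => simp
      | tmul a' k =>
        rw [LinearMap.lTensor_tmul]
        exact tmul_mem_smul_top 𝔫 𝔫' hmap a' _ (hker k.2)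
      | add a b ha hb =>
        rw [map_add]
        exact Submodule.add_mem _ ha hb
    rw [← hw]
    exact claim w
  have hK'bot : LinearMap.ker (π.baseChange A') = ⊥ := by
    apply eq_bot_of_le_smul_of_pow_eq_bot 𝔫' n' h𝔫'
    intro z hz
    exact mem_smul_ker_of_flat (π.baseChange A') hπ'surj 𝔫' z (hK' hz) hz
  have hι : ∀ c : F, (1 : A') ⊗ₜ[A] c = 0 → c = 0 := by
    intro c hc
    have h1 := Module.Flat.rTensor_preserves_injective_linearMap
      (M := F) (Algebra.linearMap A A') hinj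
    have h2 : ((Algebra.linearMap A A').rTensor _) ((1 : A) ⊗ₜ[A] c) = 0 := by
      rw [LinearMap.rTensor_tmul, Algebra.linearMap_apply, map_one, hc]
    have h3 := h1 (h2.trans (map_zero _).symm)
    have h4 := congrArg (TensorProduct.lid A _) h3
    simpa using h4
  rw [injective_iff_map_eq_zero]
  intro c hc
  apply hι
  have : (1 : A') ⊗ₜ[A] c ∈ LinearMap.ker (π.baseChange A') := by
    rw [LinearMap.mem_ker, LinearMap.baseChange_tmul, hc, TensorProduct.tmul_zero]
  rw [hK'bot] at this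
  exact (Submodule.mem_bot A').mp this


/-- Descent of flatness along an injective ring map `A → A'`, where `𝔫 ⊂ A` is a nilpotent maximal
ideal and `𝔫' ⊇ 𝔫 A'` a nilpotent ideal of `A'`. -/
theorem flat_of_flat_baseChange (hinj : Function.Injective (algebraMap A A'))
    (𝔫 : Ideal A) [𝔫.IsMaximal] (n : ℕ) (h𝔫 : 𝔫 ^ n = ⊥)
    (𝔫' : Ideal A') (n' : ℕ) (h𝔫' : 𝔫' ^ n' = ⊥) (hmap : 𝔫.map (algebraMap A A') ≤ 𝔫')
    (N : Type u) [AddCommGroup N] [Module A N] [Module.Flat A' (A' ⊗[A] N)] :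
    Module.Flat A N := by
  classical
  letI := Ideal.Quotient.field 𝔫
  let P𝔫 : Submodule A N := 𝔫 • ⊤
  let b := Module.Free.chooseBasis (A ⧸ 𝔫) (N ⧸ P𝔫)
  have hlift : ∀ i, ∃ y : N, P𝔫.mkQ y = b i := fun i => P𝔫.mkQ_surjective _
  choose x hx using hlift
  let π : ((Module.Free.ChooseBasisIndex (A ⧸ 𝔫) (N ⧸ P𝔫)) →₀ A) →ₗ[A] N :=
    Finsupp.linearCombination A x
  have hπsurj : Function.Surjective π := by
    rw [← LinearMap.range_eq_top]
    apply eq_top_of_sup_smul_of_pow_eq_bot 𝔫 n h𝔫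
    rw [Finsupp.range_linearCombination]
    have h1 : (Submodule.span A (Set.range x)).map P𝔫.mkQ = ⊤ := by
      rw [Submodule.map_span, ← Set.range_comp]
      have hb : (P𝔫.mkQ ∘ x) = b := funext hx
      rw [hb]
      have h2 := b.span_eq
      have h3 := Submodule.restrictScalars_span A (A ⧸ 𝔫) Ideal.Quotient.mk_surjective
        (Set.range b)
      rw [h2] at h3
      rw [← h3]
      rfl
    have h4 := (Submodule.map_mkQ_eq_top (p := P𝔫) (p' := Submodule.span A (Set.range x))).mp h1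
    rw [sup_comm]
    exact h4.ge
  have hker : LinearMap.ker π ≤ 𝔫 • (⊤ : Submodule A _) := by
    intro c hc
    have hc0 : π c = 0 := hc
    have hci : ∀ i ∈ c.support, c i ∈ 𝔫 := by
      have h2 : ∑ i ∈ c.support, (Ideal.Quotient.mk 𝔫 (c i)) • b i = 0 := by
        have : P𝔫.mkQ (π c) = 0 := by rw [hc0, map_zero]
        rw [Finsupp.linearCombination_apply, Finsupp.sum, map_sum] at this
        rw [← this]
        apply Finset.sum_congr rfl
        intro i _
        rw [← hx i]
        rfl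
      have := linearIndependent_iff'.mp b.linearIndependent c.support
        (fun i => Ideal.Quotient.mk 𝔫 (c i)) h2
      intro i hi
      exact Ideal.Quotient.eq_zero_iff_mem.mp (this i hi)
    rw [← Finsupp.sum_single c]
    apply Submodule.sum_mem
    intro i hi
    have : Finsupp.single i (c i) = (c i) • (Finsupp.single i (1 : A)) := by
      rw [Finsupp.smul_single, smul_eq_mul, mul_one]
    rw [this]
    exact Submodule.smul_mem_smul (hci i hi) Submodule.mem_top
  have hπinj : Function.Injective π :=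
    injective_of_ker_le hinj 𝔫 𝔫' n' h𝔫' hmap N _ π hπsurj hker
  exact Module.Flat.of_linearEquiv (LinearEquiv.ofBijective π ⟨hπinj, hπsurj⟩).symm

end Main

end Groth.Agent.H34.ArtinDescent
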