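import Mathlib
import Groth.Agent.S2043
import Groth.Agent.Lib.Helper31.LocComplIso

/-!
# Artin approximation in an étale neighbourhood (from the Popescu factorization property)
-/

namespace Groth.Agent.H34.ArtinEtale

open IsLocalRing MvPolynomial

universe u

lemma factor_evalₐ_succ {R : Type*} [CommRing R] (I : Ideal R) (N : ℕ)
    (y : AdicCompletion I R) :
    Ideal.Quotient.factor (Ideal.pow_le_self (Nat.succ_ne_zero N) : I ^ (N + 1) ≤ I)
      (AdicCompletion.evalₐ I (N + 1) y) = AdicCompletion.evalOneₐ I y := by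
  obtain ⟨x, rfl⟩ := AdicCompletion.mk_surjective I R y
  rw [← AdicCompletion.factorₐ_evalₐ_one]
  simp only [AdicCompletion.evalₐ_mk, Ideal.Quotient.factor_mk]
  rw [Ideal.Quotient.eq]
  have hx := x.2 (show 1 ≤ N + 1 by omega)
  rw [SModEq.sub_mem] at hx
  simp only [smul_eq_mul, Ideal.mul_top, pow_one] at hx
  rw [← neg_sub]
  exact I.neg_mem hx

set_option maxHeartbeats 800000 in
theorem core {R : Type u} [CommRing R] [IsLocalRing R] [IsNoetherianRing R]
    (hpop : ∀ (A : Type u) [CommRing A] [Algebra R A] [Algebra.FinitePresentation R A]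
      (f : A →ₐ[R] AdicCompletion (maximalIdeal R) R),
      ∃ (B : Type u) (_ : CommRing B) (_ : Algebra R B), Algebra.Smooth R B ∧
        ∃ (g : A →ₐ[R] B) (h : B →ₐ[R] AdicCompletion (maximalIdeal R) R), h.comp g = f)
    {n m : ℕ} (F : Fin m → MvPolynomial (Fin n) R)
    (a : Fin n → AdicCompletion (maximalIdeal R) R) (ha : ∀ j, aeval a (F j) = 0) (N : ℕ) :
    ∃ (R' : Type u) (_ : CommRing R') (_ : Algebra R R'), Algebra.Etale R R' ∧
      ∃ (ψ : R' →ₐ[R] AdicCompletion (maximalIdeal R) R) (m' : Ideal R'), m'.IsMaximal ∧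
        m'.comap (algebraMap R R') = maximalIdeal R ∧
        (∀ x : R', ∃ r : R, x - algebraMap R R' r ∈ m') ∧
        (∀ x ∈ m', ψ x ∈ (maximalIdeal R).map
          (algebraMap R (AdicCompletion (maximalIdeal R) R))) ∧
        ∃ b : Fin n → R', (∀ j, aeval b (F j) = 0) ∧
          ∀ i, a i - ψ (b i) ∈ (maximalIdeal R ^ N).map
            (algebraMap R (AdicCompletion (maximalIdeal R) R)) := by
  classical
  have fg : (maximalIdeal R).FG := (maximalIdeal R).fg_of_isNoetherianRing
  -- the finitely presented algebra of the system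
  let K : Ideal (MvPolynomial (Fin n) R) := Ideal.span (Set.range F)
  have hKfg : K.FG := ⟨Finset.univ.image F, by simp [K]⟩
  haveI : Algebra.FinitePresentation R (MvPolynomial (Fin n) R ⧸ K) :=
    Algebra.FinitePresentation.quotient hKfg
  have hK0 : ∀ x ∈ K, (aeval a : MvPolynomial (Fin n) R →ₐ[R] _) x = 0 := by
    intro x hx
    have : K ≤ RingHom.ker (aeval a : MvPolynomial (Fin n) R →ₐ[R] _).toRingHom := by
      rw [Ideal.span_le]
      rintro _ ⟨j, rfl⟩
      exact ha j
    exact this hx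
  obtain ⟨B, _, _, hsm, g, h, hgh⟩ := hpop _ (Ideal.Quotient.liftₐ K (aeval a) hK0)
  -- the section modulo `𝔪^(N+1)`
  obtain ⟨I, hI⟩ : ∃ I : Ideal R, I = maximalIdeal R ^ (N + 1) := ⟨_, rfl⟩
  have hIm : I ≤ maximalIdeal R := hI ▸ Ideal.pow_le_self (Nat.succ_ne_zero N)
  obtain ⟨R', _, _, het, hbij, τ, hτ⟩ := Groth.Agent.S2043.result I
    ((Ideal.quotientEquivAlgOfEq R hI.symm).toAlgHom.comp
      ((AdicCompletion.evalₐ (maximalIdeal R) (N + 1)).comp h))
  refine ⟨R', inferInstance, inferInstance, het, ?_⟩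
  -- the retraction `R' → R/I`
  let e : (R ⧸ I) ≃+* (R' ⧸ I.map (algebraMap R R')) :=
    RingEquiv.ofBijective (algebraMap (R ⧸ I) (R' ⧸ I.map (algebraMap R R'))) hbij
  have he : ∀ y, e y = algebraMap (R ⧸ I) (R' ⧸ I.map (algebraMap R R')) y := fun _ => rfl
  let ρ : R' →ₐ[R] R ⧸ I :=
    { e.symm.toRingHom.comp (Ideal.Quotient.mk (I.map (algebraMap R R'))) with
      commutes' := by
        intro r
        change e.symm (Ideal.Quotient.mk (I.map (algebraMap R R')) (algebraMap R R' r)) =
          Ideal.Quotient.mk I r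
        rw [RingEquiv.symm_apply_eq, he, Ideal.Quotient.algebraMap_quotient_map_quotient] }
  have hρ : ∀ x : R', e (ρ x) = Ideal.Quotient.mk (I.map (algebraMap R R')) x := by
    intro x
    change e (e.symm _) = _
    rw [RingEquiv.apply_symm_apply]
  let ρ₁ : R' →ₐ[R] R ⧸ maximalIdeal R := (Ideal.Quotient.factorₐ R hIm).comp ρ
  have hρ₁alg : ∀ r : R, ρ₁ (algebraMap R R' r) = Ideal.Quotient.mk (maximalIdeal R) r := by
    intro r
    rw [AlgHom.commutes]
    rfl
  haveI : Algebra.FormallySmooth R R' := inferInstance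
  obtain ⟨ψ, hψ⟩ := Algebra.FormallySmooth.exists_adicCompletionEvalOneₐ_comp_eq
    (R := R) (A := R') (S := R) (I := maximalIdeal R) ρ₁
  have hψ' : ∀ x : R', AdicCompletion.evalOneₐ (maximalIdeal R) (ψ x) = ρ₁ x :=
    fun x => congrArg (fun φ => φ x) hψ
  -- the two maps to `R/𝔪^(N+1)` agree
  have hkey : ∀ x : R', AdicCompletion.evalₐ (maximalIdeal R) (N + 1) (ψ x) =
      Ideal.quotientEquivAlgOfEq R hI (ρ x) := by
    have hnil : IsNilpotent (RingHom.ker (Ideal.Quotient.factor
        (Ideal.pow_le_self (Nat.succ_ne_zero N) :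
          maximalIdeal R ^ (N + 1) ≤ maximalIdeal R))) := by
      refine ⟨N + 1, ?_⟩
      rw [Ideal.Quotient.factor_ker, ← Ideal.map_pow, Ideal.zero_eq_bot,
        Ideal.map_quotient_self]
    have := Algebra.FormallyUnramified.ext' (R := R) (A := R') _ hnil
      ((AdicCompletion.evalₐ (maximalIdeal R) (N + 1)).comp ψ)
      ((Ideal.quotientEquivAlgOfEq R hI).toAlgHom.comp ρ) (by
        intro x
        simp only [AlgHom.comp_apply]
        rw [factor_evalₐ_succ, hψ']
        subst hI
        obtain ⟨y, hy⟩ := Ideal.Quotient.mk_surjective (ρ x)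
        simp only [ρ₁, AlgHom.comp_apply]
        rw [← hy]
        rfl)
    exact fun x => congrArg (fun φ => φ x) this
  refine ⟨ψ, RingHom.ker ρ₁.toRingHom, ?_, ?_, ?_, ?_, ?_⟩
  · -- maximal
    have hsurj : Function.Surjective ρ₁.toRingHom := by
      intro y
      obtain ⟨r, rfl⟩ := Ideal.Quotient.mk_surjective y
      exact ⟨algebraMap R R' r, hρ₁alg r⟩
    letI : Field (R ⧸ maximalIdeal R) := Ideal.Quotient.field _
    exact RingHom.ker_isMaximal_of_surjective _ hsurj
  · ext r
    rw [Ideal.mem_comap, RingHom.mem_ker]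
    change ρ₁ (algebraMap R R' r) = 0 ↔ _
    rw [hρ₁alg, Ideal.Quotient.eq_zero_iff_mem]
  · intro x
    obtain ⟨r, hr⟩ := Ideal.Quotient.mk_surjective (ρ₁ x)
    refine ⟨r, ?_⟩
    rw [RingHom.mem_ker]
    change ρ₁ (x - algebraMap R R' r) = 0
    rw [map_sub, hρ₁alg, hr, sub_self]
  · intro x hx
    rw [← AdicCompletion.ker_evalOneₐ_eq_map _ fg, RingHom.mem_ker]
    change AdicCompletion.evalOneₐ (maximalIdeal R) (ψ x) = 0
    rw [hψ']
    exact hx
  · refine ⟨fun i => τ (g (Ideal.Quotient.mk K (X i))), ?_, ?_⟩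
    · intro j
      have h1 : (τ.comp g).comp (Ideal.Quotient.mkₐ R K) =
          aeval (fun i => τ (g (Ideal.Quotient.mk K (X i)))) := by
        apply MvPolynomial.algHom_ext
        intro i
        simp
      rw [← h1]
      simp only [AlgHom.comp_apply, Ideal.Quotient.mkₐ_eq_mk]
      have : Ideal.Quotient.mk K (F j) = 0 :=
        Ideal.Quotient.eq_zero_iff_mem.mpr (Ideal.subset_span ⟨j, rfl⟩)
      rw [this, map_zero, map_zero]
    · intro i
      have hle : (maximalIdeal R ^ (N + 1)).map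
          (algebraMap R (AdicCompletion (maximalIdeal R) R)) ≤
          (maximalIdeal R ^ N).map (algebraMap R (AdicCompletion (maximalIdeal R) R)) :=
        Ideal.map_mono (Ideal.pow_le_pow_right (Nat.le_succ N))
      apply hle
      rw [← Groth.Agent.Lib.Helper31.LocComplIso.ker_evalₐ _ _ fg, RingHom.mem_ker]
      change AdicCompletion.evalₐ (maximalIdeal R) (N + 1) _ = 0
      rw [map_sub, hkey, sub_eq_zero]
      -- `ρ (τ y) = σ y`
      have h2 := hτ (g (Ideal.Quotient.mk K (X i)))
      rw [← hρ, ← he] at h2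
      have h3 := e.injective h2
      rw [h3]
      have h4 := congrArg (fun φ => φ (Ideal.Quotient.mk K (X i))) hgh
      simp only [AlgHom.comp_apply, Ideal.Quotient.liftₐ_apply, Ideal.Quotient.lift_mk] at h4
      simp only [AlgHom.coe_comp, Function.comp_apply]
      rw [h4]
      simp only [RingHom.coe_coe, aeval_X]
      subst hI
      obtain ⟨y, hy⟩ := Ideal.Quotient.mk_surjective
        (AdicCompletion.evalₐ (maximalIdeal R) (N + 1) (a i))
      rw [← hy]
      rfl

end Groth.Agent.H34.ArtinEtale
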