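import Mathlib
import Groth.Agent.S2043
import Groth.Agent.Lib.Helper31.LocComplIso
import Groth.Agent.H34.ArtinEtale

/-!
# Artin approximation in an étale neighbourhood of a prime (from the Popescu factorization property)
-/

namespace Groth.Agent.H34.ArtinEtaleLoc

open IsLocalRing MvPolynomial

universe u

section Factor

variable {R : Type u} [CommRing R]

/-- clearing denominators in the value of a polynomial -/
lemma exists_clear_denominators {σ : Type*} (g : MvPolynomial σ R) (c : σ → R) (w : R) :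
    ∃ (d : ℕ) (H : R), ∀ (S : Type u) [CommRing S] [Algebra R S] (v : σ → S),
      (∀ i, algebraMap R S w * v i = algebraMap R S (c i)) →
      algebraMap R S w ^ d * aeval v g = algebraMap R S H := by
  induction g using MvPolynomial.induction_on with
  | C a =>
    refine ⟨0, a, fun S _ _ v _ => ?_⟩
    simp
  | add p q hp hq =>
    obtain ⟨d₁, H₁, h₁⟩ := hp
    obtain ⟨d₂, H₂, h₂⟩ := hq
    refine ⟨d₁ + d₂, w ^ d₂ * H₁ + w ^ d₁ * H₂, fun S _ _ v hv => ?_⟩
    rw [map_add, map_add, map_mul, map_mul, map_pow, map_pow, ← h₁ S v hv, ← h₂ S v hv]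
    ring
  | mul_X p i hp =>
    obtain ⟨d, H, h⟩ := hp
    refine ⟨d + 1, H * c i, fun S _ _ v hv => ?_⟩
    rw [map_mul, aeval_X, map_mul, ← h S v hv, ← hv i]
    ring

/-- **Maps from a finitely presented algebra into a localized quotient factor through a basic
localization.** -/
theorem exists_factor (M : Submonoid R) (I : Ideal R) {B : Type u} [CommRing B] [Algebra R B]
    [Algebra.FinitePresentation R B] {D : Type u} [CommRing D] [Algebra R D] (σ : B →ₐ[R] D)
    (ha : ∀ x : D, ∃ w ∈ M, ∃ c : R, algebraMap R D w * x = algebraMap R D c)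
    (hb : ∀ r : R, algebraMap R D r = 0 → ∃ t ∈ M, t * r ∈ I)
    (hc : ∀ w ∈ M, IsUnit (algebraMap R D w)) :
    ∃ s ∈ M, ∀ (E : Type u) [CommRing E] [Algebra R E], IsUnit (algebraMap R E s) →
      (∀ r ∈ I, algebraMap R E r = 0) →
      ∃ σE : B →ₐ[R] E, ∀ φ : E →ₐ[R] D, φ.comp σE = σ := by
  classical
  obtain ⟨k, π, hπ, T, hT⟩ := (inferInstance : Algebra.FinitePresentation R B).out
  -- denominators for the images of the variables
  choose w₀ hw₀ c₀ hc₀ using fun i : Fin k => ha (σ (π (X i)))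
  obtain ⟨w, hw⟩ : ∃ w : R, w = ∏ i, w₀ i := ⟨_, rfl⟩
  have hwM : w ∈ M := hw ▸ Submonoid.prod_mem _ (fun i _ => hw₀ i)
  let c : Fin k → R := fun i => c₀ i * ∏ j ∈ Finset.univ.erase i, w₀ j
  have hcw : ∀ i, algebraMap R D w * σ (π (X i)) = algebraMap R D (c i) := by
    intro i
    have h1 : w = w₀ i * ∏ j ∈ Finset.univ.erase i, w₀ j := by
      rw [hw, Finset.mul_prod_erase _ _ (Finset.mem_univ i)]
    simp only [c]
    rw [map_mul, ← hc₀ i, h1, map_mul]
    ring
  -- the relations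
  choose d H hH using fun g : MvPolynomial (Fin k) R => exists_clear_denominators g c w
  have hσπ : σ.comp π = aeval (fun i => σ (π (X i))) := by
    apply MvPolynomial.algHom_ext
    intro i
    simp
  have hH0 : ∀ g ∈ T, algebraMap R D (H g) = 0 := by
    intro g hg
    rw [← hH g D _ hcw, ← hσπ]
    have : π g = 0 := by
      have : g ∈ RingHom.ker π.toRingHom := hT ▸ Ideal.subset_span hg
      exact this
    rw [AlgHom.comp_apply, this, map_zero, mul_zero]
  choose! t ht htI using fun g : MvPolynomial (Fin k) R => hb (H g)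
  refine ⟨w * ∏ g ∈ T, t g, M.mul_mem hwM (Submonoid.prod_mem _ (fun g hg => ht g (hH0 g hg))), ?_⟩
  intro E _ _ hsE hIE
  have hwE : IsUnit (algebraMap R E w) := by
    rw [map_mul] at hsE
    exact isUnit_of_mul_isUnit_left hsE
  have htE : ∀ g ∈ T, IsUnit (algebraMap R E (t g)) := by
    intro g hg
    refine isUnit_of_dvd_unit ?_ hsE
    exact map_dvd _ (Dvd.dvd.mul_left (Finset.dvd_prod_of_mem _ hg) _)
  obtain ⟨u, hu⟩ := hwE
  let v : Fin k → E := fun i => ↑u⁻¹ * algebraMap R E (c i)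
  have hv : ∀ i, algebraMap R E w * v i = algebraMap R E (c i) := by
    intro i
    simp only [v]
    rw [← hu, ← mul_assoc, Units.mul_inv, one_mul]
  have hvT : ∀ g ∈ T, (aeval v : MvPolynomial (Fin k) R →ₐ[R] E) g = 0 := by
    intro g hg
    have h1 := hH g E v hv
    have h2 : algebraMap R E (H g) = 0 := by
      have h3 := hIE _ (htI g (hH0 g hg))
      rw [map_mul] at h3
      exact (htE g hg).mul_right_eq_zero.mp h3
    rw [h2] at h1
    have h4 : IsUnit (algebraMap R E w ^ d g) := (hu ▸ u.isUnit).pow _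
    exact h4.mul_right_eq_zero.mp h1
  have hker : RingHom.ker π.toRingHom ≤ RingHom.ker (aeval v : _ →ₐ[R] E).toRingHom := by
    rw [← hT, Ideal.span_le]
    intro g hg
    exact hvT g hg
  refine ⟨AlgHom.liftOfSurjective π hπ (aeval v) hker, fun φ => ?_⟩
  apply AlgHom.ext
  intro y
  obtain ⟨q, rfl⟩ := hπ y
  rw [AlgHom.comp_apply, AlgHom.liftOfSurjective_apply]
  have h5 : (φ.comp (aeval v)) = σ.comp π := by
    apply MvPolynomial.algHom_ext
    intro i
    simp only [AlgHom.comp_apply, aeval_X]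
    have h6 : algebraMap R D w * φ (v i) = algebraMap R D w * σ (π (X i)) := by
      rw [hcw, ← φ.commutes w, ← map_mul, hv, φ.commutes]
    exact (hc w hwM).mul_right_injective h6
  exact congrArg (fun ψ => ψ q) h5

end Factor

section Main

variable {R : Type u} [CommRing R] [IsNoetherianRing R] (p : Ideal R) [p.IsPrime]

local notation "Rp" => Localization.AtPrime p
local notation "𝔪" => IsLocalRing.maximalIdeal (Localization.AtPrime p)
local notation "Λ" => AdicCompletion (IsLocalRing.maximalIdeal (Localization.AtPrime p))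
  (Localization.AtPrime p)

set_option maxHeartbeats 1600000 in
theorem coreLoc
    (hpop : ∀ (A : Type u) [CommRing A] [Algebra R A] [Algebra.FinitePresentation R A]
      (f : A →ₐ[R] Λ), ∃ (B : Type u) (_ : CommRing B) (_ : Algebra R B), Algebra.Smooth R B ∧
        ∃ (g : A →ₐ[R] B) (h : B →ₐ[R] Λ), h.comp g = f)
    {n m : ℕ} (F : Fin m → MvPolynomial (Fin n) R) (a : Fin n → Λ)
    (ha : ∀ j, aeval a (MvPolynomial.map (algebraMap R Rp) (F j)) = 0) (N : ℕ) :
    ∃ (R' : Type u) (_ : CommRing R') (_ : Algebra R R'), Algebra.Etale R R' ∧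
      ∃ (ψ : R' →+* Λ) (p' : Ideal R'), p'.IsPrime ∧
        (∀ r : R, ψ (algebraMap R R' r) = algebraMap Rp Λ (algebraMap R Rp r)) ∧
        p'.comap (algebraMap R R') = p ∧
        (∀ x : R', ∃ r s : R, s ∉ p ∧ algebraMap R R' s * x - algebraMap R R' r ∈ p') ∧
        (∀ x ∈ p', ψ x ∈ (𝔪).map (algebraMap Rp Λ)) ∧
        ∃ b : Fin n → R', (∀ j, aeval b (F j) = 0) ∧
          ∀ i, a i - ψ (b i) ∈ (𝔪 ^ N).map (algebraMap Rp Λ) := by
  classical
  have fg : (𝔪).FG := (𝔪).fg_of_isNoetherianRing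
  -- the finitely presented algebra of the system
  let K : Ideal (MvPolynomial (Fin n) R) := Ideal.span (Set.range F)
  have hKfg : K.FG := ⟨Finset.univ.image F, by simp [K]⟩
  haveI : Algebra.FinitePresentation R (MvPolynomial (Fin n) R ⧸ K) :=
    Algebra.FinitePresentation.quotient hKfg
  have hK0 : ∀ x ∈ K, (aeval a : MvPolynomial (Fin n) R →ₐ[R] Λ) x = 0 := by
    intro x hx
    have : K ≤ RingHom.ker (aeval a : MvPolynomial (Fin n) R →ₐ[R] Λ).toRingHom := by
      rw [Ideal.span_le]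
      rintro _ ⟨j, rfl⟩
      have := ha j
      rw [MvPolynomial.aeval_map_algebraMap] at this
      exact this
    exact this hx
  obtain ⟨B, _, _, hsm, g, h, hgh⟩ := hpop _ (Ideal.Quotient.liftₐ K (aeval a) hK0)
  -- the section modulo `𝔪^(N+1)`
  obtain ⟨I, hI⟩ : ∃ I : Ideal R, I = p ^ (N + 1) := ⟨_, rfl⟩
  have hID : I.map (algebraMap R Rp) = 𝔪 ^ (N + 1) := by
    rw [hI, Ideal.map_pow, Localization.AtPrime.map_eq_maximalIdeal]
  obtain ⟨σ, hσ⟩ : ∃ σ : B →ₐ[R] Rp ⧸ I.map (algebraMap R Rp), σ =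
      (Ideal.quotientEquivAlgOfEq R hID.symm).toAlgHom.comp
      (((AdicCompletion.evalₐ (𝔪) (N + 1)).restrictScalars R).comp h) := ⟨_, rfl⟩
  have hσ' : ∀ y : B, Ideal.quotientEquivAlgOfEq R hID (σ y) =
      AdicCompletion.evalₐ (𝔪) (N + 1) (h y) := by
    intro y
    rw [hσ]
    simp only [AlgEquiv.toAlgHom_eq_coe, AlgHom.coe_comp, AlgHom.coe_coe, Function.comp_apply,
      AlgHom.coe_restrictScalars']
    obtain ⟨z, hz⟩ := Ideal.Quotient.mk_surjective (AdicCompletion.evalₐ (𝔪) (N + 1) (h y))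
    rw [← hz]
    rfl
  obtain ⟨s, hsM, hE⟩ := exists_factor p.primeCompl I σ (by
      intro x
      obtain ⟨x, rfl⟩ := Ideal.Quotient.mk_surjective x
      obtain ⟨⟨c, w⟩, hcw⟩ := IsLocalization.surj p.primeCompl x
      refine ⟨w, w.2, c, ?_⟩
      rw [IsScalarTower.algebraMap_apply R Rp (Rp ⧸ _), IsScalarTower.algebraMap_apply R Rp (Rp ⧸ _)]
      simp only [Ideal.Quotient.algebraMap_eq, ← map_mul]
      rw [← hcw, mul_comm]) (by
      intro r hr
      rw [IsScalarTower.algebraMap_apply R Rp (Rp ⧸ _), Ideal.Quotient.algebraMap_eq,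
        Ideal.Quotient.eq_zero_iff_mem] at hr
      exact (IsLocalization.algebraMap_mem_map_algebraMap_iff p.primeCompl Rp I r).mp hr) (by
      intro w hw
      rw [IsScalarTower.algebraMap_apply R Rp (Rp ⧸ _)]
      exact (IsLocalization.map_units Rp ⟨w, hw⟩).map _)
  -- the basic localization
  obtain ⟨Is, hIs⟩ : ∃ Is : Ideal (Localization.Away s),
      Is = I.map (algebraMap R (Localization.Away s)) := ⟨_, rfl⟩
  have hsE : IsUnit (algebraMap R (Localization.Away s ⧸ Is) s) := by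
    rw [IsScalarTower.algebraMap_apply R (Localization.Away s) (Localization.Away s ⧸ Is)]
    exact (IsLocalization.Away.algebraMap_isUnit s).map _
  have hIE : ∀ r ∈ I, algebraMap R (Localization.Away s ⧸ Is) r = 0 := by
    intro r hr
    rw [IsScalarTower.algebraMap_apply R (Localization.Away s) (Localization.Away s ⧸ Is),
      Ideal.Quotient.algebraMap_eq, Ideal.Quotient.eq_zero_iff_mem, hIs]
    exact Ideal.mem_map_of_mem _ hr
  obtain ⟨σE, hσE⟩ := hE (Localization.Away s ⧸ Is) hsE hIE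
  -- the comparison map `R_s/I_s → R_p/I_p`
  have hsu : IsUnit ((Algebra.ofId R Rp) s) := IsLocalization.map_units Rp ⟨s, hsM⟩
  let φ₀ : Localization.Away s →ₐ[R] Rp := IsLocalization.Away.liftAlgHom s (f := Algebra.ofId R Rp) hsu
  have hφ₀ : ∀ x ∈ Is, ((Ideal.Quotient.mkₐ R (I.map (algebraMap R Rp))).comp φ₀) x = 0 := by
    intro x hx
    rw [AlgHom.comp_apply, Ideal.Quotient.mkₐ_eq_mk, Ideal.Quotient.eq_zero_iff_mem]
    have hle : Is ≤ (I.map (algebraMap R Rp)).comap φ₀.toRingHom := by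
      rw [hIs, Ideal.map_le_iff_le_comap]
      intro r hr
      rw [Ideal.mem_comap, Ideal.mem_comap]
      change φ₀ (algebraMap R (Localization.Away s) r) ∈ _
      rw [φ₀.commutes]
      exact Ideal.mem_map_of_mem _ hr
    exact hle hx
  obtain ⟨φ, hφ⟩ : ∃ φ : (Localization.Away s ⧸ Is) →ₐ[R] Rp ⧸ I.map (algebraMap R Rp),
      φ = Ideal.Quotient.liftₐ Is _ hφ₀ := ⟨_, rfl⟩
  have hσφ := hσE φ
  -- étale-local lifting of the section
  obtain ⟨R', _, _, het, hbij, τ, hτ⟩ := Groth.Agent.S2043.result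
    (A := Localization.Away s) (B := TensorProduct R (Localization.Away s) B) Is
    (Algebra.TensorProduct.lift (Algebra.ofId (Localization.Away s) (Localization.Away s ⧸ Is)) σE
      (fun _ _ => Commute.all _ _))
  letI : Algebra R R' :=
    ((algebraMap (Localization.Away s) R').comp (algebraMap R (Localization.Away s))).toAlgebra
  haveI : IsScalarTower R (Localization.Away s) R' := IsScalarTower.of_algebraMap_eq (fun _ => rfl)
  haveI : Algebra.Etale R R' := Algebra.Etale.comp R (Localization.Away s) R'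
  refine ⟨R', inferInstance, inferInstance, inferInstance, ?_⟩
  -- the retraction `R' → R_s/I_s`
  let e : (Localization.Away s ⧸ Is) ≃+* (R' ⧸ Is.map (algebraMap (Localization.Away s) R')) :=
    RingEquiv.ofBijective (algebraMap (Localization.Away s ⧸ Is)
      (R' ⧸ Is.map (algebraMap (Localization.Away s) R'))) hbij
  have he : ∀ y, e y = algebraMap (Localization.Away s ⧸ Is)
      (R' ⧸ Is.map (algebraMap (Localization.Away s) R')) y := fun _ => rfl
  let ρE : R' →ₐ[R] Localization.Away s ⧸ Is :=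
    { e.symm.toRingHom.comp (Ideal.Quotient.mk (Is.map (algebraMap (Localization.Away s) R'))) with
      commutes' := by
        intro r
        change e.symm (Ideal.Quotient.mk _ (algebraMap R R' r)) = algebraMap R _ r
        rw [RingEquiv.symm_apply_eq, he,
          IsScalarTower.algebraMap_apply R (Localization.Away s) (Localization.Away s ⧸ Is),
          Ideal.Quotient.algebraMap_eq, Ideal.Quotient.algebraMap_quotient_map_quotient]
        rfl }
  have hρE : ∀ x : R', e (ρE x) = Ideal.Quotient.mk _ x := by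
    intro x
    change e (e.symm _) = _
    rw [RingEquiv.apply_symm_apply]
  have h𝔪le : 𝔪 ^ (N + 1) ≤ 𝔪 := Ideal.pow_le_self (Nat.succ_ne_zero N)
  obtain ⟨ρ', hρ'⟩ : ∃ ρ' : R' →ₐ[R] Rp ⧸ 𝔪 ^ (N + 1),
      ρ' = (Ideal.quotientEquivAlgOfEq R hID).toAlgHom.comp (φ.comp ρE) := ⟨_, rfl⟩
  obtain ⟨ρ₁, hρ₁⟩ : ∃ ρ₁ : R' →ₐ[R] Rp ⧸ 𝔪,
      ρ₁ = (Ideal.Quotient.factorₐ R h𝔪le).comp ρ' := ⟨_, rfl⟩
  haveI : Algebra.FormallySmooth R R' := inferInstance
  obtain ⟨ψ, hψ⟩ := Algebra.FormallySmooth.exists_adicCompletionEvalOneₐ_comp_eq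
    (R := R) (A := R') (S := Rp) (I := 𝔪) ρ₁
  have hψ' : ∀ x : R', AdicCompletion.evalOneₐ (𝔪) (ψ x) = ρ₁ x :=
    fun x => congrArg (fun f => f x) hψ
  have hkey : ∀ x : R', AdicCompletion.evalₐ (𝔪) (N + 1) (ψ x) = ρ' x := by
    have hnil : IsNilpotent (RingHom.ker (Ideal.Quotient.factor h𝔪le)) := by
      refine ⟨N + 1, ?_⟩
      rw [Ideal.Quotient.factor_ker, ← Ideal.map_pow, Ideal.zero_eq_bot,
        Ideal.map_quotient_self]
    have := Algebra.FormallyUnramified.ext' (R := R) (A := R') _ hnil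
      (((AdicCompletion.evalₐ (𝔪) (N + 1)).restrictScalars R).comp ψ) ρ' (by
        intro x
        simp only [AlgHom.comp_apply, AlgHom.coe_restrictScalars']
        rw [Groth.Agent.H34.ArtinEtale.factor_evalₐ_succ, hψ', hρ₁]
        rfl)
    exact fun x => congrArg (fun f => f x) this
  have hρ₁alg : ∀ r : R, ρ₁ (algebraMap R R' r) = Ideal.Quotient.mk (𝔪) (algebraMap R Rp r) := by
    intro r
    rw [AlgHom.commutes]
    rfl
  letI : Field (Rp ⧸ 𝔪) := Ideal.Quotient.field _
  refine ⟨ψ.toRingHom, RingHom.ker ρ₁.toRingHom, RingHom.ker_isPrime _, ?_, ?_, ?_, ?_, ?_⟩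
  · intro r
    change ψ (algebraMap R R' r) = _
    rw [ψ.commutes, IsScalarTower.algebraMap_apply R Rp Λ]
  · ext r
    rw [Ideal.mem_comap, RingHom.mem_ker]
    change ρ₁ (algebraMap R R' r) = 0 ↔ _
    rw [hρ₁alg, Ideal.Quotient.eq_zero_iff_mem]
    exact IsLocalization.AtPrime.to_map_mem_maximal_iff Rp p r
  · intro x
    obtain ⟨u, hu⟩ := Ideal.Quotient.mk_surjective (ρ₁ x)
    obtain ⟨⟨r, w⟩, hrw⟩ := IsLocalization.surj p.primeCompl u
    refine ⟨r, w, w.2, ?_⟩
    rw [RingHom.mem_ker]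
    change ρ₁ (algebraMap R R' w * x - algebraMap R R' r) = 0
    rw [map_sub, map_mul, hρ₁alg, hρ₁alg, ← hu, ← map_mul, ← map_sub, ← hrw]
    simp only [mul_comm, sub_self, map_zero]
  · intro x hx
    change ψ x ∈ _
    rw [← AdicCompletion.ker_evalOneₐ_eq_map _ fg, RingHom.mem_ker]
    change AdicCompletion.evalOneₐ (𝔪) (ψ x) = 0
    rw [hψ']
    exact hx
  · -- the `R`-algebra map `B → R'`
    obtain ⟨Θ, hΘ⟩ : ∃ Θ : B →ₐ[R] R', Θ = (τ.restrictScalars R).comp
        (Algebra.TensorProduct.includeRight : B →ₐ[R] TensorProduct R (Localization.Away s) B) :=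
      ⟨_, rfl⟩
    have hΘ' : ∀ y : B, Θ y = τ ((1 : Localization.Away s) ⊗ₜ[R] y) := by
      intro y
      rw [hΘ]
      rfl
    refine ⟨fun i => Θ (g (Ideal.Quotient.mk K (X i))), ?_, ?_⟩
    · intro j
      have h1 : (Θ.comp g).comp (Ideal.Quotient.mkₐ R K) =
          aeval (fun i => Θ (g (Ideal.Quotient.mk K (X i)))) := by
        apply MvPolynomial.algHom_ext
        intro i
        simp
      rw [← h1]
      simp only [AlgHom.comp_apply, Ideal.Quotient.mkₐ_eq_mk]
      have : Ideal.Quotient.mk K (F j) = 0 :=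
        Ideal.Quotient.eq_zero_iff_mem.mpr (Ideal.subset_span ⟨j, rfl⟩)
      rw [this, map_zero, map_zero]
    · intro i
      have hle : ((𝔪) ^ (N + 1)).map (algebraMap Rp Λ) ≤ ((𝔪) ^ N).map (algebraMap Rp Λ) :=
        Ideal.map_mono (Ideal.pow_le_pow_right (Nat.le_succ N))
      apply hle
      rw [← Groth.Agent.Lib.Helper31.LocComplIso.ker_evalₐ _ _ fg, RingHom.mem_ker]
      change AdicCompletion.evalₐ (𝔪) (N + 1) (a i - ψ (Θ (g (Ideal.Quotient.mk K (X i))))) = 0
      rw [map_sub, hkey, sub_eq_zero, hρ', hΘ']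
      -- `ρE (τ (1 ⊗ y)) = σE y`
      have h2 := hτ ((1 : Localization.Away s) ⊗ₜ[R] (g (Ideal.Quotient.mk K (X i))))
      rw [Algebra.TensorProduct.lift_tmul, map_one, one_mul, ← hρE, ← he] at h2
      have h3 := e.injective h2
      simp only [AlgEquiv.toAlgHom_eq_coe, AlgHom.coe_comp, AlgHom.coe_coe, Function.comp_apply]
      rw [h3]
      have h4 := congrArg (fun f => f (g (Ideal.Quotient.mk K (X i)))) hσφ
      simp only [AlgHom.comp_apply] at h4
      rw [h4]
      refine Eq.trans ?_ (hσ' _).symm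
      have h5 := congrArg (fun f => f (Ideal.Quotient.mk K (X i))) hgh
      simp only [AlgHom.comp_apply, Ideal.Quotient.liftₐ_apply, Ideal.Quotient.lift_mk] at h5
      rw [h5]
      simp

end Main

end Groth.Agent.H34.ArtinEtaleLoc
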