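import Groth.Agent.H34.TorsionFree

/-! Helper lemmas (helper34): reflexive modules over a domain. -/

set_option autoImplicit false
universe u v w
open TensorProduct

namespace Groth.Agent.H34

/-- Clearing denominators of a linear map from a finite module to the fraction field. -/
theorem exists_clear_denominators {R : Type u} [CommRing R] [IsDomain R] {M' : Type v}
    [AddCommGroup M'] [Module R M'] [Module.Finite R M'] (Φ : M' →ₗ[R] FractionRing R) :
    ∃ (d : R) (φ' : M' →ₗ[R] R), d ≠ 0 ∧ ∀ m, algebraMap R (FractionRing R) (φ' m) = d • Φ m := by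
  classical
  let K := FractionRing R
  let S := nonZeroDivisors R
  obtain ⟨s, hs⟩ := Module.Finite.fg_top (R := R) (M := M')
  obtain ⟨d, hd⟩ := IsLocalization.exist_integer_multiples S s (fun m : M' => Φ m)
  have hd0 : (d : R) ≠ 0 := nonZeroDivisors.ne_zero d.2
  let χ : M' →ₗ[R] K := (d : R) • Φ
  let j : R →ₗ[R] K := Algebra.linearMap R K
  have hj : Function.Injective j := IsFractionRing.injective R K
  have hχj : ∀ m, χ m ∈ LinearMap.range j := by
    have : (⊤ : Submodule R M') ≤ (LinearMap.range j).comap χ := by
      rw [← hs, Submodule.span_le]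
      intro m hm
      obtain ⟨r, hr⟩ := hd m hm
      exact ⟨r, hr⟩
    intro m
    exact this (Submodule.mem_top)
  let χ' : M' →ₗ[R] LinearMap.range j := χ.codRestrict _ hχj
  let φ' : M' →ₗ[R] R := (LinearEquiv.ofInjective j hj).symm.toLinearMap ∘ₗ χ'
  refine ⟨d, φ', hd0, ?_⟩
  intro m
  have := (LinearEquiv.ofInjective j hj).apply_symm_apply (χ' m)
  exact congrArg Subtype.val this

/-- Functionals extend, up to a nonzero scalar, along an injective map into a finite module over a
domain. -/
theorem exists_extension_smul {R : Type u} [CommRing R] [IsDomain R] {M : Type v} {M' : Type w}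
    [AddCommGroup M] [Module R M] [AddCommGroup M'] [Module R M'] [Module.Finite R M']
    (f : M →ₗ[R] M') (hf : Function.Injective f) (φ : M →ₗ[R] R) :
    ∃ (c : R) (φ' : M' →ₗ[R] R), c ≠ 0 ∧ φ' ∘ₗ f = c • φ := by
  classical
  let S := nonZeroDivisors R
  let K := FractionRing R
  let fK : LocalizedModule S M →ₗ[K] LocalizedModule S M' := LocalizedModule.map S f
  have hfK : Function.Injective fK := LocalizedModule.map_injective S f hf
  obtain ⟨r, hr⟩ := LinearMap.exists_leftInverse_of_injective fK (LinearMap.ker_eq_bot.mpr hfK)
  -- `φ` extended to the localization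
  let ψ₀ : LocalizedModule S M →ₗ[R] K :=
    IsLocalizedModule.lift S (LocalizedModule.mkLinearMap S M) ((Algebra.linearMap R K) ∘ₗ φ)
      (fun s => by
        rw [Module.End.isUnit_iff]
        exact ⟨fun a b hab => by
          have hs : algebraMap R K (s : R) ≠ 0 := by
            intro h0
            exact nonZeroDivisors.ne_zero s.2 (IsFractionRing.injective R K (by rw [h0, map_zero]))
          simp only [Module.algebraMap_end_apply] at hab
          rw [← algebraMap_smul K, ← algebraMap_smul K (s : R) b] at hab
          exact smul_right_injective K hs hab,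
        fun a => ⟨(algebraMap R K (s : R))⁻¹ * a, by
          have hs : algebraMap R K (s : R) ≠ 0 := by
            intro h0
            exact nonZeroDivisors.ne_zero s.2 (IsFractionRing.injective R K (by rw [h0, map_zero]))
          simp only [Module.algebraMap_end_apply]
          rw [Algebra.smul_def, ← mul_assoc, mul_inv_cancel₀ hs, one_mul]⟩⟩)
  have hψ₀ : ∀ m, ψ₀ (LocalizedModule.mkLinearMap S M m) = algebraMap R K (φ m) := fun m =>
    IsLocalizedModule.lift_apply S (LocalizedModule.mkLinearMap S M) _ _ m
  let Φ : M' →ₗ[R] K := ψ₀ ∘ₗ (r.restrictScalars R) ∘ₗ (LocalizedModule.mkLinearMap S M')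
  have hΦ : ∀ m, Φ (f m) = algebraMap R K (φ m) := by
    intro m
    have h1 : LocalizedModule.mkLinearMap S M' (f m) = fK (LocalizedModule.mkLinearMap S M m) := by
      simp only [fK, LocalizedModule.mkLinearMap_apply]
      rw [LocalizedModule.map_mk]
    have h2 : r (fK (LocalizedModule.mkLinearMap S M m)) = LocalizedModule.mkLinearMap S M m :=
      LinearMap.congr_fun hr _
    simp only [Φ, LinearMap.comp_apply, LinearMap.restrictScalars_apply]
    rw [h1, h2, hψ₀]
  obtain ⟨d, φ', hd, hφ'⟩ := exists_clear_denominators Φ
  refine ⟨d, φ', hd, ?_⟩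
  apply LinearMap.ext
  intro m
  apply IsFractionRing.injective R K
  simp only [LinearMap.comp_apply, LinearMap.smul_apply]
  rw [hφ', hΦ, smul_eq_mul, map_mul, Algebra.smul_def]

/-- The double dual of an injective map into a finite module over a domain is injective. -/
theorem dualMap_dualMap_injective {R : Type u} [CommRing R] [IsDomain R] {M : Type v} {M' : Type w}
    [AddCommGroup M] [Module R M] [AddCommGroup M'] [Module R M'] [Module.Finite R M']
    (f : M →ₗ[R] M') (hf : Function.Injective f) : Function.Injective f.dualMap.dualMap := by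
  rw [injective_iff_map_eq_zero]
  intro y hy
  apply LinearMap.ext
  intro φ
  obtain ⟨c, φ', hc, hφ'⟩ := exists_extension_smul f hf φ
  have h1 : y (f.dualMap φ') = 0 := LinearMap.congr_fun hy φ'
  have h2 : f.dualMap φ' = c • φ := hφ'
  rw [h2, map_smul, smul_eq_mul] at h1
  rcases mul_eq_zero.mp h1 with h0 | h0
  · exact absurd h0 hc
  · simpa using h0

/-- finite torsion free modules over a domain embed in their double dual. -/
theorem eval_injective_of_isTorsionFree (R : Type u) [CommRing R] [IsDomain R] (M : Type v)
    [AddCommGroup M] [Module R M] [Module.Finite R M] [Module.IsTorsionFree R M] :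
    Function.Injective (Module.Dual.eval R M) := by
  obtain ⟨h, hker, -⟩ := exists_map_to_fin_fun R M
  rw [injective_iff_map_eq_zero]
  intro x hx
  have hhx : h x = 0 := by
    funext i
    have := LinearMap.congr_fun hx ((LinearMap.proj i : (Fin (Module.finrank R M) → R) →ₗ[R] R) ∘ₗ h)
    simpa using this
  obtain ⟨c, hc, hcx⟩ := hker x hhx
  rcases smul_eq_zero.mp hcx with h0 | h0
  · exact absurd h0 hc
  · exact h0

/-- Kernel of a map from a reflexive module to a torsion-free finite module is reflexive
(over a domain, all modules finite). -/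
theorem isReflexive_of_exact {R : Type u} [CommRing R] [IsDomain R] {M : Type v} {M' : Type w}
    {M'' : Type*} [AddCommGroup M] [Module R M] [Module.Finite R M]
    [AddCommGroup M'] [Module R M'] [Module.Finite R M'] [AddCommGroup M''] [Module R M'']
    [Module.Finite R M'']
    (f : M →ₗ[R] M') (g : M' →ₗ[R] M'') (hf : Function.Injective f) (hfg : Function.Exact f g)
    [Module.IsReflexive R M'] [Module.IsTorsionFree R M''] : Module.IsReflexive R M := by
  have hMtf : Module.IsTorsionFree R M := hf.moduleIsTorsionFree f (fun r m => map_smul f r m)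
  refine ⟨⟨eval_injective_of_isTorsionFree R M, ?_⟩⟩
  intro x
  obtain ⟨m', hm'⟩ := (Module.bijective_dual_eval R M').2 (f.dualMap.dualMap x)
  have hgm' : g m' = 0 := by
    apply eval_injective_of_isTorsionFree R M''
    rw [map_zero]
    apply LinearMap.ext
    intro φ
    have h1 : (g.dualMap.dualMap (f.dualMap.dualMap x)) φ = 0 := by
      have : f.dualMap (g.dualMap φ) = 0 := by
        apply LinearMap.ext
        intro m
        simp [hfg.apply_apply_eq_zero]
      change x (f.dualMap (g.dualMap φ)) = 0
      rw [this, map_zero]
    rw [← hm'] at h1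
    simpa using h1
  obtain ⟨m, rfl⟩ := (hfg m').mp hgm'
  refine ⟨m, ?_⟩
  apply dualMap_dualMap_injective f hf
  rw [← hm']
  apply LinearMap.ext
  intro φ
  simp

end Groth.Agent.H34
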