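import Mathlib
import Groth.Agent.H76.SquareFlat
import Groth.Agent.H76.FlatGlue
import Groth.Agent.S14952
import Groth.Agent.H34.Reflexive

/-!
# Descent of flatness along finite injective maps of Noetherian rings (helper34)

Stacks 0533 (Ferrand): `R → S` finite injective, `R` Noetherian, `S ⊗ M` flat over `S` implies
`M` flat over `R`.  Proof by Noetherian induction on `R`, with the three cases
non-reduced (Stacks 0520, helper76), reduced non-domain (Milnor square, S14952) and domain
(a "trace" functional `S → R`).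
-/

set_option autoImplicit false
open TensorProduct
universe u

namespace Groth.Agent.H34.FerrandDescent

open Groth.Agent.H76.FlatGlue

/-- The induction hypothesis: the descent theorem holds for all proper quotients of `R`. -/
def QuotHyp (R : Type u) [CommRing R] : Prop :=
  ∀ (I : Ideal R), I ≠ ⊥ → ∀ (S' : Type u) [CommRing S'] [Algebra (R ⧸ I) S']
    [Module.Finite (R ⧸ I) S'], Function.Injective (algebraMap (R ⧸ I) S') →
    ∀ (M' : Type u) [AddCommGroup M'] [Module (R ⧸ I) M'],
    Module.Flat S' (S' ⊗[R ⧸ I] M') → Module.Flat (R ⧸ I) M'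

section General

variable {R : Type u} [CommRing R] (M : Type u) [AddCommGroup M] [Module R M]

theorem mem_smul_top_of_tmul_eq_zero (I : Ideal R) (t : M) (h : (1 : R ⧸ I) ⊗ₜ[R] t = 0) :
    t ∈ I • (⊤ : Submodule R M) := by
  have h' := congrArg (TensorProduct.quotTensorEquivQuotSMul M I) h
  rw [TensorProduct.quotTensorEquivQuotSMul_mk_one_tmul, map_zero] at h'
  exact (Submodule.Quotient.mk_eq_zero _).mp h'

theorem smul_quotient_eq_zero {I J : Ideal R} (hIJ : I ≤ J) (r : R)
    (hr : algebraMap R (R ⧸ I) r = 0) (y : R ⧸ J) : r • y = 0 := by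
  obtain ⟨z, rfl⟩ := Ideal.Quotient.mk_surjective y
  have hrI : r ∈ I := Ideal.Quotient.eq_zero_iff_mem.mp hr
  rw [Algebra.smul_def]
  show Ideal.Quotient.mk J r * Ideal.Quotient.mk J z = 0
  rw [Ideal.Quotient.eq_zero_iff_mem.mpr (hIJ hrI), zero_mul]

end General

section DomainAux

variable {R : Type u} [CommRing R] [IsDomain R] (M : Type u) [AddCommGroup M] [Module R M]

theorem torsionFree_aux (c : R) (hc : c ≠ 0)
    (T1 : ∀ (t : M) (r : R), r ≠ 0 → r • t = 0 → c • t = 0)
    (F' : ∀ g : R, g ≠ 0 → ∃ I : Ideal R, I ≤ Ideal.span {g} ∧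
      Module.Flat (R ⧸ I) ((R ⧸ I) ⊗[R] M)) :
    ∀ (r : R) (t : M), r ≠ 0 → r • t = 0 → t = 0 := by
  intro r t hr hrt
  have hct : c • t = 0 := T1 t r hr hrt
  obtain ⟨I, hI, hflat⟩ := F' (c ^ 2) (pow_ne_zero 2 hc)
  let f : (R ⧸ Ideal.span {c}) →ₗ[R] (R ⧸ Ideal.span {c ^ 2}) :=
    Submodule.mapQ (Ideal.span {c}) (Ideal.span {c ^ 2}) (LinearMap.lsmul R R c) (by
      intro x hx
      rw [Submodule.mem_comap]
      obtain ⟨y, rfl⟩ := Ideal.mem_span_singleton'.mp hx
      show c • (y * c) ∈ Ideal.span {c ^ 2}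
      rw [Ideal.mem_span_singleton']
      exact ⟨y, by rw [smul_eq_mul]; ring⟩)
  have hfmk : ∀ y : R, f (Ideal.Quotient.mk _ y) = Ideal.Quotient.mk _ (c * y) := fun y => rfl
  have hf : Function.Injective f := by
    rw [injective_iff_map_eq_zero]
    intro x hx
    obtain ⟨y, rfl⟩ := Ideal.Quotient.mk_surjective x
    rw [hfmk, Ideal.Quotient.eq_zero_iff_mem, Ideal.mem_span_singleton'] at hx
    obtain ⟨z, hz⟩ := hx
    rw [Ideal.Quotient.eq_zero_iff_mem, Ideal.mem_span_singleton']
    refine ⟨z, ?_⟩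
    apply mul_left_cancel₀ hc
    rw [← hz]; ring
  have h1 : Function.Injective (f.rTensor M) :=
    rTensor_injective_of_surjective_of_flat (S := R ⧸ I) Ideal.Quotient.mk_surjective M f hf
      (fun r hr y => smul_quotient_eq_zero hI r hr y)
  have h2 : f.rTensor M ((1 : R ⧸ Ideal.span {c}) ⊗ₜ[R] t) = 0 := by
    rw [LinearMap.rTensor_tmul]
    have : f (1 : R ⧸ Ideal.span {c}) = c • (1 : R ⧸ Ideal.span {c ^ 2}) := by
      rw [← map_one (Ideal.Quotient.mk _), hfmk, mul_one, Algebra.smul_def, mul_one]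
      rfl
    rw [this, TensorProduct.smul_tmul, hct, tmul_zero]
  have h3 : (1 : R ⧸ Ideal.span {c}) ⊗ₜ[R] t = 0 := h1 (h2.trans (map_zero _).symm)
  have h4 := mem_smul_top_of_tmul_eq_zero M _ t h3
  rw [Submodule.ideal_span_singleton_smul, Submodule.mem_smul_pointwise_iff_exists] at h4
  obtain ⟨m₁, -, hm₁⟩ := h4
  have h5 : c • m₁ = 0 := by
    apply T1 m₁ (r * c) (mul_ne_zero hr hc)
    rw [mul_smul, hm₁, hrt]
  rw [← hm₁, h5]

theorem flat_of_domain_aux (c : R) (hc : c ≠ 0)
    (T1 : ∀ (t : M) (r : R), r ≠ 0 → r • t = 0 → c • t = 0)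
    (F' : ∀ g : R, g ≠ 0 → ∃ I : Ideal R, I ≤ Ideal.span {g} ∧
      Module.Flat (R ⧸ I) ((R ⧸ I) ⊗[R] M)) :
    Module.Flat R M := by
  have htf := torsionFree_aux M c hc T1 F'
  rw [Module.Flat.iff_rTensor_injective']
  intro 𝔟
  by_cases h𝔟 : 𝔟 = ⊥
  · subst h𝔟
    intro x y _
    have hsub : ∀ z : (⊥ : Ideal R) ⊗[R] M, z = 0 := by
      intro z
      induction z using TensorProduct.induction_on with
      | zero => rfl
      | tmul b m =>
        have : b = 0 := Subtype.ext ((Submodule.mem_bot R).mp b.2)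
        rw [this, zero_tmul]
      | add a b ha hb => rw [ha, hb, add_zero]
    rw [hsub x, hsub y]
  · obtain ⟨g, hg𝔟, hg0⟩ := Submodule.exists_mem_ne_zero_of_ne_bot h𝔟
    obtain ⟨I, hI, hflat⟩ := F' g hg0
    apply rTensor_injective_of_chase M 𝔟.subtype (Submodule.mkQ (Ideal.span {g}))
    · -- the kernel part: isomorphic to `g R`
      set K := LinearMap.ker ((Submodule.mkQ (Ideal.span {g})) ∘ₗ 𝔟.subtype) with hK
      have hgK : (⟨g, hg𝔟⟩ : 𝔟) ∈ K := by
        rw [hK, LinearMap.mem_ker, LinearMap.comp_apply, Submodule.mkQ_apply,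
          Submodule.Quotient.mk_eq_zero]
        exact Ideal.mem_span_singleton_self g
      let e : R →ₗ[R] K := LinearMap.toSpanSingleton R K ⟨⟨g, hg𝔟⟩, hgK⟩
      have he : Function.Surjective e := by
        intro x
        have hx : (Submodule.mkQ (Ideal.span {g}) ∘ₗ 𝔟.subtype) (x : 𝔟) = 0 :=
          LinearMap.mem_ker.mp x.2
        rw [LinearMap.comp_apply, Submodule.mkQ_apply, Submodule.Quotient.mk_eq_zero] at hx
        obtain ⟨a, ha⟩ := Ideal.mem_span_singleton'.mp hx
        refine ⟨a, ?_⟩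
        apply Subtype.ext
        apply Subtype.ext
        show a • g = _
        rw [smul_eq_mul, ha]
        rfl
      apply rTensor_injective_of_comp_surjective M e _ he
      have hcomp : (𝔟.subtype ∘ₗ K.subtype) ∘ₗ e = g • (LinearMap.id : R →ₗ[R] R) := by
        ext
        show (1 : R) • g = g • (1 : R)
        rw [smul_eq_mul, smul_eq_mul, mul_comm]
      rw [hcomp, LinearMap.rTensor_smul, LinearMap.rTensor_id]
      intro x y hxy
      have hxy' : g • (x - y) = 0 := by
        rw [smul_sub]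
        exact sub_eq_zero.mpr hxy
      have h6 : g • (TensorProduct.lid R M (x - y)) = 0 := by
        rw [← map_smul, hxy', map_zero]
      have h7 := htf g _ hg0 h6
      have h8 : x - y = 0 := (TensorProduct.lid R M).injective (h7.trans (map_zero _).symm)
      exact sub_eq_zero.mp h8
    · apply rTensor_injective_of_surjective_of_flat (S := R ⧸ I) Ideal.Quotient.mk_surjective M
      · rw [← LinearMap.ker_eq_bot]
        exact Submodule.ker_liftQ_eq_bot _ _ _ le_rfl
      · intro r hr y
        exact smul_quotient_eq_zero hI r hr y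

end DomainAux


section Main

variable {R S : Type u} [CommRing R] [CommRing S] [Algebra R S] [Module.Finite R S]
  (M : Type u) [AddCommGroup M] [Module R M]

theorem flat_quotient_comap (hIH : QuotHyp R) [Module.Flat S (S ⊗[R] M)] (𝔄 : Ideal S)
    (h𝔄 : 𝔄.comap (algebraMap R S) ≠ ⊥) :
    Module.Flat (R ⧸ 𝔄.comap (algebraMap R S)) ((R ⧸ 𝔄.comap (algebraMap R S)) ⊗[R] M) := by
  apply hIH _ h𝔄 (S ⧸ 𝔄) Ideal.algebraMap_quotient_injective
  have e1 := AlgebraTensorModule.cancelBaseChange R (R ⧸ 𝔄.comap (algebraMap R S)) (S ⧸ 𝔄)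
    (S ⧸ 𝔄) M
  have e2 := AlgebraTensorModule.cancelBaseChange R S (S ⧸ 𝔄) (S ⧸ 𝔄) M
  have : Module.Flat (S ⧸ 𝔄) ((S ⧸ 𝔄) ⊗[S] (S ⊗[R] M)) := inferInstance
  have h2 : Module.Flat (S ⧸ 𝔄) ((S ⧸ 𝔄) ⊗[R] M) := Module.Flat.of_linearEquiv e2.symm
  exact Module.Flat.of_linearEquiv e1

theorem exists_functional [IsDomain R] [IsDomain S]
    (hinj : Function.Injective (algebraMap R S)) : ∃ φ₀ : S →ₗ[R] R, φ₀ 1 ≠ 0 := by
  have : Module.IsTorsionFree R S := Module.isTorsionFree_iff_algebraMap_injective.mpr hinj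
  have h := Groth.Agent.H34.eval_injective_of_isTorsionFree R S
  by_contra hcon
  push Not at hcon
  have h0 : Module.Dual.eval R S 1 = 0 := by
    ext f
    exact hcon f
  exact one_ne_zero (h (h0.trans (map_zero _).symm))

/-- The domain case, with `S` a domain. -/
theorem domain_case [IsDomain R] [IsDomain S] (hIH : QuotHyp R)
    (hinj : Function.Injective (algebraMap R S)) [Module.Flat S (S ⊗[R] M)] :
    Module.Flat R M := by
  obtain ⟨φ₀, hφ₀⟩ := exists_functional (R := R) (S := S) hinj
  set c : R := φ₀ 1 with hc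
  apply flat_of_domain_aux M c hφ₀
  · intro t r hr hrt
    have h1 : (algebraMap R S r) • ((1 : S) ⊗ₜ[R] t) = 0 := by
      rw [TensorProduct.smul_tmul', algebraMap_smul, TensorProduct.smul_tmul, hrt, tmul_zero]
    have hreg : IsSMulRegular (S ⊗[R] M) (algebraMap R S r) :=
      Module.Flat.isSMulRegular_of_isRegular
        (IsRegular.of_ne_zero ((map_ne_zero_iff _ hinj).mpr hr))
    have h2 : (1 : S) ⊗ₜ[R] t = 0 := hreg (by
      show algebraMap R S r • ((1 : S) ⊗ₜ[R] t) = algebraMap R S r • 0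
      rw [h1, smul_zero])
    have h3 := congrArg (fun z => TensorProduct.lid R M (φ₀.rTensor M z)) h2
    simpa using h3
  · intro g hg
    let 𝔄 : Ideal S := Ideal.span {algebraMap R S (g * c)}
    refine ⟨𝔄.comap (algebraMap R S), ?_, ?_⟩
    · intro r hr
      rw [Ideal.mem_comap] at hr
      obtain ⟨s, hs⟩ := Ideal.mem_span_singleton'.mp hr
      have h1 : φ₀ (algebraMap R S r) = r * c := by
        rw [Algebra.algebraMap_eq_smul_one, map_smul, smul_eq_mul]
      have h2 : φ₀ (s * algebraMap R S (g * c)) = g * c * φ₀ s := by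
        rw [mul_comm s, ← Algebra.smul_def, map_smul, smul_eq_mul]
      rw [← hs, h2] at h1
      rw [Ideal.mem_span_singleton']
      refine ⟨φ₀ s, ?_⟩
      apply mul_right_cancel₀ hφ₀
      rw [← h1]; ring
    · apply flat_quotient_comap M hIH 𝔄
      intro hbot
      have hmem : g * c ∈ 𝔄.comap (algebraMap R S) := by
        rw [Ideal.mem_comap]
        exact Ideal.mem_span_singleton_self _
      rw [hbot] at hmem
      exact mul_ne_zero hg hφ₀ ((Submodule.mem_bot R).mp hmem)

/-- The domain case: reduce to `S` a domain. -/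
theorem domain_case' [IsDomain R] (hIH : QuotHyp R)
    (hinj : Function.Injective (algebraMap R S)) [Module.Flat S (S ⊗[R] M)] :
    Module.Flat R M := by
  have : Algebra.IsIntegral R S := Algebra.IsIntegral.of_finite R S
  obtain ⟨q, -, hq, hqc⟩ := Ideal.exists_ideal_over_prime_of_isIntegral (⊥ : Ideal R)
    (⊥ : Ideal S) (by
      rw [← RingHom.ker_eq_comap_bot, (RingHom.injective_iff_ker_eq_bot _).mp hinj])
  have := hq
  have hinj' : Function.Injective (algebraMap R (S ⧸ q)) := by
    rw [injective_iff_map_eq_zero]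
    intro r hr
    have h1 : algebraMap R S r ∈ q := Ideal.Quotient.eq_zero_iff_mem.mp hr
    have h2 : r ∈ q.comap (algebraMap R S) := h1
    rw [hqc] at h2
    exact (Submodule.mem_bot R).mp h2
  have e2 := AlgebraTensorModule.cancelBaseChange R S (S ⧸ q) (S ⧸ q) M
  have : Module.Flat (S ⧸ q) ((S ⧸ q) ⊗[S] (S ⊗[R] M)) := inferInstance
  have h2 : Module.Flat (S ⧸ q) ((S ⧸ q) ⊗[R] M) := Module.Flat.of_linearEquiv e2.symm
  exact domain_case (S := S ⧸ q) M hIH hinj'

/-- The non-reduced case. -/
theorem nonreduced_case [IsNoetherianRing R] (hIH : QuotHyp R)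
    (hinj : Function.Injective (algebraMap R S)) [Module.Flat S (S ⊗[R] M)]
    (hnr : nilradical R ≠ ⊥) : Module.Flat R M := by
  have hI : (nilradical S).comap (algebraMap R S) = nilradical R := by
    ext r
    rw [Ideal.mem_comap, mem_nilradical, mem_nilradical]
    constructor
    · rintro ⟨n, hn⟩
      refine ⟨n, hinj ?_⟩
      rw [map_pow, hn, map_zero]
    · rintro ⟨n, hn⟩
      refine ⟨n, ?_⟩
      rw [← map_pow, hn, map_zero]
  have : Module.Flat (R ⧸ (nilradical S).comap (algebraMap R S))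
      ((R ⧸ (nilradical S).comap (algebraMap R S)) ⊗[R] M) :=
    flat_quotient_comap M hIH (nilradical S) (by rw [hI]; exact hnr)
  have hnil : IsNilpotent ((nilradical S).comap (algebraMap R S)) := by
    rw [hI]
    exact IsNoetherianRing.isNilpotent_nilradical R
  exact Groth.Agent.H76.SquareFlat.flat_of_injective_of_nilpotent (R' := S) _ M hinj hnil

end Main


section Milnor

variable {R : Type u} [CommRing R] (M : Type u) [AddCommGroup M] [Module R M]

/-- Flatness over `R/A` and `R/B` with `A ⊓ B = ⊥` implies flatness over `R` (Milnor square). -/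
theorem flat_of_inf_eq_bot (A B : Ideal R) (h : A ⊓ B = ⊥)
    [Module.Flat (R ⧸ A) ((R ⧸ A) ⊗[R] M)] [Module.Flat (R ⧸ B) ((R ⧸ B) ⊗[R] M)] :
    Module.Flat R M := by
  let : Algebra (R ⧸ A) (R ⧸ (A ⊔ B)) := (Ideal.Quotient.factor (le_sup_left)).toAlgebra
  let : Algebra (R ⧸ B) (R ⧸ (A ⊔ B)) := (Ideal.Quotient.factor (le_sup_right)).toAlgebra
  have : IsScalarTower R (R ⧸ A) (R ⧸ (A ⊔ B)) := IsScalarTower.of_algebraMap_eq (fun _ => rfl)
  have : IsScalarTower R (R ⧸ B) (R ⧸ (A ⊔ B)) := IsScalarTower.of_algebraMap_eq (fun _ => rfl)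
  apply Groth.Agent.S14952.result R (R ⧸ A) (R ⧸ B) (R ⧸ (A ⊔ B)) _ M
  refine ⟨Ideal.Quotient.factor_surjective le_sup_right, ?_⟩
  intro b a' hba
  obtain ⟨x, rfl⟩ := Ideal.Quotient.mk_surjective b
  obtain ⟨y, rfl⟩ := Ideal.Quotient.mk_surjective a'
  have hxy : x - y ∈ A ⊔ B := by
    have h1 : Ideal.Quotient.mk (A ⊔ B) x = Ideal.Quotient.mk (A ⊔ B) y := hba
    exact Ideal.Quotient.eq.mp h1
  obtain ⟨α, hα, β, hβ, hαβ⟩ := Submodule.mem_sup.mp hxy
  refine ⟨x - α, ⟨?_, ?_⟩, ?_⟩
  · show Ideal.Quotient.mk A (x - α) = Ideal.Quotient.mk A x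
    rw [Ideal.Quotient.eq]
    have : x - α - x = -α := by ring
    rw [this]
    exact A.neg_mem hα
  · show Ideal.Quotient.mk B (x - α) = Ideal.Quotient.mk B y
    rw [Ideal.Quotient.eq]
    have : x - α - y = β := by linear_combination (-1 : R) * hαβ
    rw [this]
    exact hβ
  · rintro r ⟨hr1, hr2⟩
    have h1 : Ideal.Quotient.mk A r = Ideal.Quotient.mk A x := hr1
    have h2 : Ideal.Quotient.mk B r = Ideal.Quotient.mk B y := hr2
    rw [Ideal.Quotient.eq] at h1 h2
    have h3 : r - (x - α) ∈ A := by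
      have : r - (x - α) = (r - x) + α := by ring
      rw [this]
      exact A.add_mem h1 hα
    have h4 : r - (x - α) ∈ B := by
      have : r - (x - α) = (r - y) - β := by linear_combination hαβ
      rw [this]
      exact B.sub_mem h2 hβ
    have h5 : r - (x - α) ∈ A ⊓ B := ⟨h3, h4⟩
    rw [h] at h5
    exact sub_eq_zero.mp ((Submodule.mem_bot R).mp h5)

end Milnor

section Step

variable {R S : Type u} [CommRing R] [CommRing S] [Algebra R S] [Module.Finite R S]
  (M : Type u) [AddCommGroup M] [Module R M]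

/-- The reduced, non-domain case. -/
theorem reduced_nondomain_case (hIH : QuotHyp R)
    (hinj : Function.Injective (algebraMap R S)) [Module.Flat S (S ⊗[R] M)] [IsReduced R]
    (a b : R) (ha : a ≠ 0) (hb : b ≠ 0) (hab : a * b = 0) : Module.Flat R M := by
  let 𝔄 : Ideal S := (Ideal.span {algebraMap R S a} : Ideal S).annihilator
  let 𝔅 : Ideal S := Submodule.annihilator 𝔄
  have hmem𝔄 : ∀ s : S, s ∈ 𝔄 ↔ s * algebraMap R S a = 0 := by
    intro s
    exact Submodule.mem_annihilator_span_singleton _ _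
  have hb𝔄 : b ∈ 𝔄.comap (algebraMap R S) := by
    rw [Ideal.mem_comap, hmem𝔄, ← map_mul, mul_comm, hab, map_zero]
  have ha𝔅 : a ∈ 𝔅.comap (algebraMap R S) := by
    rw [Ideal.mem_comap, Submodule.mem_annihilator]
    intro s hs
    rw [smul_eq_mul, mul_comm]
    exact (hmem𝔄 s).mp hs
  have hA : 𝔄.comap (algebraMap R S) ≠ ⊥ := by
    intro hbot
    rw [hbot] at hb𝔄
    exact hb ((Submodule.mem_bot R).mp hb𝔄)
  have hB : 𝔅.comap (algebraMap R S) ≠ ⊥ := by
    intro hbot
    rw [hbot] at ha𝔅
    exact ha ((Submodule.mem_bot R).mp ha𝔅)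
  have hAB : 𝔄.comap (algebraMap R S) ⊓ 𝔅.comap (algebraMap R S) = ⊥ := by
    rw [eq_bot_iff]
    rintro x ⟨hx1, hx2⟩
    have hx1' : algebraMap R S x ∈ 𝔄 := hx1
    have hx2' : algebraMap R S x ∈ 𝔅 := hx2
    have h1 : algebraMap R S x * algebraMap R S x = 0 :=
      Submodule.mem_annihilator.mp hx2' _ hx1'
    rw [← map_mul] at h1
    have h2 : x * x = 0 := hinj (h1.trans (map_zero _).symm)
    have h3 : IsNilpotent x := ⟨2, by rw [pow_two, h2]⟩
    exact (Submodule.mem_bot R).mpr h3.eq_zero
  have := flat_quotient_comap M hIH 𝔄 hA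
  have := flat_quotient_comap M hIH 𝔅 hB
  exact flat_of_inf_eq_bot M _ _ hAB

/-- The induction step. -/
theorem step [IsNoetherianRing R] (hIH : QuotHyp R)
    (hinj : Function.Injective (algebraMap R S)) [Module.Flat S (S ⊗[R] M)] :
    Module.Flat R M := by
  by_cases hnr : nilradical R = ⊥
  · have hred : IsReduced R := by
      constructor
      intro x hx
      have : x ∈ nilradical R := hx
      rw [hnr] at this
      exact (Submodule.mem_bot R).mp this
    by_cases hzd : ∃ a b : R, a ≠ 0 ∧ b ≠ 0 ∧ a * b = 0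
    · obtain ⟨a, b, ha, hb, hab⟩ := hzd
      exact reduced_nondomain_case M hIH hinj a b ha hb hab
    · push Not at hzd
      rcases subsingleton_or_nontrivial R with hs | hn
      · have : Subsingleton M := Module.subsingleton R M
        infer_instance
      · have : NoZeroDivisors R := by
          constructor
          intro a b hab
          by_contra hcon
          push Not at hcon
          exact hzd a b hcon.1 hcon.2 hab
        have : IsDomain R := NoZeroDivisors.to_isDomain R
        exact domain_case' M hIH hinj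
  · exact nonreduced_case M hIH hinj hnr

end Step

/-- Induction over the ideals of a Noetherian ring `R₀`. -/
theorem main_aux (R₀ : Type u) [CommRing R₀] [IsNoetherianRing R₀] (I : Ideal R₀) :
    ∀ (R : Type u) [CommRing R] (π : R₀ →+* R), Function.Surjective π → RingHom.ker π = I →
    ∀ (S : Type u) [CommRing S] [Algebra R S] [Module.Finite R S],
    Function.Injective (algebraMap R S) →
    ∀ (M : Type u) [AddCommGroup M] [Module R M], Module.Flat S (S ⊗[R] M) →
    Module.Flat R M := by
  induction I using IsNoetherian.induction with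
  | hgt I ih =>
    intro R _ π hπ hker S _ _ _ hinj M _ _ hflat
    have : IsNoetherianRing R := isNoetherianRing_of_surjective R₀ R π hπ
    apply step M _ hinj
    intro I' hI' S' _ _ _ hinj' M' _ _ hflat'
    refine ih (RingHom.ker ((Ideal.Quotient.mk I').comp π)) ?_ (R ⧸ I')
      ((Ideal.Quotient.mk I').comp π) (Ideal.Quotient.mk_surjective.comp hπ) rfl S' hinj' M' hflat'
    rw [← hker]
    refine lt_of_le_of_ne ?_ ?_
    · intro x hx
      rw [RingHom.mem_ker] at hx ⊢
      rw [RingHom.comp_apply, hx, map_zero]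
    · intro heq
      apply hI'
      rw [eq_bot_iff]
      intro y hy
      obtain ⟨x, rfl⟩ := hπ y
      have hx : x ∈ RingHom.ker ((Ideal.Quotient.mk I').comp π) := by
        rw [RingHom.mem_ker, RingHom.comp_apply, Ideal.Quotient.eq_zero_iff_mem]
        exact hy
      rw [← heq, RingHom.mem_ker] at hx
      rw [hx]
      exact Submodule.zero_mem _

/-- **Ferrand's descent of flatness** (Stacks 0533): a module over a Noetherian ring `R` is flat if
its base change along a finite injective ring map `R → S` is flat. -/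
theorem main (R S : Type u) [CommRing R] [IsNoetherianRing R] [CommRing S] [Algebra R S]
    [Module.Finite R S] (hinj : Function.Injective (algebraMap R S))
    (M : Type u) [AddCommGroup M] [Module R M] [Module.Flat S (S ⊗[R] M)] : Module.Flat R M :=
  main_aux R ⊥ R (RingHom.id R) Function.surjective_id (by
    ext x
    rw [RingHom.mem_ker, RingHom.id_apply, Submodule.mem_bot]) S hinj M inferInstance

end Groth.Agent.H34.FerrandDescent
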