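import Mathlib
import Groth.Agent.H34.FerrandDescent
import Groth.Agent.H76.PowFlat
import Groth.Agent.H76.NilFlat
import Groth.Agent.H76.AdicFlat

/-!
# The flattening ideal over a complete Noetherian local ring (helper34)
-/

set_option autoImplicit false
open TensorProduct
universe u

namespace Groth.Agent.H34.FlatteningIdeal

section TInj

variable {R : Type u} [CommRing R]

/-- `N ⊗ -` preserves injections into modules killed by `J` (equivalently: `N/JN` is flat over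
`R/J`). -/
def TInj (J : Ideal R) (N : Type u) [AddCommGroup N] [Module R N] : Prop :=
  ∀ (X Y : Type u) [AddCommGroup X] [Module R X] [AddCommGroup Y] [Module R Y] (u : X →ₗ[R] Y),
    Function.Injective u → (∀ i ∈ J, ∀ y : Y, i • y = 0) → Function.Injective (u.rTensor N)

variable (N : Type u) [AddCommGroup N] [Module R N]

theorem TInj.mono {J J' : Ideal R} {N : Type u} [AddCommGroup N] [Module R N]
    (h : TInj J N) (hJ : J ≤ J') : TInj J' N :=
  fun X Y _ _ _ _ u hu hY => h X Y u hu (fun i hi y => hY i (hJ hi) y)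

theorem tinj_of_flat (J : Ideal R) [Module.Flat (R ⧸ J) ((R ⧸ J) ⊗[R] N)] : TInj J N :=
  fun _ _ _ _ _ _ u hu hY => Groth.Agent.H76.NilFlat.tinj_of_killed J N u hu hY

theorem flat_of_tinj (J : Ideal R) (h : TInj J N) : Module.Flat (R ⧸ J) ((R ⧸ J) ⊗[R] N) := by
  rw [Module.Flat.iff_rTensor_injective']
  intro 𝔟
  apply Groth.Agent.H76.PowFlat.rTensor_baseChange_injective (R := R)
  apply h
  · exact Subtype.val_injective
  · intro i hi y
    obtain ⟨r, rfl⟩ := Ideal.Quotient.mk_surjective y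
    have : i • (Ideal.Quotient.mk J r) = Ideal.Quotient.mk J (i * r) := rfl
    rw [this, Ideal.Quotient.eq_zero_iff_mem]
    exact Ideal.mul_mem_right _ _ hi

theorem tinj_top : TInj (⊤ : Ideal R) N := by
  intro X Y _ _ _ _ u hu hY
  have hY0 : ∀ y : Y, y = 0 := fun y => by
    have := hY 1 Submodule.mem_top y
    rwa [one_smul] at this
  have hX0 : ∀ x : X, x = 0 := fun x => hu (by rw [hY0 (u x), map_zero])
  have : Subsingleton X := ⟨fun a b => by rw [hX0 a, hX0 b]⟩
  intro a b _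
  exact Subsingleton.elim _ _

theorem tinj_inf {J₁ J₂ : Ideal R} (h₁ : TInj J₁ N) (h₂ : TInj J₂ N) : TInj (J₁ ⊓ J₂) N := by
  set A : Ideal (R ⧸ (J₁ ⊓ J₂)) := J₁.map (Ideal.Quotient.mk (J₁ ⊓ J₂)) with hA
  set B : Ideal (R ⧸ (J₁ ⊓ J₂)) := J₂.map (Ideal.Quotient.mk (J₁ ⊓ J₂)) with hB
  have hAB : A ⊓ B = ⊥ := by
    rw [eq_bot_iff]
    rintro x ⟨hxA, hxB⟩
    obtain ⟨r, rfl⟩ := Ideal.Quotient.mk_surjective x
    have h1 : r ∈ J₁ := by
      have := Ideal.mem_comap.mpr hxA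
      rw [hA, Ideal.comap_map_of_surjective _ Ideal.Quotient.mk_surjective, ← RingHom.ker_eq_comap_bot,
        Ideal.mk_ker] at this
      have hle : J₁ ⊔ J₁ ⊓ J₂ = J₁ := sup_eq_left.mpr inf_le_left
      rwa [hle] at this
    have h2 : r ∈ J₂ := by
      have := Ideal.mem_comap.mpr hxB
      rw [hB, Ideal.comap_map_of_surjective _ Ideal.Quotient.mk_surjective, ← RingHom.ker_eq_comap_bot,
        Ideal.mk_ker] at this
      have hle : J₂ ⊔ J₁ ⊓ J₂ = J₂ := sup_eq_left.mpr inf_le_right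
      rwa [hle] at this
    rw [Ideal.mem_bot, Ideal.Quotient.eq_zero_iff_mem]
    exact ⟨h1, h2⟩
  have key : ∀ (J : Ideal R), TInj J N →
      TInj (J.map (Ideal.Quotient.mk (J₁ ⊓ J₂))) ((R ⧸ (J₁ ⊓ J₂)) ⊗[R] N) := by
    intro J hJ X Y _ _ _ _ u hu hY
    letI : Module R X := Module.compHom X (Ideal.Quotient.mk (J₁ ⊓ J₂))
    letI : Module R Y := Module.compHom Y (Ideal.Quotient.mk (J₁ ⊓ J₂))
    haveI : IsScalarTower R (R ⧸ (J₁ ⊓ J₂)) X := IsScalarTower.of_algebraMap_smul (fun _ _ => rfl)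
    haveI : IsScalarTower R (R ⧸ (J₁ ⊓ J₂)) Y := IsScalarTower.of_algebraMap_smul (fun _ _ => rfl)
    apply Groth.Agent.H76.PowFlat.rTensor_baseChange_injective (R := R)
    apply hJ
    · exact hu
    · intro i hi y
      exact hY _ (Ideal.mem_map_of_mem _ hi) y
  haveI := flat_of_tinj ((R ⧸ (J₁ ⊓ J₂)) ⊗[R] N) A (key J₁ h₁)
  haveI := flat_of_tinj ((R ⧸ (J₁ ⊓ J₂)) ⊗[R] N) B (key J₂ h₂)
  haveI : Module.Flat (R ⧸ (J₁ ⊓ J₂)) ((R ⧸ (J₁ ⊓ J₂)) ⊗[R] N) :=
    Groth.Agent.H34.FerrandDescent.flat_of_inf_eq_bot _ A B hAB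
  exact tinj_of_flat N (J₁ ⊓ J₂)

end TInj

section RLC

variable {R S : Type u} [CommRing R] [CommRing S] [Algebra R S]

/-- Tensors `x ⊗ y` with `y ∈ 𝔞^n P` lie in `(𝔞 S)^n (N ⊗ P)`. -/
theorem tmul_mem_smul_top (𝔞 : Ideal R) (n : ℕ) {Y : Type u} [AddCommGroup Y] [Module R Y]
    (P : Submodule R Y) (N : Type u) [AddCommGroup N]
    [Module R N] [Module S N] [IsScalarTower R S N] (x : N) (y : Y)
    (hy : y ∈ 𝔞 ^ n • P) (hy' : y ∈ P) :
    (x ⊗ₜ[R] (⟨y, hy'⟩ : P) : N ⊗[R] P) ∈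
      (𝔞.map (algebraMap R S)) ^ n • (⊤ : Submodule S (N ⊗[R] P)) := by
  have key : ∀ y ∈ 𝔞 ^ n • P, ∃ hy' : y ∈ P, (x ⊗ₜ[R] (⟨y, hy'⟩ : P) : N ⊗[R] P) ∈
      (𝔞.map (algebraMap R S)) ^ n • (⊤ : Submodule S (N ⊗[R] P)) := by
    intro y hy
    refine Submodule.smul_induction_on hy ?_ ?_
    · intro i hi a ha
      refine ⟨P.smul_mem i ha, ?_⟩
      have h1 : (⟨i • a, P.smul_mem i ha⟩ : P) = i • (⟨a, ha⟩ : P) := rfl
      rw [h1, ← TensorProduct.smul_tmul]
      have h2 : (i • x) ⊗ₜ[R] (⟨a, ha⟩ : P) =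
          (algebraMap R S i) • (x ⊗ₜ[R] (⟨a, ha⟩ : P) : N ⊗[R] P) := by
        rw [TensorProduct.smul_tmul', algebraMap_smul]
      rw [h2]
      refine Submodule.smul_mem_smul ?_ Submodule.mem_top
      rw [← Ideal.map_pow]
      exact Ideal.mem_map_of_mem _ hi
    · rintro y₁ y₂ ⟨h₁, m₁⟩ ⟨h₂, m₂⟩
      refine ⟨P.add_mem h₁ h₂, ?_⟩
      have h3 : (⟨y₁ + y₂, P.add_mem h₁ h₂⟩ : P) = ⟨y₁, h₁⟩ + ⟨y₂, h₂⟩ := rfl
      rw [h3, TensorProduct.tmul_add]
      exact Submodule.add_mem _ m₁ m₂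
  obtain ⟨_, h⟩ := key y hy
  exact h

/-- Relative local criterion: if `N` is `TInj` for all `I + 𝔞^(n+1)` then `N ⊗ -` preserves
inclusions of submodules of finite modules killed by `I`. -/
theorem rTensor_injective_of_forall_tinj [IsNoetherianRing R] [IsNoetherianRing S] (I 𝔞 : Ideal R)
    (h𝔞 : 𝔞.map (algebraMap R S) ≤ Ideal.jacobson ⊥)
    (N : Type u) [AddCommGroup N] [Module R N] [Module S N] [IsScalarTower R S N]
    [Module.Finite S N]
    (h : ∀ n : ℕ, TInj (I ⊔ 𝔞 ^ (n + 1)) N)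
    {Y : Type u} [AddCommGroup Y] [Module R Y] [Module.Finite R Y]
    (hY : ∀ i ∈ I, ∀ y : Y, i • y = 0)
    (P : Submodule R Y) : Function.Injective (P.subtype.rTensor N) := by
  rw [← LinearMap.lTensor_inj_iff_rTensor_inj]
  have : Module.Finite R P := Module.Finite.of_fg (IsNoetherian.noetherian P)
  have : Module.Finite S (N ⊗[R] P) := Groth.Agent.H76.AdicFlat.finite_tensor N P
  have hkrull : (⨅ i : ℕ, (𝔞.map (algebraMap R S)) ^ i • ⊤ : Submodule S (N ⊗[R] P)) = ⊥ :=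
    Ideal.iInf_pow_smul_eq_bot_of_le_jacobson _ h𝔞
  rw [injective_iff_map_eq_zero]
  intro z hz
  obtain ⟨k, hk⟩ := Ideal.exists_pow_inf_eq_pow_smul 𝔞 P
  have hmem : ∀ n : ℕ, z ∈ (𝔞.map (algebraMap R S)) ^ n • (⊤ : Submodule S (N ⊗[R] P)) := by
    intro n
    set m := n + k with hm
    let Q : Submodule R Y := 𝔞 ^ (m + 1) • ⊤
    let 𝔟' : Submodule R P := Submodule.comap P.subtype Q
    let u : (P ⧸ 𝔟') →ₗ[R] (Y ⧸ Q) := Submodule.mapQ 𝔟' Q P.subtype le_rfl
    have hu : Function.Injective u := by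
      rw [injective_iff_map_eq_zero]
      intro x hx
      obtain ⟨a, rfl⟩ := 𝔟'.mkQ_surjective x
      rw [Submodule.mkQ_apply, Submodule.mapQ_apply, Submodule.Quotient.mk_eq_zero] at hx
      exact (Submodule.Quotient.mk_eq_zero _).mpr hx
    have hinj : Function.Injective (u.rTensor N) :=
      h m _ _ u hu (by
        intro i hi y
        obtain ⟨a, ha, b, hb, rfl⟩ := Submodule.mem_sup.mp hi
        obtain ⟨y, rfl⟩ := Q.mkQ_surjective y
        rw [← map_smul, add_smul, hY a ha, zero_add, Submodule.mkQ_apply,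
          Submodule.Quotient.mk_eq_zero]
        exact Submodule.smul_mem_smul hb Submodule.mem_top)
    set z' := TensorProduct.comm R N P z with hz'
    have h0 : (P.subtype.rTensor N) z' = 0 := by
      rw [hz', LinearMap.rTensor_comm, hz, map_zero]
    have h1 : (u.rTensor N) ((𝔟'.mkQ.rTensor N) z') = 0 := by
      rw [← LinearMap.comp_apply, ← LinearMap.rTensor_comp]
      have : u ∘ₗ 𝔟'.mkQ = Q.mkQ ∘ₗ P.subtype := by
        ext a; rfl
      rw [this, LinearMap.rTensor_comp, LinearMap.comp_apply, h0, map_zero]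
    have h2 : (𝔟'.mkQ.rTensor N) z' = 0 := (injective_iff_map_eq_zero _).mp hinj _ h1
    have hex : Function.Exact (𝔟'.subtype.rTensor N) (𝔟'.mkQ.rTensor N) :=
      rTensor_exact N (LinearMap.exact_subtype_mkQ 𝔟') 𝔟'.mkQ_surjective
    obtain ⟨w, hw⟩ := (hex z').mp h2
    have hz_eq : z = (TensorProduct.comm R N P).symm ((𝔟'.subtype.rTensor N) w) := by
      rw [hw, hz', LinearEquiv.symm_apply_apply]
    rw [hz_eq]
    have claim : ∀ w : 𝔟' ⊗[R] N, (TensorProduct.comm R N P).symm ((𝔟'.subtype.rTensor N) w) ∈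
        (𝔞.map (algebraMap R S)) ^ n • (⊤ : Submodule S (N ⊗[R] P)) := by
      intro w
      induction w with
      | zero => simp
      | tmul b x =>
        rw [LinearMap.rTensor_tmul, TensorProduct.comm_symm_tmul]
        have hb1 : (((b : P)) : Y) ∈ Q := b.2
        have hb2 : (((b : P)) : Y) ∈ 𝔞 ^ (m + 1) • (⊤ : Submodule R Y) ⊓ P := ⟨hb1, (b : P).2⟩
        rw [hk (m + 1) (by omega)] at hb2
        have hb3 : (((b : P)) : Y) ∈ 𝔞 ^ n • P := by
          have hle : 𝔞 ^ (m + 1 - k) • (𝔞 ^ k • (⊤ : Submodule R Y) ⊓ P) ≤ 𝔞 ^ n • P := by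
            refine Submodule.smul_mono ?_ inf_le_right
            apply Ideal.pow_le_pow_right
            omega
          exact hle hb2
        exact tmul_mem_smul_top 𝔞 n P N x _ hb3 (b : P).2
      | add w₁ w₂ h₁ h₂ =>
        rw [map_add, map_add]
        exact Submodule.add_mem _ h₁ h₂
    exact claim w
  have hz0 : z ∈ (⨅ i : ℕ, (𝔞.map (algebraMap R S)) ^ i • ⊤ : Submodule S (N ⊗[R] P)) := by
    rw [Submodule.mem_iInf]
    exact hmem
  rw [hkrull] at hz0
  exact (Submodule.mem_bot S).mp hz0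

/-- Relative local criterion of flatness: flatness of `N/(I+𝔞^(n+1))N` over `R/(I+𝔞^(n+1))` for
all `n` gives flatness of `N/IN` over `R/I`. -/
theorem flat_quotient_of_forall_tinj [IsNoetherianRing R] [IsNoetherianRing S] (I 𝔞 : Ideal R)
    (h𝔞 : 𝔞.map (algebraMap R S) ≤ Ideal.jacobson ⊥)
    (N : Type u) [AddCommGroup N] [Module R N] [Module S N] [IsScalarTower R S N]
    [Module.Finite S N]
    (h : ∀ n : ℕ, TInj (I ⊔ 𝔞 ^ (n + 1)) N) :
    Module.Flat (R ⧸ I) ((R ⧸ I) ⊗[R] N) := by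
  rw [Module.Flat.iff_rTensor_injective']
  intro 𝔟
  apply Groth.Agent.H76.PowFlat.rTensor_baseChange_injective (R := R)
  have hY : ∀ i ∈ I, ∀ y : R ⧸ I, i • y = 0 := by
    intro i hi y
    obtain ⟨r, rfl⟩ := Ideal.Quotient.mk_surjective y
    have : i • (Ideal.Quotient.mk I r) = Ideal.Quotient.mk I (i * r) := rfl
    rw [this, Ideal.Quotient.eq_zero_iff_mem]
    exact Ideal.mul_mem_right _ _ hi
  exact rTensor_injective_of_forall_tinj I 𝔞 h𝔞 N h hY (𝔟.restrictScalars R)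

end RLC

section Complete

variable {R : Type u} [CommRing R] [IsLocalRing R] [IsNoetherianRing R]

/-- Ideals of a Noetherian local ring are closed for the adic topology. -/
theorem mem_of_forall_mem_sup_pow (J : Ideal R) (x : R)
    (hx : ∀ n : ℕ, x ∈ J ⊔ IsLocalRing.maximalIdeal R ^ n) : x ∈ J := by
  have h := Ideal.iInf_pow_smul_eq_bot_of_le_jacobson (M := R ⧸ J) (IsLocalRing.maximalIdeal R)
    (IsLocalRing.maximalIdeal_le_jacobson ⊥)
  have hmem : (Ideal.Quotient.mk J x : R ⧸ J) ∈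
      (⨅ i : ℕ, IsLocalRing.maximalIdeal R ^ i • ⊤ : Submodule R (R ⧸ J)) := by
    rw [Submodule.mem_iInf]
    intro n
    obtain ⟨a, ha, b, hb, rfl⟩ := Submodule.mem_sup.mp (hx n)
    rw [map_add, Ideal.Quotient.eq_zero_iff_mem.mpr ha, zero_add]
    have : (Ideal.Quotient.mk J b : R ⧸ J) = b • (1 : R ⧸ J) := by
      rw [Algebra.smul_def, mul_one]
      rfl
    rw [this]
    exact Submodule.smul_mem_smul hb Submodule.mem_top
  rw [h] at hmem
  exact Ideal.Quotient.eq_zero_iff_mem.mp ((Submodule.mem_bot R).mp hmem)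

/-- Mittag-Leffler for a decreasing sequence of ideals in a complete local ring. -/
theorem le_iInf_sup_pow [IsAdicComplete (IsLocalRing.maximalIdeal R) R] (I : ℕ → Ideal R)
    (hanti : ∀ n, I (n + 1) ≤ I n)
    (hstep : ∀ n, I n ≤ I (n + 1) ⊔ IsLocalRing.maximalIdeal R ^ n) (n : ℕ) :
    I n ≤ (⨅ m, I m) ⊔ IsLocalRing.maximalIdeal R ^ n := by
  intro x hx
  have hanti' : Antitone I := antitone_nat_of_succ_le hanti
  have hstep' : ∀ (j : ℕ) (y : R), y ∈ I (n + j) →
      ∃ y' ∈ I (n + j + 1), y - y' ∈ IsLocalRing.maximalIdeal R ^ (n + j) := by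
    intro j y hy
    obtain ⟨a, ha, b, hb, rfl⟩ := Submodule.mem_sup.mp (hstep _ hy)
    exact ⟨a, ha, by simpa using hb⟩
  choose! g hg1 hg2 using hstep'
  let s : ℕ → R := fun j => Nat.rec x (fun j y => g j y) j
  have hs0 : s 0 = x := rfl
  have hss : ∀ j, s (j + 1) = g j (s j) := fun j => rfl
  have hsmem : ∀ j, s j ∈ I (n + j) := by
    intro j
    induction j with
    | zero => exact hx
    | succ j ih =>
      rw [hss]
      exact hg1 j (s j) ih
  have hsdiff : ∀ j, s j - s (j + 1) ∈ IsLocalRing.maximalIdeal R ^ (n + j) := fun j => by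
    rw [hss]
    exact hg2 j (s j) (hsmem j)
  have hcauchy : ∀ j j', j ≤ j' → s j - s j' ∈ IsLocalRing.maximalIdeal R ^ (n + j) := by
    intro j j' hjj'
    induction j', hjj' using Nat.le_induction with
    | base => simp
    | succ j' hjj' ih =>
      have : s j - s (j' + 1) = (s j - s j') + (s j' - s (j' + 1)) := by ring
      rw [this]
      exact Ideal.add_mem _ ih (Ideal.pow_le_pow_right (by omega) (hsdiff j'))
  obtain ⟨L, hL⟩ := IsPrecomplete.prec' (I := IsLocalRing.maximalIdeal R) (M := R) s (by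
    intro a b hab
    rw [SModEq.sub_mem, smul_eq_mul, Ideal.mul_top]
    exact Ideal.pow_le_pow_right (by omega) (hcauchy a b hab))
  have hL' : ∀ j, s j - L ∈ IsLocalRing.maximalIdeal R ^ j := fun j => by
    have := hL j
    rwa [SModEq.sub_mem, smul_eq_mul, Ideal.mul_top] at this
  have hLmem : ∀ m, L ∈ I m := by
    intro m
    apply mem_of_forall_mem_sup_pow (I m)
    intro j
    have h1 : s (j + m) ∈ I m := hanti' (by omega) (hsmem (j + m))
    have h2 : s (j + m) - L ∈ IsLocalRing.maximalIdeal R ^ j :=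
      Ideal.pow_le_pow_right (by omega) (hL' (j + m))
    have : L = s (j + m) - (s (j + m) - L) := by ring
    rw [this]
    exact Ideal.sub_mem _ (Ideal.mem_sup_left h1) (Ideal.mem_sup_right h2)
  have hxL : x - L ∈ IsLocalRing.maximalIdeal R ^ n := by
    have h1 : s 0 - s n ∈ IsLocalRing.maximalIdeal R ^ n := by
      simpa using hcauchy 0 n (Nat.zero_le _)
    have h2 := hL' n
    have : x - L = (s 0 - s n) + (s n - L) := by
      rw [hs0]
      ring
    rw [this]
    exact Ideal.add_mem _ h1 h2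
  have : x = L + (x - L) := by ring
  rw [this]
  exact Ideal.add_mem _ (Ideal.mem_sup_left (Ideal.mem_iInf.mpr hLmem)) (Ideal.mem_sup_right hxL)

/-- Among the ideals containing `𝔪^(n+1)` satisfying a property stable under finite
intersections there is a least one. -/
theorem exists_least (n : ℕ) (Pr : Ideal R → Prop) (htop : Pr ⊤)
    (hinf : ∀ J₁ J₂, Pr J₁ → Pr J₂ → Pr (J₁ ⊓ J₂)) :
    ∃ J₀ : Ideal R, IsLocalRing.maximalIdeal R ^ (n + 1) ≤ J₀ ∧ Pr J₀ ∧
      ∀ J, IsLocalRing.maximalIdeal R ^ (n + 1) ≤ J → Pr J → J₀ ≤ J := by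
  set 𝔫 := IsLocalRing.maximalIdeal R ^ (n + 1) with h𝔫
  have h𝔫le : 𝔫 ≤ IsLocalRing.maximalIdeal R := Ideal.pow_le_self (by omega)
  have h𝔫top : 𝔫 ≠ ⊤ := fun h => (IsLocalRing.maximalIdeal.isMaximal R).ne_top
    (top_le_iff.mp (h ▸ h𝔫le))
  have : Nontrivial (R ⧸ 𝔫) := Ideal.Quotient.nontrivial_iff.mpr h𝔫top
  have := IsLocalRing.of_surjective' (Ideal.Quotient.mk 𝔫) Ideal.Quotient.mk_surjective
  have := IsLocalHom.of_surjective (Ideal.Quotient.mk 𝔫) Ideal.Quotient.mk_surjective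
  have hmax : (IsLocalRing.maximalIdeal R).map (Ideal.Quotient.mk 𝔫) =
      IsLocalRing.maximalIdeal (R ⧸ 𝔫) := by
    ext x
    obtain ⟨x, rfl⟩ := Ideal.Quotient.mk_surjective x
    simp [sup_eq_left.mpr h𝔫le]
  have hart : IsArtinianRing (R ⧸ 𝔫) := by
    rw [isArtinianRing_iff_isNilpotent_maximalIdeal]
    refine ⟨n + 1, ?_⟩
    rw [← hmax, ← Ideal.map_pow, Ideal.zero_eq_bot, Ideal.map_eq_bot_iff_le_ker, Ideal.mk_ker]
  let Sr : Set (Ideal (R ⧸ 𝔫)) := {J | Pr (J.comap (Ideal.Quotient.mk 𝔫))}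
  have hSr : Sr.Nonempty := ⟨⊤, by
    show Pr _
    rw [Ideal.comap_top]
    exact htop⟩
  obtain ⟨J₀, hJ₀, hmin⟩ := (wellFounded_lt (α := Ideal (R ⧸ 𝔫))).has_min Sr hSr
  refine ⟨J₀.comap (Ideal.Quotient.mk 𝔫), ?_, hJ₀, ?_⟩
  · intro x hx
    rw [Ideal.mem_comap, Ideal.Quotient.eq_zero_iff_mem.mpr hx]
    exact J₀.zero_mem
  · intro J hJ hPJ
    have hJeq : (J.map (Ideal.Quotient.mk 𝔫)).comap (Ideal.Quotient.mk 𝔫) = J := by
      rw [Ideal.comap_map_of_surjective _ Ideal.Quotient.mk_surjective, ← RingHom.ker_eq_comap_bot,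
        Ideal.mk_ker]
      exact sup_eq_left.mpr hJ
    have hmem : J₀ ⊓ J.map (Ideal.Quotient.mk 𝔫) ∈ Sr := by
      show Pr _
      rw [Ideal.comap_inf, hJeq]
      exact hinf _ _ hJ₀ hPJ
    have hle : J₀ ⊓ J.map (Ideal.Quotient.mk 𝔫) = J₀ := by
      by_contra hne
      exact hmin _ hmem (lt_of_le_of_ne inf_le_left hne)
    have hle' : J₀ ≤ J.map (Ideal.Quotient.mk 𝔫) := inf_eq_left.mp hle
    calc J₀.comap (Ideal.Quotient.mk 𝔫) ≤ (J.map (Ideal.Quotient.mk 𝔫)).comap (Ideal.Quotient.mk 𝔫) :=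
          Ideal.comap_mono hle'
      _ = J := hJeq

end Complete

section Main

variable (R S : Type u) [CommRing R] [IsLocalRing R] [IsNoetherianRing R]
  [CommRing S] [Algebra R S] [IsNoetherianRing S]
  (M : Type u) [AddCommGroup M] [Module S M] [Module R M] [IsScalarTower R S M] [Module.Finite S M]

/-- `N/JN` is flat over `R/J` at all primes of `S` over the maximal ideal (in `TInj` form). -/
def PT (J : Ideal R) : Prop :=
  ∀ (q : Ideal S) [q.IsPrime], q.comap (algebraMap R S) = IsLocalRing.maximalIdeal R →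
    TInj J (LocalizedModule q.primeCompl M)

theorem map_le_jacobson (q : Ideal S) [q.IsPrime]
    (hq : q.comap (algebraMap R S) = IsLocalRing.maximalIdeal R) :
    (IsLocalRing.maximalIdeal R).map (algebraMap R (Localization.AtPrime q)) ≤
      Ideal.jacobson ⊥ := by
  have h := IsLocalization.AtPrime.comap_maximalIdeal (Localization.AtPrime q) q
  rw [Ideal.under_def] at h
  rw [IsLocalRing.jacobson_eq_maximalIdeal ⊥ bot_ne_top, Ideal.map_le_iff_le_comap,
    IsScalarTower.algebraMap_eq R S (Localization.AtPrime q), ← Ideal.comap_comap, h, hq]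

theorem main [IsAdicComplete (IsLocalRing.maximalIdeal R) R] :
    ∃ I : Ideal R, I ≤ IsLocalRing.maximalIdeal R ∧ PT R S M I ∧ ∀ J, PT R S M J → I ≤ J := by
  have htop : PT R S M ⊤ := fun q _ _ => tinj_top _
  have hinf : ∀ J₁ J₂, PT R S M J₁ → PT R S M J₂ → PT R S M (J₁ ⊓ J₂) :=
    fun J₁ J₂ h₁ h₂ q _ hq => tinj_inf _ (h₁ q hq) (h₂ q hq)
  have hmono : ∀ J J', J ≤ J' → PT R S M J → PT R S M J' :=
    fun J J' hJ h q _ hq => (h q hq).mono hJ
  choose I hI1 hI2 hI3 using fun n => exists_least n (PT R S M) htop hinf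
  have hanti : ∀ n, I (n + 1) ≤ I n := fun n =>
    hI3 (n + 1) (I n) ((Ideal.pow_le_pow_right (by omega)).trans (hI1 n)) (hI2 n)
  have hstep : ∀ n, I n ≤ I (n + 1) ⊔ IsLocalRing.maximalIdeal R ^ n := fun n => by
    have h1 : I n ≤ I (n + 1) ⊔ IsLocalRing.maximalIdeal R ^ (n + 1) :=
      hI3 n _ le_sup_right (hmono _ _ le_sup_left (hI2 (n + 1)))
    exact h1.trans (sup_le_sup_left (Ideal.pow_le_pow_right (by omega)) _)
  have hML := le_iInf_sup_pow I hanti hstep
  refine ⟨⨅ m, I m, ?_, ?_, ?_⟩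
  · have hPm : PT R S M (IsLocalRing.maximalIdeal R) := by
      intro q _ hq
      haveI : Module.Flat (R ⧸ IsLocalRing.maximalIdeal R)
          ((R ⧸ IsLocalRing.maximalIdeal R) ⊗[R] LocalizedModule q.primeCompl M) := by
        letI := Ideal.Quotient.field (IsLocalRing.maximalIdeal R)
        infer_instance
      exact tinj_of_flat _ _
    exact (iInf_le I 0).trans (hI3 0 _ (by simp) hPm)
  · intro q _ hq
    haveI : IsNoetherianRing (Localization.AtPrime q) :=
      IsLocalization.isNoetherianRing q.primeCompl _ inferInstance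
    haveI : Module.Finite (Localization.AtPrime q) (LocalizedModule q.primeCompl M) :=
      Module.Finite.of_isLocalizedModule q.primeCompl (LocalizedModule.mkLinearMap q.primeCompl M)
    haveI : IsScalarTower R (Localization.AtPrime q) (LocalizedModule q.primeCompl M) :=
      inferInstance
    haveI := flat_quotient_of_forall_tinj (S := Localization.AtPrime q) (⨅ m, I m)
      (IsLocalRing.maximalIdeal R) (map_le_jacobson R S q hq) (LocalizedModule q.primeCompl M)
      (fun n => (hI2 (n + 1) q hq).mono (hML (n + 1)))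
    exact tinj_of_flat _ _
  · intro J hJ x hx
    apply mem_of_forall_mem_sup_pow J x
    intro n
    have h1 : I n ≤ J ⊔ IsLocalRing.maximalIdeal R ^ (n + 1) :=
      hI3 n _ le_sup_right (hmono _ _ le_sup_left hJ)
    have h2 : J ⊔ IsLocalRing.maximalIdeal R ^ (n + 1) ≤ J ⊔ IsLocalRing.maximalIdeal R ^ n :=
      sup_le_sup_left (Ideal.pow_le_pow_right (by omega)) _
    exact h2 (h1 ((iInf_le I n) hx))

end Main

end Groth.Agent.H34.FlatteningIdeal
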