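import Mathlib
import Groth.Agent.H34.FlatteningIdeal
import Groth.Agent.H34.ArtinDescent

/-!
# The universal flattening ideal of a module over an Artinian ring (helper34)
-/

set_option autoImplicit false
open TensorProduct
universe u

namespace Groth.Agent.H34.ArtinFlattening

open Groth.Agent.H34.FlatteningIdeal

variable {A : Type u} [CommRing A] (N : Type u) [AddCommGroup N] [Module A N]

/-- Over an Artinian ring there is a least ideal `I` with `N/IN` flat over `A/I`. -/
theorem exists_least [IsArtinianRing A] : ∃ I : Ideal A, TInj I N ∧ ∀ J, TInj J N → I ≤ J := by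
  obtain ⟨I, hI, hmin⟩ := WellFounded.has_min
    (IsWellFounded.wf : WellFounded ((· < ·) : Ideal A → Ideal A → Prop)) {J | TInj J N}
    ⟨⊤, tinj_top N⟩
  refine ⟨I, hI, fun J hJ => ?_⟩
  have h1 : TInj (I ⊓ J) N := tinj_inf N hI hJ
  by_contra hle
  have hlt : I ⊓ J < I := lt_of_le_of_ne inf_le_left (fun h => hle (h ▸ inf_le_right))
  exact hmin _ h1 hlt

/-- If `N/IN` is flat over `A/I` and `I A' = 0`, then `A' ⊗ N` is flat over `A'`. -/
theorem flat_of_map_eq_bot {A' : Type u} [CommRing A'] [Algebra A A'] (I : Ideal A) (h : TInj I N)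
    (hI : I.map (algebraMap A A') = ⊥) : Module.Flat A' (A' ⊗[A] N) := by
  rw [Module.Flat.iff_rTensor_injective']
  intro 𝔟
  apply Groth.Agent.H76.PowFlat.rTensor_baseChange_injective (R := A)
  apply h
  · exact Subtype.val_injective
  · intro i hi y
    rw [Algebra.smul_def]
    have : algebraMap A A' i ∈ I.map (algebraMap A A') := Ideal.mem_map_of_mem _ hi
    rw [hI] at this
    rw [Ideal.mem_bot.mp this, zero_mul]

/-- Artinian source, local target: some power of the contracted maximal ideal dies. -/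
theorem exists_pow_le_ker [IsArtinianRing A] {A' : Type u} [CommRing A'] [IsLocalRing A']
    [Algebra A A'] :
    ∃ n : ℕ, ((IsLocalRing.maximalIdeal A').comap (algebraMap A A')) ^ n ≤
      RingHom.ker (algebraMap A A') := by
  set 𝔪 : Ideal A := (IsLocalRing.maximalIdeal A').comap (algebraMap A A') with h𝔪
  let f : ℕ →o (Submodule A A)ᵒᵈ :=
    ⟨fun n => OrderDual.toDual (𝔪 ^ n), fun m n hmn => Ideal.pow_le_pow_right hmn⟩
  obtain ⟨n, hn⟩ := IsArtinian.monotone_stabilizes f
  have hstab : 𝔪 ^ n = 𝔪 ^ (n + 1) := by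
    have := hn (n + 1) (Nat.le_succ n)
    exact OrderDual.toDual.injective this
  refine ⟨n, ?_⟩
  have hle : (𝔪 ^ n : Ideal A) ≤ 𝔪 • (𝔪 ^ n : Ideal A) := by
    rw [smul_eq_mul, ← pow_succ']
    exact hstab.le
  obtain ⟨r, hr1, hr2⟩ := Submodule.exists_sub_one_mem_and_smul_eq_zero_of_fg_of_le_smul 𝔪
    (𝔪 ^ n : Ideal A) (IsNoetherian.noetherian _) hle
  have hrm : r ∉ 𝔪 := by
    intro hr
    have h1 : (1 : A) ∈ 𝔪 := by
      have := 𝔪.sub_mem hr hr1
      simpa using this
    rw [h𝔪, Ideal.mem_comap, map_one] at h1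
    exact (IsLocalRing.maximalIdeal.isMaximal A').ne_top ((Ideal.eq_top_iff_one _).mpr h1)
  have hunit : IsUnit (algebraMap A A' r) := by
    rw [← IsLocalRing.notMem_maximalIdeal]
    exact hrm
  intro x hx
  rw [RingHom.mem_ker]
  have h0 := hr2 x hx
  rw [smul_eq_mul] at h0
  have h1 : algebraMap A A' r * algebraMap A A' x = 0 := by rw [← map_mul, h0, map_zero]
  exact (hunit.mul_right_eq_zero).mp h1

/-- Artinian source, local target: flatness of `A' ⊗ N` over `A'` forces `N/KN` flat over `A/K`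
for `K` the kernel. -/
theorem tinj_ker_of_local [IsArtinianRing A] {A' : Type u} [CommRing A'] [IsLocalRing A']
    [Algebra A A'] [Module.Flat A' (A' ⊗[A] N)] : TInj (RingHom.ker (algebraMap A A')) N := by
  set K : Ideal A := RingHom.ker (algebraMap A A') with hK
  set 𝔪 : Ideal A := (IsLocalRing.maximalIdeal A').comap (algebraMap A A') with h𝔪
  haveI : 𝔪.IsPrime := Ideal.comap_isPrime _ _
  haveI h𝔪max : 𝔪.IsMaximal := IsArtinianRing.isMaximal_of_isPrime 𝔪
  obtain ⟨n, hn⟩ := exists_pow_le_ker (A := A) (A' := A')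
  have hK𝔪 : K ≤ 𝔪 := by
    intro k hk
    rw [h𝔪, Ideal.mem_comap, RingHom.mem_ker.mp hk]
    exact Ideal.zero_mem _
  letI : Algebra (A ⧸ K) A' := (RingHom.kerLift (algebraMap A A')).toAlgebra
  haveI : IsScalarTower A (A ⧸ K) A' := IsScalarTower.of_algebraMap_eq (fun x => rfl)
  have hinj : Function.Injective (algebraMap (A ⧸ K) A') := RingHom.kerLift_injective _
  have hmax : (𝔪.map (Ideal.Quotient.mk K)).IsMaximal := by
    refine (Ideal.map_eq_top_or_isMaximal_of_surjective _ Ideal.Quotient.mk_surjective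
      h𝔪max).resolve_left ?_
    intro htop
    have h1 := congrArg (Ideal.comap (Ideal.Quotient.mk K)) htop
    rw [Ideal.comap_map_of_surjective _ Ideal.Quotient.mk_surjective, ← RingHom.ker_eq_comap_bot,
      Ideal.mk_ker, Ideal.comap_top, sup_eq_left.mpr hK𝔪] at h1
    exact h𝔪max.ne_top h1
  have h𝔫 : (𝔪.map (Ideal.Quotient.mk K)) ^ n = ⊥ := by
    rw [← Ideal.map_pow, Ideal.map_eq_bot_iff_le_ker, Ideal.mk_ker]
    exact hn
  have h𝔫' : ((𝔪.map (Ideal.Quotient.mk K)).map (algebraMap (A ⧸ K) A')) ^ n = ⊥ := by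
    rw [← Ideal.map_pow, h𝔫, Ideal.map_bot]
  let e1 : A' ⊗[A ⧸ K] ((A ⧸ K) ⊗[A] N) ≃ₗ[A'] A' ⊗[A] N :=
    AlgebraTensorModule.cancelBaseChange A (A ⧸ K) A' A' N
  haveI : Module.Flat A' (A' ⊗[A ⧸ K] ((A ⧸ K) ⊗[A] N)) := Module.Flat.of_linearEquiv e1
  haveI : Module.Flat (A ⧸ K) ((A ⧸ K) ⊗[A] N) :=
    Groth.Agent.H34.ArtinDescent.flat_of_flat_baseChange hinj (𝔪.map (Ideal.Quotient.mk K)) n h𝔫
      ((𝔪.map (Ideal.Quotient.mk K)).map (algebraMap (A ⧸ K) A')) n h𝔫' le_rfl _
  exact tinj_of_flat N K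

/-- Artinian source, arbitrary target: the least flattening ideal dies in any `A'` over which the
base change is flat. -/
theorem le_ker_of_flat [IsArtinianRing A] {A' : Type u} [CommRing A'] [Algebra A A']
    [Module.Flat A' (A' ⊗[A] N)] (I : Ideal A) (hmin : ∀ J, TInj J N → I ≤ J) :
    I ≤ RingHom.ker (algebraMap A A') := by
  intro x hx
  rw [RingHom.mem_ker]
  apply eq_zero_of_localization
  intro 𝔭 h𝔭
  let e1 : (Localization.AtPrime 𝔭) ⊗[A'] (A' ⊗[A] N) ≃ₗ[Localization.AtPrime 𝔭]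
      (Localization.AtPrime 𝔭) ⊗[A] N :=
    AlgebraTensorModule.cancelBaseChange A A' (Localization.AtPrime 𝔭) (Localization.AtPrime 𝔭) N
  haveI : Module.Flat (Localization.AtPrime 𝔭) ((Localization.AtPrime 𝔭) ⊗[A] N) :=
    Module.Flat.of_linearEquiv e1.symm
  have h1 := hmin _ (tinj_ker_of_local N (A := A) (A' := Localization.AtPrime 𝔭)) hx
  rw [RingHom.mem_ker, IsScalarTower.algebraMap_apply A A' (Localization.AtPrime 𝔭)] at h1
  exact h1

end Groth.Agent.H34.ArtinFlattening
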