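import Mathlib

/-!
# Associated primes of `N ⊗_R M` for `N` flat over a Noetherian ring `R` (helper34)

`subset`/`supset`: `Ass_S (N ⊗_R M) = ⋃_{p ∈ Ass_R M} Ass_S (N / pN)` (Stacks 05C8 / 0312), for
Mathlib's (radical) notion of associated primes over an arbitrary commutative ring `S`.
-/

set_option autoImplicit false
universe u
open TensorProduct

namespace Groth.Agent.H34.AssTensor

variable {R S M N : Type u} [CommRing R] [CommRing S]
    [Algebra R S] [AddCommGroup M] [Module R M] [AddCommGroup N] [Module S N] [Module R N]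
    [IsScalarTower R S N]





/-- the `S`-linear map `N → N ⊗ R/p`, `n ↦ n ⊗ 1`. -/
noncomputable def g (p : Ideal R) : N →ₗ[S] N ⊗[R] (R ⧸ p) :=
  { toFun := fun n => n ⊗ₜ[R] (1 : R ⧸ p)
    map_add' := fun a b => TensorProduct.add_tmul a b _
    map_smul' := fun s n => by
      simp [TensorProduct.smul_tmul'] }

@[simp] theorem g_apply (p : Ideal R) (n : N) : g (S := S) p n = n ⊗ₜ[R] (1 : R ⧸ p) := rfl

theorem map_smul_top_le_ker (p : Ideal R) :
    p.map (algebraMap R S) • (⊤ : Submodule S N) ≤ LinearMap.ker (g (S := S) (N := N) p) := by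
  have h1 : p.map (algebraMap R S) ≤ (LinearMap.ker (g (S := S) (N := N) p)).colon Set.univ := by
    rw [Ideal.map_le_iff_le_comap]
    intro a ha
    rw [Ideal.mem_comap, Submodule.mem_colon]
    intro n _
    rw [LinearMap.mem_ker, g_apply, algebraMap_smul, TensorProduct.smul_tmul]
    have : a • (1 : R ⧸ p) = 0 := by
      rw [Algebra.smul_def, mul_one]
      exact Ideal.Quotient.eq_zero_iff_mem.mpr ha
    rw [this, TensorProduct.tmul_zero]
  rw [Submodule.smul_le]
  intro s hs n _
  exact (Submodule.mem_colon.mp (h1 hs)) n (Set.mem_univ _)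

/-- the `S`-linear map `N/(pS)N → N ⊗ R/p`. -/
noncomputable def psi (p : Ideal R) :
    (N ⧸ (p.map (algebraMap R S) • (⊤ : Submodule S N))) →ₗ[S] N ⊗[R] (R ⧸ p) :=
  Submodule.liftQ _ (g p) (map_smul_top_le_ker p)

theorem psi_bijective (p : Ideal R) : Function.Bijective (psi (S := S) (N := N) p) := by
  constructor
  · rw [← LinearMap.ker_eq_bot, psi, Submodule.ker_liftQ_eq_bot']
    refine le_antisymm (map_smul_top_le_ker p) ?_
    intro n hn
    rw [LinearMap.mem_ker, g_apply] at hn
    have h2 := congrArg (TensorProduct.tensorQuotEquivQuotSMul N p) hn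
    rw [← map_one (Ideal.Quotient.mk p), TensorProduct.tensorQuotEquivQuotSMul_tmul_mk, map_zero, one_smul,
      Submodule.Quotient.mk_eq_zero] at h2
    have h3 : p • (⊤ : Submodule R N) ≤
        (p.map (algebraMap R S) • (⊤ : Submodule S N)).restrictScalars R := by
      rw [Submodule.smul_le]
      intro r hr n _
      rw [Submodule.restrictScalars_mem]
      have e : r • n = algebraMap R S r • n := (algebraMap_smul S r n).symm
      rw [e]
      exact Submodule.smul_mem_smul (Ideal.mem_map_of_mem _ hr) trivial
    exact h3 h2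
  · intro t
    induction t using TensorProduct.induction_on with
    | zero => exact ⟨0, map_zero _⟩
    | tmul n r =>
      obtain ⟨r, rfl⟩ := Ideal.Quotient.mk_surjective r
      refine ⟨Submodule.Quotient.mk (r • n), ?_⟩
      change g (S := S) p (r • n) = _
      rw [g_apply, TensorProduct.smul_tmul]
      congr 1
      rw [Algebra.smul_def, mul_one]
      rfl
    | add a b ha hb =>
      obtain ⟨a', rfl⟩ := ha
      obtain ⟨b', rfl⟩ := hb
      exact ⟨a' + b', map_add _ _ _⟩







theorem ass_quot_eq (p : Ideal R) :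
    associatedPrimes S (N ⧸ (p.map (algebraMap R S) • (⊤ : Submodule S N))) =
      associatedPrimes S (N ⊗[R] (R ⧸ p)) :=
  LinearEquiv.AssociatedPrimes.eq (LinearEquiv.ofBijective (psi p) (psi_bijective p))

theorem ass_lTensor_subset [Module.Flat R N] {X Y : Type u} [AddCommGroup X] [Module R X]
    [AddCommGroup Y] [Module R Y] (f : X →ₗ[R] Y) (hf : Function.Injective f) :
    associatedPrimes S (N ⊗[R] X) ⊆ associatedPrimes S (N ⊗[R] Y) := by
  apply associatedPrimes.subset_of_injective (f := TensorProduct.AlgebraTensorModule.lTensor S N f)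
  rw [TensorProduct.AlgebraTensorModule.coe_lTensor]
  exact Module.Flat.lTensor_preserves_injective_linearMap f hf

theorem supset [IsNoetherianRing R] [Module.Flat R N] (p : Ideal R)
    (hp : p ∈ associatedPrimes R M) :
    associatedPrimes S (N ⧸ (p.map (algebraMap R S) • (⊤ : Submodule S N))) ⊆
      associatedPrimes S (N ⊗[R] M) := by
  rw [ass_quot_eq]
  obtain ⟨_, f, hf⟩ := (isAssociatedPrime_iff_exists_injective_linearMap p M).mp hp
  exact ass_lTensor_subset f hf

theorem key [IsNoetherianRing R] [Module.Flat R N] (X : Type u) [AddCommGroup X] [Module R X]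
    [hX : Module.Finite R X] :
    ∀ q ∈ associatedPrimes S (N ⊗[R] X), ∃ p' : Ideal R, p'.IsPrime ∧
      Module.annihilator R X ≤ p' ∧
      q ∈ associatedPrimes S (N ⧸ (p'.map (algebraMap R S) • (⊤ : Submodule S N))) := by
  induction hX using IsNoetherianRing.induction_on_isQuotientEquivQuotientPrime R with
  | subsingleton X =>
    intro q hq
    rw [associatedPrimes.eq_empty_of_subsingleton] at hq
    exact absurd hq (Set.notMem_empty _)
  | quotient X p' e =>
    intro q hq
    refine ⟨p'.1, p'.2, ?_, ?_⟩
    · rw [e.annihilator_eq, Ideal.annihilator_quotient]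
    · rw [ass_quot_eq]
      exact ass_lTensor_subset e.toLinearMap e.injective hq
  | exact X₁ X₂ X₃ f g hf hg hfg h₁ h₃ =>
    intro q hq
    have hsub := associatedPrimes.subset_union_of_exact
      (f := TensorProduct.AlgebraTensorModule.lTensor S N f)
      (g := TensorProduct.AlgebraTensorModule.lTensor S N g)
      (by rw [TensorProduct.AlgebraTensorModule.coe_lTensor]
          exact Module.Flat.lTensor_preserves_injective_linearMap f hf)
      (by rw [TensorProduct.AlgebraTensorModule.coe_lTensor,
            TensorProduct.AlgebraTensorModule.coe_lTensor]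
          exact Module.Flat.lTensor_exact N hfg)
    rcases hsub hq with h | h
    · obtain ⟨p', hp', hle, hq'⟩ := h₁ q h
      refine ⟨p', hp', le_trans ?_ hle, hq'⟩
      intro r hr
      rw [Module.mem_annihilator] at hr ⊢
      intro x
      apply hf
      rw [map_smul, hr, map_zero]
    · obtain ⟨p', hp', hle, hq'⟩ := h₃ q h
      refine ⟨p', hp', le_trans ?_ hle, hq'⟩
      intro r hr
      rw [Module.mem_annihilator] at hr ⊢
      intro x
      obtain ⟨y, rfl⟩ := hg x
      rw [← map_smul, hr, map_zero]







/-- elements of `N ⊗ M` killed by a finitely generated ideal come from `N ⊗ M[I]`. -/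
theorem exists_of_smul_eq_zero [Module.Flat R N] {k : ℕ} (b : Fin k → R) (z : N ⊗[R] M)
    (hz : ∀ i, b i • z = 0) :
    ∃ zK : N ⊗[R] (LinearMap.ker (LinearMap.pi (fun i => b i • (LinearMap.id : M →ₗ[R] M)))),
      (LinearMap.lTensor N (Submodule.subtype _)) zK = z := by
  set φ : M →ₗ[R] (Fin k → M) := LinearMap.pi (fun i => b i • (LinearMap.id : M →ₗ[R] M)) with hφ
  have hex : Function.Exact (LinearMap.lTensor N (LinearMap.ker φ).subtype) (LinearMap.lTensor N φ) :=
    Module.Flat.lTensor_exact N (LinearMap.exact_subtype_ker_map φ)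
  have h0 : LinearMap.lTensor N φ z = 0 := by
    apply (TensorProduct.piRight R R N (fun _ : Fin k => M)).injective
    rw [map_zero]
    have : ∀ w : N ⊗[R] M, TensorProduct.piRight R R N (fun _ : Fin k => M)
        (LinearMap.lTensor N φ w) = fun i => b i • w := by
      intro w
      induction w using TensorProduct.induction_on with
      | zero => simp; rfl
      | tmul n m =>
        rw [LinearMap.lTensor_tmul, TensorProduct.piRight_apply, TensorProduct.piRightHom_tmul]
        funext i
        simp [hφ, TensorProduct.tmul_smul]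
      | add a c ha hc =>
        rw [map_add, map_add, ha, hc]
        funext i
        simp [smul_add]
    rw [this]
    funext i
    exact hz i
  exact (hex z).mp h0

theorem smul_eq_zero_of_mem_ker {k : ℕ} (b : Fin k → R)
    (m : M) (hm : m ∈ LinearMap.ker (LinearMap.pi (fun i => b i • (LinearMap.id : M →ₗ[R] M))))
    (r : R) (hr : r ∈ Ideal.span (Set.range b)) : r • m = 0 := by
  have h1 : Ideal.span (Set.range b) ≤ LinearMap.ker (LinearMap.toSpanSingleton R M m) := by
    rw [Ideal.span_le]
    rintro _ ⟨i, rfl⟩
    rw [SetLike.mem_coe, LinearMap.mem_ker, LinearMap.toSpanSingleton_apply]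
    rw [LinearMap.mem_ker] at hm
    have := congrFun hm i
    simpa using this
  have := h1 hr
  rwa [LinearMap.mem_ker, LinearMap.toSpanSingleton_apply] at this






theorem exists_submodule_of_smul_eq_zero [Module.Flat R N] {k : ℕ} (b : Fin k → R) (z : N ⊗[R] M)
    (hz : ∀ i, b i • z = 0) :
    ∃ K : Submodule R M, (∀ m ∈ K, ∀ r ∈ Ideal.span (Set.range b), r • m = 0) ∧
      ∃ zK : N ⊗[R] K, (LinearMap.lTensor N K.subtype) zK = z := by
  obtain ⟨zK, hzK⟩ := exists_of_smul_eq_zero b z hz
  exact ⟨_, fun m hm r hr => smul_eq_zero_of_mem_ker b m hm r hr, zK, hzK⟩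







theorem subset [IsNoetherianRing R] [Module.Flat R N] (q : Ideal S)
    (hq : q ∈ associatedPrimes S (N ⊗[R] M)) :
    ∃ p ∈ associatedPrimes R M,
      q ∈ associatedPrimes S (N ⧸ (p.map (algebraMap R S) • (⊤ : Submodule S N))) := by
  obtain ⟨hqp, z, hqz⟩ := hq
  set p : Ideal R := q.comap (algebraMap R S) with hp
  have hpp : p.IsPrime := Ideal.comap_isPrime _ _
  -- Step 1
  obtain ⟨n, hn⟩ : ∃ n : ℕ, p ^ n ≤ ((⊥ : Submodule S (N ⊗[R] M)).colon {z}).comap
      (algebraMap R S) := by
    apply Ideal.exists_pow_le_of_le_radical_of_fg _ ((isNoetherianRing_iff_ideal_fg R).mp ‹_› p)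
    rw [← Ideal.comap_radical, ← hqz]
  have hkill : ∀ r ∈ p ^ n, r • z = 0 := by
    intro r hr
    have := hn hr
    rw [Ideal.mem_comap, Submodule.mem_colon_singleton, Submodule.mem_bot, algebraMap_smul] at this
    exact this
  -- generators
  obtain ⟨k, b, hb⟩ := Submodule.fg_iff_exists_fin_generating_family.mp
    ((isNoetherianRing_iff_ideal_fg R).mp ‹_› (p ^ n))
  obtain ⟨K, hKkill, zK, hzK⟩ := exists_submodule_of_smul_eq_zero b z (fun i => hkill _ (by
    rw [← hb]; exact Submodule.subset_span ⟨i, rfl⟩))
  obtain ⟨X, hXfin, hX⟩ := TensorProduct.exists_finite_submodule_right_of_setFinite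
    ({zK} : Set (N ⊗[R] K)) (Set.finite_singleton _)
  obtain ⟨zX, hzX⟩ := hX (Set.mem_singleton zK)
  set ι : X →ₗ[R] M := K.subtype ∘ₗ X.subtype with hι
  have hιinj : Function.Injective ι :=
    (Submodule.injective_subtype K).comp (Submodule.injective_subtype X)
  have hzz : LinearMap.lTensor N ι zX = z := by
    rw [hι, LinearMap.lTensor_comp, LinearMap.comp_apply, hzX, hzK]
  -- annihilator of X contains p^n
  have hann : p ^ n ≤ Module.annihilator R X := by
    intro r hr
    rw [Module.mem_annihilator]
    intro x
    apply Subtype.ext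
    apply Subtype.ext
    have := hKkill (x.1.1) x.1.2 r (by rw [Ideal.span, hb]; exact hr)
    simpa using this
  -- q is associated to N ⊗ X
  have hqX : q ∈ associatedPrimes S (N ⊗[R] X) := by
    refine ⟨hqp, zX, ?_⟩
    rw [hqz]
    congr 1
    ext s
    rw [Submodule.mem_colon_singleton, Submodule.mem_colon_singleton, Submodule.mem_bot,
      Submodule.mem_bot, ← hzz]
    have hinj : Function.Injective (TensorProduct.AlgebraTensorModule.lTensor S N ι) := by
      rw [TensorProduct.AlgebraTensorModule.coe_lTensor]
      exact Module.Flat.lTensor_preserves_injective_linearMap ι hιinj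
    have e : s • (LinearMap.lTensor N ι) zX =
        TensorProduct.AlgebraTensorModule.lTensor S N ι (s • zX) := by
      rw [map_smul]; rfl
    rw [e]
    constructor
    · intro h
      apply hinj
      rw [h, map_zero]
    · intro h
      rw [h, map_zero]
  obtain ⟨p', hp'prime, hle, hq'⟩ := key X q hqX
  have h1 : p ≤ p' := hp'prime.le_of_pow_le (le_trans hann hle)
  have h2 : p' ≤ p := by
    intro a ha
    rw [hp, Ideal.mem_comap]
    apply IsAssociatedPrime.annihilator_le hq'
    rw [Submodule.mem_annihilator]
    intro x _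
    obtain ⟨x, rfl⟩ := Submodule.Quotient.mk_surjective _ x
    rw [← Submodule.Quotient.mk_smul, Submodule.Quotient.mk_eq_zero]
    exact Submodule.smul_mem_smul (Ideal.mem_map_of_mem _ ha) trivial
  have hpe : p' = p := le_antisymm h2 h1
  rw [hpe] at hq'
  refine ⟨p, ?_, hq'⟩
  -- p is associated to M
  have hannp : Module.annihilator R X ≤ p := by
    intro d hd
    rw [Module.mem_annihilator] at hd
    have hdz : d • zX = 0 := by
      have : ∀ w : N ⊗[R] X, d • w = 0 := by
        intro w
        induction w using TensorProduct.induction_on with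
        | zero => simp
        | tmul n x => rw [← TensorProduct.tmul_smul, hd, TensorProduct.tmul_zero]
        | add a c ha hc => rw [smul_add, ha, hc, add_zero]
      exact this zX
    have hdz' : d • z = 0 := by rw [← hzz, ← map_smul, hdz, map_zero]
    rw [hp, Ideal.mem_comap, hqz]
    apply Ideal.le_radical
    rw [Submodule.mem_colon_singleton, Submodule.mem_bot, algebraMap_smul]
    exact hdz'
  have hmin : p ∈ (Module.annihilator R X).minimalPrimes := by
    refine ⟨⟨hpp, hannp⟩, ?_⟩
    rintro P ⟨hP, hPle⟩ _
    exact hP.le_of_pow_le (le_trans hann hPle)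
  have := Module.associatedPrimes.minimalPrimes_annihilator_subset_associatedPrimes R X hmin
  exact associatedPrimes.subset_of_injective hιinj this



end Groth.Agent.H34.AssTensor
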