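import Mathlib
import Groth.Agent.H34.LiaisonEquidim
import Groth.Agent.Lib.Helper82.CMPoly
import Groth.Prelude.Def_GrSyz

/-!
# Liaison in a polynomial ring: unmixedness of homogeneous Gorenstein ideals (helper34)
-/

set_option autoImplicit false
universe u v

namespace Groth.Agent.H34.Liaison

open MvPolynomial Groth.Agent.Lib.Helper60

section Graded

variable {K : Type u} [Field K] {σ : Type v}

/-- A homogeneous element with nonzero constant coefficient is a nonzero constant. -/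
theorem eq_C_of_mem_stdGr_of_constantCoeff_ne_zero {i : ℤ} (x : MvPolynomial σ K)
    (hx : x ∈ GrSyz.stdGr K σ i) (h0 : constantCoeff x ≠ 0) : x = C (constantCoeff x) := by
  have hi : i = 0 := by
    by_contra hi
    apply h0
    rw [constantCoeff_eq]
    apply IsWeightedHomogeneous.coeff_eq_zero hx 0
    rw [map_zero]
    exact fun h => hi h.symm
  subst hi
  classical
  ext d
  rw [coeff_C]
  by_cases hd : 0 = d
  · rw [if_pos hd, ← hd, constantCoeff_eq]
  · rw [if_neg hd]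
    apply IsWeightedHomogeneous.coeff_eq_zero hx d
    have h1 : Finsupp.weight (fun _ : σ => (1 : ℤ)) d = ((d.degree : ℕ) : ℤ) := by
      simp [Finsupp.weight_apply, Finsupp.sum, Finsupp.degree]
    rw [h1]
    intro h2
    have h3 : d.degree = 0 := by exact_mod_cast h2
    exact hd ((Finsupp.degree_eq_zero_iff d).mp h3).symm

/-- A proper homogeneous ideal lies in the irrelevant maximal ideal. -/
theorem le_ker_constantCoeff_of_isHomogeneous (P : Ideal (MvPolynomial σ K))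
    (hP : P.IsHomogeneous (GrSyz.stdGr K σ)) (hne : P ≠ ⊤) :
    P ≤ RingHom.ker (constantCoeff : MvPolynomial σ K →+* K) := by
  obtain ⟨S, hS⟩ := (Ideal.IsHomogeneous.iff_exists (GrSyz.stdGr K σ) P).mp hP
  rw [hS, Ideal.span_le]
  rintro _ ⟨⟨x, i, hxi⟩, hxS, rfl⟩
  rw [SetLike.mem_coe, RingHom.mem_ker]
  by_contra h0
  apply hne
  have hxP : x ∈ P := by
    rw [hS]
    exact Ideal.subset_span ⟨⟨x, i, hxi⟩, hxS, rfl⟩
  rw [eq_C_of_mem_stdGr_of_constantCoeff_ne_zero x hxi h0] at hxP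
  apply Ideal.eq_top_of_isUnit_mem P hxP
  exact (isUnit_iff_ne_zero.mpr h0).map C

/-- Minimal primes of a homogeneous ideal lie in the irrelevant maximal ideal. -/
theorem minimalPrimes_le_ker_constantCoeff (𝔠 : Ideal (MvPolynomial σ K))
    (h𝔠 : 𝔠.IsHomogeneous (GrSyz.stdGr K σ)) {P : Ideal (MvPolynomial σ K)}
    (hP : P ∈ 𝔠.minimalPrimes) :
    P ≤ RingHom.ker (constantCoeff : MvPolynomial σ K →+* K) := by
  haveI hPp : P.IsPrime := hP.1.1
  have hcore : ((P.homogeneousCore (GrSyz.stdGr K σ)).toIdeal).IsPrime :=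
    Ideal.IsPrime.homogeneousCore hPp
  have hle : (P.homogeneousCore (GrSyz.stdGr K σ)).toIdeal ≤ P :=
    Ideal.toIdeal_homogeneousCore_le _ P
  have h𝔠le : 𝔠 ≤ (P.homogeneousCore (GrSyz.stdGr K σ)).toIdeal := by
    rw [← h𝔠.toIdeal_homogeneousCore_eq_self]
    exact Ideal.homogeneousCore_mono (GrSyz.stdGr K σ) hP.1.2
  have hPle : P ≤ (P.homogeneousCore (GrSyz.stdGr K σ)).toIdeal := hP.2 ⟨hcore, h𝔠le⟩ hle
  exact hPle.trans (le_ker_constantCoeff_of_isHomogeneous _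
    (HomogeneousIdeal.isHomogeneous _) hcore.ne_top)

end Graded

section Main

variable {K : Type u} [Field K] (n : ℕ)

/-- All minimal primes of a homogeneous ideal with Gorenstein quotient have the height of the
ideal. -/
theorem height_eq_of_mem_minimalPrimes (𝔠 : Ideal (MvPolynomial (Fin (n + 1)) K))
    (h𝔠 : 𝔠.IsHomogeneous (GrSyz.stdGr K (Fin (n + 1))))
    [LocCoh.IsGorensteinRing (MvPolynomial (Fin (n + 1)) K ⧸ 𝔠)]
    {P : Ideal (MvPolynomial (Fin (n + 1)) K)} (hP : P ∈ 𝔠.minimalPrimes) :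
    P.height = 𝔠.height := by
  set 𝔪 : Ideal (MvPolynomial (Fin (n + 1)) K) :=
    RingHom.ker (constantCoeff : MvPolynomial (Fin (n + 1)) K →+* K) with h𝔪
  haveI h𝔪max : 𝔪.IsMaximal := RingHom.ker_isMaximal_of_surjective _
    (fun a => ⟨C a, constantCoeff_C _ a⟩)
  haveI h𝔪p : 𝔪.IsPrime := h𝔪max.isPrime
  have h𝔠ne : 𝔠 ≠ ⊤ := by
    intro h
    exact hP.1.1.ne_top (top_le_iff.mp (h ▸ hP.1.2))
  have h𝔠𝔪 : 𝔠 ≤ 𝔪 := le_ker_constantCoeff_of_isHomogeneous 𝔠 h𝔠 h𝔠ne
  haveI : LocCoh.IsCohenMacaulayRing K :=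
    Groth.Agent.Lib.Helper82.CMPoly.isCohenMacaulayRing_of_isRegularRing K
  haveI hCMR : LocCoh.IsCohenMacaulayRing (MvPolynomial (Fin (n + 1)) K) :=
    Groth.Agent.Lib.Helper82.CMPoly.isCohenMacaulayRing_mvPolynomial (n + 1)
  haveI hCMA : LocCoh.IsCohenMacaulayLocalRing (Localization.AtPrime 𝔪) :=
    hCMR.isCohenMacaulayLocalRing_localization 𝔪
  haveI h𝔫 : (𝔪.map (Ideal.Quotient.mk 𝔠)).IsPrime := map_mk_isPrime h𝔠𝔪
  have hCMB : LocCoh.IsCohenMacaulayLocalRing
      (Localization.AtPrime (𝔪.map (Ideal.Quotient.mk 𝔠))) := by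
    haveI := LocCoh.IsGorensteinRing.isGorensteinLocalRing_localization
      (A := MvPolynomial (Fin (n + 1)) K ⧸ 𝔠) (𝔪.map (Ideal.Quotient.mk 𝔠))
    obtain ⟨t, ht, hdim, -⟩ := gorenstein_data
      (A := Localization.AtPrime (𝔪.map (Ideal.Quotient.mk 𝔠)))
      LocCoh.IsGorensteinLocalRing.exists_hasInjectiveDimensionLT
    exact { supportDim_eq_depth := by rw [hdim, ht] }
  haveI : IsNoetherianRing (MvPolynomial (Fin (n + 1)) K ⧸ 𝔠) := inferInstance
  have hfin : (𝔪.map (Ideal.Quotient.mk 𝔠)).height ≠ ⊤ := Ideal.height_ne_top_of_isPrime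
  have key : ∀ Q ∈ 𝔠.minimalPrimes, Q.height = P.height := by
    intro Q hQ
    have h1 := height_add_height_of_mem_minimalPrimes 𝔠 𝔪 h𝔠𝔪 hCMB hQ
      (minimalPrimes_le_ker_constantCoeff 𝔠 h𝔠 hQ)
    have h2 := height_add_height_of_mem_minimalPrimes 𝔠 𝔪 h𝔠𝔪 hCMB hP
      (minimalPrimes_le_ker_constantCoeff 𝔠 h𝔠 hP)
    rw [← h2, ← WithBot.coe_add, ← WithBot.coe_add, WithBot.coe_inj] at h1
    exact (ENat.add_left_injective_of_ne_top hfin) h1
  rw [Ideal.height_eq_inf_minimalPrimes 𝔠]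
  apply le_antisymm
  · exact le_iInf₂ fun Q hQ => (key Q hQ).ge
  · exact iInf₂_le P hP

/-- `Ass (R/(𝔠 : I)) ⊆ Ass (R/𝔠)` for a finitely generated ideal `I`. -/
theorem associatedPrimes_colon_subset {R : Type u} [CommRing R] [IsNoetherianRing R]
    (𝔠 I : Ideal R) {p : Ideal R} (hp : p ∈ associatedPrimes R (R ⧸ 𝔠.colon (I : Set R))) :
    p ∈ associatedPrimes R (R ⧸ 𝔠) := by
  classical
  obtain ⟨hpp, x, hx⟩ := isAssociatedPrime_iff.mp hp
  obtain ⟨y, rfl⟩ := Ideal.Quotient.mk_surjective x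
  obtain ⟨T, hT⟩ : I.FG := IsNoetherian.noetherian I
  have hmem : ∀ a : R, a ∈ p ↔ ∀ f ∈ T, a * (y * f) ∈ 𝔠 := by
    intro a
    rw [hx, Submodule.mem_colon_singleton, Submodule.mem_bot]
    change Ideal.Quotient.mk _ (a * y) = 0 ↔ _
    rw [Ideal.Quotient.eq_zero_iff_mem, Submodule.mem_colon]
    constructor
    · intro h f hf
      have := h f (hT ▸ Ideal.subset_span hf)
      rwa [smul_eq_mul, mul_assoc] at this
    · intro h f hf
      rw [smul_eq_mul]
      have hfI : f ∈ Ideal.span (T : Set R) := hT ▸ hf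
      refine Submodule.span_induction (p := fun f _ => a * y * f ∈ 𝔠) ?_ ?_ ?_ ?_ hfI
      · intro g hg
        rw [mul_assoc]
        exact h g hg
      · simp
      · intro g₁ g₂ _ _ h₁ h₂
        rw [mul_add]
        exact 𝔠.add_mem h₁ h₂
      · intro r g _ hg
        rw [smul_eq_mul, ← mul_assoc, mul_comm (a * y) r, mul_assoc]
        exact 𝔠.mul_mem_left r hg
  have hpinf : p = T.inf (fun f => 𝔠.colon ({y * f} : Set R)) := by
    ext a
    rw [hmem, Submodule.mem_finsetInf]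
    refine forall₂_congr fun f _ => ?_
    rw [Submodule.mem_colon_singleton, smul_eq_mul]
  obtain ⟨f, hfT, hfle⟩ := (Ideal.IsPrime.inf_le' hpp).mp hpinf.ge
  have hpeq : p = 𝔠.colon ({y * f} : Set R) := by
    apply le_antisymm _ hfle
    rw [hpinf]
    exact Finset.inf_le hfT
  rw [AssociatedPrimes.mem_iff, isAssociatedPrime_iff]
  refine ⟨hpp, Ideal.Quotient.mk 𝔠 (y * f), ?_⟩
  ext a
  rw [hpeq, Submodule.mem_colon_singleton, Submodule.mem_colon_singleton, Submodule.mem_bot,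
    smul_eq_mul]
  change _ ↔ Ideal.Quotient.mk 𝔠 (a * (y * f)) = 0
  rw [Ideal.Quotient.eq_zero_iff_mem]

/-- S18865: the link `𝔠 : I` is unmixed of height `ht 𝔠`. -/
theorem colon_unmixed (𝔠 I : Ideal (MvPolynomial (Fin (n + 1)) K))
    (h𝔠 : 𝔠.IsHomogeneous (GrSyz.stdGr K (Fin (n + 1))))
    [LocCoh.IsGorensteinRing (MvPolynomial (Fin (n + 1)) K ⧸ 𝔠)] (hI𝔠 : ¬ I ≤ 𝔠) :
    (𝔠.colon (I : Set (MvPolynomial (Fin (n + 1)) K))).height = 𝔠.height ∧
      ∀ p ∈ associatedPrimes (MvPolynomial (Fin (n + 1)) K)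
        (MvPolynomial (Fin (n + 1)) K ⧸ 𝔠.colon (I : Set (MvPolynomial (Fin (n + 1)) K))),
        p.height = 𝔠.height := by
  have hass : ∀ p ∈ associatedPrimes (MvPolynomial (Fin (n + 1)) K)
      (MvPolynomial (Fin (n + 1)) K ⧸ 𝔠.colon (I : Set (MvPolynomial (Fin (n + 1)) K))),
      p.height = 𝔠.height := by
    intro p hp
    exact height_eq_of_mem_minimalPrimes n 𝔠 h𝔠
      (mem_minimalPrimes_of_mem_associatedPrimes 𝔠 (associatedPrimes_colon_subset 𝔠 I hp))
  refine ⟨?_, hass⟩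
  have hne : 𝔠.colon (I : Set (MvPolynomial (Fin (n + 1)) K)) ≠ ⊤ := by
    intro h
    apply hI𝔠
    have h1 : (1 : MvPolynomial (Fin (n + 1)) K) ∈
        𝔠.colon (I : Set (MvPolynomial (Fin (n + 1)) K)) := h ▸ Submodule.mem_top
    rw [Submodule.mem_colon] at h1
    intro f hf
    have := h1 f hf
    rwa [one_smul] at this
  have hmin : ∀ q ∈ (𝔠.colon (I : Set (MvPolynomial (Fin (n + 1)) K))).minimalPrimes,
      q.height = 𝔠.height := by
    intro q hq
    apply hass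
    apply Module.associatedPrimes.minimalPrimes_annihilator_subset_associatedPrimes
    rwa [Ideal.annihilator_quotient]
  obtain ⟨q, hq⟩ := Ideal.nonempty_minimalPrimes hne
  rw [Ideal.height_eq_inf_minimalPrimes]
  apply le_antisymm
  · exact (iInf₂_le q hq).trans (hmin q hq).le
  · exact le_iInf₂ fun q' hq' => (hmin q' hq').ge

end Main

end Groth.Agent.H34.Liaison
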