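import Mathlib
import Groth.Agent.H34.LiaisonGraded
import Groth.Agent.Lib.Helper29.DepthSelf

/-!
# Basic double links: unmixedness (helper34)
-/

set_option autoImplicit false
universe u

namespace Groth.Agent.H34.BDL

open Groth.Agent.Lib.Helper29 Groth.Agent.Lib.Helper60 Groth.Agent.H34.Liaison

section HeightOne

/-- In a Cohen–Macaulay ring, the associated primes of `A/fA` (`f` a nonzerodivisor) have height
one. -/
theorem height_eq_one_of_mem_associatedPrimes_quotSMulTop (A : Type u) [CommRing A]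
    [hA : LocCoh.IsCohenMacaulayRing A] (f : A) (hf : IsSMulRegular A f) (P : Ideal A)
    (hP : P ∈ associatedPrimes A (QuotSMulTop f A)) : P.height = 1 := by
  haveI hPp : P.IsPrime := IsAssociatedPrime.isPrime hP
  have hfP : f ∈ P := by
    obtain ⟨-, y, hy⟩ := isAssociatedPrime_iff.mp hP
    rw [hy, Submodule.mem_colon_singleton, Submodule.mem_bot]
    obtain ⟨y', rfl⟩ := Submodule.Quotient.mk_surjective _ y
    rw [← Submodule.Quotient.mk_smul, Submodule.Quotient.mk_eq_zero]
    exact Submodule.smul_mem_pointwise_smul _ _ _ Submodule.mem_top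
  have h0 := depth_localizedModule_eq_zero_of_mem_associatedPrimes A (QuotSMulTop f A) P hP
  have h1 := depth_localizedModule_quotSMulTop_add_one A P A hfP hf
  rw [h0, depth_localizedModule_self, zero_add] at h1
  haveI := hA.isCohenMacaulayLocalRing_localization P
  have h2 := LocCoh.IsCohenMacaulayLocalRing.supportDim_eq_depth (R := Localization.AtPrime P)
  rw [← h1, Module.supportDim_self_eq_ringKrullDim,
    IsLocalization.AtPrime.ringKrullDim_eq_height P] at h2
  have h3 : ((P.height : ℕ∞) : WithBot ℕ∞) = ((1 : ℕ∞) : WithBot ℕ∞) := h2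
  exact WithBot.coe_injective h3

end HeightOne

section Transfer

variable {R : Type u} [CommRing R]

/-- An associated prime of `R/(J + fR)` gives an associated prime of `(R/J)/f̄(R/J)`. -/
theorem map_mem_associatedPrimes_quotSMulTop [IsNoetherianRing R] (J : Ideal R) (f : R)
    (p : Ideal R)
    (hp : p ∈ associatedPrimes R (R ⧸ (J ⊔ Ideal.span {f}))) :
    p.map (Ideal.Quotient.mk J) ∈
      associatedPrimes (R ⧸ J) (QuotSMulTop (Ideal.Quotient.mk J f) (R ⧸ J)) := by
  haveI hpp : p.IsPrime := IsAssociatedPrime.isPrime hp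
  obtain ⟨-, y, hy⟩ := isAssociatedPrime_iff.mp hp
  obtain ⟨x, rfl⟩ := Ideal.Quotient.mk_surjective y
  have hmem : ∀ a : R, a ∈ p ↔ a * x ∈ J ⊔ Ideal.span {f} := by
    intro a
    rw [hy, Submodule.mem_colon_singleton, Submodule.mem_bot]
    change Ideal.Quotient.mk _ (a * x) = 0 ↔ _
    rw [Ideal.Quotient.eq_zero_iff_mem]
  have hJp : J ≤ p := by
    intro a ha
    rw [hmem]
    exact Ideal.mem_sup_left (J.mul_mem_right _ ha)
  haveI : (p.map (Ideal.Quotient.mk J)).IsPrime := map_mk_isPrime hJp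
  rw [AssociatedPrimes.mem_iff, isAssociatedPrime_iff]
  refine ⟨inferInstance, Submodule.Quotient.mk (Ideal.Quotient.mk J x), ?_⟩
  ext a
  obtain ⟨a, rfl⟩ := Ideal.Quotient.mk_surjective a
  rw [Submodule.mem_colon_singleton, Submodule.mem_bot, ← Submodule.Quotient.mk_smul,
    Submodule.Quotient.mk_eq_zero, smul_eq_mul, ← map_mul]
  have h1 : Ideal.Quotient.mk J a ∈ p.map (Ideal.Quotient.mk J) ↔ a ∈ p := by
    constructor
    · intro h
      have h' : a ∈ (p.map (Ideal.Quotient.mk J)).comap (Ideal.Quotient.mk J) := h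
      rwa [comap_map_mk_of_le hJp] at h'
    · exact Ideal.mem_map_of_mem _
  rw [h1, hmem]
  constructor
  · intro h
    obtain ⟨j, hj, g, hg, hjg⟩ := Submodule.mem_sup.mp h
    obtain ⟨c, rfl⟩ := Ideal.mem_span_singleton'.mp hg
    rw [← hjg, map_add, Ideal.Quotient.eq_zero_iff_mem.mpr hj, zero_add, map_mul, mul_comm]
    exact Submodule.smul_mem_pointwise_smul _ _ _ Submodule.mem_top
  · intro h
    obtain ⟨z, -, hz⟩ := (Submodule.mem_smul_pointwise_iff_exists _ _ _).mp h
    obtain ⟨z', rfl⟩ := Ideal.Quotient.mk_surjective z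
    rw [smul_eq_mul, ← map_mul, Ideal.Quotient.eq] at hz
    have : a * x = f * z' - (f * z' - a * x) := by ring
    rw [this]
    exact Ideal.sub_mem _ (Ideal.mem_sup_right (Ideal.mul_mem_right _ _
      (Ideal.mem_span_singleton_self f))) (Ideal.mem_sup_left hz)

end Transfer

section GradedCM

open MvPolynomial

variable {K : Type u} [Field K] (n : ℕ)

/-- All minimal primes of a homogeneous ideal with Cohen–Macaulay quotient have the height of the
ideal. -/
theorem height_eq_of_mem_minimalPrimes_CM (𝔠 : Ideal (MvPolynomial (Fin (n + 1)) K))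
    (h𝔠 : 𝔠.IsHomogeneous (GrSyz.stdGr K (Fin (n + 1))))
    [hCM : LocCoh.IsCohenMacaulayRing (MvPolynomial (Fin (n + 1)) K ⧸ 𝔠)]
    {P : Ideal (MvPolynomial (Fin (n + 1)) K)} (hP : P ∈ 𝔠.minimalPrimes) :
    P.height = 𝔠.height := by
  set 𝔪 : Ideal (MvPolynomial (Fin (n + 1)) K) :=
    RingHom.ker (constantCoeff : MvPolynomial (Fin (n + 1)) K →+* K) with h𝔪
  haveI h𝔪max : 𝔪.IsMaximal := RingHom.ker_isMaximal_of_surjective _
    (fun a => ⟨C a, constantCoeff_C _ a⟩)
  haveI h𝔪p : 𝔪.IsPrime := h𝔪max.isPrime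
  have h𝔠ne : 𝔠 ≠ ⊤ := by
    intro h
    exact hP.1.1.ne_top (top_le_iff.mp (h ▸ hP.1.2))
  have h𝔠𝔪 : 𝔠 ≤ 𝔪 := le_ker_constantCoeff_of_isHomogeneous 𝔠 h𝔠 h𝔠ne
  haveI : LocCoh.IsCohenMacaulayRing K :=
    Groth.Agent.Lib.Helper82.CMPoly.isCohenMacaulayRing_of_isRegularRing K
  haveI hCMR : LocCoh.IsCohenMacaulayRing (MvPolynomial (Fin (n + 1)) K) :=
    Groth.Agent.Lib.Helper82.CMPoly.isCohenMacaulayRing_mvPolynomial (n + 1)
  haveI hCMA : LocCoh.IsCohenMacaulayLocalRing (Localization.AtPrime 𝔪) :=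
    hCMR.isCohenMacaulayLocalRing_localization 𝔪
  haveI h𝔫 : (𝔪.map (Ideal.Quotient.mk 𝔠)).IsPrime := map_mk_isPrime h𝔠𝔪
  have hCMB : LocCoh.IsCohenMacaulayLocalRing
      (Localization.AtPrime (𝔪.map (Ideal.Quotient.mk 𝔠))) :=
    hCM.isCohenMacaulayLocalRing_localization _
  haveI : IsNoetherianRing (MvPolynomial (Fin (n + 1)) K ⧸ 𝔠) := inferInstance
  have hfin : (𝔪.map (Ideal.Quotient.mk 𝔠)).height ≠ ⊤ := Ideal.height_ne_top_of_isPrime
  have key : ∀ Q ∈ 𝔠.minimalPrimes, Q.height = P.height := by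
    intro Q hQ
    have h1 := height_add_height_of_mem_minimalPrimes 𝔠 𝔪 h𝔠𝔪 hCMB hQ
      (minimalPrimes_le_ker_constantCoeff 𝔠 h𝔠 hQ)
    have h2 := height_add_height_of_mem_minimalPrimes 𝔠 𝔪 h𝔠𝔪 hCMB hP
      (minimalPrimes_le_ker_constantCoeff 𝔠 h𝔠 hP)
    rw [← h2, ← WithBot.coe_add, ← WithBot.coe_add, WithBot.coe_inj] at h1
    exact (ENat.add_left_injective_of_ne_top hfin) h1
  rw [Ideal.height_eq_inf_minimalPrimes 𝔠]
  apply le_antisymm
  · exact le_iInf₂ fun Q hQ => (key Q hQ).ge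
  · exact iInf₂_le P hP

end GradedCM

section LPrime

variable {R : Type u} [CommRing R]

/-- Associated primes of `R/(J + fR)` have height `h + 1` when `R`, `R/J` are Cohen–Macaulay, `f` is
a nonzerodivisor modulo `J` and all minimal primes of `J` have height `h`. -/
theorem height_of_mem_associatedPrimes_sup_span [hR : LocCoh.IsCohenMacaulayRing R] (J : Ideal R)
    [hRJ : LocCoh.IsCohenMacaulayRing (R ⧸ J)] (h : ℕ)
    (hmin : ∀ Q ∈ J.minimalPrimes, Q.height = h) (f : R) (hJf : J.colon {f} = J)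
    (p : Ideal R) (hp : p ∈ associatedPrimes R (R ⧸ (J ⊔ Ideal.span {f}))) :
    p.height = h + 1 := by
  haveI hpp : p.IsPrime := IsAssociatedPrime.isPrime hp
  have hJp : J ≤ p := by
    obtain ⟨-, y, hy⟩ := isAssociatedPrime_iff.mp hp
    intro a ha
    rw [hy, Submodule.mem_colon_singleton, Submodule.mem_bot]
    obtain ⟨y', rfl⟩ := Ideal.Quotient.mk_surjective y
    change Ideal.Quotient.mk _ (a * y') = 0
    rw [Ideal.Quotient.eq_zero_iff_mem]
    exact Ideal.mem_sup_left (J.mul_mem_right _ ha)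
  have hreg : IsSMulRegular (R ⧸ J) (Ideal.Quotient.mk J f) := by
    intro a b hab
    obtain ⟨a, rfl⟩ := Ideal.Quotient.mk_surjective a
    obtain ⟨b, rfl⟩ := Ideal.Quotient.mk_surjective b
    simp only [smul_eq_mul, ← map_mul] at hab
    rw [Ideal.Quotient.eq] at hab ⊢
    rw [← hJf, Submodule.mem_colon_singleton, smul_eq_mul]
    have : (a - b) * f = f * a - f * b := by ring
    rw [this]
    exact hab
  have h1 := height_eq_one_of_mem_associatedPrimes_quotSMulTop (R ⧸ J) _ hreg _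
    (map_mem_associatedPrimes_quotSMulTop J f p hp)
  obtain ⟨Q, hQ, hQp⟩ := Ideal.exists_minimalPrimes_le hJp
  haveI := hR.isCohenMacaulayLocalRing_localization p
  haveI : (p.map (Ideal.Quotient.mk J)).IsPrime := map_mk_isPrime hJp
  have hCMB := hRJ.isCohenMacaulayLocalRing_localization (p.map (Ideal.Quotient.mk J))
  have h2 := height_add_height_of_mem_minimalPrimes J p hJp hCMB hQ hQp
  rw [h1, hmin Q hQ, ← WithBot.coe_add, WithBot.coe_inj] at h2
  rw [← h2]

end LPrime

section ExactSeq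

variable {R : Type u} [CommRing R] (J I : Ideal R) (f : R)

/-- multiplication by `f` as a map `R/I → R/(J + fI)`. -/
noncomputable def mulMap : R ⧸ I →ₗ[R] R ⧸ (J ⊔ Ideal.span {f} * I) :=
  Submodule.liftQ I ((Submodule.mkQ (J ⊔ Ideal.span {f} * I)) ∘ₗ (LinearMap.mulLeft R f)) (by
    intro r hr
    rw [LinearMap.mem_ker, LinearMap.comp_apply, LinearMap.mulLeft_apply, Submodule.mkQ_apply,
      Submodule.Quotient.mk_eq_zero]
    exact Ideal.mem_sup_right (Ideal.mul_mem_mul (Ideal.mem_span_singleton_self f) hr))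

theorem mulMap_mk (r : R) : mulMap J I f (Ideal.Quotient.mk I r) =
    Ideal.Quotient.mk (J ⊔ Ideal.span {f} * I) (f * r) := rfl

theorem mulMap_injective (hJI : J ≤ I) (hJf : J.colon {f} = J) :
    Function.Injective (mulMap J I f) := by
  rw [← LinearMap.ker_eq_bot, LinearMap.ker_eq_bot']
  intro y hy
  obtain ⟨r, rfl⟩ := Ideal.Quotient.mk_surjective y
  rw [mulMap_mk, Ideal.Quotient.eq_zero_iff_mem] at hy
  rw [Ideal.Quotient.eq_zero_iff_mem]
  obtain ⟨j, hj, g, hg, hjg⟩ := Submodule.mem_sup.mp hy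
  obtain ⟨i, hi, rfl⟩ := (Ideal.mem_span_singleton_mul).mp hg
  have h1 : r - i ∈ J := by
    rw [← hJf, Submodule.mem_colon_singleton, smul_eq_mul]
    have : (r - i) * f = j := by linear_combination -hjg
    rw [this]
    exact hj
  have : r = (r - i) + i := by ring
  rw [this]
  exact I.add_mem (hJI h1) hi

/-- the factor map `R/(J + fI) → R/(J + fR)`. -/
noncomputable def facMap : R ⧸ (J ⊔ Ideal.span {f} * I) →ₗ[R] R ⧸ (J ⊔ Ideal.span {f}) :=
  Submodule.liftQ _ (Submodule.mkQ (J ⊔ Ideal.span {f})) (by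
    rw [Submodule.ker_mkQ]
    exact sup_le_sup_left Ideal.mul_le_left J)

theorem facMap_mk (r : R) : facMap J I f (Ideal.Quotient.mk _ r) =
    Ideal.Quotient.mk (J ⊔ Ideal.span {f}) r := rfl

theorem exact_mulMap_facMap : Function.Exact (mulMap J I f) (facMap J I f) := by
  intro y
  obtain ⟨r, rfl⟩ := Ideal.Quotient.mk_surjective y
  rw [facMap_mk, Ideal.Quotient.eq_zero_iff_mem]
  constructor
  · intro h
    obtain ⟨j, hj, g, hg, hjg⟩ := Submodule.mem_sup.mp h
    obtain ⟨c, rfl⟩ := Ideal.mem_span_singleton'.mp hg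
    refine ⟨Ideal.Quotient.mk I c, ?_⟩
    rw [mulMap_mk, Ideal.Quotient.eq]
    have : f * c - r = -j := by rw [← hjg]; ring
    rw [this]
    exact Ideal.mem_sup_left (J.neg_mem hj)
  · rintro ⟨z, hz⟩
    obtain ⟨c, rfl⟩ := Ideal.Quotient.mk_surjective z
    rw [mulMap_mk, Ideal.Quotient.eq] at hz
    have hle : J ⊔ Ideal.span {f} * I ≤ J ⊔ Ideal.span {f} := sup_le_sup_left Ideal.mul_le_left J
    have h1 := hle hz
    have : r = f * c - (f * c - r) := by ring
    rw [this]
    exact Ideal.sub_mem _ (Ideal.mem_sup_right (Ideal.mul_mem_right _ _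
      (Ideal.mem_span_singleton_self f))) h1

end ExactSeq

section Main

open MvPolynomial

variable {K : Type u} [Field K] (n : ℕ)

theorem unmixed_iff (h : ℕ) (J I : Ideal (MvPolynomial (Fin (n + 1)) K))
    (hJ : J.IsHomogeneous (GrSyz.stdGr K (Fin (n + 1)))) (hJI : J ≤ I) (hJh : J.height = h)
    [LocCoh.IsCohenMacaulayRing (MvPolynomial (Fin (n + 1)) K ⧸ J)]
    (f : MvPolynomial (Fin (n + 1)) K) (hJf : J.colon {f} = J) :
    (∀ p ∈ associatedPrimes (MvPolynomial (Fin (n + 1)) K) (MvPolynomial (Fin (n + 1)) K ⧸ I),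
        p.height = h + 1) ↔
      ∀ p ∈ associatedPrimes (MvPolynomial (Fin (n + 1)) K)
        (MvPolynomial (Fin (n + 1)) K ⧸ (J ⊔ Ideal.span {f} * I)), p.height = h + 1 := by
  haveI : LocCoh.IsCohenMacaulayRing K :=
    Groth.Agent.Lib.Helper82.CMPoly.isCohenMacaulayRing_of_isRegularRing K
  haveI hCMR : LocCoh.IsCohenMacaulayRing (MvPolynomial (Fin (n + 1)) K) :=
    Groth.Agent.Lib.Helper82.CMPoly.isCohenMacaulayRing_mvPolynomial (n + 1)
  constructor
  · intro hI p hp
    rcases associatedPrimes.subset_union_of_exact (mulMap_injective J I f hJI hJf)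
      (exact_mulMap_facMap J I f) hp with h1 | h1
    · exact hI p h1
    · refine height_of_mem_associatedPrimes_sup_span J h ?_ f hJf p h1
      intro Q hQ
      rw [height_eq_of_mem_minimalPrimes_CM n J hJ hQ, hJh]
  · intro hI p hp
    exact hI p (associatedPrimes.subset_of_injective (mulMap_injective J I f hJI hJf) hp)

end Main

end Groth.Agent.H34.BDL
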