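import Mathlib
import Groth.Agent.H34.BasicDoubleLink
import Groth.Agent.Lib.Helper26.LcCM
import Groth.Agent.Lib.Helper60.LocalCohLES
import Groth.Agent.Lib.Helper60.LocalCohBasic
import Groth.Agent.Lib.Helper29.DepthFiniteAlg
import Groth.Agent.Lib.Helper66.PdVars
import Groth.Agent.H46.SmoothDim
import Groth.Agent.Lib.Helper73.PdQuotient

/-!
# Basic double links: local cohomology (helper34)
-/

set_option autoImplicit false
universe u

namespace Groth.Agent.H34.BDL

open Groth.Agent.Lib.Helper29 Groth.Agent.Lib.Helper60 Groth.Agent.H34.Liaison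

section DepthBound

variable {R : Type u} [CommRing R]

/-- the `R`-linear map `R → (R/J)/f̄(R/J)`. -/
noncomputable def toQuotSMulTop (J : Ideal R) (f : R) :
    R →ₗ[R] QuotSMulTop (Ideal.Quotient.mk J f) (R ⧸ J) :=
  ((Submodule.mkQ _).restrictScalars R) ∘ₗ (Ideal.Quotient.mkₐ R J).toLinearMap

theorem toQuotSMulTop_apply (J : Ideal R) (f r : R) :
    toQuotSMulTop J f r = Submodule.Quotient.mk (Ideal.Quotient.mk J r) := rfl

theorem toQuotSMulTop_surjective (J : Ideal R) (f : R) :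
    Function.Surjective (toQuotSMulTop J f) := by
  intro y
  obtain ⟨y', rfl⟩ := Submodule.Quotient.mk_surjective _ y
  obtain ⟨r, rfl⟩ := Ideal.Quotient.mk_surjective y'
  exact ⟨r, rfl⟩

theorem ker_toQuotSMulTop (J : Ideal R) (f : R) :
    LinearMap.ker (toQuotSMulTop J f) = J ⊔ Ideal.span {f} := by
  ext a
  rw [LinearMap.mem_ker, toQuotSMulTop_apply, Submodule.Quotient.mk_eq_zero]
  constructor
  · intro h
    obtain ⟨z, -, hz⟩ := (Submodule.mem_smul_pointwise_iff_exists _ _ _).mp h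
    obtain ⟨z', rfl⟩ := Ideal.Quotient.mk_surjective z
    rw [smul_eq_mul, ← map_mul, Ideal.Quotient.eq] at hz
    have : a = f * z' - (f * z' - a) := by ring
    rw [this]
    exact Ideal.sub_mem _ (Ideal.mem_sup_right (Ideal.mul_mem_right _ _
      (Ideal.mem_span_singleton_self f))) (Ideal.mem_sup_left hz)
  · intro h
    obtain ⟨j, hj, g, hg, hjg⟩ := Submodule.mem_sup.mp h
    obtain ⟨c, rfl⟩ := Ideal.mem_span_singleton'.mp hg
    rw [← hjg, map_add, Ideal.Quotient.eq_zero_iff_mem.mpr hj, zero_add, map_mul, mul_comm]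
    exact Submodule.smul_mem_pointwise_smul _ _ _ Submodule.mem_top

/-- `R/(J + fR) ≃ (R/J)/f̄(R/J)` as `R`-modules. -/
noncomputable def quotSupEquiv (J : Ideal R) (f : R) :
    (R ⧸ (J ⊔ Ideal.span {f})) ≃ₗ[R] QuotSMulTop (Ideal.Quotient.mk J f) (R ⧸ J) :=
  (Submodule.quotEquivOfEq _ _ (ker_toQuotSMulTop J f).symm) ≪≫ₗ
    (toQuotSMulTop J f).quotKerEquivOfSurjective (toQuotSMulTop_surjective J f)

theorem le_idealDepth_quot_sup_span [hR : LocCoh.IsCohenMacaulayRing R] (J : Ideal R)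
    [hRJ : LocCoh.IsCohenMacaulayRing (R ⧸ J)] (h N : ℕ)
    (hmin : ∀ Q ∈ J.minimalPrimes, Q.height = h) (f : R) (hJf : J.colon {f} = J)
    (𝔪 : Ideal R) [h𝔪max : 𝔪.IsMaximal] (h𝔪 : 𝔪.height = N) (hJ𝔪 : J ≤ 𝔪)
    (k : ℕ) (hk : k + h + 1 ≤ N) :
    (k : ℕ∞) ≤ LocCoh.idealDepth 𝔪 (R ⧸ (J ⊔ Ideal.span {f})) := by
  rw [idealDepth_congr 𝔪 (quotSupEquiv J f),
    idealDepth_map_eq (A := R) (B := R ⧸ J) 𝔪 (QuotSMulTop (Ideal.Quotient.mk J f) (R ⧸ J)),
    idealDepth_eq_iInf_depth_localization]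
  refine le_iInf₂ fun p hp => ?_
  have hpeq : p.asIdeal = 𝔪.map (Ideal.Quotient.mk J) := by
    have hmax : (𝔪.map (Ideal.Quotient.mk J)).IsMaximal := by
      rcases Ideal.map_eq_top_or_isMaximal_of_surjective (Ideal.Quotient.mk J)
        Ideal.Quotient.mk_surjective h𝔪max with h | h
      · exfalso
        have h1 : (𝔪.map (Ideal.Quotient.mk J)).comap (Ideal.Quotient.mk J) = ⊤ := by
          rw [h, Ideal.comap_top]
        rw [comap_map_mk_of_le hJ𝔪] at h1
        exact h𝔪max.ne_top h1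
      · exact h
    exact (hmax.eq_of_le p.2.ne_top hp).symm
  have hreg : IsSMulRegular (R ⧸ J) (Ideal.Quotient.mk J f) := by
    intro a b hab
    obtain ⟨a, rfl⟩ := Ideal.Quotient.mk_surjective a
    obtain ⟨b, rfl⟩ := Ideal.Quotient.mk_surjective b
    simp only [smul_eq_mul, ← map_mul] at hab
    rw [Ideal.Quotient.eq] at hab ⊢
    rw [← hJf, Submodule.mem_colon_singleton, smul_eq_mul]
    have : (a - b) * f = f * a - f * b := by ring
    rw [this]
    exact hab
  by_cases hfp : Ideal.Quotient.mk J f ∈ p.asIdeal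
  · have h1 := depth_localizedModule_quotSMulTop_add_one (R ⧸ J) p.asIdeal (R ⧸ J) hfp hreg
    rw [depth_localizedModule_self] at h1
    haveI := hRJ.isCohenMacaulayLocalRing_localization p.asIdeal
    have h2 := LocCoh.IsCohenMacaulayLocalRing.supportDim_eq_depth
      (R := Localization.AtPrime p.asIdeal)
    rw [Module.supportDim_self_eq_ringKrullDim,
      IsLocalization.AtPrime.ringKrullDim_eq_height p.asIdeal] at h2
    have h3 : p.asIdeal.height = LocCoh.depth (Localization.AtPrime p.asIdeal)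
        (Localization.AtPrime p.asIdeal) := WithBot.coe_injective h2
    -- heights
    haveI h𝔪p : 𝔪.IsPrime := h𝔪max.isPrime
    obtain ⟨Q, hQ, hQ𝔪⟩ := Ideal.exists_minimalPrimes_le hJ𝔪
    haveI := hR.isCohenMacaulayLocalRing_localization 𝔪
    haveI : (𝔪.map (Ideal.Quotient.mk J)).IsPrime := map_mk_isPrime hJ𝔪
    have hCMB := hRJ.isCohenMacaulayLocalRing_localization (𝔪.map (Ideal.Quotient.mk J))
    have h4 := height_add_height_of_mem_minimalPrimes J 𝔪 hJ𝔪 hCMB hQ hQ𝔪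
    rw [hmin Q hQ, h𝔪, ← hpeq, h3, ← h1, ← WithBot.coe_add, WithBot.coe_inj] at h4
    -- `h + (d + 1) = N`, `k + h + 1 ≤ N`
    set d := LocCoh.depth (Localization.AtPrime p.asIdeal)
      (LocalizedModule p.asIdeal.primeCompl (QuotSMulTop (Ideal.Quotient.mk J f) (R ⧸ J))) with hd
    have hdtop : d ≠ ⊤ := by
      intro htop
      rw [htop] at h4
      simp at h4
    obtain ⟨d', hd'⟩ := ENat.ne_top_iff_exists.mp hdtop
    rw [← hd'] at h4 ⊢
    have h5 : h + (d' + 1) = N := by exact_mod_cast h4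
    have : k ≤ d' := by omega
    exact_mod_cast this
  · haveI : Subsingleton (LocalizedModule p.asIdeal.primeCompl
        (QuotSMulTop (Ideal.Quotient.mk J f) (R ⧸ J))) := by
      refine ⟨fun a b => ?_⟩
      have key : ∀ c : LocalizedModule p.asIdeal.primeCompl
          (QuotSMulTop (Ideal.Quotient.mk J f) (R ⧸ J)), c = 0 := by
        intro c
        induction c using LocalizedModule.induction_on with
        | h m s =>
          rw [← LocalizedModule.zero_mk s, LocalizedModule.mk_eq]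
          refine ⟨⟨Ideal.Quotient.mk J f, hfp⟩, ?_⟩
          obtain ⟨m', rfl⟩ := Submodule.Quotient.mk_surjective _ m
          simp only [smul_zero]
          rw [Submonoid.mk_smul, Submonoid.smul_def, ← Submodule.Quotient.mk_smul,
            ← Submodule.Quotient.mk_smul, Submodule.Quotient.mk_eq_zero]
          exact Submodule.smul_mem_pointwise_smul _ _ _ Submodule.mem_top
      rw [key a, key b]
    rw [depth_eq_top_of_subsingleton]
    exact le_top

end DepthBound

section LES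

open CategoryTheory

variable {R : Type u} [CommRing R] (𝔪 : Ideal R)

/-- If `0 → N₁ → N₂ → N₃ → 0` is exact and `H^j_𝔪(N₃) = 0` for `j ≤ i`, then
`H^i_𝔪(N₂) ≃ H^i_𝔪(N₁)`. -/
theorem nonempty_lc_equiv {N₁ N₂ N₃ : Type u} [AddCommGroup N₁] [Module R N₁]
    [AddCommGroup N₂] [Module R N₂] [AddCommGroup N₃] [Module R N₃]
    (f : N₁ →ₗ[R] N₂) (g : N₂ →ₗ[R] N₃) (hf : Function.Injective f)
    (hg : Function.Surjective g) (hfg : Function.Exact f g) (i : ℕ)
    (hvan : ∀ j : ℕ, j ≤ i → Subsingleton (LocCoh.H 𝔪 j N₃)) :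
    Nonempty (LocCoh.H 𝔪 i N₂ ≃ₗ[R] LocCoh.H 𝔪 i N₁) := by
  have hS := Groth.Agent.Lib.Helper73.PdQuotient.shortExact_of_linear f g hf hg hfg
  set S := ModuleCat.shortComplexOfCompEqZero f g hfg.linearMap_comp_eq_zero with hSdef
  have hinj : Function.Injective ((localCohomology 𝔪 i).map S.f).hom := by
    rw [← LinearMap.ker_eq_bot, LinearMap.ker_eq_bot']
    intro y hy
    cases i with
    | zero =>
      apply lcH0Map_injective 𝔪 S.X₁
      have h1 := lcH0Map_naturality 𝔪 S.f y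
      rw [hy, map_zero] at h1
      have h2 : f (lcH0Map 𝔪 S.X₁ y) = 0 := h1.symm
      rw [map_zero]
      exact hf (h2.trans (map_zero f).symm)
    | succ j =>
      obtain ⟨y₃, hy₃⟩ := lc_exact₁ 𝔪 hS j y hy
      haveI : Subsingleton ((localCohomology 𝔪 j).obj S.X₃) := hvan j (Nat.le_succ j)
      rw [← hy₃, Subsingleton.elim y₃ 0, map_zero]
  have hsurj : Function.Surjective ((localCohomology 𝔪 i).map S.f).hom := by
    intro y
    haveI : Subsingleton ((localCohomology 𝔪 i).obj S.X₃) := hvan i le_rfl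
    exact lc_exact₂ 𝔪 hS i y (Subsingleton.elim _ _)
  exact ⟨(LinearEquiv.ofBijective ((localCohomology 𝔪 i).map S.f).hom ⟨hinj, hsurj⟩).symm⟩

end LES

section Graded

open MvPolynomial

variable (K : Type u) [Field K] (n : ℕ)

theorem irrel_eq_ker : (GrSyz.irrel (GrSyz.stdGr K (Fin (n + 1)))).toIdeal =
    RingHom.ker (constantCoeff : MvPolynomial (Fin (n + 1)) K →+* K) := by
  apply le_antisymm
  · intro p hp
    exact Groth.Agent.Lib.Helper66.constantCoeff_eq_zero_of_mem_irrel K (Fin (n + 1)) p hp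
  · intro p hp
    rw [← Groth.Agent.Lib.Helper66.PdVars.I_top_eq_irrel]
    unfold Groth.Agent.Lib.Helper66.PdVars.I
    rw [mem_ideal_span_X_image]
    intro m hm
    have hm0 : m ≠ 0 := by
      rintro rfl
      rw [mem_support_iff, ← constantCoeff_eq] at hm
      exact hm hp
    obtain ⟨i, hi⟩ : ∃ i, m i ≠ 0 := by
      by_contra hcon
      push Not at hcon
      exact hm0 (Finsupp.ext hcon)
    exact ⟨i, i.isLt, hi⟩

variable {K}

theorem nonempty_lc_equiv_bdl (h : ℕ) (J I : Ideal (MvPolynomial (Fin (n + 1)) K))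
    (hJ : J.IsHomogeneous (GrSyz.stdGr K (Fin (n + 1)))) (hJI : J ≤ I) (hJh : J.height = h)
    [LocCoh.IsCohenMacaulayRing (MvPolynomial (Fin (n + 1)) K ⧸ J)]
    (f : MvPolynomial (Fin (n + 1)) K) (hJf : J.colon {f} = J) (i : ℕ) (hi : i + h < n) :
    Nonempty (LocCoh.H (GrSyz.irrel (GrSyz.stdGr K (Fin (n + 1)))).toIdeal i
        (MvPolynomial (Fin (n + 1)) K ⧸ (J ⊔ Ideal.span {f} * I)) ≃ₗ[MvPolynomial (Fin (n + 1)) K]
      LocCoh.H (GrSyz.irrel (GrSyz.stdGr K (Fin (n + 1)))).toIdeal i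
        (MvPolynomial (Fin (n + 1)) K ⧸ I)) := by
  haveI : LocCoh.IsCohenMacaulayRing K :=
    Groth.Agent.Lib.Helper82.CMPoly.isCohenMacaulayRing_of_isRegularRing K
  haveI hCMR : LocCoh.IsCohenMacaulayRing (MvPolynomial (Fin (n + 1)) K) :=
    Groth.Agent.Lib.Helper82.CMPoly.isCohenMacaulayRing_mvPolynomial (n + 1)
  rw [irrel_eq_ker]
  set 𝔪 : Ideal (MvPolynomial (Fin (n + 1)) K) :=
    RingHom.ker (constantCoeff : MvPolynomial (Fin (n + 1)) K →+* K) with h𝔪
  haveI h𝔪max : 𝔪.IsMaximal := RingHom.ker_isMaximal_of_surjective _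
    (fun a => ⟨C a, constantCoeff_C _ a⟩)
  have hJne : J ≠ ⊤ := by
    intro htop
    rw [htop, Ideal.height_top] at hJh
    exact ENat.top_ne_coe h hJh
  have hJ𝔪 : J ≤ 𝔪 := le_ker_constantCoeff_of_isHomogeneous J hJ hJne
  have h𝔪ht : 𝔪.height = ((n + 1 : ℕ) : ℕ∞) :=
    Groth.Agent.H46.SmoothDim.height_maximal_mvPolynomial K (n + 1) 𝔪
  have hmin : ∀ Q ∈ J.minimalPrimes, Q.height = h := by
    intro Q hQ
    rw [height_eq_of_mem_minimalPrimes_CM n J hJ hQ, hJh]
  have hdepth : ((i + 1 : ℕ) : ℕ∞) ≤ LocCoh.idealDepth 𝔪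
      (MvPolynomial (Fin (n + 1)) K ⧸ (J ⊔ Ideal.span {f})) :=
    le_idealDepth_quot_sup_span J h (n + 1) hmin f hJf 𝔪 h𝔪ht hJ𝔪 (i + 1) (by omega)
  have hvan := (Groth.Agent.Lib.Helper26.LcCM.lc_vanishing_iff_le_idealDepth
    (MvPolynomial (Fin (n + 1)) K) 𝔪
    (MvPolynomial (Fin (n + 1)) K ⧸ (J ⊔ Ideal.span {f})) (i + 1)).mpr hdepth
  refine nonempty_lc_equiv 𝔪 (mulMap J I f) (facMap J I f) (mulMap_injective J I f hJI hJf) ?_
    (exact_mulMap_facMap J I f) i (fun j hj => hvan j (Nat.lt_succ_of_le hj))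
  intro y
  obtain ⟨r, rfl⟩ := Ideal.Quotient.mk_surjective y
  exact ⟨Ideal.Quotient.mk _ r, rfl⟩

end Graded

end Groth.Agent.H34.BDL
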