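import Mathlib

/-! Helper lemmas (helper34): `Submodule.baseChange` versus range / map / smul / inf (flat case). -/

open TensorProduct Pointwise

namespace Groth.Agent.H34

universe u v w

variable {A : Type u} [CommRing A] (B : Type v) [CommRing B] [Algebra A B]
variable {M : Type w} [AddCommGroup M] [Module A M] {N : Type*} [AddCommGroup N] [Module A N]

theorem baseChange_range (g : M →ₗ[A] N) :
    (LinearMap.range g).baseChange B = LinearMap.range (g.baseChange B) := by
  have h1 : g = (LinearMap.range g).subtype ∘ₗ g.rangeRestrict := by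
    ext x; rfl
  have hsurj : Function.Surjective (g.rangeRestrict.baseChange B) := by
    rw [LinearMap.baseChange_eq_ltensor]
    exact LinearMap.lTensor_surjective B g.surjective_rangeRestrict
  conv_rhs => rw [h1, LinearMap.baseChange_comp, LinearMap.range_comp,
    LinearMap.range_eq_top.mpr hsurj, Submodule.map_top]
  rfl

theorem baseChange_map (f : M →ₗ[A] N) (P : Submodule A M) :
    (P.map f).baseChange B = (P.baseChange B).map (f.baseChange B) := by
  have h1 : P.map f = LinearMap.range (f ∘ₗ P.subtype) := by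
    rw [LinearMap.range_comp, Submodule.range_subtype]
  rw [h1, baseChange_range, LinearMap.baseChange_comp, LinearMap.range_comp]
  rfl

theorem baseChange_smul (I : Ideal A) (P : Submodule A M) :
    (I • P).baseChange B = I.map (algebraMap A B) • P.baseChange B := by
  have h1 : I • P = Submodule.span A ((I : Set A) • (P : Set M)) := by
    conv_lhs => rw [← Ideal.span_eq I, ← Submodule.span_eq P]
    rw [Ideal.span, Submodule.span_smul_span]
  rw [h1, Submodule.baseChange_span, Submodule.baseChange_eq_span, Ideal.map, Ideal.span,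
    Submodule.span_smul_span]
  congr 1
  ext z
  simp only [Set.mem_image, Set.mem_smul, SetLike.mem_coe, Submodule.mem_map,
    TensorProduct.mk_apply]
  constructor
  · rintro ⟨_, ⟨r, hr, p, hp, rfl⟩, rfl⟩
    refine ⟨algebraMap A B r, ⟨r, hr, rfl⟩, 1 ⊗ₜ p, ⟨p, hp, rfl⟩, ?_⟩
    rw [TensorProduct.tmul_smul, algebraMap_smul]
  · rintro ⟨_, ⟨r, hr, rfl⟩, _, ⟨p, hp, rfl⟩, rfl⟩
    refine ⟨r • p, ⟨r, hr, p, hp, rfl⟩, ?_⟩
    rw [TensorProduct.tmul_smul, algebraMap_smul]

theorem baseChange_inf_le [Module.Flat A B] (P₁ P₂ : Submodule A N) :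
    P₁.baseChange B ⊓ P₂.baseChange B ≤ (P₁ ⊓ P₂).baseChange B := by
  rintro x ⟨⟨y, rfl⟩, ⟨y₂, hy₂⟩⟩
  let g : P₁ →ₗ[A] N ⧸ P₂ := P₂.mkQ ∘ₗ P₁.subtype
  have hgy : g.baseChange B y = 0 := by
    have : g.baseChange B y = P₂.mkQ.baseChange B (P₁.subtype.baseChange B y) := by
      rw [LinearMap.baseChange_comp]; rfl
    rw [this, ← hy₂, ← LinearMap.comp_apply, ← LinearMap.baseChange_comp]
    have h0 : P₂.mkQ ∘ₗ P₂.subtype = 0 := by
      ext z; simp
    rw [h0, LinearMap.baseChange_zero, LinearMap.zero_apply]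
  have hex := Module.Flat.lTensor_exact B (LinearMap.exact_subtype_ker_map g)
  have hy : y ∈ LinearMap.range ((LinearMap.ker g).subtype.baseChange B) := by
    have := (hex y).mp (by rw [← LinearMap.baseChange_eq_ltensor]; exact hgy)
    rwa [← LinearMap.baseChange_eq_ltensor] at this
  obtain ⟨z, rfl⟩ := hy
  have hle : LinearMap.range (P₁.subtype ∘ₗ (LinearMap.ker g).subtype) ≤ P₁ ⊓ P₂ := by
    rintro _ ⟨w, rfl⟩
    refine ⟨w.1.2, ?_⟩
    have h2 : g w.1 = 0 := LinearMap.mem_ker.mp w.2
    exact (Submodule.Quotient.mk_eq_zero P₂).mp h2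
  apply Submodule.baseChange_mono B hle
  rw [baseChange_range, LinearMap.baseChange_comp]
  exact ⟨z, rfl⟩

end Groth.Agent.H34
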