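import Mathlib

/-!
# McCoy's theorem for injective matrices (helper34)

If `Ψ : R^m → R^n` is injective and `z` kills all `m × m` minors of `Ψ`, then `z = 0`.
-/

set_option autoImplicit false
universe u

namespace Groth.Agent.H34.McCoy

open Matrix

variable {R : Type u} [CommRing R] {n m : ℕ} (Ψ : Matrix (Fin n) (Fin m) R)

/-- Key step: if `z` kills all `(r+1)`-minors of an injective matrix, it kills all `r`-minors
(`r < m`). -/
theorem step (hΨ : ∀ v : Fin m → R, Ψ.mulVec v = 0 → v = 0) (z : R) (r : ℕ) (hr : r < m)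
    (hz : ∀ (f : Fin (r + 1) → Fin n) (g : Fin (r + 1) → Fin m),
      z * (Ψ.submatrix f g).det = 0) :
    ∀ (f : Fin r → Fin n) (g : Fin r → Fin m), z * (Ψ.submatrix f g).det = 0 := by
  intro f g
  by_contra hne
  have hg : Function.Injective g := by
    intro a b hab
    by_contra hne'
    apply hne
    rw [Matrix.det_zero_of_column_eq hne' (fun k => by simp [hab]), mul_zero]
  obtain ⟨c, hc⟩ : ∃ c : Fin m, ∀ j, g j ≠ c := by
    by_contra hcon
    push Not at hcon
    have hsurj : Function.Surjective g := fun c => hcon c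
    have := Fintype.card_le_of_surjective g hsurj
    simp only [Fintype.card_fin] at this
    omega
  let g' : Fin (r + 1) → Fin m := Fin.cons c g
  let coeff : Fin (r + 1) → R := fun j =>
    z * ((-1) ^ (j : ℕ) * (Ψ.submatrix f (g' ∘ j.succAbove)).det)
  let v : Fin m → R := fun k => ∑ j, if g' j = k then coeff j else 0
  have hv : Ψ.mulVec v = 0 := by
    funext i
    have h1 : (Ψ.mulVec v) i = ∑ j, Ψ i (g' j) * coeff j := by
      simp only [Matrix.mulVec, dotProduct, v, Finset.mul_sum]
      rw [Finset.sum_comm]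
      refine Finset.sum_congr rfl fun j _ => ?_
      simp
    have h2 : (Ψ.submatrix (Fin.cons i f : Fin (r + 1) → Fin n) g').det =
        ∑ j : Fin (r + 1), (-1) ^ (j : ℕ) * Ψ i (g' j) *
          (Ψ.submatrix f (g' ∘ j.succAbove)).det := by
      rw [Matrix.det_succ_row_zero]
      refine Finset.sum_congr rfl fun j _ => ?_
      congr 1
    rw [h1, Pi.zero_apply]
    have h3 : ∑ j, Ψ i (g' j) * coeff j =
        z * (Ψ.submatrix (Fin.cons i f : Fin (r + 1) → Fin n) g').det := by
      rw [h2, Finset.mul_sum]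
      refine Finset.sum_congr rfl fun j _ => ?_
      simp only [coeff]
      ring
    rw [h3, hz]
  have hv0 := hΨ v hv
  have hvc : v c = z * (Ψ.submatrix f g).det := by
    simp only [v]
    rw [Fin.sum_univ_succ]
    have h0 : g' 0 = c := Fin.cons_zero _ _
    have hs : ∀ j : Fin r, g' j.succ ≠ c := by
      intro j
      simp only [g', Fin.cons_succ]
      exact hc j
    rw [if_pos h0, Finset.sum_eq_zero (fun j _ => if_neg (hs j)), add_zero]
    simp only [coeff, Fin.val_zero, pow_zero, one_mul]
    congr 2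
  apply hne
  rw [← hvc, hv0, Pi.zero_apply]

/-- **McCoy**: an element killing all maximal minors of an injective matrix is zero. -/
theorem eq_zero_of_mul_minors_eq_zero (hΨ : ∀ v : Fin m → R, Ψ.mulVec v = 0 → v = 0) (z : R)
    (hz : ∀ (f : Fin m → Fin n) (g : Fin m → Fin m), z * (Ψ.submatrix f g).det = 0) : z = 0 := by
  have h0 : ∀ (f : Fin 0 → Fin n) (g : Fin 0 → Fin m), z * (Ψ.submatrix f g).det = 0 := by
    refine Nat.decreasingInduction
      (motive := fun r _ => ∀ (f : Fin r → Fin n) (g : Fin r → Fin m),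
        z * (Ψ.submatrix f g).det = 0) ?_ hz (Nat.zero_le m)
    intro k hk ih
    exact step Ψ hΨ z k hk ih
  have := h0 Fin.elim0 Fin.elim0
  rwa [Matrix.det_isEmpty, mul_one] at this

end Groth.Agent.H34.McCoy
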