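import Mathlib
import Groth.Prelude.Def_CAlgX
import Groth.Agent.H34.McCoy
import Groth.Agent.Lib.Helper66.HilbertBurchB
import Groth.Agent.Lib.Helper29.DepthRees
import Groth.Agent.S12909

/-!
# Hilbert–Burch, forward direction (helper34)

`0 → R^m → R^n → I → 0` exact with `I ≠ 0` over a Noetherian ring: then `n = m + 1`,
`depth_{I_m(Ψ)} R ≥ 2` and `I = a · I_m(Ψ)` for a nonzerodivisor `a`.
-/

set_option autoImplicit false
universe u

namespace Groth.Agent.H34.HilbertBurch

open Matrix

section LemmaA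

variable {R : Type u} [CommRing R] [IsNoetherianRing R]

/-- If no nonzero element of the finite module `M` is killed by `J`, then `J` contains an
`M`-regular element. -/
theorem exists_isSMulRegular_of_forall (J : Ideal R) (M : Type u) [AddCommGroup M] [Module R M]
    [Module.Finite R M] (h : ∀ t : M, (∀ j ∈ J, j • t = 0) → t = 0) :
    ∃ r ∈ J, IsSMulRegular M r := by
  have hsub : Subsingleton ((R ⧸ J) →ₗ[R] M) := by
    refine ⟨fun φ ψ => ?_⟩
    have key : ∀ χ : (R ⧸ J) →ₗ[R] M, χ = 0 := by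
      intro χ
      have h1 : χ (Ideal.Quotient.mk J 1) = 0 := by
        apply h
        intro j hj
        rw [← map_smul]
        have : j • (Ideal.Quotient.mk J 1) = 0 := by
          rw [Algebra.smul_def, map_one, mul_one]
          exact Ideal.Quotient.eq_zero_iff_mem.mpr hj
        rw [this, map_zero]
      apply LinearMap.ext
      intro y
      obtain ⟨r, rfl⟩ := Ideal.Quotient.mk_surjective y
      have : Ideal.Quotient.mk J r = r • Ideal.Quotient.mk J 1 := by
        rw [Algebra.smul_def, map_one, mul_one]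
        rfl
      rw [this, map_smul, h1, smul_zero, LinearMap.zero_apply]
    rw [key φ, key ψ]
  obtain ⟨r, hr, hreg⟩ := IsSMulRegular.subsingleton_linearMap_iff.mp hsub
  rw [Ideal.annihilator_quotient] at hr
  exact ⟨r, hr, hreg⟩

end LemmaA

variable {R : Type u} [CommRing R] {m n : ℕ}
  (Ψ : Matrix (Fin n) (Fin m) R) (π : (Fin n → R) →ₗ[R] R)

include Ψ π in
theorem exists_nzd [IsNoetherianRing R] (hΨ : LinearMap.ker Ψ.mulVecLin = ⊥)
    (hex : LinearMap.ker π = LinearMap.range Ψ.mulVecLin) (hI : LinearMap.range π ≠ ⊥) :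
    ∃ x : R, x ∈ LinearMap.range π ∧ x ∈ nonZeroDivisors R :=
  Groth.Agent.S12909.result 1 le_rfl (fun i => Nat.casesOn i n (fun _ => m))
    (fun i => match i with
      | 0 => Ψ
      | (_ + 1) => 0) π hI hex (by intro i hi; omega) hΨ

theorem pi_comp (hex : LinearMap.ker π = LinearMap.range Ψ.mulVecLin) (u : Fin m → R) :
    π (Ψ.mulVec u) = 0 := by
  have : Ψ.mulVec u ∈ LinearMap.ker π := by
    rw [hex]
    exact ⟨u, rfl⟩
  exact this

theorem inj (hΨ : LinearMap.ker Ψ.mulVecLin = ⊥) (u : Fin m → R) (h : Ψ.mulVec u = 0) : u = 0 :=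
  (LinearMap.ker_eq_bot'.mp hΨ) u h

theorem exists_of_pi_eq_zero (hex : LinearMap.ker π = LinearMap.range Ψ.mulVecLin)
    (w : Fin n → R) (h : π w = 0) : ∃ u, Ψ.mulVec u = w := by
  have : w ∈ LinearMap.range Ψ.mulVecLin := by
    rw [← hex]
    exact h
  exact this


/-- `n = m + 1`. -/
theorem eq_succ (hΨ : LinearMap.ker Ψ.mulVecLin = ⊥)
    (hex : LinearMap.ker π = LinearMap.range Ψ.mulVecLin) (w : Fin n → R)
    (hx : π w ∈ nonZeroDivisors R) [Nontrivial R] : n = m + 1 := by
  set x := π w with hxdef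
  have hxreg : ∀ b : R, x * b = 0 → b = 0 := fun b hb =>
    (mem_nonZeroDivisors_iff_right.mp hx) b (by rw [mul_comm]; exact hb)
  -- β : R^m × R → R^n injective
  let β : ((Fin m → R) × R) →ₗ[R] (Fin n → R) :=
    Ψ.mulVecLin.coprod (LinearMap.toSpanSingleton R (Fin n → R) w)
  have hβ : Function.Injective β := by
    rw [injective_iff_map_eq_zero]
    rintro ⟨u, c⟩ huc
    have h1 : Ψ.mulVec u + c • w = 0 := by
      simpa [β, LinearMap.coprod_apply, LinearMap.toSpanSingleton_apply] using huc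
    have h2 : c * x = 0 := by
      have := congrArg π h1
      rw [map_add, pi_comp Ψ π hex, zero_add, map_smul, map_zero, smul_eq_mul] at this
      exact this
    have hc : c = 0 := hxreg c (by rw [mul_comm]; exact h2)
    rw [hc, zero_smul, add_zero] at h1
    rw [inj Ψ hΨ u h1, hc]
    rfl
  have h1 : m + 1 ≤ n := by
    have := LinearMap.finrank_le_finrank_of_injective hβ
    simpa [Module.finrank_prod, Module.finrank_fin_fun] using this
  -- α : R^n → range Ψ × R injective
  let γ : (Fin n → R) →ₗ[R] (Fin n → R) := x • LinearMap.id - π.smulRight w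
  have hγ : ∀ v, γ v ∈ LinearMap.range Ψ.mulVecLin := by
    intro v
    rw [← hex, LinearMap.mem_ker]
    simp only [γ, LinearMap.sub_apply, LinearMap.smul_apply, LinearMap.id_apply,
      LinearMap.smulRight_apply, map_sub, map_smul, smul_eq_mul]
    rw [← hxdef]; ring
  let e := LinearEquiv.ofInjective Ψ.mulVecLin (LinearMap.ker_eq_bot.mp hΨ)
  let α : (Fin n → R) →ₗ[R] ((Fin m → R) × R) :=
    (e.symm.toLinearMap ∘ₗ (γ.codRestrict _ hγ)).prod π
  have hα : Function.Injective α := by
    rw [injective_iff_map_eq_zero]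
    intro v hv
    have hv1 : e.symm (γ.codRestrict _ hγ v) = 0 := congrArg Prod.fst hv
    have hv2 : π v = 0 := congrArg Prod.snd hv
    have hv3 : γ.codRestrict _ hγ v = 0 := by
      have := congrArg e hv1
      rwa [LinearEquiv.apply_symm_apply, map_zero] at this
    have hv4 : γ v = 0 := congrArg Subtype.val hv3
    simp only [γ, LinearMap.sub_apply, LinearMap.smul_apply, LinearMap.id_apply,
      LinearMap.smulRight_apply, hv2, zero_smul, sub_zero] at hv4
    funext i
    exact hxreg (v i) (congrFun hv4 i)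
  have h2 : n ≤ m + 1 := by
    have := LinearMap.finrank_le_finrank_of_injective hα
    simpa [Module.finrank_prod, Module.finrank_fin_fun] using this
  omega


/-- McCoy over `R`: an element killed by all maximal minors is zero. -/
theorem ann_minorIdeal (hΨ : LinearMap.ker Ψ.mulVecLin = ⊥) (z : R)
    (hz : ∀ j ∈ CAlgX.minorIdeal Ψ m, j * z = 0) : z = 0 := by
  apply McCoy.eq_zero_of_mul_minors_eq_zero Ψ (inj Ψ hΨ) z
  intro f g
  rw [mul_comm]
  exact hz _ (Ideal.subset_span ⟨(f, g), rfl⟩)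

/-- `Ψ` stays injective modulo a nonzerodivisor `x`. -/
theorem inj_mod (hΨ : LinearMap.ker Ψ.mulVecLin = ⊥)
    (hex : LinearMap.ker π = LinearMap.range Ψ.mulVecLin) (x : R) (hx : IsSMulRegular R x)
    (v' : Fin m → R ⧸ Ideal.span {x})
    (h : (Ψ.map (Ideal.Quotient.mk (Ideal.span {x}))).mulVec v' = 0) : v' = 0 := by
  have hsurj := fun i => Ideal.Quotient.mk_surjective (v' i)
  choose v hv using hsurj
  have hv' : v' = (Ideal.Quotient.mk (Ideal.span {x})) ∘ v := by
    funext i
    exact (hv i).symm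
  rw [hv'] at h
  have h1 : ∀ i, (Ψ.mulVec v) i ∈ Ideal.span {x} := by
    intro i
    rw [← Ideal.Quotient.eq_zero_iff_mem, RingHom.map_mulVec, h]
    rfl
  have h2 := fun i => Ideal.mem_span_singleton'.mp (h1 i)
  choose w' hw' using h2
  have h3 : Ψ.mulVec v = x • w' := by
    funext i
    rw [Pi.smul_apply, smul_eq_mul, mul_comm, hw']
  have h4 : π w' = 0 := by
    have := congrArg π h3
    rw [pi_comp Ψ π hex, map_smul] at this
    apply hx
    show x • π w' = x • 0
    rw [← this, smul_zero]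
  obtain ⟨u, hu⟩ := exists_of_pi_eq_zero Ψ π hex w' h4
  have h5 : Ψ.mulVec (v - x • u) = 0 := by
    rw [Matrix.mulVec_sub, Matrix.mulVec_smul, hu, h3, sub_self]
  have h6 := inj Ψ hΨ _ h5
  rw [hv']
  funext i
  have h7 : v i = x * u i := by
    have := congrFun h6 i
    simp only [Pi.sub_apply, Pi.smul_apply, smul_eq_mul, Pi.zero_apply] at this
    exact sub_eq_zero.mp this
  show Ideal.Quotient.mk (Ideal.span {x}) (v i) = 0
  rw [h7, Ideal.Quotient.eq_zero_iff_mem, Ideal.mem_span_singleton']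
  exact ⟨u i, mul_comm _ _⟩

/-- depth of `I_m(Ψ)` is at least two. -/
theorem two_le_depth [IsNoetherianRing R] (hΨ : LinearMap.ker Ψ.mulVecLin = ⊥)
    (hex : LinearMap.ker π = LinearMap.range Ψ.mulVecLin) :
    2 ≤ LocCoh.idealDepth (CAlgX.minorIdeal Ψ m) R := by
  set J := CAlgX.minorIdeal Ψ m with hJ
  obtain ⟨x, hxJ, hxreg⟩ := exists_isSMulRegular_of_forall J R (fun t ht =>
    ann_minorIdeal Ψ hΨ t (fun j hj => ht j hj))
  obtain ⟨y, hyJ, hyreg⟩ := exists_isSMulRegular_of_forall J (QuotSMulTop x R) (by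
    intro t ht
    obtain ⟨z, rfl⟩ := Submodule.Quotient.mk_surjective _ t
    have h1 : ∀ j ∈ J, j * z ∈ Ideal.span {x} := by
      intro j hj
      have := ht j hj
      rw [← Submodule.Quotient.mk_smul, Submodule.Quotient.mk_eq_zero,
        Submodule.mem_smul_pointwise_iff_exists] at this
      obtain ⟨b, -, hb⟩ := this
      rw [Ideal.mem_span_singleton']
      exact ⟨b, by rw [mul_comm]; exact hb⟩
    have h2 : Ideal.Quotient.mk (Ideal.span {x}) z = 0 := by
      apply McCoy.eq_zero_of_mul_minors_eq_zero (Ψ.map (Ideal.Quotient.mk (Ideal.span {x})))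
        (inj_mod Ψ π hΨ hex x hxreg)
      intro f g
      rw [Matrix.submatrix_map, ← RingHom.mapMatrix_apply, ← RingHom.map_det, ← map_mul,
        Ideal.Quotient.eq_zero_iff_mem, mul_comm]
      exact h1 _ (Ideal.subset_span ⟨(f, g), rfl⟩)
    rw [Ideal.Quotient.eq_zero_iff_mem, Ideal.mem_span_singleton'] at h2
    obtain ⟨a, ha⟩ := h2
    rw [Submodule.Quotient.mk_eq_zero, Submodule.mem_smul_pointwise_iff_exists]
    exact ⟨a, Submodule.mem_top, by rw [smul_eq_mul, mul_comm, ha]⟩)
  have h2 : ((2 : ℕ) : ℕ∞) ≤ LocCoh.idealDepth J R := by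
    rw [Groth.Agent.Lib.Helper29.le_idealDepth_iff]
    right
    refine ⟨[x, y], rfl, ?_, ?_⟩
    · intro r hr
      simp only [List.mem_cons, List.not_mem_nil, or_false] at hr
      rcases hr with rfl | rfl
      · exact hxJ
      · exact hyJ
    · rw [RingTheory.Sequence.isWeaklyRegular_cons_iff,
        RingTheory.Sequence.isWeaklyRegular_cons_iff]
      exact ⟨hxreg, hyreg, RingTheory.Sequence.IsWeaklyRegular.nil R _⟩
  exact_mod_cast h2


/-- The final identification `I = a · I_t(Ψ)`. -/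
theorem exists_eq_mul [IsNoetherianRing R] {t : ℕ} (Ψ : Matrix (Fin (t + 1)) (Fin t) R)
    (π : (Fin (t + 1) → R) →ₗ[R] R)
    (hex : LinearMap.ker π = LinearMap.range Ψ.mulVecLin)
    (x₀ : R) (hx₀ : x₀ ∈ LinearMap.range π) (hx₀' : x₀ ∈ nonZeroDivisors R)
    (hdepth : 2 ≤ LocCoh.idealDepth (CAlgX.minorIdeal Ψ t) R) :
    ∃ a : R, a ∈ nonZeroDivisors R ∧
      LinearMap.range π = Ideal.span {a} * CAlgX.minorIdeal Ψ t := by
  obtain ⟨-, hker, hrange⟩ :=
    Groth.Agent.Lib.Helper66.HilbertBurch.hilbertBurch_exact Ψ hdepth 1 (one_mem _)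
  set π' : (Fin (t + 1) → R) →ₗ[R] R := Fintype.linearCombination R
    (fun i : Fin (t + 1) => (1 : R) * ((-1 : R) ^ (i : ℕ) * (Ψ.submatrix i.succAbove id).det))
    with hπ'
  set J := CAlgX.minorIdeal Ψ t with hJ
  have hrange' : LinearMap.range π' = J := by
    rw [hrange, Ideal.span_singleton_one, Ideal.top_mul]
  have hkk : ∀ w, π' w = 0 → π w = 0 := by
    intro w hw
    have h1 : w ∈ LinearMap.ker π' := hw
    rw [hker, ← hex] at h1
    exact h1
  obtain ⟨x, y, hxJ, hyJ, hxreg, hxy⟩ :=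
    Groth.Agent.Lib.Helper66.HilbertBurch.exists_regular_pair J hdepth
  obtain ⟨wx, hwx⟩ : ∃ w, π' w = x := by
    have : x ∈ LinearMap.range π' := by rw [hrange']; exact hxJ
    exact this
  obtain ⟨wy, hwy⟩ : ∃ w, π' w = y := by
    have : y ∈ LinearMap.range π' := by rw [hrange']; exact hyJ
    exact this
  have h1 : y * π wx = x * π wy := by
    have h0 : π' (y • wx - x • wy) = 0 := by
      rw [map_sub, map_smul, map_smul, hwx, hwy, smul_eq_mul, smul_eq_mul]; ring
    have := hkk _ h0
    rw [map_sub, map_smul, map_smul, smul_eq_mul, smul_eq_mul] at this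
    exact sub_eq_zero.mp this
  obtain ⟨a, ha⟩ := hxy _ _ h1
  have h2 : ∀ w, π w = a * π' w := by
    intro w
    have h0 : π' (x • w - (π' w) • wx) = 0 := by
      rw [map_sub, map_smul, map_smul, hwx, smul_eq_mul, smul_eq_mul]; ring
    have := hkk _ h0
    rw [map_sub, map_smul, map_smul, smul_eq_mul, smul_eq_mul, ha] at this
    apply hxreg
    show x • π w = x • (a * π' w)
    rw [smul_eq_mul, smul_eq_mul]
    linear_combination this
  refine ⟨a, ?_, ?_⟩
  · obtain ⟨w₀, hw₀⟩ := hx₀
    rw [mem_nonZeroDivisors_iff_right]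
    intro b hb
    apply (mem_nonZeroDivisors_iff_right.mp hx₀') b
    rw [← hw₀, h2, ← mul_assoc, hb, zero_mul]
  · apply le_antisymm
    · rintro _ ⟨w, rfl⟩
      rw [h2]
      apply Ideal.mul_mem_mul (Ideal.mem_span_singleton_self a)
      rw [← hrange']
      exact ⟨w, rfl⟩
    · rw [Ideal.span_singleton_mul_le_iff]
      intro j hj
      rw [← hrange'] at hj
      obtain ⟨w, rfl⟩ := hj
      exact ⟨w, h2 w⟩

end Groth.Agent.H34.HilbertBurch
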