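import Mathlib
import Groth.Prelude.Def_CAlg
import Groth.Agent.H34.HilbertBurch
import Groth.Agent.S0605
import Groth.Agent.Lib.Helper29.DepthQuot

/-!
# Cohen–Macaulay quotients of codimension two of a regular local ring (helper34)

`A` regular local, `A/I` Cohen–Macaulay with `dim A/I + 2 = dim A`: then `I` is generated by the
maximal minors of an `(r+1) × r` matrix (Hilbert–Burch resolution), `r + 1 = μ(I)`.
-/

set_option autoImplicit false
universe u

namespace Groth.Agent.H34.CMCodimTwo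

open CategoryTheory IsLocalRing

variable (A : Type u) [CommRing A] [IsRegularLocalRing A] (I : Ideal A)

/-- `pd_A (A/I) ≤ 2`. -/
theorem pd_quot [LocCoh.IsCohenMacaulayLocalRing (A ⧸ I)]
    (hcodim : ringKrullDim (A ⧸ I) + 2 = ringKrullDim A) :
    HasProjectiveDimensionLT (ModuleCat.of A (A ⧸ I)) 3 := by
  obtain ⟨e, he, hsum⟩ := Groth.Agent.S0605.pd_add_depth A (A ⧸ I)
  have hdep : LocCoh.depth (A ⧸ I) (A ⧸ I) = LocCoh.depth A (A ⧸ I) :=
    Groth.Agent.Lib.Helper29.depth_self_eq_depth_of_surjective (R := A) (R' := A ⧸ I)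
      Ideal.Quotient.mk_surjective
  have hCM : Module.supportDim (A ⧸ I) (A ⧸ I) =
      ((LocCoh.depth (A ⧸ I) (A ⧸ I) : ℕ∞) : WithBot ℕ∞) :=
    LocCoh.IsCohenMacaulayLocalRing.supportDim_eq_depth
  rw [Module.supportDim_self_eq_ringKrullDim] at hCM
  have hdimA : ringKrullDim A = ((maximalIdeal A).spanFinrank : ℕ) :=
    (IsRegularLocalRing.spanFinrank_maximalIdeal (R := A)).symm
  rw [hCM, hdimA, hdep] at hcodim
  set D := LocCoh.depth A (A ⧸ I) with hD
  set s := (maximalIdeal A).spanFinrank with hs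
  have hDtop : D ≠ ⊤ := by
    intro htop
    rw [htop] at hsum
    simp at hsum
  obtain ⟨D', hD'⟩ := ENat.ne_top_iff_exists.mp hDtop
  rw [← hD'] at hsum hcodim
  have h1 : D' + 2 = s := by
    have h' : (((D' + 2 : ℕ) : ℕ∞) : WithBot ℕ∞) = (((s : ℕ) : ℕ∞) : WithBot ℕ∞) := by
      push_cast
      exact hcodim
    have := WithBot.coe_injective h'
    exact_mod_cast this
  have h2 : s = e + D' := by exact_mod_cast hsum
  have he2 : e = 2 := by omega
  subst he2
  have : HasProjectiveDimensionLE (ModuleCat.of A (A ⧸ I)) 2 :=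
    (projectiveDimension_le_iff _ 2).mp (le_of_eq he)
  exact this


/-- If `pd (A/I) ≤ 2`, the kernel of a surjection from a finite free module onto `I` is free. -/
theorem free_ker (h : HasProjectiveDimensionLT (ModuleCat.of A (A ⧸ I)) 3) {n : ℕ}
    (π : (Fin n → A) →ₗ[A] ↥I) (hπ : Function.Surjective π) :
    Module.Free A (LinearMap.ker π) := by
  -- first syzygy
  have hS₁ : (Submodule.mkQ I).shortComplexKer.ShortExact :=
    LinearMap.shortExact_shortComplexKer (Submodule.mkQ_surjective I)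
  have hA : Projective (ModuleCat.of A A) := (IsProjective.iff_projective A).mp inferInstance
  have h2 : HasProjectiveDimensionLT (Submodule.mkQ I).shortComplexKer.X₂ 2 := by
    change HasProjectiveDimensionLT (ModuleCat.of A A) 2
    exact hasProjectiveDimensionLT_of_ge _ 1 2 (by omega)
  have h3 : HasProjectiveDimensionLT (Submodule.mkQ I).shortComplexKer.X₃ (2 + 1) := h
  have h1 := hS₁.hasProjectiveDimensionLT_X₁ 2 h2 h3
  have hI : HasProjectiveDimensionLT (ModuleCat.of A ↥I) 2 :=
    hasProjectiveDimensionLT_of_iso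
      (LinearEquiv.ofEq _ _ (Submodule.ker_mkQ I)).toModuleIso 2
  -- second syzygy
  have hS₂ : π.shortComplexKer.ShortExact := LinearMap.shortExact_shortComplexKer hπ
  have hF : Projective (ModuleCat.of A (Fin n → A)) :=
    (IsProjective.iff_projective (Fin n → A)).mp inferInstance
  have h2' : HasProjectiveDimensionLT π.shortComplexKer.X₂ 1 := by
    change HasProjectiveDimensionLT (ModuleCat.of A (Fin n → A)) 1
    infer_instance
  have h3' : HasProjectiveDimensionLT π.shortComplexKer.X₃ (1 + 1) := hI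
  have h1' := hS₂.hasProjectiveDimensionLT_X₁ 1 h2' h3'
  have hproj : Projective (ModuleCat.of A (LinearMap.ker π)) :=
    projective_iff_hasProjectiveDimensionLT_one.mpr h1'
  have : Module.Projective A (LinearMap.ker π) := (IsProjective.iff_projective _).mpr hproj
  exact Module.free_of_flat_of_isLocalRing


/-- arithmetic in `WithBot ℕ∞` -/
theorem arith_false (x : WithBot ℕ∞) (s : ℕ) (h1 : x + 2 = (s : WithBot ℕ∞))
    (h2 : (s : WithBot ℕ∞) ≤ x + 1) : False := by
  induction x with
  | bot => simp at h1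
  | coe x =>
    induction x with
    | top =>
      have : ((⊤ : ℕ∞) : WithBot ℕ∞) + 2 = ((⊤ : ℕ∞) : WithBot ℕ∞) := rfl
      rw [this] at h1
      have h3 : ((⊤ : ℕ∞) : WithBot ℕ∞) = (((s : ℕ) : ℕ∞) : WithBot ℕ∞) := h1
      have := WithBot.coe_injective h3
      simp at this
    | coe y =>
      have h1' : (((y + 2 : ℕ) : ℕ∞) : WithBot ℕ∞) = (((s : ℕ) : ℕ∞) : WithBot ℕ∞) := by
        push_cast
        exact h1
      have e1 : y + 2 = s := by exact_mod_cast WithBot.coe_injective h1'
      have h2' : (((s : ℕ) : ℕ∞) : WithBot ℕ∞) ≤ (((y + 1 : ℕ) : ℕ∞) : WithBot ℕ∞) := by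
        push_cast
        exact h2
      have e2 : s ≤ y + 1 := by exact_mod_cast WithBot.coe_le_coe.mp h2'
      omega

/-- An element `a` with `I ⊆ (a)` is a unit (for dimension reasons). -/
theorem isUnit_of_le_span (hcodim : ringKrullDim (A ⧸ I) + 2 = ringKrullDim A) (a : A)
    (hle : I ≤ Ideal.span {a}) : IsUnit a := by
  by_contra hna
  have ham : a ∈ maximalIdeal A := (mem_maximalIdeal a).mpr hna
  have hjac : Ideal.span {a} ≤ Ring.jacobson A := by
    rw [IsLocalRing.ringJacobson_eq_maximalIdeal]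
    exact (Ideal.span_singleton_le_iff_mem _).mpr ham
  have h1 := ringKrullDim_le_ringKrullDim_quotient_add_spanFinrank (Ideal.span {a}) hjac
  have hsf : (Ideal.span {a}).spanFinrank ≤ 1 := by
    have := Submodule.spanFinrank_span_le_ncard_of_finite (R := A) (Set.finite_singleton a)
    simpa using this
  have h2 : ringKrullDim (A ⧸ Ideal.span {a}) ≤ ringKrullDim (A ⧸ I) :=
    ringKrullDim_le_of_surjective (Ideal.Quotient.factor hle)
      (Ideal.Quotient.factor_surjective hle)
  have hdimA : ringKrullDim A = ((maximalIdeal A).spanFinrank : ℕ) :=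
    (IsRegularLocalRing.spanFinrank_maximalIdeal (R := A)).symm
  have h3 : ringKrullDim A ≤ ringKrullDim (A ⧸ I) + 1 := by
    calc ringKrullDim A ≤ ringKrullDim (A ⧸ Ideal.span {a}) + (Ideal.span {a}).spanFinrank := h1
      _ ≤ ringKrullDim (A ⧸ I) + (1 : ℕ) := by
        gcongr
      _ = ringKrullDim (A ⧸ I) + 1 := by norm_num
  rw [hdimA] at hcodim h3
  exact arith_false _ _ hcodim h3


open Groth.Agent.Lib.Helper66.HilbertBurch in
/-- From a resolution `0 → A^r → A^n → I → 0` with `n = μ(I)` to the Hilbert–Burch form. -/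
theorem core2 (hcodim : ringKrullDim (A ⧸ I) + 2 = ringKrullDim A) (n r : ℕ)
    (Ψ : Matrix (Fin n) (Fin r) A) (π' : (Fin n → A) →ₗ[A] A)
    (hΨ : LinearMap.ker Ψ.mulVecLin = ⊥)
    (hex : LinearMap.ker π' = LinearMap.range Ψ.mulVecLin)
    (hrange : LinearMap.range π' = I) (hIne : I ≠ ⊥) (hn : n = I.spanFinrank) :
    ∃ (r : ℕ) (φ : Matrix (Fin (r + 1)) (Fin r) A),
      Ideal.span (Set.range (fun i : Fin (r + 1) =>
        (-1 : A) ^ (i : ℕ) * (φ.submatrix i.succAbove id).det)) = I ∧
      I.spanFinrank = r + 1 ∧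
      Function.Injective φ.mulVecLin ∧
      LinearMap.range φ.mulVecLin =
        LinearMap.ker (Fintype.linearCombination A (fun i : Fin (r + 1) =>
          (-1 : A) ^ (i : ℕ) * (φ.submatrix i.succAbove id).det)) := by
  have hI' : LinearMap.range π' ≠ ⊥ := by rw [hrange]; exact hIne
  obtain ⟨x₀, hx₀, hx₀'⟩ := Groth.Agent.H34.HilbertBurch.exists_nzd Ψ π' hΨ hex hI'
  obtain ⟨w₀, hw₀⟩ := hx₀
  have hnr : n = r + 1 :=
    Groth.Agent.H34.HilbertBurch.eq_succ Ψ π' hΨ hex w₀ (by rw [hw₀]; exact hx₀')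
  subst hnr
  have hdepth := Groth.Agent.H34.HilbertBurch.two_le_depth Ψ π' hΨ hex
  obtain ⟨a, -, hIa⟩ :=
    Groth.Agent.H34.HilbertBurch.exists_eq_mul Ψ π' hex x₀ ⟨w₀, hw₀⟩ hx₀' hdepth
  rw [hrange] at hIa
  have hle : I ≤ Ideal.span {a} := by
    rw [hIa]
    exact Ideal.mul_le_left (I := Ideal.span {a}) (J := CAlgX.minorIdeal Ψ r)
  have hau : IsUnit a := isUnit_of_le_span A I hcodim a hle
  have hIJ : I = CAlgX.minorIdeal Ψ r := by
    rw [hIa, Ideal.span_singleton_eq_top.mpr hau, Ideal.top_mul]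
  obtain ⟨-, hker, -⟩ := hilbertBurch_exact Ψ hdepth 1 (one_mem _)
  refine ⟨r, Ψ, ?_, hn.symm, LinearMap.ker_eq_bot.mp hΨ, ?_⟩
  · rw [hIJ, minorIdeal_eq]
    apply le_antisymm
    · rw [Ideal.span_le]
      rintro _ ⟨i, rfl⟩
      exact Ideal.mul_mem_left _ _ (Ideal.subset_span ⟨i, rfl⟩)
    · rw [Ideal.span_le]
      rintro _ ⟨i, rfl⟩
      have : d Ψ i = (-1 : A) ^ (i : ℕ) * ((-1 : A) ^ (i : ℕ) * (Ψ.submatrix i.succAbove id).det) := by
        rw [← mul_assoc, ← pow_add, ← two_mul, pow_mul]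
        simp [d]
      rw [this]
      exact Ideal.mul_mem_left _ _ (Ideal.subset_span ⟨i, rfl⟩)
  · rw [← hker]
    simp only [one_mul]


/-- The main theorem. -/
theorem main [LocCoh.IsCohenMacaulayLocalRing (A ⧸ I)]
    (hcodim : ringKrullDim (A ⧸ I) + 2 = ringKrullDim A) :
    ∃ (r : ℕ) (φ : Matrix (Fin (r + 1)) (Fin r) A),
      Ideal.span (Set.range (fun i : Fin (r + 1) =>
        (-1 : A) ^ (i : ℕ) * (φ.submatrix i.succAbove id).det)) = I ∧
      I.spanFinrank = r + 1 ∧
      Function.Injective φ.mulVecLin ∧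
      LinearMap.range φ.mulVecLin =
        LinearMap.ker (Fintype.linearCombination A (fun i : Fin (r + 1) =>
          (-1 : A) ^ (i : ℕ) * (φ.submatrix i.succAbove id).det)) := by
  -- `I ≠ ⊥`
  have hIne : I ≠ ⊥ := by
    intro hbot
    have hdimA : ringKrullDim A = ((maximalIdeal A).spanFinrank : ℕ) :=
      (IsRegularLocalRing.spanFinrank_maximalIdeal (R := A)).symm
    have e : (A ⧸ I) ≃+* A := (Ideal.quotEquivOfEq hbot).trans (RingEquiv.quotientBot A)
    rw [ringKrullDim_eq_of_ringEquiv e, hdimA] at hcodim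
    apply arith_false _ _ hcodim
    exact_mod_cast Nat.le_succ _
  -- a generating family of `I` of cardinality `μ(I)`
  obtain ⟨s, hcard, hspan⟩ :=
    Submodule.FG.exists_span_finset_card_eq_spanFinrank (p := I) I.fg_of_isNoetherianRing
  obtain ⟨n, hn⟩ : ∃ n : ℕ, n = I.spanFinrank := ⟨_, rfl⟩
  let eqv : Fin n ≃ s := (Finset.equivFinOfCardEq (hcard.trans hn.symm)).symm
  let g : Fin n → A := fun i => (eqv i : A)
  have hgrange : Set.range g = (s : Set A) := by
    ext x
    constructor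
    · rintro ⟨i, rfl⟩
      exact (eqv i).2
    · intro hx
      exact ⟨eqv.symm ⟨x, hx⟩, by simp [g]⟩
  let π' : (Fin n → A) →ₗ[A] A := Fintype.linearCombination A g
  have hrange : LinearMap.range π' = I := by
    rw [Fintype.range_linearCombination, hgrange]
    exact hspan
  have hmem : ∀ v, π' v ∈ I := fun v => by
    rw [← hrange]
    exact ⟨v, rfl⟩
  let π : (Fin n → A) →ₗ[A] ↥I := π'.codRestrict I hmem
  have hπ : Function.Surjective π := by
    rintro ⟨y, hy⟩
    rw [← hrange] at hy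
    obtain ⟨v, hv⟩ := hy
    exact ⟨v, Subtype.ext hv⟩
  have hkerπ : LinearMap.ker π = LinearMap.ker π' := LinearMap.ker_codRestrict _ _ _
  have hfree : Module.Free A (LinearMap.ker π) := free_ker A I (pd_quot A I hcodim) π hπ
  let r := Module.finrank A (LinearMap.ker π)
  let b : Module.Basis (Fin r) A (LinearMap.ker π) := Module.finBasis A (LinearMap.ker π)
  let Ψ : Matrix (Fin n) (Fin r) A := Matrix.of fun i j => (b j : Fin n → A) i
  have hmul : ∀ v : Fin r → A, Ψ.mulVec v = ((∑ j, v j • b j : LinearMap.ker π) : Fin n → A) := by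
    intro v
    funext i
    simp only [Matrix.mulVec, dotProduct, Ψ, Matrix.of_apply, Submodule.coe_sum,
      Submodule.coe_smul, Finset.sum_apply, Pi.smul_apply, smul_eq_mul]
    exact Finset.sum_congr rfl fun j _ => mul_comm _ _
  have hΨ : LinearMap.ker Ψ.mulVecLin = ⊥ := by
    rw [LinearMap.ker_eq_bot']
    intro v hv
    rw [Matrix.mulVecLin_apply, hmul] at hv
    have h0 : (∑ j, v j • b j : LinearMap.ker π) = 0 := Subtype.ext hv
    funext j
    exact Fintype.linearIndependent_iff.mp b.linearIndependent v h0 j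
  have hex : LinearMap.ker π' = LinearMap.range Ψ.mulVecLin := by
    rw [← hkerπ]
    ext w
    constructor
    · intro hw
      refine ⟨b.equivFun ⟨w, hw⟩, ?_⟩
      rw [Matrix.mulVecLin_apply, hmul, b.sum_equivFun]
    · rintro ⟨v, rfl⟩
      rw [Matrix.mulVecLin_apply, hmul]
      exact (∑ j, v j • b j : LinearMap.ker π).2
  exact core2 A I hcodim n r Ψ π' hΨ hex hrange hIne hn

end Groth.Agent.H34.CMCodimTwo
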