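import Mathlib

/-!
# Cokernels of `Hom(-, A/J)` and `J`-torsion of duals (helper34)

* `nonempty_quot_smul_equiv`: for `ι : A^r → F` with `F` projective,
  `coker(Hom(F, A/J) → Hom(A^r, A/J)) ≃ P / J P` with `P = coker(Hom(F, A) → Hom(A^r, A))`.
* `nonempty_hom_quot_smul_equiv`: `Hom(P / J P, E) ≃ Hom(P, E)[J]`.
* `length_torsionBySet_quot_add`: `ℓ((A/I)[J]) + ℓ(A/(I : J)) = ℓ(A/I)`.
-/

set_option autoImplicit false
universe u

namespace Groth.Agent.H34.CokerBC

variable {A : Type*} [CommRing A]

section B1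

variable {F : Type*} [AddCommGroup F] [Module A F] [Module.Projective A F]

theorem nonempty_quot_smul_equiv (r : ℕ) (ι : (Fin r → A) →ₗ[A] F) (J : Ideal A) :
    Nonempty
      (((((Fin r → A) →ₗ[A] A) ⧸ LinearMap.range (LinearMap.lcomp A A ι)) ⧸
          (J • ⊤ : Submodule A
            (((Fin r → A) →ₗ[A] A) ⧸ LinearMap.range (LinearMap.lcomp A A ι)))) ≃ₗ[A]
        (((Fin r → A) →ₗ[A] (A ⧸ J)) ⧸ LinearMap.range (LinearMap.lcomp A (A ⧸ J) ι))) := by
  classical
  let q : A →ₗ[A] A ⧸ J := Submodule.mkQ J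
  have hq : Function.Surjective q := Submodule.mkQ_surjective J
  let cR : ((Fin r → A) →ₗ[A] A) →ₗ[A] ((Fin r → A) →ₗ[A] (A ⧸ J)) := LinearMap.compRight A q
  have hle : LinearMap.range (LinearMap.lcomp A A ι) ≤
      (LinearMap.range (LinearMap.lcomp A (A ⧸ J) ι)).comap cR := by
    rintro _ ⟨h, rfl⟩
    exact ⟨q ∘ₗ h, rfl⟩
  let Φ := Submodule.mapQ _ _ cR hle
  have hΦ : ∀ g : (Fin r → A) →ₗ[A] A, Φ (Submodule.Quotient.mk g) =
      Submodule.Quotient.mk (q ∘ₗ g) := fun g => rfl
  have hsurj : Function.Surjective Φ := by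
    intro c
    obtain ⟨g, rfl⟩ := Submodule.Quotient.mk_surjective _ c
    obtain ⟨g', hg'⟩ := Module.projective_lifting_property q g hq
    exact ⟨Submodule.Quotient.mk g', by rw [hΦ, hg']⟩
  have hkill : ∀ a ∈ J, ∀ c : ((Fin r → A) →ₗ[A] (A ⧸ J)) ⧸
      LinearMap.range (LinearMap.lcomp A (A ⧸ J) ι), a • c = 0 := by
    intro a ha c
    obtain ⟨g, rfl⟩ := Submodule.Quotient.mk_surjective _ c
    rw [← Submodule.Quotient.mk_smul]
    have : a • g = 0 := by
      refine LinearMap.ext fun x => ?_
      rw [LinearMap.smul_apply, LinearMap.zero_apply]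
      obtain ⟨y, hy⟩ := hq (g x)
      rw [← hy, ← map_smul]
      change Submodule.Quotient.mk (a • y) = (0 : A ⧸ J)
      rw [Submodule.Quotient.mk_eq_zero]
      exact J.mul_mem_right y ha
    rw [this, Submodule.Quotient.mk_zero]
  have hker : LinearMap.ker Φ = J • ⊤ := by
    apply le_antisymm
    · intro p hp
      obtain ⟨g, rfl⟩ := Submodule.Quotient.mk_surjective _ p
      rw [LinearMap.mem_ker, hΦ, Submodule.Quotient.mk_eq_zero] at hp
      obtain ⟨h, hh⟩ := hp
      obtain ⟨h', hh'⟩ := Module.projective_lifting_property q h hq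
      have hh2 : h ∘ₗ ι = q ∘ₗ g := hh
      let g' : (Fin r → A) →ₗ[A] A := g - h' ∘ₗ ι
      have hg'J : ∀ x, g' x ∈ J := by
        intro x
        have h1 : q (g' x) = 0 := by
          change q (g x - h' (ι x)) = 0
          rw [map_sub, sub_eq_zero]
          have h2 := LinearMap.congr_fun hh2 x
          have h3 := LinearMap.congr_fun hh' (ι x)
          simp only [LinearMap.comp_apply] at h2 h3
          rw [h3, h2]
        exact (Submodule.Quotient.mk_eq_zero J).mp h1
      have hmk : (Submodule.Quotient.mk g : ((Fin r → A) →ₗ[A] A) ⧸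
          LinearMap.range (LinearMap.lcomp A A ι)) = Submodule.Quotient.mk g' := by
        rw [Submodule.Quotient.eq]
        refine ⟨h', ?_⟩
        change h' ∘ₗ ι = g - (g - h' ∘ₗ ι)
        abel
      have hsum : g' = ∑ j : Fin r, g' (Pi.single j 1) • (LinearMap.proj j : (Fin r → A) →ₗ[A] A) := by
        refine LinearMap.ext fun x => ?_
        rw [LinearMap.pi_apply_eq_sum_univ g' x, LinearMap.sum_apply]
        refine Finset.sum_congr rfl (fun j _ => ?_)
        rw [LinearMap.smul_apply, LinearMap.proj_apply, smul_eq_mul, smul_eq_mul, mul_comm]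
        congr 2
        ext i
        simp [Pi.single_apply, eq_comm]
      rw [hmk, hsum]
      change Submodule.mkQ _ _ ∈ _
      rw [map_sum]
      refine Submodule.sum_mem _ (fun j _ => ?_)
      rw [map_smul]
      exact Submodule.smul_mem_smul (hg'J _) Submodule.mem_top
    · rw [Submodule.smul_le]
      intro a ha p _
      rw [LinearMap.mem_ker, map_smul]
      exact hkill a ha _
  exact ⟨(Submodule.quotEquivOfEq _ _ hker.symm).trans (Φ.quotKerEquivOfSurjective hsurj)⟩

end B1

section B2

variable {P E : Type*} [AddCommGroup P] [Module A P] [AddCommGroup E] [Module A E]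

theorem nonempty_hom_quot_smul_equiv (J : Ideal A) :
    Nonempty (((P ⧸ (J • ⊤ : Submodule A P)) →ₗ[A] E) ≃ₗ[A]
      Submodule.torsionBySet A (P →ₗ[A] E) (J : Set A)) := by
  let Ψ : ((P ⧸ (J • ⊤ : Submodule A P)) →ₗ[A] E) →ₗ[A]
      Submodule.torsionBySet A (P →ₗ[A] E) (J : Set A) :=
    (LinearMap.lcomp A E (Submodule.mkQ (J • ⊤ : Submodule A P))).codRestrict _ (by
      intro f
      rw [Submodule.mem_torsionBySet_iff]
      rintro ⟨a, ha⟩
      ext p
      change a • f (Submodule.Quotient.mk p) = 0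
      rw [← map_smul, ← Submodule.Quotient.mk_smul,
        (Submodule.Quotient.mk_eq_zero _).mpr (Submodule.smul_mem_smul ha Submodule.mem_top),
        map_zero])
  refine ⟨LinearEquiv.ofBijective Ψ ⟨?_, ?_⟩⟩
  · intro f f' h
    have h' : f ∘ₗ Submodule.mkQ _ = f' ∘ₗ Submodule.mkQ _ := congrArg Subtype.val h
    ext p
    exact LinearMap.congr_fun h' p
  · rintro ⟨g, hg⟩
    rw [Submodule.mem_torsionBySet_iff] at hg
    have hle : (J • ⊤ : Submodule A P) ≤ LinearMap.ker g := by
      rw [Submodule.smul_le]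
      intro a ha p _
      rw [LinearMap.mem_ker, map_smul]
      exact LinearMap.congr_fun (hg ⟨a, ha⟩) p
    refine ⟨Submodule.liftQ _ g hle, ?_⟩
    apply Subtype.ext
    ext p
    rfl

end B2

section B3

theorem length_torsionBySet_quot_add (I J : Ideal A) :
    Module.length A (Submodule.torsionBySet A (A ⧸ I) (J : Set A)) +
      Module.length A (A ⧸ I.colon (J : Set A)) = Module.length A (A ⧸ I) := by
  have hle : I ≤ I.colon (J : Set A) := by
    intro x hx
    rw [Submodule.mem_colon]
    intro s _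
    exact I.mul_mem_right s hx
  let g : (A ⧸ I) →ₗ[A] (A ⧸ I.colon (J : Set A)) :=
    Submodule.mapQ I (I.colon (J : Set A)) LinearMap.id hle
  have hg : ∀ a : A, g (Submodule.Quotient.mk a) = Submodule.Quotient.mk a := fun a => rfl
  have hgs : Function.Surjective g := by
    intro y
    obtain ⟨a, rfl⟩ := Submodule.Quotient.mk_surjective _ y
    exact ⟨Submodule.Quotient.mk a, hg a⟩
  refine (Module.length_eq_add_of_exact (Submodule.torsionBySet A (A ⧸ I) (J : Set A)).subtype g
    (Submodule.subtype_injective _) hgs ?_).symm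
  intro x
  obtain ⟨a, rfl⟩ := Submodule.Quotient.mk_surjective _ x
  rw [hg, Submodule.Quotient.mk_eq_zero, Submodule.mem_colon]
  have key : (∀ s ∈ (J : Set A), a • s ∈ I) ↔
      (Submodule.Quotient.mk a : A ⧸ I) ∈ Submodule.torsionBySet A (A ⧸ I) (J : Set A) := by
    rw [Submodule.mem_torsionBySet_iff]
    constructor
    · rintro h ⟨s, hs⟩
      change s • (Submodule.Quotient.mk a : A ⧸ I) = 0
      rw [← Submodule.Quotient.mk_smul, Submodule.Quotient.mk_eq_zero, smul_eq_mul, mul_comm]
      exact h s hs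
    · intro h s hs
      have := h ⟨s, hs⟩
      change s • (Submodule.Quotient.mk a : A ⧸ I) = 0 at this
      rw [← Submodule.Quotient.mk_smul, Submodule.Quotient.mk_eq_zero, smul_eq_mul, mul_comm] at this
      exact this
  rw [key]
  constructor
  · intro h
    exact ⟨⟨_, h⟩, rfl⟩
  · rintro ⟨y, hy⟩
    rw [← hy]
    exact y.2

end B3

end Groth.Agent.H34.CokerBC
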