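import Mathlib
import Groth.Agent.H34.FlatteningIdeal
import Groth.Agent.H76.LocalCrit2

/-!
# Base change of flatness at primes (helper34)
-/

set_option autoImplicit false
open TensorProduct
universe u

namespace Groth.Agent.H34.FlatBC

open Groth.Agent.H34.FlatteningIdeal

section Ktors

variable {R S : Type*} [CommRing R] [CommRing S] [Algebra R S]
  {M : Type*} [AddCommGroup M] [Module R M] [Module S M] [IsScalarTower R S M]
  (W : Submonoid S) {X Y : Type*} [AddCommGroup X] [Module R X] [AddCommGroup Y] [Module R Y]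
  (u : X →ₗ[R] Y)

theorem exists_smul_eq_zero_of_lTensor_localized_injective
    (h : Function.Injective (u.lTensor (LocalizedModule W M))) (a : M ⊗[R] X)
    (ha : u.lTensor M a = 0) : ∃ w ∈ W, w • a = 0 := by
  have h1 : (u.lTensor (LocalizedModule W M))
      ((AlgebraTensorModule.rTensor R X (LocalizedModule.mkLinearMap W M)) a) = 0 := by
    have : (u.lTensor (LocalizedModule W M))
        ((((LocalizedModule.mkLinearMap W M).restrictScalars R).rTensor X) a) =
        (((LocalizedModule.mkLinearMap W M).restrictScalars R).rTensor Y) (u.lTensor M a) := by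
      rw [← LinearMap.comp_apply, ← LinearMap.comp_apply, LinearMap.lTensor_comp_rTensor,
        LinearMap.rTensor_comp_lTensor]
    rw [ha, map_zero] at this
    exact this
  have h2 : (AlgebraTensorModule.rTensor R X (LocalizedModule.mkLinearMap W M)) a = 0 :=
    h (h1.trans (map_zero _).symm)
  obtain ⟨w, hw⟩ := (IsLocalizedModule.eq_zero_iff W
    (AlgebraTensorModule.rTensor R X (LocalizedModule.mkLinearMap W M))).mp h2
  exact ⟨w, w.2, hw⟩

theorem lTensor_localized_injective_of_forall
    (h : ∀ a : M ⊗[R] X, u.lTensor M a = 0 → ∃ w ∈ W, w • a = 0) :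
    Function.Injective (u.lTensor (LocalizedModule W M)) := by
  rw [injective_iff_map_eq_zero]
  intro z hz
  obtain ⟨⟨a, w⟩, haw⟩ := IsLocalizedModule.surj W
    (AlgebraTensorModule.rTensor R X (LocalizedModule.mkLinearMap W M)) z
  have hnat : (u.lTensor (LocalizedModule W M))
      ((AlgebraTensorModule.rTensor R X (LocalizedModule.mkLinearMap W M)) a) =
      (AlgebraTensorModule.rTensor R Y (LocalizedModule.mkLinearMap W M)) (u.lTensor M a) := by
    show (u.lTensor (LocalizedModule W M))
        ((((LocalizedModule.mkLinearMap W M).restrictScalars R).rTensor X) a) =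
        (((LocalizedModule.mkLinearMap W M).restrictScalars R).rTensor Y) (u.lTensor M a)
    rw [← LinearMap.comp_apply, ← LinearMap.comp_apply, LinearMap.lTensor_comp_rTensor,
      LinearMap.rTensor_comp_lTensor]
  have hlin : ∀ (s : S) (t : (LocalizedModule W M) ⊗[R] X),
      (u.lTensor (LocalizedModule W M)) (s • t) = s • (u.lTensor (LocalizedModule W M)) t :=
    fun s t => (AlgebraTensorModule.lTensor S (LocalizedModule W M) u).map_smul s t
  have hlin' : ∀ (s : S) (t : M ⊗[R] X), (u.lTensor M) (s • t) = s • (u.lTensor M) t :=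
    fun s t => (AlgebraTensorModule.lTensor S M u).map_smul s t
  have h1 : (AlgebraTensorModule.rTensor R Y (LocalizedModule.mkLinearMap W M)) (u.lTensor M a) = 0 := by
    rw [← hnat, ← haw]
    show (u.lTensor (LocalizedModule W M)) ((w : S) • z) = 0
    rw [hlin, hz, smul_zero]
  obtain ⟨w₂, hw₂⟩ := (IsLocalizedModule.eq_zero_iff W
    (AlgebraTensorModule.rTensor R Y (LocalizedModule.mkLinearMap W M))).mp h1
  have h2 : u.lTensor M ((w₂ : S) • a) = 0 := by
    rw [hlin']
    exact hw₂
  obtain ⟨w₃, hw₃, h3⟩ := h _ h2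
  have h4 : (AlgebraTensorModule.rTensor R X (LocalizedModule.mkLinearMap W M)) a = 0 := by
    rw [IsLocalizedModule.eq_zero_iff W]
    refine ⟨⟨w₃, hw₃⟩ * w₂, ?_⟩
    rw [Submonoid.smul_def, Submonoid.coe_mul, mul_smul]
    exact h3
  rw [h4] at haw
  exact IsLocalizedModule.smul_injective
    (AlgebraTensorModule.rTensor R X (LocalizedModule.mkLinearMap W M)) w
    (haw.trans (smul_zero _).symm)

end Ktors

section BC

variable {R S R' S' : Type u} [CommRing R] [CommRing S] [CommRing R'] [CommRing S']
  [Algebra R S] [Algebra R R'] [Algebra S S'] [Algebra R' S'] [Algebra R S'] [IsScalarTower R S S']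
  [IsScalarTower R R' S'] [Algebra.IsPushout R S R' S']
  {M M' : Type u} [AddCommGroup M] [Module S M] [Module R M] [IsScalarTower R S M]
  [AddCommGroup M'] [Module S' M'] [Module R' M'] [IsScalarTower R' S' M'] [Module S M']
  [IsScalarTower S S' M']
  (f : M →ₗ[S] M') (hf : IsBaseChange S' f)
  (X : Type u) [AddCommGroup X] [Module R' X] [Module R X] [IsScalarTower R R' X]

variable (R R') in
/-- `M ⊗[R] X ≃ M' ⊗[R'] X` for an `R'`-module `X`. -/
noncomputable def psi : M ⊗[R] X ≃+ M' ⊗[R'] X :=
  haveI : Algebra.IsPushout R R' S S' := Algebra.IsPushout.symm inferInstance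
  (TensorProduct.comm R M X).toAddEquiv.trans <|
  (AlgebraTensorModule.cancelBaseChange R R' R' X M).symm.toAddEquiv.trans <|
  (TensorProduct.comm R' X (R' ⊗[R] M)).toAddEquiv.trans <|
  (LinearEquiv.rTensor X ((Algebra.IsPushout.cancelBaseChange R R' S S' M).symm ≪≫ₗ
    (hf.equiv.restrictScalars R'))).toAddEquiv

theorem psi_tmul (m : M) (x : X) : psi R R' f hf X (m ⊗ₜ x) = f m ⊗ₜ[R'] x := by
  haveI : Algebra.IsPushout R R' S S' := Algebra.IsPushout.symm inferInstance
  simp [psi, IsBaseChange.equiv_tmul]

theorem psi_smul (s : S) (t : M ⊗[R] X) :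
    psi R R' f hf X (s • t) = algebraMap S S' s • psi R R' f hf X t := by
  induction t with
  | zero => simp
  | tmul m x =>
    rw [TensorProduct.smul_tmul', psi_tmul, psi_tmul, map_smul, TensorProduct.smul_tmul',
      algebraMap_smul]
  | add a b ha hb => rw [smul_add, map_add, map_add, smul_add, ha, hb]

theorem psi_lTensor {Y : Type u} [AddCommGroup Y] [Module R' Y] [Module R Y] [IsScalarTower R R' Y]
    (u : X →ₗ[R'] Y) (t : M ⊗[R] X) :
    psi R R' f hf Y (((u.restrictScalars R).lTensor M) t) = (u.lTensor M') (psi R R' f hf X t) := by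
  induction t with
  | zero => simp
  | tmul m x => simp [psi_tmul]
  | add a b ha hb => rw [map_add, map_add, map_add, map_add, ha, hb]

include hf in
/-- Flatness at a prime of `S'` from the `TInj` property at the contracted prime. -/
theorem flat_localized_baseChange (J : Ideal R) (hJ : J ≤ RingHom.ker (algebraMap R R'))
    (q' : Ideal S') [q'.IsPrime] (q : Ideal S) [q.IsPrime] (hq : q = q'.comap (algebraMap S S'))
    (hT : TInj J (LocalizedModule q.primeCompl M)) :
    Module.Flat R' (LocalizedModule q'.primeCompl M') := by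
  rw [Module.Flat.iff_lTensor_preserves_injective_linearMap]
  intro X Y _ _ _ _ u hu
  letI : Module R X := Module.compHom X (algebraMap R R')
  letI : Module R Y := Module.compHom Y (algebraMap R R')
  haveI : IsScalarTower R R' X := IsScalarTower.of_algebraMap_smul (fun _ _ => rfl)
  haveI : IsScalarTower R R' Y := IsScalarTower.of_algebraMap_smul (fun _ _ => rfl)
  apply lTensor_localized_injective_of_forall
  intro a ha
  obtain ⟨a₀, rfl⟩ := (psi R R' f hf X).surjective a
  have h0 : ((u.restrictScalars R).lTensor M) a₀ = 0 := by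
    apply (psi R R' f hf Y).injective
    rw [psi_lTensor, ha, map_zero]
  have hTl : Function.Injective
      ((u.restrictScalars R).lTensor (LocalizedModule q.primeCompl M)) := by
    rw [LinearMap.lTensor_inj_iff_rTensor_inj]
    apply hT X Y (u.restrictScalars R) hu
    intro i hi y
    have : algebraMap R R' i = 0 := hJ hi
    show algebraMap R R' i • y = 0
    rw [this, zero_smul]
  obtain ⟨s, hs, hsa⟩ := exists_smul_eq_zero_of_lTensor_localized_injective q.primeCompl
    (u.restrictScalars R) hTl a₀ h0
  refine ⟨algebraMap S S' s, ?_, ?_⟩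
  · intro hmem
    apply hs
    rw [hq]
    exact hmem
  · rw [← psi_smul, hsa, map_zero]

end BC

end Groth.Agent.H34.FlatBC
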