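import Mathlib
import Groth.Agent.H34.FlatteningIdeal
import Groth.Agent.H34.FlatBC

/-!
# Flatness modulo the ideal `I₂ = ker (I → Γ(U, I/I²))` (helper34)
-/

set_option autoImplicit false
open TensorProduct
universe u

namespace Groth.Agent.H34.FlatOnOpen

open Groth.Agent.H34.FlatteningIdeal

variable {A : Type u} [CommRing A] (M : Type u) [AddCommGroup M] [Module A M]

/-- `TInj` passes to quotient rings. -/
theorem tinj_map_quotient (K J : Ideal A) (hJ : TInj J M) :
    TInj (J.map (Ideal.Quotient.mk K)) ((A ⧸ K) ⊗[A] M) := by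
  intro X Y _ _ _ _ u hu hY
  letI : Module A X := Module.compHom X (Ideal.Quotient.mk K)
  letI : Module A Y := Module.compHom Y (Ideal.Quotient.mk K)
  haveI : IsScalarTower A (A ⧸ K) X := IsScalarTower.of_algebraMap_smul (fun _ _ => rfl)
  haveI : IsScalarTower A (A ⧸ K) Y := IsScalarTower.of_algebraMap_smul (fun _ _ => rfl)
  apply Groth.Agent.H76.PowFlat.rTensor_baseChange_injective (R := A)
  apply hJ
  · exact hu
  · intro i hi y
    exact hY _ (Ideal.mem_map_of_mem _ hi) y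

theorem lTensor_comm {X Y : Type u} [AddCommGroup X] [Module A X] [AddCommGroup Y] [Module A Y]
    (ι : X →ₗ[A] Y) (z : X ⊗[A] M) :
    ι.lTensor M (TensorProduct.comm A X M z) = TensorProduct.comm A Y M (ι.rTensor M z) := by
  induction z with
  | zero => simp
  | tmul x m => simp
  | add a b ha hb => simp only [map_add, ha, hb]

/-- The crux: an element of `X ⊗ M` killed by `ι ⊗ M` is locally zero at primes where `M` is
flat. -/
theorem exists_smul_eq_zero {X Y : Type u} [AddCommGroup X] [Module A X] [AddCommGroup Y]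
    [Module A Y] (ι : X →ₗ[A] Y) (hι : Function.Injective ι) (p : Ideal A) [p.IsPrime]
    [Module.Flat A (LocalizedModule p.primeCompl M)] (z : X ⊗[A] M) (hz : ι.rTensor M z = 0) :
    ∃ s : A, s ∉ p ∧ s • z = 0 := by
  have hinj : Function.Injective (ι.lTensor (LocalizedModule p.primeCompl M)) :=
    Module.Flat.lTensor_preserves_injective_linearMap ι hι
  obtain ⟨w, hw, hwa⟩ :=
    Groth.Agent.H34.FlatBC.exists_smul_eq_zero_of_lTensor_localized_injective (R := A) (S := A)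
      (M := M) p.primeCompl ι hinj (TensorProduct.comm A X M z)
      (by rw [lTensor_comm, hz, map_zero])
  refine ⟨w, hw, ?_⟩
  apply (TensorProduct.comm A X M).injective
  rw [map_smul, hwa, map_zero]

/-- If `z` is killed locally at all points of `D(f)`, then it is killed by a power of `f`. -/
theorem exists_pow_smul_eq_zero {Z : Type u} [AddCommGroup Z] [Module A Z] (z : Z) (f : A)
    (h : ∀ (p : Ideal A) [p.IsPrime], f ∉ p → ∃ s : A, s ∉ p ∧ s • z = 0) :
    ∃ n : ℕ, f ^ n • z = 0 := by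
  let 𝔞 : Ideal A := LinearMap.ker (LinearMap.toSpanSingleton A Z z)
  have hmem : ∀ a : A, a ∈ 𝔞 ↔ a • z = 0 := fun a => by
    simp [𝔞, LinearMap.mem_ker, LinearMap.toSpanSingleton_apply]
  have hf : f ∈ 𝔞.radical := by
    rw [Ideal.radical_eq_sInf, Ideal.mem_sInf]
    rintro p ⟨hp1, hp2⟩
    by_contra hfp
    obtain ⟨s, hs, hsz⟩ := h p hfp
    exact hs (hp1 ((hmem s).mpr hsz))
  obtain ⟨n, hn⟩ := hf
  exact ⟨n, (hmem _).mp hn⟩

variable (I I₂ : Ideal A) (t : Finset A)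

/-- Main theorem, `TInj` form. -/
theorem main (hI : TInj I M)
    (hflat : ∀ (p : Ideal A) [p.IsPrime], (∃ f ∈ t, f ∉ p) →
      Module.Flat A (LocalizedModule p.primeCompl M))
    (hI₂ : ∀ x : A, x ∈ I₂ ↔ x ∈ I ∧ ∀ (p : Ideal A) [p.IsPrime], (∃ f ∈ t, f ∉ p) →
      ∃ s : A, s ∉ p ∧ s * x ∈ I ^ 2) :
    Module.Flat (A ⧸ I₂) ((A ⧸ I₂) ⊗[A] M) := by
  classical
  have hsq : I ^ 2 ≤ I₂ := by
    intro x hx
    rw [hI₂]
    refine ⟨Ideal.pow_le_self (by norm_num) hx, fun p _ _ => ⟨1, ?_, by rwa [one_mul]⟩⟩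
    exact fun h1 => (‹p.IsPrime›).ne_top ((Ideal.eq_top_iff_one _).mpr h1)
  have hI₂I : I₂ ≤ I := fun x hx => ((hI₂ x).mp hx).1
  set Ibar : Ideal (A ⧸ I₂) := I.map (Ideal.Quotient.mk I₂) with hIbar
  have hnil : IsNilpotent Ibar := by
    refine ⟨2, ?_⟩
    rw [hIbar, ← Ideal.map_pow, Ideal.zero_eq_bot, Ideal.map_eq_bot_iff_le_ker, Ideal.mk_ker]
    exact hsq
  haveI : Module.Flat ((A ⧸ I₂) ⧸ Ibar) (((A ⧸ I₂) ⧸ Ibar) ⊗[A ⧸ I₂] ((A ⧸ I₂) ⊗[A] M)) :=
    flat_of_tinj _ Ibar (tinj_map_quotient M I₂ I hI)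
  -- the injectivity
  have hmemIbar : ∀ x : Ibar, ∃ a ∈ I, Ideal.Quotient.mk I₂ a = x.1 := fun x =>
    (Ideal.mem_map_iff_of_surjective _ Ideal.Quotient.mk_surjective).mp x.2
  have hkill : ∀ i ∈ I, ∀ x : Ibar, i • x = 0 := by
    intro i hi x
    obtain ⟨a, ha, hax⟩ := hmemIbar x
    apply Subtype.ext
    rw [Submodule.coe_smul_of_tower, Submodule.coe_zero, ← hax]
    have : i • (Ideal.Quotient.mk I₂ a) = Ideal.Quotient.mk I₂ (i * a) := rfl
    rw [this, Ideal.Quotient.eq_zero_iff_mem]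
    apply hsq
    rw [pow_two]
    exact Ideal.mul_mem_mul hi ha
  have h : Function.Injective (LinearMap.rTensor ((A ⧸ I₂) ⊗[A] M) (Submodule.subtype Ibar)) := by
    apply Groth.Agent.H76.PowFlat.rTensor_baseChange_injective (R := A)
    set ι : Ibar →ₗ[A] (A ⧸ I₂) := (Submodule.subtype Ibar).restrictScalars A with hι
    have hιinj : Function.Injective ι := Subtype.val_injective
    rw [injective_iff_map_eq_zero]
    intro z hz
    -- Step 2
    have hpow : ∀ f : t, ∃ n : ℕ, (f.1 ^ n) • z = 0 := by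
      intro f
      refine exists_pow_smul_eq_zero z f.1 ?_
      intro p _ hfp
      haveI := hflat p ⟨f.1, f.2, hfp⟩
      exact exists_smul_eq_zero M ι hιinj p z hz
    choose n hn using hpow
    -- Step 3
    let φ : Ibar →ₗ[A] (t → Ibar) := LinearMap.pi (fun f => (f.1 ^ n f) • LinearMap.id)
    have hφ : Function.Injective φ := by
      rw [injective_iff_map_eq_zero]
      intro x hx
      obtain ⟨a, ha, hax⟩ := hmemIbar x
      have ha2 : a ∈ I₂ := by
        rw [hI₂]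
        refine ⟨ha, ?_⟩
        intro p _ ⟨f, hft, hfp⟩
        have h1 : (f ^ n ⟨f, hft⟩) • x = 0 := congrFun hx ⟨f, hft⟩
        have h2 : f ^ n ⟨f, hft⟩ * a ∈ I₂ := by
          rw [← Ideal.Quotient.eq_zero_iff_mem, map_mul, hax]
          have := congrArg Subtype.val h1
          rw [Submodule.coe_smul_of_tower, Submodule.coe_zero] at this
          exact this
        obtain ⟨s, hs, hsa⟩ := ((hI₂ _).mp h2).2 p ⟨f, hft, hfp⟩
        refine ⟨s * f ^ n ⟨f, hft⟩, ?_, by rwa [mul_assoc]⟩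
        intro hmem
        rcases (‹p.IsPrime›).mem_or_mem hmem with h3 | h3
        · exact hs h3
        · exact hfp ((‹p.IsPrime›).mem_of_pow_mem _ h3)
      apply Subtype.ext
      rw [← hax, Submodule.coe_zero, Ideal.Quotient.eq_zero_iff_mem]
      exact ha2
    have hφM : Function.Injective (φ.rTensor M) := by
      apply hI _ _ φ hφ
      intro i hi y
      funext f
      exact hkill i hi (y f)
    let e : (t → Ibar) ⊗[A] M ≃ₗ[A] (t → M ⊗[A] Ibar) :=
      (TensorProduct.comm A (t → Ibar) M) ≪≫ₗ TensorProduct.piRight A A M (fun _ : t => Ibar)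
    have he : ∀ (w : Ibar ⊗[A] M) (f : t), e (φ.rTensor M w) f =
        (f.1 ^ n f) • (TensorProduct.comm A Ibar M w) := by
      intro w f
      induction w with
      | zero => simp
      | tmul x m =>
        simp [e, φ, TensorProduct.tmul_smul]
      | add a b ha hb =>
        simp only [map_add, Pi.add_apply, ha, hb, smul_add]
    apply hφM
    rw [map_zero]
    apply e.injective
    rw [map_zero]
    funext f
    rw [he, ← map_smul, hn f, map_zero]
    rfl
  exact Groth.Agent.H76.NilFlat.flat_of_nilpotent Ibar ((A ⧸ I₂) ⊗[A] M) h hnil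

/-- `(A ⧸ I) ⊗[A] M ≃ M ⧸ I M`, linearly over `A ⧸ I`. -/
noncomputable def quotTensorEquiv (J : Ideal A) :
    ((A ⧸ J) ⊗[A] M) ≃ₗ[A ⧸ J] (M ⧸ (J • ⊤ : Submodule A M)) :=
  LinearEquiv.extendScalarsOfSurjective Ideal.Quotient.mk_surjective
    (TensorProduct.quotTensorEquivQuotSMul M J)

/-- Main theorem, for a quasi-compact open subset of the spectrum. -/
theorem main' (U : Set (PrimeSpectrum A)) (hU : IsOpen U) (hUc : IsCompact U)
    [Module.Flat (A ⧸ I) (M ⧸ (I • ⊤ : Submodule A M))]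
    (hflat : ∀ p ∈ U, Module.Flat A (LocalizedModule p.asIdeal.primeCompl M))
    (hI₂ : ∀ x : A, x ∈ I₂ ↔ x ∈ I ∧ ∀ p ∈ U, ∃ s : A, s ∉ p.asIdeal ∧ s * x ∈ I ^ 2) :
    Module.Flat (A ⧸ I₂) (M ⧸ (I₂ • ⊤ : Submodule A M)) := by
  obtain ⟨t, ht⟩ := PrimeSpectrum.isCompact_isOpen_iff.mp ⟨hUc, hU⟩
  have hmemU : ∀ (p : Ideal A) [hp : p.IsPrime], (∃ f ∈ t, f ∉ p) →
      (⟨p, hp⟩ : PrimeSpectrum A) ∈ U := by
    intro p hp ⟨f, hft, hfp⟩
    rw [← ht, Set.mem_compl_iff, PrimeSpectrum.mem_zeroLocus]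
    intro hsub
    exact hfp (hsub hft)
  have hmemU' : ∀ p ∈ U, ∃ f ∈ t, f ∉ p.asIdeal := by
    intro p hp
    rw [← ht, Set.mem_compl_iff, PrimeSpectrum.mem_zeroLocus, Set.not_subset] at hp
    obtain ⟨f, hft, hfp⟩ := hp
    exact ⟨f, hft, hfp⟩
  haveI : Module.Flat (A ⧸ I) ((A ⧸ I) ⊗[A] M) :=
    Module.Flat.of_linearEquiv (quotTensorEquiv M I)
  have hI : TInj I M := tinj_of_flat M I
  haveI := main M I I₂ t hI (fun p hp h => hflat ⟨p, hp⟩ (hmemU p h))
    (fun x => by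
      rw [hI₂]
      constructor
      · rintro ⟨h1, h2⟩
        exact ⟨h1, fun p hp h => h2 ⟨p, hp⟩ (hmemU p h)⟩
      · rintro ⟨h1, h2⟩
        exact ⟨h1, fun p hp => h2 p.asIdeal (hmemU' p hp)⟩)
  exact Module.Flat.of_linearEquiv (quotTensorEquiv M I₂).symm

end Groth.Agent.H34.FlatOnOpen
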