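import Mathlib
import Groth.Agent.H34.FlatBC
import Groth.Agent.H34.ArtinDescent

/-!
# Universality of the flattening ideal over a complete local ring (helper34)
-/

set_option autoImplicit false
open TensorProduct
universe u

namespace Groth.Agent.H34.FlatteningUniv

open Groth.Agent.H34.FlatteningIdeal Groth.Agent.H34.FlatBC

section Step1

variable {R' S' : Type u} [CommRing R'] [IsLocalRing R'] [CommRing S'] [Algebra R' S']
  {M' : Type u} [AddCommGroup M'] [Module S' M'] [Module R' M'] [IsScalarTower R' S' M']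

/-- Flatness at all primes over the maximal ideal gives the `TInj` property for all powers of the
maximal ideal. -/
theorem tinj_pow_of_forall_flat
    (h : ∀ (q' : Ideal S') [q'.IsPrime],
      q'.comap (algebraMap R' S') = IsLocalRing.maximalIdeal R' →
      Module.Flat R' (LocalizedModule q'.primeCompl M'))
    (n : ℕ) : TInj (IsLocalRing.maximalIdeal R' ^ n) M' := by
  intro X Y _ _ _ _ u hu hY
  rw [← LinearMap.lTensor_inj_iff_rTensor_inj, injective_iff_map_eq_zero]
  intro a ha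
  by_contra hne
  let 𝔄 : Ideal S' := LinearMap.ker (LinearMap.toSpanSingleton S' (M' ⊗[R'] X) a)
  have h𝔄 : ∀ s, s ∈ 𝔄 ↔ s • a = 0 := fun s => by
    simp [𝔄, LinearMap.toSpanSingleton_apply]
  have h𝔄top : 𝔄 ≠ ⊤ := by
    intro htop
    apply hne
    have h1 : (1 : S') ∈ 𝔄 := htop ▸ Submodule.mem_top
    have := (h𝔄 1).mp h1
    rwa [one_smul] at this
  obtain ⟨q', hq'max, hq'le⟩ := Ideal.exists_le_maximal 𝔄 h𝔄top
  haveI := hq'max.isPrime
  have hX : ∀ i ∈ IsLocalRing.maximalIdeal R' ^ n, ∀ x : X, i • x = 0 := fun i hi x =>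
    hu (by rw [map_smul, hY i hi, map_zero])
  have hkill : ∀ i ∈ IsLocalRing.maximalIdeal R' ^ n, ∀ t : M' ⊗[R'] X, i • t = 0 := by
    intro i hi t
    induction t with
    | zero => simp
    | tmul m x => rw [← TensorProduct.tmul_smul, hX i hi, TensorProduct.tmul_zero]
    | add a b ha hb => rw [smul_add, ha, hb, add_zero]
  have hcomap : q'.comap (algebraMap R' S') = IsLocalRing.maximalIdeal R' := by
    apply le_antisymm
    · exact IsLocalRing.le_maximalIdeal (Ideal.comap_ne_top _ hq'max.ne_top)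
    · intro r hr
      rw [Ideal.mem_comap]
      apply hq'max.isPrime.mem_of_pow_mem n
      apply hq'le
      rw [h𝔄, ← map_pow, algebraMap_smul]
      exact hkill _ (Ideal.pow_mem_pow hr n) a
  haveI := h q' hcomap
  have hinj : Function.Injective (u.lTensor (LocalizedModule q'.primeCompl M')) :=
    Module.Flat.lTensor_preserves_injective_linearMap u hu
  obtain ⟨w, hw, hwa⟩ :=
    exists_smul_eq_zero_of_lTensor_localized_injective q'.primeCompl u hinj a ha
  exact hw (hq'le ((h𝔄 w).mpr hwa))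

end Step1

section Step2

variable {R S R' S' : Type u} [CommRing R] [CommRing S] [CommRing R'] [CommRing S']
  [IsLocalRing R] [IsLocalRing R']
  [Algebra R S] [Algebra R R'] [IsLocalHom (algebraMap R R')] [Algebra S S'] [Algebra R' S']
  [Algebra R S'] [IsScalarTower R S S']
  [IsScalarTower R R' S'] [Algebra.IsPushout R S R' S']
  {M M' : Type u} [AddCommGroup M] [Module S M] [Module R M] [IsScalarTower R S M]
  [AddCommGroup M'] [Module S' M'] [Module R' M'] [IsScalarTower R' S' M'] [Module S M']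
  [IsScalarTower S S' M']
  (f : M →ₗ[S] M') (hf : IsBaseChange S' f)

include hf in
theorem tinj_comap_pow
    (h : ∀ (q' : Ideal S') [q'.IsPrime],
      q'.comap (algebraMap R' S') = IsLocalRing.maximalIdeal R' →
      Module.Flat R' (LocalizedModule q'.primeCompl M'))
    (n : ℕ) :
    TInj ((IsLocalRing.maximalIdeal R' ^ (n + 1)).comap (algebraMap R R')) M := by
  haveI h1 : Module.Flat (R' ⧸ IsLocalRing.maximalIdeal R' ^ (n + 1))
      ((R' ⧸ IsLocalRing.maximalIdeal R' ^ (n + 1)) ⊗[R'] M') :=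
    flat_of_tinj M' _ (tinj_pow_of_forall_flat h (n + 1))
  haveI : Algebra.IsPushout R R' S S' := Algebra.IsPushout.symm inferInstance
  let e1 : (R' ⧸ IsLocalRing.maximalIdeal R' ^ (n + 1)) ⊗[R ⧸ (IsLocalRing.maximalIdeal R' ^ (n + 1)).comap (algebraMap R R')]
      ((R ⧸ (IsLocalRing.maximalIdeal R' ^ (n + 1)).comap (algebraMap R R')) ⊗[R] M) ≃ₗ[R' ⧸ IsLocalRing.maximalIdeal R' ^ (n + 1)]
      (R' ⧸ IsLocalRing.maximalIdeal R' ^ (n + 1)) ⊗[R] M :=
    AlgebraTensorModule.cancelBaseChange R _ _ _ M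
  let e2 : (R' ⧸ IsLocalRing.maximalIdeal R' ^ (n + 1)) ⊗[R'] (R' ⊗[R] M) ≃ₗ[R' ⧸ IsLocalRing.maximalIdeal R' ^ (n + 1)]
      (R' ⧸ IsLocalRing.maximalIdeal R' ^ (n + 1)) ⊗[R] M :=
    AlgebraTensorModule.cancelBaseChange R R' _ _ M
  let e3 : S' ⊗[S] M ≃ₗ[R'] R' ⊗[R] M := Algebra.IsPushout.cancelBaseChange R R' S S' M
  let e4 : S' ⊗[S] M ≃ₗ[R'] M' := hf.equiv.restrictScalars R'
  let e5 : (R' ⧸ IsLocalRing.maximalIdeal R' ^ (n + 1)) ⊗[R'] M' ≃ₗ[R' ⧸ IsLocalRing.maximalIdeal R' ^ (n + 1)]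
      (R' ⧸ IsLocalRing.maximalIdeal R' ^ (n + 1)) ⊗[R'] (R' ⊗[R] M) :=
    AlgebraTensorModule.congr (LinearEquiv.refl _ _) (e4.symm ≪≫ₗ e3)
  haveI h2 : Module.Flat (R' ⧸ IsLocalRing.maximalIdeal R' ^ (n + 1))
      ((R' ⧸ IsLocalRing.maximalIdeal R' ^ (n + 1)) ⊗[R ⧸ (IsLocalRing.maximalIdeal R' ^ (n + 1)).comap (algebraMap R R')]
      ((R ⧸ (IsLocalRing.maximalIdeal R' ^ (n + 1)).comap (algebraMap R R')) ⊗[R] M)) :=
    Module.Flat.of_linearEquiv (e1 ≪≫ₗ e2.symm ≪≫ₗ e5.symm)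
  have hmm' : (IsLocalRing.maximalIdeal R).map (algebraMap R R') ≤ IsLocalRing.maximalIdeal R' := by
    rw [Ideal.map_le_iff_le_comap]
    intro r hr
    exact map_nonunit (algebraMap R R') r hr
  have hpow_le : IsLocalRing.maximalIdeal R ^ (n + 1) ≤
      (IsLocalRing.maximalIdeal R' ^ (n + 1)).comap (algebraMap R R') := by
    rw [← Ideal.map_le_iff_le_comap, Ideal.map_pow]
    exact Ideal.pow_right_mono hmm' (n + 1)
  have hK_ne_top : (IsLocalRing.maximalIdeal R' ^ (n + 1)).comap (algebraMap R R') ≠ ⊤ := by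
    intro htop
    have h1 : (1 : R) ∈ (IsLocalRing.maximalIdeal R' ^ (n + 1)).comap (algebraMap R R') :=
      htop ▸ Submodule.mem_top
    rw [Ideal.mem_comap, map_one] at h1
    have h2 : (1 : R') ∈ IsLocalRing.maximalIdeal R' := Ideal.pow_le_self (by omega) h1
    exact (IsLocalRing.maximalIdeal.isMaximal R').ne_top ((Ideal.eq_top_iff_one _).mpr h2)
  have hK_le := IsLocalRing.le_maximalIdeal hK_ne_top
  have hmax : ((IsLocalRing.maximalIdeal R).map (Ideal.Quotient.mk
      ((IsLocalRing.maximalIdeal R' ^ (n + 1)).comap (algebraMap R R')))).IsMaximal := by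
    refine (Ideal.map_eq_top_or_isMaximal_of_surjective _ Ideal.Quotient.mk_surjective
      (IsLocalRing.maximalIdeal.isMaximal R)).resolve_left ?_
    intro htop
    have h1 := congrArg (Ideal.comap (Ideal.Quotient.mk
      ((IsLocalRing.maximalIdeal R' ^ (n + 1)).comap (algebraMap R R')))) htop
    rw [Ideal.comap_map_of_surjective _ Ideal.Quotient.mk_surjective, ← RingHom.ker_eq_comap_bot,
      Ideal.mk_ker, Ideal.comap_top, sup_eq_left.mpr hK_le] at h1
    exact (IsLocalRing.maximalIdeal.isMaximal R).ne_top h1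
  have h𝔫 : ((IsLocalRing.maximalIdeal R).map (Ideal.Quotient.mk
      ((IsLocalRing.maximalIdeal R' ^ (n + 1)).comap (algebraMap R R')))) ^ (n + 1) = ⊥ := by
    rw [← Ideal.map_pow, Ideal.map_eq_bot_iff_le_ker, Ideal.mk_ker]
    exact hpow_le
  have h𝔫' : ((IsLocalRing.maximalIdeal R').map (Ideal.Quotient.mk
      (IsLocalRing.maximalIdeal R' ^ (n + 1)))) ^ (n + 1) = ⊥ := by
    rw [← Ideal.map_pow, Ideal.map_eq_bot_iff_le_ker, Ideal.mk_ker]
  have hmap : ((IsLocalRing.maximalIdeal R).map (Ideal.Quotient.mk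
      ((IsLocalRing.maximalIdeal R' ^ (n + 1)).comap (algebraMap R R')))).map
      (algebraMap (R ⧸ (IsLocalRing.maximalIdeal R' ^ (n + 1)).comap (algebraMap R R'))
        (R' ⧸ IsLocalRing.maximalIdeal R' ^ (n + 1))) ≤
      (IsLocalRing.maximalIdeal R').map (Ideal.Quotient.mk
        (IsLocalRing.maximalIdeal R' ^ (n + 1))) := by
    rw [Ideal.map_map]
    have hcomp : (algebraMap (R ⧸ (IsLocalRing.maximalIdeal R' ^ (n + 1)).comap (algebraMap R R'))
        (R' ⧸ IsLocalRing.maximalIdeal R' ^ (n + 1))).comp (Ideal.Quotient.mk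
      ((IsLocalRing.maximalIdeal R' ^ (n + 1)).comap (algebraMap R R'))) =
        (Ideal.Quotient.mk (IsLocalRing.maximalIdeal R' ^ (n + 1))).comp (algebraMap R R') := by
      ext r
      rfl
    rw [hcomp, ← Ideal.map_map]
    exact Ideal.map_mono hmm'
  haveI := hmax
  haveI : Module.Flat (R ⧸ (IsLocalRing.maximalIdeal R' ^ (n + 1)).comap (algebraMap R R'))
      ((R ⧸ (IsLocalRing.maximalIdeal R' ^ (n + 1)).comap (algebraMap R R')) ⊗[R] M) :=
    Groth.Agent.H34.ArtinDescent.flat_of_flat_baseChange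
      (A := R ⧸ (IsLocalRing.maximalIdeal R' ^ (n + 1)).comap (algebraMap R R'))
      (A' := R' ⧸ IsLocalRing.maximalIdeal R' ^ (n + 1))
      Ideal.algebraMap_quotient_injective _ (n + 1) h𝔫 _ (n + 1) h𝔫' hmap _
  exact tinj_of_flat M _

end Step2

end Groth.Agent.H34.FlatteningUniv
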