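import Groth.Agent.H34.LocDualQuot
import Groth.Agent.H34.LiaisonEquidim
import Groth.Agent.Lib.Helper85.HS.FiniteLength
import Groth.Agent.Lib.Helper39.LcMaxArtinian
import Groth.Agent.Lib.Helper29.EquidimCatenary
import Groth.Agent.Lib.Helper89.CMCatenary
import Groth.Agent.Lib.Helper2.CoextendFinite
import Groth.Agent.Lib.Helper26.LcCM
import Groth.Agent.Lib.Helper49.AnnIdealSheaf

/-!
# Generalized Cohen–Macaulay modules over images of Gorenstein local rings (helper34)
-/

set_option autoImplicit false
universe u
open CategoryTheory Abelian IsLocalRing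

namespace Groth.Agent.H34.GenCM

section FL

variable (R : Type u) [CommRing R] [IsLocalRing R]

theorem le_radical_annihilator_of_isFiniteLength (N : Type u) [AddCommGroup N] [Module R N]
    (h : IsFiniteLength R N) : maximalIdeal R ≤ (Module.annihilator R N).radical := by
  obtain ⟨hN, -⟩ := isFiniteLength_iff_isNoetherian_isArtinian.mp h
  haveI : Module.Finite R N := Module.IsNoetherian.finite R N
  rw [Ideal.radical_eq_sInf]
  refine le_sInf ?_
  rintro p ⟨hle, hp⟩
  have hps : (⟨p, hp⟩ : PrimeSpectrum R) ∈ Module.support R N := by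
    rw [Module.mem_support_iff_of_finite]
    exact hle
  have hmax := Groth.Agent.Lib.Helper85.HS.isMaximal_of_mem_support_of_isFiniteLength h _ hps
  have hpm : p = maximalIdeal R := IsLocalRing.eq_maximalIdeal hmax
  rw [hpm]

variable [IsNoetherianRing R]

theorem isFiniteLength_of_isArtinian_of_pow_smul (k : ℕ) :
    ∀ (N : Type u) [AddCommGroup N] [Module R N] [IsArtinian R N],
      (∀ a ∈ maximalIdeal R ^ k, ∀ x : N, a • x = 0) → IsFiniteLength R N := by
  induction k with
  | zero =>
    intro N _ _ _ h
    haveI : Subsingleton N := ⟨fun x y => by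
      have h1 : (1 : R) ∈ maximalIdeal R ^ 0 := by
        rw [pow_zero, Ideal.one_eq_top]
        exact Submodule.mem_top
      have hx := h 1 h1 x
      have hy := h 1 h1 y
      rw [one_smul] at hx hy
      rw [hx, hy]⟩
    exact IsFiniteLength.of_subsingleton
  | succ k ih =>
    intro N _ _ _ h
    set N₁ : Submodule R N := Submodule.torsionBySet R N (maximalIdeal R : Set R) with hN₁
    -- the socle has finite length
    have h1 : IsFiniteLength R N₁ := by
      let _ : Field (R ⧸ maximalIdeal R) := Ideal.Quotient.field _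
      haveI : IsArtinian (R ⧸ maximalIdeal R) N₁ := isArtinian_of_tower R inferInstance
      haveI : IsNoetherian (R ⧸ maximalIdeal R) N₁ :=
        IsSemiprimaryRing.isNoetherian_iff_isArtinian.mpr inferInstance
      haveI : Module.Finite (R ⧸ maximalIdeal R) N₁ := Module.IsNoetherian.finite _ _
      haveI : Module.Finite R N₁ := Module.Finite.trans (R ⧸ maximalIdeal R) N₁
      apply Groth.Agent.Lib.Helper2.isFiniteLength_of_finite_of_maximalIdeal_smul
      intro a ha x
      apply Subtype.ext
      have := (Submodule.mem_torsionBySet_iff _ _).mp x.2 ⟨a, ha⟩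
      exact this
    have h2 : IsFiniteLength R (N ⧸ N₁) := by
      apply ih
      intro a ha y
      obtain ⟨x, rfl⟩ := Submodule.Quotient.mk_surjective _ y
      rw [← Submodule.Quotient.mk_smul, Submodule.Quotient.mk_eq_zero, hN₁,
        Submodule.mem_torsionBySet_iff]
      rintro ⟨b, hb⟩
      change b • a • x = 0
      rw [← mul_smul]
      exact h _ (by rw [pow_succ']; exact Ideal.mul_mem_mul hb ha) x
    rw [← Module.length_ne_top_iff] at h1 h2 ⊢
    rw [Module.length_eq_add_of_exact N₁.subtype N₁.mkQ N₁.injective_subtype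
      N₁.mkQ_surjective (LinearMap.exact_subtype_mkQ N₁)]
    exact WithTop.add_ne_top.mpr ⟨h1, h2⟩

theorem isFiniteLength_of_isArtinian_of_le_radical_annihilator (N : Type u) [AddCommGroup N]
    [Module R N] [IsArtinian R N] (h : maximalIdeal R ≤ (Module.annihilator R N).radical) :
    IsFiniteLength R N := by
  obtain ⟨k, hk⟩ := Ideal.exists_pow_le_of_le_radical_of_fg h
    (IsNoetherian.noetherian (maximalIdeal R))
  exact isFiniteLength_of_isArtinian_of_pow_smul R k N
    (fun a ha x => Module.mem_annihilator.mp (hk ha) x)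

/-- for local cohomology modules, finite length means killed by a power of `m`. -/
theorem isFiniteLength_lc_iff (M : Type u) [AddCommGroup M] [Module R M] [Module.Finite R M]
    (i : ℕ) :
    IsFiniteLength R (LocCoh.H (maximalIdeal R) i M) ↔
      maximalIdeal R ≤ (Module.annihilator R (LocCoh.H (maximalIdeal R) i M)).radical := by
  constructor
  · exact le_radical_annihilator_of_isFiniteLength R _
  · intro h
    haveI : IsArtinian R (LocCoh.H (maximalIdeal R) i M) :=
      Groth.Agent.Lib.Helper39.LcMaxArtinian.locCohH_isArtinian (maximalIdeal R) i M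
    exact isFiniteLength_of_isArtinian_of_le_radical_annihilator R _ h

end FL

section Dim

theorem height_add_ringKrullDim_quotient_le (B : Type u) [CommRing B] (q : Ideal B) [hq : q.IsPrime] :
    ((q.height : ℕ∞) : WithBot ℕ∞) + ringKrullDim (B ⧸ q) ≤ ringKrullDim B := by
  have h1 := Groth.Agent.H46.ringKrullDim_quotient_eq_coheight (⟨q, hq⟩ : PrimeSpectrum B)
  change ringKrullDim (B ⧸ q) = _ at h1
  have h2 := PrimeSpectrum.height_eq_orderHeight (⟨q, hq⟩ : PrimeSpectrum B)
  change q.height = _ at h2
  rw [h1, h2]
  haveI : Nonempty (PrimeSpectrum B) := ⟨⟨q, hq⟩⟩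
  unfold ringKrullDim
  rw [Order.krullDim_eq_iSup_height_add_coheight_of_nonempty, ← WithBot.coe_add]
  exact WithBot.coe_le_coe.mpr
    (le_iSup (fun a : PrimeSpectrum B => Order.height a + Order.coheight a) ⟨q, hq⟩)

variable (R : Type u) [CommRing R] [IsNoetherianRing R] [IsLocalRing R]
  (M : Type u) [AddCommGroup M] [Module R M] [Module.Finite R M]

theorem supportDim_localizedModule_eq (p : Ideal R) [p.IsPrime]
    (hp : Module.annihilator R M ≤ p) :
    Module.supportDim (Localization.AtPrime p) (LocalizedModule p.primeCompl M) =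
      (((p.map (Ideal.Quotient.mk (Module.annihilator R M))).height : ℕ∞) : WithBot ℕ∞) := by
  haveI : Module.Finite (Localization.AtPrime p) (LocalizedModule p.primeCompl M) :=
    Module.Finite.of_isLocalizedModule p.primeCompl (LocalizedModule.mkLinearMap p.primeCompl M)
  rw [Module.supportDim_eq_ringKrullDim_quotient_annihilator,
    ← Groth.Agent.Lib.Helper49.AnnIdealSheaf.annihilator_map_of_isLocalizedModule
      (A := Localization.AtPrime p) p.primeCompl (LocalizedModule.mkLinearMap p.primeCompl M)]
  exact Groth.Agent.H34.Liaison.ringKrullDim_quotient_map_atPrime _ p hp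

theorem ringKrullDim_quotient_map_eq (I p : Ideal R) (h : I ≤ p) :
    ringKrullDim ((R ⧸ I) ⧸ p.map (Ideal.Quotient.mk I)) = ringKrullDim (R ⧸ p) :=
  ringKrullDim_eq_of_ringEquiv (DoubleQuot.quotQuotEquivQuotOfLE h)

/-- `dim M_p + dim R/p ≤ dim M`. -/
theorem supportDim_localizedModule_add_le (p : Ideal R) [p.IsPrime]
    (hp : Module.annihilator R M ≤ p) :
    Module.supportDim (Localization.AtPrime p) (LocalizedModule p.primeCompl M) +
      ringKrullDim (R ⧸ p) ≤ Module.supportDim R M := by
  haveI := Groth.Agent.H34.Liaison.map_mk_isPrime hp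
  rw [supportDim_localizedModule_eq R M p hp, ← ringKrullDim_quotient_map_eq R _ p hp,
    Module.supportDim_eq_ringKrullDim_quotient_annihilator]
  exact height_add_ringKrullDim_quotient_le _ _

end Dim

section Equidim

variable (R : Type u) [CommRing R] [IsNoetherianRing R] [IsLocalRing R]
  (M : Type u) [AddCommGroup M] [Module R M] [Module.Finite R M]

/-- `dim M_p + dim R/p = dim M` for equidimensional `M` over an image of a CM local ring. -/
theorem supportDim_localizedModule_add_eq (A : Type u) [CommRing A]
    [LocCoh.IsCohenMacaulayLocalRing A] [Algebra A R]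
    (hsurj : Function.Surjective (algebraMap A R)) (n : ℕ) (hn : Module.supportDim R M = n)
    (heq : ∀ q ∈ (Module.annihilator R M).minimalPrimes, ringKrullDim (R ⧸ q) = n)
    (p : Ideal R) [p.IsPrime] (hp : Module.annihilator R M ≤ p) :
    Module.supportDim (Localization.AtPrime p) (LocalizedModule p.primeCompl M) +
      ringKrullDim (R ⧸ p) = n := by
  set I := Module.annihilator R M with hI
  have hItop : I ≠ ⊤ := fun h => (‹p.IsPrime›).ne_top (top_le_iff.mp (h ▸ hp))
  haveI : Nontrivial (R ⧸ I) := Ideal.Quotient.nontrivial_iff.mpr hItop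
  haveI : IsLocalRing (R ⧸ I) := IsLocalRing.of_surjective' _ Ideal.Quotient.mk_surjective
  have hcat : CAlg.IsCatenary (R ⧸ I) :=
    Groth.Agent.H46.isCatenary_of_surjective ((Ideal.Quotient.mk I).comp (algebraMap A R))
      (Ideal.Quotient.mk_surjective.comp hsurj)
      (Groth.Agent.Lib.Helper89.CMCatenary.isCatenary_of_isCohenMacaulayLocalRing A)
  have hdimB : ringKrullDim (R ⧸ I) = n := by
    rw [← hn, Module.supportDim_eq_ringKrullDim_quotient_annihilator]
  have heqB : EGA4.IsEquidim (R ⧸ I) := by
    intro qb hqb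
    have hq : qb.comap (Ideal.Quotient.mk I) ∈ I.minimalPrimes := by
      rw [Ideal.minimalPrimes_eq_comap]
      exact ⟨qb, hqb, rfl⟩
    have hle : I ≤ qb.comap (Ideal.Quotient.mk I) := hq.1.2
    have hmap : (qb.comap (Ideal.Quotient.mk I)).map (Ideal.Quotient.mk I) = qb :=
      Ideal.map_comap_of_surjective _ Ideal.Quotient.mk_surjective _
    have h1 := ringKrullDim_quotient_map_eq R I _ hle
    rw [hmap] at h1
    rw [h1, heq _ hq, hdimB]
  haveI hp' := Groth.Agent.H34.Liaison.map_mk_isPrime hp
  have h2 := Groth.Agent.Lib.Helper29.ringKrullDim_quotient_add_height_of_isEquidim_of_isCatenary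
    (R ⧸ I) heqB hcat ⟨p.map (Ideal.Quotient.mk I), hp'⟩
  change ringKrullDim ((R ⧸ I) ⧸ p.map (Ideal.Quotient.mk I)) + _ = _ at h2
  rw [supportDim_localizedModule_eq R M p hp, ← ringKrullDim_quotient_map_eq R I p hp, add_comm,
    h2, hdimB]

end Equidim

section Arith

theorem le_natCast_sub_of_add_le {x : WithBot ℕ∞} {c n : ℕ} (hx : x ≠ ⊥)
    (h : x + (c : WithBot ℕ∞) ≤ (n : WithBot ℕ∞)) :
    c ≤ n ∧ x ≤ ((n - c : ℕ) : WithBot ℕ∞) := by
  induction x with
  | bot => exact absurd rfl hx
  | coe y =>
    induction y with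
    | top =>
      exfalso
      have h' : ((⊤ + (c : ℕ∞) : ℕ∞) : WithBot ℕ∞) ≤ ((n : ℕ∞) : WithBot ℕ∞) := by
        exact_mod_cast h
      rw [top_add, WithBot.coe_le_coe, top_le_iff] at h'
      exact ENat.natCast_ne_top n h'
    | coe y =>
      have h' : y + c ≤ n := by exact_mod_cast h
      refine ⟨by omega, ?_⟩
      have : y ≤ n - c := by omega
      change (((y : ℕ) : ℕ∞) : WithBot ℕ∞) ≤ (((n - c : ℕ) : ℕ∞) : WithBot ℕ∞)
      exact WithBot.coe_le_coe.mpr (by exact_mod_cast this)

theorem eq_natCast_sub_of_add_eq {x : WithBot ℕ∞} {c n : ℕ}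
    (h : x + (c : WithBot ℕ∞) = (n : WithBot ℕ∞)) :
    c ≤ n ∧ x = ((n - c : ℕ) : WithBot ℕ∞) := by
  induction x with
  | bot =>
    exfalso
    rw [WithBot.bot_add] at h
    exact WithBot.bot_ne_coe h
  | coe y =>
    induction y with
    | top =>
      exfalso
      have h' : ((⊤ + (c : ℕ∞) : ℕ∞) : WithBot ℕ∞) = ((n : ℕ∞) : WithBot ℕ∞) := by
        exact_mod_cast h
      rw [top_add, WithBot.coe_eq_coe] at h'
      exact ENat.natCast_ne_top n h'.symm
    | coe y =>
      have h' : y + c = n := by exact_mod_cast h
      refine ⟨by omega, ?_⟩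
      have : y = n - c := by omega
      change (((y : ℕ) : ℕ∞) : WithBot ℕ∞) = (((n - c : ℕ) : ℕ∞) : WithBot ℕ∞)
      rw [this]

end Arith

section Main

theorem exists_nat_ringKrullDim_quotient (R : Type u) [CommRing R] [IsNoetherianRing R]
    [IsLocalRing R] (p : Ideal R) [p.IsPrime] : ∃ c : ℕ, ringKrullDim (R ⧸ p) = c := by
  have hnn : (0 : WithBot ℕ∞) ≤ ringKrullDim (R ⧸ p) := ringKrullDim_nonneg_of_nontrivial
  have htop : ringKrullDim (R ⧸ p) ≠ ⊤ := by
    intro h
    have h1 := ringKrullDim_quotient_le p
    rw [h, top_le_iff] at h1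
    exact ringKrullDim_ne_top h1
  cases h : ringKrullDim (R ⧸ p) with
  | bot => rw [h] at hnn; simp at hnn
  | coe n =>
    have hn' : n ≠ ⊤ := by
      rintro rfl
      exact htop h
    obtain ⟨d, hd⟩ := ENat.ne_top_iff_exists.mp hn'
    exact ⟨d, by rw [← hd]; rfl⟩

/-- generalized Cohen–Macaulay modules over a homomorphic image of a Gorenstein local ring. -/
theorem main (A R : Type u) [CommRing A] [LocCoh.IsGorensteinLocalRing A] [CommRing R]
    [IsNoetherianRing R] [IsLocalRing R] [Algebra A R]
    (hsurj : Function.Surjective (algebraMap A R)) (M : Type u) [AddCommGroup M] [Module R M]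
    [Module.Finite R M] (n : ℕ) (hn : Module.supportDim R M = n) :
    (∀ i : ℕ, i < n → IsFiniteLength R (LocCoh.H (maximalIdeal R) i M)) ↔
      ((∀ p ∈ (Module.annihilator R M).minimalPrimes, ringKrullDim (R ⧸ p) = n) ∧
        ∀ (p : Ideal R) [p.IsPrime], p ≠ maximalIdeal R → Module.annihilator R M ≤ p →
          LocCoh.IsCohenMacaulayModule (Localization.AtPrime p)
            (LocalizedModule p.primeCompl M)) := by
  classical
  haveI := Groth.Agent.H34.GorLinkGlobal.isCohenMacaulayLocalRing_of_isGorensteinLocalRing A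
  have hnotle : ∀ (p : Ideal R) [p.IsPrime], p ≠ maximalIdeal R → ¬ maximalIdeal R ≤ p := by
    intro p hp hpm hle
    exact hpm ((IsLocalRing.maximalIdeal.isMaximal R).eq_of_le hp.ne_top hle).symm
  have hfin : ∀ (p : Ideal R) [p.IsPrime],
      Module.Finite (Localization.AtPrime p) (LocalizedModule p.primeCompl M) := fun p _ =>
    Module.Finite.of_isLocalizedModule p.primeCompl (LocalizedModule.mkLinearMap p.primeCompl M)
  have hnt : ∀ (p : Ideal R) [p.IsPrime], Module.annihilator R M ≤ p →
      Nontrivial (LocalizedModule p.primeCompl M) := by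
    intro p hp hle
    have : (⟨p, hp⟩ : PrimeSpectrum R) ∈ Module.support R M := by
      rw [Module.mem_support_iff_of_finite]
      exact hle
    exact Module.mem_support_iff.mp this
  -- the key depth estimate under (1)
  have key : (∀ i : ℕ, i < n → IsFiniteLength R (LocCoh.H (maximalIdeal R) i M)) →
      ∀ (p : Ideal R) [p.IsPrime], p ≠ maximalIdeal R → ∀ c : ℕ, ringKrullDim (R ⧸ p) = c →
        ((n - c : ℕ) : ℕ∞) ≤ LocCoh.depth (Localization.AtPrime p)
          (LocalizedModule p.primeCompl M) := by
    intro h1 p hp hpm c hc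
    haveI := hfin p
    unfold LocCoh.depth
    rw [← Groth.Agent.Lib.Helper26.LcCM.lc_vanishing_iff_le_idealDepth]
    intro j hj
    have hi : j + c < n := by omega
    have h2 := (isFiniteLength_lc_iff R M (j + c)).mp (h1 (j + c) hi)
    have h3 := (Groth.Agent.H34.LocDualQuot.main A R hsurj M (maximalIdeal R) (j + c)).mp h2
    refine h3 p (hnotle p hpm) j ?_
    rw [hc]
    push_cast
    rfl
  constructor
  · intro h1
    have hCM : ∀ (p : Ideal R) [p.IsPrime], p ≠ maximalIdeal R → Module.annihilator R M ≤ p →
        ∀ c : ℕ, ringKrullDim (R ⧸ p) = c → c ≤ n ∧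
          Module.supportDim (Localization.AtPrime p) (LocalizedModule p.primeCompl M) =
            ((n - c : ℕ) : WithBot ℕ∞) ∧
          LocCoh.IsCohenMacaulayModule (Localization.AtPrime p)
            (LocalizedModule p.primeCompl M) := by
      intro p hp hpm hle c hc
      haveI := hfin p
      haveI := hnt p hle
      have hd := key h1 p hpm c hc
      have hle2 := supportDim_localizedModule_add_le R M p hle
      rw [hn, hc] at hle2
      obtain ⟨hcn, hs⟩ := le_natCast_sub_of_add_le
        (Module.supportDim_ne_bot_of_nontrivial (Localization.AtPrime p)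
          (LocalizedModule p.primeCompl M)) hle2
      have hds := Groth.Agent.Lib.Helper29.depth_le_supportDim (Localization.AtPrime p)
        (LocalizedModule p.primeCompl M)
      have hd' : (((n - c : ℕ) : ℕ∞) : WithBot ℕ∞) ≤
          ((LocCoh.depth (Localization.AtPrime p) (LocalizedModule p.primeCompl M) : ℕ∞) :
            WithBot ℕ∞) := WithBot.coe_le_coe.mpr hd
      refine ⟨hcn, le_antisymm hs (hd'.trans hds), ?_⟩
      unfold LocCoh.IsCohenMacaulayModule
      exact le_antisymm (hs.trans hd') hds
    refine ⟨?_, ?_⟩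
    · intro p hp
      haveI hpp : p.IsPrime := hp.1.1
      have hle : Module.annihilator R M ≤ p := hp.1.2
      by_cases hpm : p = maximalIdeal R
      · have hsub : Subsingleton (Module.support R M) := by
          refine ⟨fun a b => ?_⟩
          have hpt : ∀ a : Module.support R M, a.1.asIdeal = p := by
            intro a
            have h1 : Module.annihilator R M ≤ a.1.asIdeal :=
              Module.mem_support_iff_of_finite.mp a.2
            have h2 : a.1.asIdeal ≤ p := by
              rw [hpm]
              exact IsLocalRing.le_maximalIdeal a.1.2.ne_top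
            exact le_antisymm h2 (hp.2 ⟨a.1.2, h1⟩ h2)
          exact Subtype.ext (PrimeSpectrum.ext ((hpt a).trans (hpt b).symm))
        have h0 : Module.supportDim R M ≤ 0 := Order.krullDim_nonpos_of_subsingleton
        rw [hn] at h0
        have hn0 : n = 0 := by
          have : n ≤ 0 := by exact_mod_cast h0
          omega
        rw [hn0, hpm]
        haveI : (maximalIdeal R).IsMaximal := IsLocalRing.maximalIdeal.isMaximal R
        rw [ringKrullDim_eq_zero_of_isField
          ((Ideal.Quotient.maximal_ideal_iff_isField_quotient _).mp inferInstance)]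
        rfl
      · obtain ⟨c, hc⟩ := exists_nat_ringKrullDim_quotient R p
        obtain ⟨hcn, hs, -⟩ := hCM p hpm hle c hc
        have hp2 := hp
        rw [Ideal.minimalPrimes_eq_comap] at hp2
        obtain ⟨qb, hqb, hqp⟩ := hp2
        have hmapp : p.map (Ideal.Quotient.mk (Module.annihilator R M)) = qb := by
          rw [← hqp, Ideal.map_comap_of_surjective _ Ideal.Quotient.mk_surjective]
        haveI := Groth.Agent.H34.Liaison.map_mk_isPrime hle
        have h0 : (p.map (Ideal.Quotient.mk (Module.annihilator R M))).height = 0 := by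
          rw [Ideal.height_eq_zero_iff, hmapp]
          exact hqb
        rw [supportDim_localizedModule_eq R M p hle, h0] at hs
        have hs' : ((0 : ℕ) : WithBot ℕ∞) = ((n - c : ℕ) : WithBot ℕ∞) := hs
        have h3 : 0 = n - c := by exact_mod_cast hs'
        have hcn' : c = n := by omega
        rw [hc, hcn']
    · intro p hp hpm hle
      obtain ⟨c, hc⟩ := exists_nat_ringKrullDim_quotient R p
      exact (hCM p hpm hle c hc).2.2
  · rintro ⟨heq, hCM⟩ i hi
    rw [isFiniteLength_lc_iff, Groth.Agent.H34.LocDualQuot.main A R hsurj M (maximalIdeal R) i]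
    intro p hp hmp j hj
    have hpm : p ≠ maximalIdeal R := fun h => hmp (h ▸ le_rfl)
    by_cases hle : Module.annihilator R M ≤ p
    · haveI := hfin p
      haveI := hnt p hle
      obtain ⟨c, hc⟩ := exists_nat_ringKrullDim_quotient R p
      have hsum := supportDim_localizedModule_add_eq R M A hsurj n hn heq p hle
      rw [hc] at hsum hj
      obtain ⟨hcn, hs⟩ := eq_natCast_sub_of_add_eq hsum
      have hcm := hCM p hpm hle
      unfold LocCoh.IsCohenMacaulayModule at hcm
      rw [hs] at hcm
      have hjc : j + c = i := by exact_mod_cast hj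
      have hdep : ((n - c : ℕ) : ℕ∞) =
          LocCoh.depth (Localization.AtPrime p) (LocalizedModule p.primeCompl M) := by
        have hcm' : (((n - c : ℕ) : ℕ∞) : WithBot ℕ∞) =
          ((LocCoh.depth (Localization.AtPrime p) (LocalizedModule p.primeCompl M) : ℕ∞) :
            WithBot ℕ∞) := hcm
        exact WithBot.coe_injective hcm'
      have hk : ((j + 1 : ℕ) : ℕ∞) ≤ LocCoh.idealDepth
          (maximalIdeal (Localization.AtPrime p)) (LocalizedModule p.primeCompl M) := by
        change ((j + 1 : ℕ) : ℕ∞) ≤
          LocCoh.depth (Localization.AtPrime p) (LocalizedModule p.primeCompl M)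
        rw [← hdep]
        have : j + 1 ≤ n - c := by omega
        exact_mod_cast this
      exact (Groth.Agent.Lib.Helper26.LcCM.lc_vanishing_iff_le_idealDepth _ _ _ (j + 1)).mpr hk j
        (Nat.lt_succ_self j)
    · haveI : Subsingleton (LocalizedModule p.primeCompl M) := by
        have : (⟨p, hp⟩ : PrimeSpectrum R) ∉ Module.support R M := by
          rw [Module.mem_support_iff_of_finite]
          exact hle
        exact Module.notMem_support_iff.mp this
      exact Groth.Agent.H34.GorLinkGlobal.subsingleton_lc_of_subsingleton _ _ j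

end Main

end Groth.Agent.H34.GenCM
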