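import Groth.Agent.H34.LiaisonCM
import Groth.Agent.Lib.Helper82.CMPoly

/-!
# Geometric linkage: the sum of geometrically linked ideals is Gorenstein (helper34)
-/

set_option autoImplicit false
universe u

namespace Groth.Agent.H34.GeomLink

open Groth.Agent.Lib.Helper29 Groth.Agent.Lib.Helper60 Groth.Agent.H34.Liaison
  Groth.Agent.H34.GorLinkGlobal Groth.Agent.H34.GorQuotGlobal Groth.Agent.H34.LiaisonCM

section General

variable {R : Type u} [CommRing R] [IsNoetherianRing R]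

/-- `(I₁ ∩ I₂) : I₁ = I₂` when `I₁` is contained in no associated prime of `R/I₂`. -/
theorem colon_inf_eq (I₁ I₂ : Ideal R)
    (hnc : ∀ p ∈ associatedPrimes R (R ⧸ I₂), ¬ I₁ ≤ p) :
    (I₁ ⊓ I₂).colon (I₁ : Set R) = I₂ := by
  ext x
  rw [Submodule.mem_colon]
  constructor
  · intro h
    by_contra hx
    have hx0 : (Ideal.Quotient.mk I₂ x : R ⧸ I₂) ≠ 0 := by
      rwa [ne_eq, Ideal.Quotient.eq_zero_iff_mem]
    obtain ⟨P, hP, hle⟩ := exists_le_isAssociatedPrime_of_isNoetherianRing R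
      (Ideal.Quotient.mk I₂ x : R ⧸ I₂) hx0
    apply hnc P hP
    intro a ha
    apply hle
    rw [Submodule.mem_colon_singleton, Submodule.mem_bot]
    change a • (Ideal.Quotient.mk I₂ x : R ⧸ I₂) = 0
    have h1 : x • a ∈ I₁ ⊓ I₂ := h a ha
    rw [Algebra.smul_def, Ideal.Quotient.algebraMap_eq, ← map_mul, Ideal.Quotient.eq_zero_iff_mem,
      mul_comm]
    exact h1.2
  · intro hx a ha
    rw [smul_eq_mul]
    exact ⟨I₁.mul_mem_left x ha, I₂.mul_mem_right a hx⟩

end General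

section Poly

open MvPolynomial

variable {K : Type u} [Field K] (n : ℕ)

/-- no associated prime of `R/I₂` contains `I₁`. -/
theorem not_le_of_mem_associatedPrimes (c : ℕ) (I₁ I₂ : Ideal (MvPolynomial (Fin (n + 1)) K))
    (hI₁ : I₁.IsHomogeneous (GrSyz.stdGr K (Fin (n + 1))))
    (hI₂ : I₂.IsHomogeneous (GrSyz.stdGr K (Fin (n + 1))))
    [LocCoh.IsCohenMacaulayRing (MvPolynomial (Fin (n + 1)) K ⧸ I₁)]
    [LocCoh.IsCohenMacaulayRing (MvPolynomial (Fin (n + 1)) K ⧸ I₂)]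
    (h₁ : I₁.height = c) (h₂ : I₂.height = c)
    (hdisj : Disjoint I₁.minimalPrimes I₂.minimalPrimes) :
    ∀ p ∈ associatedPrimes (MvPolynomial (Fin (n + 1)) K) (MvPolynomial (Fin (n + 1)) K ⧸ I₂),
      ¬ I₁ ≤ p := by
  intro p hp hle
  have hpmin : p ∈ I₂.minimalPrimes := mem_minimalPrimes_of_mem_associatedPrimes I₂ hp
  have hpht : p.height = c := by
    rw [← h₂]
    exact Groth.Agent.H34.BDL.height_eq_of_mem_minimalPrimes_CM n I₂ hI₂ hpmin
  haveI : p.IsPrime := hpmin.1.1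
  obtain ⟨q, hq, hqp⟩ := Ideal.exists_minimalPrimes_le hle
  have hqht : q.height = c := by
    rw [← h₁]
    exact Groth.Agent.H34.BDL.height_eq_of_mem_minimalPrimes_CM n I₁ hI₁ hq
  haveI : q.IsPrime := hq.1.1
  have hqp' : q = p := Ideal.eq_of_le_of_height_le q hqp (by rw [hpht, hqht])
  rw [hqp'] at hq
  exact Set.disjoint_left.mp hdisj hq hpmin

/-- **S18869**: the sum of geometrically linked ideals. -/
theorem main (c : ℕ) (I₁ I₂ : Ideal (MvPolynomial (Fin (n + 1)) K))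
    (hI₁ : I₁.IsHomogeneous (GrSyz.stdGr K (Fin (n + 1))))
    (hI₂ : I₂.IsHomogeneous (GrSyz.stdGr K (Fin (n + 1))))
    [LocCoh.IsCohenMacaulayRing (MvPolynomial (Fin (n + 1)) K ⧸ I₁)]
    [LocCoh.IsCohenMacaulayRing (MvPolynomial (Fin (n + 1)) K ⧸ I₂)]
    (h₁ : I₁.height = c) (h₂ : I₂.height = c)
    (hdisj : Disjoint I₁.minimalPrimes I₂.minimalPrimes)
    [hGor : LocCoh.IsGorensteinRing (MvPolynomial (Fin (n + 1)) K ⧸ (I₁ ⊓ I₂))] :
    (I₁ ⊔ I₂).height = c + 1 ∧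
      LocCoh.IsGorensteinRing (MvPolynomial (Fin (n + 1)) K ⧸ (I₁ ⊔ I₂)) := by
  classical
  set X : Ideal (MvPolynomial (Fin (n + 1)) K) := I₁ ⊓ I₂ with hX
  have hX1 : X ≤ I₁ := inf_le_left
  have hX2 : X ≤ I₂ := inf_le_right
  have hXT : X ≤ I₁ ⊔ I₂ := hX1.trans le_sup_left
  have hXhom : X.IsHomogeneous (GrSyz.stdGr K (Fin (n + 1))) := hI₁.inf hI₂
  have hc1 : X.colon (I₁ : Set (MvPolynomial (Fin (n + 1)) K)) = I₂ :=
    colon_inf_eq I₁ I₂ (not_le_of_mem_associatedPrimes n c I₁ I₂ hI₁ hI₂ h₁ h₂ hdisj)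
  have hc2 : X.colon (I₂ : Set (MvPolynomial (Fin (n + 1)) K)) = I₁ := by
    have := colon_inf_eq I₂ I₁
      (not_le_of_mem_associatedPrimes n c I₂ I₁ hI₂ hI₁ h₂ h₁ hdisj.symm)
    rwa [inf_comm] at this
  have h1 := annihilator_map_mk hX2 hc1
  have h2 := annihilator_map_mk hX1 hc2
  have hinf : I₁.map (Ideal.Quotient.mk X) ⊓ I₂.map (Ideal.Quotient.mk X) = ⊥ := by
    rw [eq_bot_iff]
    intro y hy
    obtain ⟨x, rfl⟩ := Ideal.Quotient.mk_surjective y
    rw [Ideal.mem_inf, Ideal.mem_quotient_iff_mem hX1, Ideal.mem_quotient_iff_mem hX2] at hy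
    rw [Ideal.mem_bot, Ideal.Quotient.eq_zero_iff_mem]
    exact hy
  haveI : LocCoh.IsCohenMacaulayRing ((MvPolynomial (Fin (n + 1)) K ⧸ X) ⧸
      I₁.map (Ideal.Quotient.mk X)) :=
    isCohenMacaulayRing_of_ringEquiv (DoubleQuot.quotQuotEquivQuotOfLE hX1).symm inferInstance
  refine ⟨?_, ?_⟩
  · set 𝔪 : Ideal (MvPolynomial (Fin (n + 1)) K) :=
      RingHom.ker (constantCoeff : MvPolynomial (Fin (n + 1)) K →+* K) with h𝔪
    haveI h𝔪max : 𝔪.IsMaximal := RingHom.ker_isMaximal_of_surjective _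
      (fun a => ⟨C a, constantCoeff_C _ a⟩)
    have hI₁ne : I₁ ≠ ⊤ := by
      rintro rfl
      rw [Ideal.height_top] at h₁
      exact ENat.top_ne_coe c h₁
    have hI₂ne : I₂ ≠ ⊤ := by
      rintro rfl
      rw [Ideal.height_top] at h₂
      exact ENat.top_ne_coe c h₂
    have hT𝔪 : I₁ ⊔ I₂ ≤ 𝔪 :=
      sup_le (le_ker_constantCoeff_of_isHomogeneous I₁ hI₁ hI₁ne)
        (le_ker_constantCoeff_of_isHomogeneous I₂ hI₂ hI₂ne)
    have hTne : I₁ ⊔ I₂ ≠ ⊤ := fun h => h𝔪max.ne_top (top_le_iff.mp (h ▸ hT𝔪))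
    haveI : LocCoh.IsCohenMacaulayRing K :=
      Groth.Agent.Lib.Helper82.CMPoly.isCohenMacaulayRing_of_isRegularRing K
    haveI hCMR : LocCoh.IsCohenMacaulayRing (MvPolynomial (Fin (n + 1)) K) :=
      Groth.Agent.Lib.Helper82.CMPoly.isCohenMacaulayRing_mvPolynomial (n + 1)
    have hmin : ∀ P ∈ (I₁ ⊔ I₂).minimalPrimes, P.height = c + 1 := by
      intro P hP
      haveI : P.IsPrime := hP.1.1
      have hTP : I₁ ⊔ I₂ ≤ P := hP.1.2
      have hXP : X ≤ P := hXT.trans hTP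
      have hq : P.map (Ideal.Quotient.mk X) ∈
          (I₁.map (Ideal.Quotient.mk X) ⊔ I₂.map (Ideal.Quotient.mk X)).minimalPrimes := by
        rw [← Ideal.map_sup, Ideal.minimalPrimes_map_of_surjective Ideal.Quotient.mk_surjective]
        refine ⟨P, ?_, rfl⟩
        rw [Ideal.mk_ker, sup_eq_left.mpr hXT]
        exact hP
      have h1q := height_eq_one_of_mem_minimalPrimes_sup (MvPolynomial (Fin (n + 1)) K ⧸ X) _ _
        h1 h2 hinf hq
      obtain ⟨𝔭, h𝔭, h𝔭P⟩ := Ideal.exists_minimalPrimes_le hXP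
      haveI hCMA : LocCoh.IsCohenMacaulayLocalRing (Localization.AtPrime P) :=
        hCMR.isCohenMacaulayLocalRing_localization P
      haveI h𝔫 : (P.map (Ideal.Quotient.mk X)).IsPrime := map_mk_isPrime hXP
      have hCMB : LocCoh.IsCohenMacaulayLocalRing
          (Localization.AtPrime (P.map (Ideal.Quotient.mk X))) := by
        haveI := hGor.isGorensteinLocalRing_localization (P.map (Ideal.Quotient.mk X))
        exact isCohenMacaulayLocalRing_of_isGorensteinLocalRing _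
      have hsum := height_add_height_of_mem_minimalPrimes X P hXP hCMB h𝔭 h𝔭P
      haveI : 𝔭.IsPrime := h𝔭.1.1
      have h𝔭ht : 𝔭.height = c := by
        apply le_antisymm
        · rw [height_eq_of_mem_minimalPrimes n X hXhom h𝔭, ← h₁]
          exact Ideal.height_mono hX1
        · rcases (Ideal.IsPrime.inf_le ‹𝔭.IsPrime›).mp h𝔭.1.2 with h | h
          · rw [← h₁]
            exact Ideal.height_mono h
          · rw [← h₂]
            exact Ideal.height_mono h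
      rw [h𝔭ht, h1q] at hsum
      have h3 : ((P.height : ℕ∞) : WithBot ℕ∞) = (((c : ℕ∞) + 1 : ℕ∞) : WithBot ℕ∞) := by
        rw [← hsum]
        rfl
      exact WithBot.coe_injective h3
    obtain ⟨P, hP⟩ := Ideal.nonempty_minimalPrimes hTne
    rw [Ideal.height_eq_inf_minimalPrimes]
    apply le_antisymm
    · exact (iInf₂_le P hP).trans (hmin P hP).le
    · exact le_iInf₂ fun P' hP' => (hmin P' hP').ge
  · have h3 := isGorensteinRing_quot_sup (MvPolynomial (Fin (n + 1)) K ⧸ X) _ _ h1 h2 hinf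
    rw [← Ideal.map_sup] at h3
    exact isGorensteinRing_of_ringEquiv (DoubleQuot.quotQuotEquivQuotOfLE hXT) h3

end Poly

end Groth.Agent.H34.GeomLink
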