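import Groth.Agent.H34.GorHull
import Groth.Agent.Lib.Helper26.LcExt
import Groth.Agent.Lib.Helper26.LcCM
import Groth.Agent.Lib.Helper60.LocalCohBC
import Groth.Agent.Lib.Helper60.LocalCohTorsion
import Groth.Agent.Lib.Helper60.ExtFG
import Groth.Agent.Lib.Helper39.LcVanish
import Groth.Agent.S0340

/-!
# Gorenstein ⇔ local cohomology concentrated in one degree with injective value (helper34)
-/

set_option autoImplicit false
universe u

namespace Groth.Agent.H34.GorChar

open IsLocalRing Groth.Agent.Lib.Helper60 Groth.Agent.Lib.Helper26.LcExt CategoryTheory Abelian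

section Shift

variable {R : Type u} [CommRing R] [IsNoetherianRing R] (J : Ideal R)

theorem injective_of_linearEquiv {M N : Type u} [AddCommGroup M] [Module R M] [AddCommGroup N]
    [Module R N] (e : M ≃ₗ[R] N) (h : Module.Injective R M) : Module.Injective R N :=
  Module.Baer.injective (Module.Baer.of_equiv e (Module.Baer.of_injective h))

/-- If `H^i_J(G) = 0` for `i ≠ d` and `H^d_J(G)` is injective then `Ext^i(F, G) = 0` for `i > d`
and every finite `F` supported in `V(J)`. -/
theorem ext_subsingleton_of_lc_single_injective (d : ℕ) :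
    ∀ (G : Type u) [AddCommGroup G] [Module R G],
      (∀ i : ℕ, i ≠ d → Subsingleton (LocCoh.H J i G)) → Module.Injective R (LocCoh.H J d G) →
      ∀ (F : Type u) [AddCommGroup F] [Module R F] [Module.Finite R F],
        Module.support R F ⊆ PrimeSpectrum.zeroLocus (J : Set R) →
        ∀ i : ℕ, d < i → Subsingleton (Ext (ModuleCat.of R F) (ModuleCat.of R G) i) := by
  induction d with
  | zero =>
    intro G _ _ hvan hinj F _ _ _ hF i hi
    -- `T = Γ_J(G)` is injective
    have hT : Module.Injective R (DRing.torsionSub J G) :=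
      injective_of_linearEquiv (lcH0Equiv J (ModuleCat.of R G)) hinj
    have hS := sesOfSubmodule_shortExact (DRing.torsionSub J G)
    -- all local cohomology of `G/T` vanishes
    have hlc : ∀ j : ℕ, Subsingleton (LocCoh.H J j (G ⧸ DRing.torsionSub J G)) :=
      fun j => Groth.Agent.Lib.Helper39.LcVanish.lc_quotient_torsionSub_subsingleton J G
        (fun k hk => hvan k (by omega)) j
    have hext3 : Subsingleton (Ext (ModuleCat.of R F)
        (ModuleCat.of R (G ⧸ DRing.torsionSub J G)) i) :=
      (main_aux J (i + 1) (G ⧸ DRing.torsionSub J G)).1 F hF (fun j _ => hlc j) i (Nat.lt_succ_self i)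
    haveI : Injective (sesOfSubmodule (DRing.torsionSub J G)).X₁ :=
      Module.injective_object_of_injective_module R (DRing.torsionSub J G)
    refine subsingleton_of_forall_eq 0 (fun x₂ => ?_)
    obtain ⟨j, rfl⟩ := Nat.exists_eq_succ_of_ne_zero hi.ne'
    obtain ⟨x₁, hx₁⟩ := Ext.covariant_sequence_exact₂ (ModuleCat.of R F) hS x₂
      (@Subsingleton.elim _ hext3 _ _)
    rw [← hx₁, Ext.eq_zero_of_injective x₁, Ext.zero_comp]
    rfl
  | succ d ih =>
    intro G _ _ hvan hinj F _ _ _ hF i hi
    have hG : DRing.torsionSub J G = ⊥ :=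
      (lc_zero_subsingleton_iff J (ModuleCat.of R G)).mp (hvan 0 (by omega))
    obtain ⟨E, _, _, hEinj, ι, hι, hE⟩ := exists_injective_embedding_torsionFree J G hG
    have hS := sesOfInjective_shortExact ι hι
    have hinjE : Injective (ModuleCat.of R E) := Module.injective_object_of_injective_module R E
    have hlc2 : ∀ j, Subsingleton ((localCohomology J j).obj (sesOfInjective ι).X₂) :=
      fun j => lc_subsingleton_of_injective_torsionFree J (ModuleCat.of R E) hE j
    have hext2 : ∀ j, Subsingleton (Ext (ModuleCat.of R F) (sesOfInjective ι).X₂ j) :=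
      fun j => ext_subsingleton_of_injective_torsionFree J F hF E hE j
    -- the quotient `C = E/G`
    have hvanC : ∀ j : ℕ, j ≠ d → Subsingleton (LocCoh.H J j (E ⧸ LinearMap.range ι)) :=
      fun j hj => (lc_shift J hS hlc2 j).mpr (hvan (j + 1) (by omega))
    have hinjC : Module.Injective R (LocCoh.H J d (E ⧸ LinearMap.range ι)) := by
      haveI := hlc2 d
      haveI := hlc2 (d + 1)
      have hb := lcDelta_bijective J hS d
      exact injective_of_linearEquiv (LinearEquiv.ofBijective (lcDelta J hS d) hb).symm hinj
    obtain ⟨j, rfl⟩ : ∃ j, i = j + 1 := ⟨i - 1, by omega⟩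
    have h3 := ih (E ⧸ LinearMap.range ι) hvanC hinjC F hF j (by omega)
    exact (ext_shift hS (ModuleCat.of R F) hext2 j).mp h3

end Shift

section Main

variable (A : Type u) [CommRing A] [IsLocalRing A] [IsNoetherianRing A]

theorem gorenstein_iff :
    LocCoh.IsGorensteinLocalRing A ↔ ∃ d : ℕ,
      (∀ i : ℕ, i ≠ d → Subsingleton (LocCoh.H (maximalIdeal A) i A)) ∧
      Module.Injective A (LocCoh.H (maximalIdeal A) d A) := by
  constructor
  · intro hG
    obtain ⟨t, ht, hsd, -⟩ := gorenstein_data (A := A) hG.exists_hasInjectiveDimensionLT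
    have hn : ringKrullDim A = t := by
      rw [← Module.supportDim_self_eq_ringKrullDim, hsd]
      rfl
    refine ⟨t, ?_, ?_⟩
    · intro i hi
      rcases lt_or_gt_of_ne hi with hlt | hgt
      · exact (Groth.Agent.Lib.Helper26.LcCM.lc_vanishing_iff_le_idealDepth A (maximalIdeal A) A
          t).mpr (le_of_eq ht.symm) i hlt
      · apply lc_subsingleton_of_supportDim_lt
        rw [hsd]
        exact_mod_cast hgt
    · obtain ⟨g, hg⟩ := Groth.Agent.H34.GorHull.main A t hn
      exact hg.isInjective
  · rintro ⟨d, hvan, hinj⟩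
    rw [Groth.Agent.S0340.result]
    refine ⟨d + 1, fun i hi => ?_⟩
    have hsupp : Module.support A (ResidueField A) ⊆
        PrimeSpectrum.zeroLocus (maximalIdeal A : Set A) := by
      have : Module.support A (A ⧸ maximalIdeal A) =
          PrimeSpectrum.zeroLocus (maximalIdeal A : Set A) := by
        rw [Module.support_eq_zeroLocus, Ideal.annihilator_quotient]
      exact this.le
    haveI : Module.Finite A (ResidueField A) :=
      Module.Finite.of_surjective (Algebra.linearMap A (ResidueField A))
        Ideal.Quotient.mk_surjective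
    exact ext_subsingleton_of_lc_single_injective (maximalIdeal A) d A hvan hinj
      (ResidueField A) hsupp i (by omega)

end Main

end Groth.Agent.H34.GorChar
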