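import Groth.Agent.Lib.Helper28.RegularDual
import Groth.Agent.Lib.Helper60.BC
import Groth.Agent.Lib.Helper60.NV2
import Groth.Agent.Lib.Helper2.InjHullCriterion

/-!
# Duality for finite length modules over a Gorenstein local ring (helper34)

`Ext^i(M, A) = 0` for `i ≠ dim A` and `length Ext^n(M, A) = length M`, for `M` of finite length over
a Gorenstein local ring `A` of dimension `n`.
-/

set_option autoImplicit false
universe u

namespace Groth.Agent.H34.GorDual

open IsLocalRing RingTheory.Sequence Groth.Agent.Lib.Helper29 Groth.Agent.Lib.Helper28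
  Groth.Agent.Lib.Helper60 CategoryTheory Abelian

section Generic

variable (A : Type u) [CommRing A] [IsLocalRing A]

/-- The length induction: if `Ext^i(k, A) = 0` for `i ≠ n` then for every finite length `M`,
`Ext^i(M, A) = 0` for `i ≠ n` and `length Ext^n(M, A) = length M * length Ext^n(k, A)`. -/
theorem ext_of_isFiniteLength_aux (n : ℕ)
    (hk1 : ∀ i : ℕ, i ≠ n → Subsingleton
      (Ext (ModuleCat.of A (A ⧸ maximalIdeal A)) (ModuleCat.of A A) i))
    (M : Type u) [AddCommGroup M] [Module A M] (hM : IsFiniteLength A M) :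
    (∀ i : ℕ, i ≠ n → Subsingleton (Ext (ModuleCat.of A M) (ModuleCat.of A A) i)) ∧
    Module.length A (Ext (ModuleCat.of A M) (ModuleCat.of A A) n) =
      Module.length A M *
        Module.length A (Ext (ModuleCat.of A (A ⧸ maximalIdeal A)) (ModuleCat.of A A) n) := by
  induction hM with
  | @of_subsingleton M _ _ _ =>
    refine ⟨fun i _ => ext_subsingleton_of_isZero_left A (ModuleCat.isZero_of_subsingleton _) _ i,
      ?_⟩
    have := ext_subsingleton_of_isZero_left A
      (ModuleCat.isZero_of_subsingleton (ModuleCat.of A M)) (ModuleCat.of A A) n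
    rw [Module.length_eq_zero, Module.length_eq_zero, zero_mul]
  | @of_simple_quotient M _ _ N hsimple hN ih =>
    obtain ⟨ih1, ih2⟩ := ih
    obtain ⟨I, hI, ⟨eq⟩⟩ := isSimpleModule_iff_quot_maximal.mp hsimple
    obtain rfl : I = maximalIdeal A := IsLocalRing.eq_maximalIdeal hI
    let S : ShortComplex (ModuleCat.{u} A) :=
      ShortComplex.mk (ModuleCat.ofHom N.subtype) (ModuleCat.ofHom N.mkQ) (by
        ext x
        exact (Submodule.Quotient.mk_eq_zero N).mpr x.2)
    have hS : S.ShortExact :=
      { exact := (ShortComplex.ShortExact.moduleCat_exact_iff_function_exact S).mpr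
          (LinearMap.exact_subtype_mkQ N)
        mono_f := (ModuleCat.mono_iff_injective _).mpr N.injective_subtype
        epi_g := (ModuleCat.epi_iff_surjective _).mpr N.mkQ_surjective }
    have hq1 : ∀ i : ℕ, i ≠ n → Subsingleton (Ext S.X₃ (ModuleCat.of A A) i) := by
      intro i hi
      have := hk1 i hi
      exact (extCongrLeft eq.toModuleIso (ModuleCat.of A A) i).symm.toEquiv.subsingleton
    have hq2 : Module.length A (Ext S.X₃ (ModuleCat.of A A) n) =
        Module.length A (Ext (ModuleCat.of A (A ⧸ maximalIdeal A)) (ModuleCat.of A A) n) :=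
      (length_ext_congr A eq.toModuleIso (ModuleCat.of A A) n).symm
    constructor
    · intro i hi
      have s₁ := ih1 i hi
      have s₃ := hq1 i hi
      refine subsingleton_of_forall_eq 0 (fun x₂ => ?_)
      obtain ⟨x₃, hx₃⟩ := Ext.contravariant_sequence_exact₂ hS (ModuleCat.of A A) x₂
        (Subsingleton.elim _ _)
      rw [← hx₃, Subsingleton.elim x₃ 0]
      exact Ext.comp_zero _ _ _ _ _
    · let f : Ext S.X₃ (ModuleCat.of A A) n →ₗ[A] Ext S.X₂ (ModuleCat.of A A) n :=
        (Ext.mk₀ S.g).precompOfLinear A (ModuleCat.of A A) (zero_add n)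
      let g : Ext S.X₂ (ModuleCat.of A A) n →ₗ[A] Ext S.X₁ (ModuleCat.of A A) n :=
        (Ext.mk₀ S.f).precompOfLinear A (ModuleCat.of A A) (zero_add n)
      have hf : Function.Injective f := by
        rcases Nat.eq_zero_or_pos n with h0 | hpos
        · subst h0
          exact Ext.precomp_mk₀_injective_of_epi (ModuleCat.of A A) S.g (hg := hS.epi_g)
        · obtain ⟨m, rfl⟩ : ∃ m, n = m + 1 := ⟨n - 1, by omega⟩
          rw [injective_iff_map_eq_zero]
          intro x hx
          obtain ⟨x₁, hx₁⟩ := Ext.contravariant_sequence_exact₃ hS (ModuleCat.of A A) x hx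
            (add_comm 1 m)
          have := ih1 m (by omega)
          rw [← hx₁, Subsingleton.elim x₁ 0]
          exact Ext.comp_zero _ _ _ _ _
      have hg : Function.Surjective g := by
        intro y
        have := hq1 (n + 1) (by omega)
        exact Ext.contravariant_sequence_exact₁ hS (ModuleCat.of A A) y (add_comm 1 n)
          (Subsingleton.elim _ _)
      have hfg : Function.Exact f g := by
        intro y
        constructor
        · intro hy
          obtain ⟨x, hx⟩ := Ext.contravariant_sequence_exact₂ hS (ModuleCat.of A A) y hy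
          exact ⟨x, hx⟩
        · rintro ⟨x, rfl⟩
          change (Ext.mk₀ S.f).comp ((Ext.mk₀ S.g).comp x (zero_add n)) (zero_add n) = 0
          rw [← Ext.comp_assoc_of_second_deg_zero, Ext.mk₀_comp_mk₀, S.zero, Ext.mk₀_zero,
            Ext.zero_comp]
      have h := Module.length_eq_add_of_exact f g hf hg hfg
      have h' := Module.length_eq_add_of_exact N.subtype N.mkQ N.injective_subtype
        N.mkQ_surjective (LinearMap.exact_subtype_mkQ N)
      rw [Module.length_eq_one A (M ⧸ N)] at h'
      change Module.length A (Ext S.X₂ (ModuleCat.of A A) n) = _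
      rw [h, hq2, ih2, h', add_mul, one_mul, add_comm]

end Generic

section Gorenstein

variable (A : Type u) [CommRing A] [hG : LocCoh.IsGorensteinLocalRing A]

/-- `Ext^i(k, A) = 0` for `i ≠ dim A` over a Gorenstein local ring. -/
theorem ext_residueField_subsingleton (n : ℕ) (hn : ringKrullDim A = n) (i : ℕ) (hi : i ≠ n) :
    Subsingleton (Ext (ModuleCat.of A (A ⧸ maximalIdeal A)) (ModuleCat.of A A) i) := by
  obtain ⟨t, ht, hsd, hinj⟩ := gorenstein_data (A := A) hG.exists_hasInjectiveDimensionLT
  have htn : t = n := by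
    rw [Module.supportDim_self_eq_ringKrullDim, hn] at hsd
    have h1 : ((n : ℕ∞) : WithBot ℕ∞) = ((t : ℕ∞) : WithBot ℕ∞) := hsd
    have h2 : (n : ℕ∞) = (t : ℕ∞) := WithBot.coe_injective h1
    exact_mod_cast h2.symm
  subst htn
  rcases lt_or_gt_of_ne hi with hlt | hgt
  · have hCM : LocCoh.IsCohenMacaulayModule A A := by
      unfold LocCoh.IsCohenMacaulayModule
      rw [hsd, ht]
    refine ext_self_subsingleton_of_supportDim_add_le A hCM t (A ⧸ maximalIdeal A) ?_ i hlt
    rw [Module.supportDim_quotient_eq_ringKrullDim, hn]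
    have : ringKrullDim (A ⧸ maximalIdeal A) = 0 := ringKrullDim_eq_zero_of_isField
      ((Ideal.Quotient.maximal_ideal_iff_isField_quotient _).mp (maximalIdeal.isMaximal A))
    rw [this, zero_add]
  · exact HasInjectiveDimensionLT.subsingleton _ (t + 1) i (by omega) _

/-- The maximal ideal of a zero-dimensional Noetherian local ring is nilpotent. -/
theorem isNilpotent_maximalIdeal_of_dim_zero (B : Type u) [CommRing B] [IsNoetherianRing B]
    [IsLocalRing B] (hdim : ringKrullDim B = 0) : IsNilpotent (IsLocalRing.maximalIdeal B) := by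
  rw [← isArtinianRing_iff_isNilpotent_maximalIdeal, isArtinianRing_iff_krullDimLE_zero,
    Ring.krullDimLE_iff, hdim]
  rfl

/-- A Gorenstein local ring has type one: `length Ext^n(k, A) = 1`. -/
theorem length_ext_residueField (n : ℕ) (hn : ringKrullDim A = n) :
    Module.length A (Ext (ModuleCat.of A (A ⧸ maximalIdeal A)) (ModuleCat.of A A) n) = 1 := by
  obtain ⟨t, ht, hsd, hinj⟩ := gorenstein_data (A := A) hG.exists_hasInjectiveDimensionLT
  have htn : t = n := by
    rw [Module.supportDim_self_eq_ringKrullDim, hn] at hsd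
    have h1 : ((n : ℕ∞) : WithBot ℕ∞) = ((t : ℕ∞) : WithBot ℕ∞) := hsd
    have h2 : (n : ℕ∞) = (t : ℕ∞) := WithBot.coe_injective h1
    exact_mod_cast h2.symm
  subst htn
  obtain ⟨zs, hlen, hmem, hreg⟩ := exists_isRegular_mem_pow (S := A) A t (le_of_eq ht.symm) 1
    one_ne_zero
  -- the quotient has dimension zero
  have hdim0 : ringKrullDim (A ⧸ Ideal.ofList zs) = 0 := by
    have h := ringKrullDim_add_length_eq_ringKrullDim_of_isRegular zs hreg
    rw [hlen, hn] at h
    have hne : Ideal.ofList zs ≠ ⊤ := by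
      intro htop
      apply hreg.top_ne_smul
      rw [htop, Submodule.top_smul]
    haveI : Nontrivial (A ⧸ Ideal.ofList zs) := Ideal.Quotient.nontrivial_iff.mpr hne
    obtain ⟨d, hd⟩ : ∃ d : ℕ∞, ringKrullDim (A ⧸ Ideal.ofList zs) = d := by
      have hb : ringKrullDim (A ⧸ Ideal.ofList zs) ≠ ⊥ := by
        intro hbot
        have h0 := ringKrullDim_nonneg_of_nontrivial (R := A ⧸ Ideal.ofList zs)
        rw [hbot] at h0
        exact absurd h0 (by simp)
      exact ⟨WithBot.unbot _ hb, (WithBot.coe_unbot _ hb).symm⟩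
    rw [hd] at h ⊢
    have h' : ((d + (t : ℕ∞) : ℕ∞) : WithBot ℕ∞) = (((0 : ℕ∞) + (t : ℕ∞) : ℕ∞) : WithBot ℕ∞) := by
      rw [zero_add]
      exact_mod_cast h
    have h'' : d + (t : ℕ∞) = 0 + (t : ℕ∞) := WithBot.coe_injective h'
    have : d = 0 := (ENat.add_left_injective_of_ne_top (ENat.natCast_ne_top t)) h''
    rw [this]
    rfl
  haveI hloc : IsLocalRing (A ⧸ Ideal.ofList zs) := by
    have hne : Ideal.ofList zs ≠ ⊤ := by
      intro htop
      apply hreg.top_ne_smul
      rw [htop, Submodule.top_smul]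
    haveI : Nontrivial (A ⧸ Ideal.ofList zs) := Ideal.Quotient.nontrivial_iff.mpr hne
    exact IsLocalRing.of_surjective' (Ideal.Quotient.mk (Ideal.ofList zs))
      Ideal.Quotient.mk_surjective
  obtain ⟨N, hN⟩ := isNilpotent_maximalIdeal_of_dim_zero (A ⧸ Ideal.ofList zs) hdim0
  have hpow : maximalIdeal A ^ N ≤ Ideal.ofList zs := by
    have h1 : (maximalIdeal A ^ N).map (Ideal.Quotient.mk (Ideal.ofList zs)) = ⊥ := by
      rw [Ideal.map_pow, IsLocalRing.map_maximalIdeal_of_surjective _ Ideal.Quotient.mk_surjective]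
      exact hN
    rw [Ideal.map_eq_bot_iff_le_ker, Ideal.mk_ker] at h1
    exact h1
  have hfl : IsFiniteLength A (A ⧸ Ideal.ofList zs) :=
    Groth.Agent.Lib.Helper2.isFiniteLength_quot_of_pow_le (Ideal.ofList zs) N hpow
  -- Ext of the quotient
  have hvan : ∀ i, 0 < i → Subsingleton (Ext (ModuleCat.of A A) (ModuleCat.of A A) i) := by
    intro i hi
    obtain ⟨j, rfl⟩ : ∃ j, i = j + 1 := ⟨i - 1, by omega⟩
    exact subsingleton_of_forall_eq 0 (fun x => Ext.eq_zero_of_projective x)
  obtain ⟨-, h2⟩ := ext_quot_regular (ModuleCat.of A A) zs A 0 hreg.toIsWeaklyRegular hvan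
  obtain ⟨ψ⟩ := h2 t (by omega)
  have heq : (Ideal.ofList zs • ⊤ : Submodule A A) = Ideal.ofList zs := by
    rw [smul_eq_mul, Ideal.mul_top]
  let e : (A ⧸ (Ideal.ofList zs • ⊤ : Submodule A A)) ≃ₗ[A] (A ⧸ Ideal.ofList zs) :=
    Submodule.quotEquivOfEq _ _ heq
  let e0 : Ext (ModuleCat.of A A) (ModuleCat.of A A) 0 ≃ₗ[A] A :=
    Ext.linearEquiv₀.trans ((ModuleCat.homLinearEquiv (S := A)).trans
      (LinearMap.ringLmapEquivSelf A A A))
  have hL1 : Module.length A (Ext (ModuleCat.of A (A ⧸ Ideal.ofList zs)) (ModuleCat.of A A) t) =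
      Module.length A (A ⧸ Ideal.ofList zs) :=
    ((extCongrLeft e.toModuleIso (ModuleCat.of A A) t).trans (ψ.trans
      ((quotSMulTopCongr (Ideal.ofList zs) e0).trans e))).length_eq
  obtain ⟨-, hL2⟩ := ext_of_isFiniteLength_aux A t
    (fun i hi => ext_residueField_subsingleton A t hn i hi) (A ⧸ Ideal.ofList zs) hfl
  rw [hL1] at hL2
  -- arithmetic in `ℕ∞`
  set L := Module.length A (A ⧸ Ideal.ofList zs) with hL
  set r := Module.length A (Ext (ModuleCat.of A (A ⧸ maximalIdeal A)) (ModuleCat.of A A) t) with hr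
  have hLtop : L ≠ ⊤ := Module.length_ne_top_iff.mpr hfl
  have hL0 : L ≠ 0 := by
    rw [hL, Ne, Module.length_eq_zero_iff]
    intro hsub
    have hne : Ideal.ofList zs ≠ ⊤ := by
      intro htop
      apply hreg.top_ne_smul
      rw [htop, Submodule.top_smul]
    exact hne (Ideal.Quotient.subsingleton_iff.mp hsub)
  obtain ⟨l, hl⟩ := ENat.ne_top_iff_exists.mp hLtop
  rw [← hl] at hL2 hL0
  have hl0 : l ≠ 0 := by exact_mod_cast hL0
  cases hr' : r with
  | top =>
    rw [hr'] at hL2
    rw [ENat.mul_top (by exact_mod_cast hl0)] at hL2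
    exact absurd hL2 (ENat.natCast_ne_top l)
  | coe r' =>
    rw [hr'] at hL2
    have h3 : l = l * r' := by exact_mod_cast hL2
    have h4 : r' = 1 := by
      have : l * 1 = l * r' := by rw [mul_one]; exact h3
      exact (Nat.eq_of_mul_eq_mul_left (Nat.pos_of_ne_zero hl0) this).symm
    rw [h4]
    rfl

/-- **Duality for finite length modules over a Gorenstein local ring.** -/
theorem ext_self_of_isFiniteLength (n : ℕ) (hn : ringKrullDim A = n) (M : Type u)
    [AddCommGroup M] [Module A M] (hM : IsFiniteLength A M) :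
    (∀ i : ℕ, i ≠ n → Subsingleton (Ext (ModuleCat.of A M) (ModuleCat.of A A) i)) ∧
    Module.length A (Ext (ModuleCat.of A M) (ModuleCat.of A A) n) = Module.length A M := by
  obtain ⟨h1, h2⟩ := ext_of_isFiniteLength_aux A n
    (fun i hi => ext_residueField_subsingleton A n hn i hi) M hM
  refine ⟨h1, ?_⟩
  rw [h2, length_ext_residueField A n hn, mul_one]

end Gorenstein

end Groth.Agent.H34.GorDual
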