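import Groth.Agent.H34.GorHull
import Groth.Agent.Lib.Helper79.LocalDualityE

/-!
# Local duality over a Gorenstein local ring (helper34)

`H^i_m(M) ≃ Hom(Ext^{d}(M, A), H^r_m(A))` for `i + d = r = dim A`, `M` finite, `A` Gorenstein local;
consequences: `Ext^i(M, A) = 0` for `i > 0` when `H^j_m(M) = 0` for all `j < r` (maximal
Cohen–Macaulay modules).
-/

set_option autoImplicit false
universe u

namespace Groth.Agent.H34.GorLD

open IsLocalRing Groth.Agent.Lib.Helper60 Groth.Agent.Lib.Helper79.ExtRep
  Groth.Agent.Lib.Helper79.LocalDuality CategoryTheory Abelian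

variable (A : Type u) [CommRing A] [hG : LocCoh.IsGorensteinLocalRing A] (r : ℕ)
  (hr : ringKrullDim A = r)

include hr

/-- A Gorenstein local ring of dimension `r` satisfies the hypotheses of local duality. -/
theorem dualData : DualData (maximalIdeal A) r where
  vanish_lt i hi := by
    refine ⟨fun x y => ?_⟩
    have key : ∀ x : (localCohomology (maximalIdeal A) i).obj (ωR A), x = 0 := by
      intro x
      obtain ⟨n, ξ, rfl⟩ := lcMk_surj (maximalIdeal A) i (ωR A) x
      have hfl : IsFiniteLength A (A ⧸ (maximalIdeal A) ^ n) :=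
        Groth.Agent.Lib.Helper2.isFiniteLength_quot_of_pow_le (maximalIdeal A ^ n) n le_rfl
      have hsub := (Groth.Agent.H34.GorDual.ext_self_of_isFiniteLength A r hr
        (A ⧸ (maximalIdeal A) ^ n) hfl).1 i (by omega)
      have : ξ = 0 := @Subsingleton.elim _ hsub _ _
      rw [this, lcMk_zero]
    rw [key x, key y]
  vanish_succ N _ _ hN := by
    apply lc_subsingleton_of_supportDim_lt_of_finite (maximalIdeal A) (r + 1) N
    refine lt_of_le_of_lt (Module.supportDim_le_ringKrullDim A N) ?_
    rw [hr]
    exact_mod_cast Nat.lt_succ_self r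
  injective := by
    obtain ⟨g, hg⟩ := Groth.Agent.H34.GorHull.main A r hr
    exact hg.isInjective

/-- Local duality over a Gorenstein local ring. -/
theorem nonempty_linearEquiv (M : Type u) [AddCommGroup M] [Module A M]
    [Module.Finite A M] (i d : ℕ) (h : i + d = r) :
    Nonempty (LocCoh.H (maximalIdeal A) i M ≃ₗ[A]
      (Abelian.Ext (ModuleCat.of A M) (ModuleCat.of A A) d →ₗ[A]
        LocCoh.H (maximalIdeal A) r A)) :=
  ⟨LinearEquiv.ofBijective _ (Psi_bijective (dualData A r hr) d M i h)⟩

end Groth.Agent.H34.GorLD
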