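import Groth.Agent.H34.GorMCM
import Groth.Agent.Lib.Helper29.DepthQuot
import Groth.Agent.Lib.Helper29.DepthRees

/-!
# Peskine–Szpiro linkage in a Gorenstein local ring, ring form (helper34)
-/

set_option autoImplicit false
universe u

namespace Groth.Agent.H34.GorLink

open IsLocalRing Groth.Agent.Lib.Helper29 Groth.Agent.H34.GorMCM

variable (A : Type u) [CommRing A] [IsNoetherianRing A] [IsLocalRing A] (r : ℕ)

/-- A CM quotient ring of full dimension has vanishing local cohomology below the dimension. -/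
theorem lcVan_of_isCohenMacaulayLocalRing (I : Ideal A) [LocCoh.IsCohenMacaulayLocalRing (A ⧸ I)]
    (hI : ringKrullDim (A ⧸ I) = r) :
    ∀ j < r, Subsingleton (LocCoh.H (maximalIdeal A) j (A ⧸ I)) := by
  rw [Groth.Agent.Lib.Helper26.LcCM.lc_vanishing_iff_le_idealDepth]
  have hCM : Module.supportDim (A ⧸ I) (A ⧸ I) =
      ((LocCoh.depth (A ⧸ I) (A ⧸ I) : ℕ∞) : WithBot ℕ∞) :=
    LocCoh.IsCohenMacaulayLocalRing.supportDim_eq_depth
  rw [Module.supportDim_self_eq_ringKrullDim, hI,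
    depth_self_eq_depth_of_surjective (R := A) (R' := A ⧸ I) Ideal.Quotient.mk_surjective] at hCM
  have h1 : ((r : ℕ∞) : WithBot ℕ∞) = ((LocCoh.depth A (A ⧸ I) : ℕ∞) : WithBot ℕ∞) := hCM
  have h2 : (r : ℕ∞) = LocCoh.depth A (A ⧸ I) := WithBot.coe_injective h1
  exact le_of_eq h2

/-- Conversely, a proper quotient with vanishing local cohomology below `dim A` is a CM local
ring of full dimension. -/
theorem isCohenMacaulayLocalRing_of_lcVan (hr : ringKrullDim A = r) (J : Ideal A) (hJ : J ≠ ⊤)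
    (h : ∀ j < r, Subsingleton (LocCoh.H (maximalIdeal A) j (A ⧸ J))) :
    LocCoh.IsCohenMacaulayLocalRing (A ⧸ J) ∧ ringKrullDim (A ⧸ J) = r := by
  haveI : Nontrivial (A ⧸ J) := Ideal.Quotient.nontrivial_iff.mpr hJ
  haveI : IsLocalRing (A ⧸ J) := IsLocalRing.of_surjective' _ Ideal.Quotient.mk_surjective
  rw [Groth.Agent.Lib.Helper26.LcCM.lc_vanishing_iff_le_idealDepth] at h
  have h1 : LocCoh.depth (A ⧸ J) (A ⧸ J) = LocCoh.depth A (A ⧸ J) :=
    depth_self_eq_depth_of_surjective (R := A) (R' := A ⧸ J) Ideal.Quotient.mk_surjective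
  have h2 : ((LocCoh.depth (A ⧸ J) (A ⧸ J) : ℕ∞) : WithBot ℕ∞) ≤
      Module.supportDim (A ⧸ J) (A ⧸ J) := depth_le_supportDim (A ⧸ J) (A ⧸ J)
  rw [Module.supportDim_self_eq_ringKrullDim] at h2
  have h3 : ringKrullDim (A ⧸ J) ≤ ringKrullDim A :=
    ringKrullDim_le_of_surjective _ Ideal.Quotient.mk_surjective
  have h4 : ((r : ℕ∞) : WithBot ℕ∞) ≤ ((LocCoh.depth (A ⧸ J) (A ⧸ J) : ℕ∞) : WithBot ℕ∞) := by
    rw [h1]
    exact WithBot.coe_le_coe.mpr h
  have h5 : ringKrullDim (A ⧸ J) = r := le_antisymm (h3.trans (le_of_eq hr)) (h4.trans h2)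
  refine ⟨{ supportDim_eq_depth := ?_ }, h5⟩
  rw [Module.supportDim_self_eq_ringKrullDim]
  refine le_antisymm ?_ h2
  rw [h5]
  exact h4

end Groth.Agent.H34.GorLink
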