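import Groth.Agent.H34.GorLD
import Groth.Agent.Lib.Helper26.LcCM
import Groth.Agent.Lib.Helper2.Matlis

/-!
# Maximal Cohen–Macaulay modules over a Gorenstein local ring (helper34)

`LcVan r M`: `H^j_m(M) = 0` for all `j < r` ("`M` is MCM or zero" when `r = dim A`).
Over a Gorenstein local ring `A` of dimension `r`:
* `ext_subsingleton`: `Ext^i(M, A) = 0` for `i > 0` and `M` finite with `LcVan`;
* `lcVan_dual`: the dual `Hom(M, A)` again satisfies `LcVan`;
* `lcVan_quot_annihilator` (Peskine–Szpiro): if `A/I` satisfies `LcVan` then so does `A/(0 : I)`.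
-/

set_option autoImplicit false
universe u

namespace Groth.Agent.H34.GorMCM

open IsLocalRing Groth.Agent.Lib.Helper60 Groth.Agent.Lib.Helper79.ExtRep
  Groth.Agent.Lib.Helper79.LocalDuality CategoryTheory Abelian

section LES

variable {R : Type u} [CommRing R] (J : Ideal R)
variable {X₁ X₂ X₃ : Type u} [AddCommGroup X₁] [Module R X₁] [AddCommGroup X₂] [Module R X₂]
  [AddCommGroup X₃] [Module R X₃]

theorem subsingleton_of_linearEquiv (e : X₁ ≃ₗ[R] X₂) (j : ℕ)
    (h : Subsingleton (LocCoh.H J j X₁)) : Subsingleton (LocCoh.H J j X₂) := by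
  have e' : LocCoh.H J j X₁ ≃ₗ[R] LocCoh.H J j X₂ :=
    ((localCohomology J j).mapIso e.toModuleIso).toLinearEquiv
  exact e'.symm.toEquiv.subsingleton

variable (f : X₁ →ₗ[R] X₂) (g : X₂ →ₗ[R] X₃) (hf : Function.Injective f)
  (hg : Function.Surjective g) (hfg : Function.Exact f g)

include hf hg hfg

theorem lcVan_left (k : ℕ) (h₂ : ∀ j < k, Subsingleton (LocCoh.H J j X₂))
    (h₃ : ∀ j, j + 1 < k → Subsingleton (LocCoh.H J j X₃)) :
    ∀ j < k, Subsingleton (LocCoh.H J j X₁) := by
  have hS := ModuleCat.shortComplex_shortExact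
    (ModuleCat.shortComplexOfCompEqZero f g hfg.linearMap_comp_eq_zero) hfg hf hg
  intro j hj
  refine ⟨fun a b => ?_⟩
  have key : ∀ y : LocCoh.H J j X₁, y = 0 := by
    intro y
    rcases j with _ | i
    · have h0 : ((localCohomology J 0).map (ModuleCat.ofHom f)).hom y = 0 :=
        (h₂ 0 hj).elim _ _
      have h1 := lcH0Map_naturality J (ModuleCat.ofHom f) y
      rw [h0, map_zero] at h1
      have h2 : lcH0Map J (ModuleCat.of R X₁) y = 0 := hf (by rw [map_zero]; exact h1.symm)
      exact lcH0Map_injective J _ (by rw [h2, map_zero])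
    · have h0 : ((localCohomology J (i + 1)).map (ModuleCat.ofHom f)).hom y = 0 :=
        (h₂ (i + 1) hj).elim _ _
      obtain ⟨y₃, hy₃⟩ := lc_exact₁ J hS i y h0
      have : y₃ = 0 := (h₃ i hj).elim _ _
      rw [← hy₃, this, map_zero]
  rw [key a, key b]

theorem lcVan_mid (k : ℕ) (h₁ : ∀ j < k, Subsingleton (LocCoh.H J j X₁))
    (h₃ : ∀ j < k, Subsingleton (LocCoh.H J j X₃)) :
    ∀ j < k, Subsingleton (LocCoh.H J j X₂) := by
  have hS := ModuleCat.shortComplex_shortExact
    (ModuleCat.shortComplexOfCompEqZero f g hfg.linearMap_comp_eq_zero) hfg hf hg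
  intro j hj
  refine ⟨fun a b => ?_⟩
  have key : ∀ y : LocCoh.H J j X₂, y = 0 := by
    intro y
    have h0 : ((localCohomology J j).map (ModuleCat.ofHom g)).hom y = 0 := (h₃ j hj).elim _ _
    obtain ⟨y₁, hy₁⟩ := lc_exact₂ J hS j y h0
    have : y₁ = 0 := (h₁ j hj).elim _ _
    rw [← hy₁, this, map_zero]
  rw [key a, key b]

theorem lcVan_right (k : ℕ) (h₂ : ∀ j < k, Subsingleton (LocCoh.H J j X₂))
    (h₁ : ∀ j < k + 1, Subsingleton (LocCoh.H J j X₁)) :
    ∀ j < k, Subsingleton (LocCoh.H J j X₃) := by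
  have hS := ModuleCat.shortComplex_shortExact
    (ModuleCat.shortComplexOfCompEqZero f g hfg.linearMap_comp_eq_zero) hfg hf hg
  intro j hj
  refine ⟨fun a b => ?_⟩
  have key : ∀ y : LocCoh.H J j X₃, y = 0 := by
    intro y
    have h0 : lcDelta J hS j y = 0 := (h₁ (j + 1) (by omega)).elim _ _
    obtain ⟨y₂, hy₂⟩ := lc_exact₃ J hS j y h0
    have : y₂ = 0 := (h₂ j hj).elim _ _
    rw [← hy₂, this, map_zero]
  rw [key a, key b]

end LES

section ExtSurj

variable {R : Type u} [CommRing R]
variable {X₁ X₂ X₃ Y : Type u} [AddCommGroup X₁] [Module R X₁] [AddCommGroup X₂] [Module R X₂]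
  [AddCommGroup X₃] [Module R X₃] [AddCommGroup Y] [Module R Y]

/-- If `Ext^1(X₃, Y) = 0` then every map `X₁ → Y` extends along `0 → X₁ → X₂ → X₃ → 0`. -/
theorem exists_extension_of_ext_one (f : X₁ →ₗ[R] X₂) (g : X₂ →ₗ[R] X₃)
    (hf : Function.Injective f) (hg : Function.Surjective g) (hfg : Function.Exact f g)
    (hE : Subsingleton (Abelian.Ext (ModuleCat.of R X₃) (ModuleCat.of R Y) 1))
    (ψ : X₁ →ₗ[R] Y) : ∃ φ : X₂ →ₗ[R] Y, φ ∘ₗ f = ψ := by
  have hS := ModuleCat.shortComplex_shortExact
    (ModuleCat.shortComplexOfCompEqZero f g hfg.linearMap_comp_eq_zero) hfg hf hg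
  have h0 : hS.extClass.comp (Ext.mk₀ (ModuleCat.ofHom ψ)) (add_zero 1) = 0 := hE.elim _ _
  obtain ⟨x₂, hx₂⟩ := Ext.contravariant_sequence_exact₁ hS (ModuleCat.of R Y)
    (Ext.mk₀ (ModuleCat.ofHom ψ)) (add_zero 1) h0
  obtain ⟨φ', rfl⟩ := (Ext.mk₀_bijective _ _).2 x₂
  rw [Ext.mk₀_comp_mk₀] at hx₂
  have h1 := (Ext.mk₀_bijective _ _).1 hx₂
  refine ⟨φ'.hom, ?_⟩
  have h2 := congrArg ModuleCat.Hom.hom h1
  exact h2

end ExtSurj

section Gorenstein

variable (A : Type u) [CommRing A] [hG : LocCoh.IsGorensteinLocalRing A] (r : ℕ)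

/-- `H^j_m(M) = 0` for all `j < r`. -/
def LcVan (M : Type u) [AddCommGroup M] [Module A M] : Prop :=
  ∀ j < r, Subsingleton (LocCoh.H (maximalIdeal A) j M)

variable {A r}

theorem LcVan.of_linearEquiv {M N : Type u} [AddCommGroup M] [Module A M] [AddCommGroup N]
    [Module A N] (e : M ≃ₗ[A] N) (h : LcVan A r M) : LcVan A r N :=
  fun j hj => subsingleton_of_linearEquiv (maximalIdeal A) e j (h j hj)

variable (A r) (hr : ringKrullDim A = r)

include hr

/-- `Ext^i(M, A) = 0` for `i > 0` when `M` is finite with `H^j_m(M) = 0` for `j < dim A`. -/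
theorem ext_subsingleton (M : Type u) [AddCommGroup M] [Module A M] [Module.Finite A M]
    (hM : LcVan A r M) (i : ℕ) (hi : 0 < i) :
    Subsingleton (Abelian.Ext (ModuleCat.of A M) (ModuleCat.of A A) i) := by
  by_cases hir : i ≤ r
  · obtain ⟨e⟩ := Groth.Agent.H34.GorLD.nonempty_linearEquiv A r hr M (r - i) i (by omega)
    have h1 : Subsingleton (LocCoh.H (maximalIdeal A) (r - i) M) := hM (r - i) (by omega)
    have h2 : Subsingleton (Abelian.Ext (ModuleCat.of A M) (ModuleCat.of A A) i →ₗ[A]
        LocCoh.H (maximalIdeal A) r A) := e.symm.toEquiv.subsingleton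
    obtain ⟨g, hg⟩ := Groth.Agent.H34.GorHull.main A r hr
    refine ⟨fun a b => ?_⟩
    have key : ∀ x : Abelian.Ext (ModuleCat.of A M) (ModuleCat.of A A) i, x = 0 := by
      intro x
      by_contra hx
      obtain ⟨φ, hφ⟩ := Groth.Agent.Lib.Helper2.exists_hom_apply_ne_zero hg x hx
      exact hφ (by rw [h2.elim φ 0]; rfl)
    rw [key a, key b]
  · obtain ⟨t, ht, hsd, hinj⟩ := gorenstein_data (A := A) hG.exists_hasInjectiveDimensionLT
    have htn : t = r := by
      rw [Module.supportDim_self_eq_ringKrullDim, hr] at hsd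
      have h1 : ((r : ℕ∞) : WithBot ℕ∞) = ((t : ℕ∞) : WithBot ℕ∞) := hsd
      have h2 : (r : ℕ∞) = (t : ℕ∞) := WithBot.coe_injective h1
      exact_mod_cast h2.symm
    subst htn
    exact HasInjectiveDimensionLT.subsingleton _ (t + 1) i (by omega) _

omit hG hr in
/-- exactness of the dual sequence in the middle. -/
theorem dual_exact {X₁ X₂ X₃ : Type u} [AddCommGroup X₁] [Module A X₁] [AddCommGroup X₂]
    [Module A X₂] [AddCommGroup X₃] [Module A X₃] (f : X₁ →ₗ[A] X₂) (g : X₂ →ₗ[A] X₃)
    (hg : Function.Surjective g) (hfg : Function.Exact f g) :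
    Function.Exact g.dualMap f.dualMap := by
  intro φ
  constructor
  · intro h
    have hker : LinearMap.ker g ≤ LinearMap.ker φ := by
      intro x hx
      obtain ⟨y, rfl⟩ := (hfg x).mp hx
      have := LinearMap.congr_fun h y
      simpa using this
    refine ⟨((LinearMap.ker g).liftQ φ hker) ∘ₗ (g.quotKerEquivOfSurjective hg).symm.toLinearMap, ?_⟩
    ext x
    simp only [LinearMap.dualMap_apply, LinearMap.coe_comp, LinearEquiv.coe_coe,
      Function.comp_apply]
    have : (g.quotKerEquivOfSurjective hg).symm (g x) = Submodule.Quotient.mk x := by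
      rw [LinearEquiv.symm_apply_eq]
      rfl
    rw [this, Submodule.liftQ_apply]
  · rintro ⟨ψ, rfl⟩
    ext x
    simp [LinearMap.dualMap_apply, hfg.apply_apply_eq_zero]

theorem lcVan_self : LcVan A r A := fun j hj =>
  (Groth.Agent.H34.GorLD.dualData A r hr).vanish_lt j hj

theorem lcVan_free (b : ℕ) : LcVan A r (Fin b → A) := fun j hj =>
  lc_FF_subsingleton (maximalIdeal A) j b ((Groth.Agent.H34.GorLD.dualData A r hr).vanish_lt j hj)

/-- kernel of a surjection from a finite free module onto an `LcVan` module is `LcVan`. -/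
theorem lcVan_ker {M : Type u} [AddCommGroup M] [Module A M] (hM : LcVan A r M) {b : ℕ}
    (π : (Fin b → A) →ₗ[A] M) (hπ : Function.Surjective π) : LcVan A r (LinearMap.ker π) :=
  lcVan_left (maximalIdeal A) (LinearMap.ker π).subtype π (Submodule.injective_subtype _) hπ
    (LinearMap.exact_subtype_ker_map π) r (lcVan_free A r hr b) (fun j hj => hM j (by omega))

theorem lcVan_dual_aux (k : ℕ) : ∀ (M : Type u) [AddCommGroup M] [Module A M]
    [Module.Finite A M], LcVan A r M →
    ∀ j < min r k, Subsingleton (LocCoh.H (maximalIdeal A) j (Module.Dual A M)) := by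
  induction k with
  | zero =>
    intro M _ _ _ _ j hj
    simp at hj
  | succ k ih =>
    intro M _ _ _ hM
    obtain ⟨b, π, hπ⟩ := Module.Finite.exists_fin' A M
    have hK : LcVan A r (LinearMap.ker π) := lcVan_ker A r hr hM π hπ
    have hE := ext_subsingleton A r hr M hM 1 one_pos
    refine lcVan_left (maximalIdeal A) π.dualMap (LinearMap.ker π).subtype.dualMap
      (LinearMap.dualMap_injective_of_surjective hπ) ?_
      (dual_exact A (LinearMap.ker π).subtype π hπ (LinearMap.exact_subtype_ker_map π))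
      (min r (k + 1)) ?_ ?_
    · intro ψ
      obtain ⟨φ, hφ⟩ := exists_extension_of_ext_one (LinearMap.ker π).subtype π
        (Submodule.injective_subtype _) hπ (LinearMap.exact_subtype_ker_map π) hE ψ
      exact ⟨φ, hφ⟩
    · intro j hj
      have h1 : Subsingleton (LocCoh.H (maximalIdeal A) j (Fin b → A)) :=
        lcVan_free A r hr b j (lt_of_lt_of_le hj (min_le_left _ _))
      exact subsingleton_of_linearEquiv (maximalIdeal A)
        (LinearEquiv.piRing A A (Fin b) A).symm j h1
    · intro j hj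
      exact ih (LinearMap.ker π) hK j (by omega)

/-- The dual of an `LcVan` module is `LcVan`. -/
theorem lcVan_dual (M : Type u) [AddCommGroup M] [Module A M] [Module.Finite A M]
    (hM : LcVan A r M) : LcVan A r (Module.Dual A M) := fun j hj =>
  lcVan_dual_aux A r hr r M hM j (by simpa using hj)

/-- **Peskine–Szpiro**: over a Gorenstein local ring `A` of dimension `r`, if `A/I` is maximal
Cohen–Macaulay (or zero) then so is `A/(0 : I)`. -/
theorem lcVan_quot_annihilator (I : Ideal A) (hI : LcVan A r (A ⧸ I)) :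
    LcVan A r (A ⧸ (Submodule.annihilator I)) := by
  have hIv : LcVan A r I :=
    lcVan_left (maximalIdeal A) I.subtype I.mkQ (Submodule.injective_subtype _)
      I.mkQ_surjective (LinearMap.exact_subtype_mkQ I) r (lcVan_self A r hr)
      (fun j hj => hI j (by omega))
  have hE := ext_subsingleton A r hr (A ⧸ I) hI 1 one_pos
  have hD : LcVan A r (Module.Dual A I) := lcVan_dual A r hr I hIv
  let μ : A →ₗ[A] Module.Dual A I := I.subtype.dualMap ∘ₗ (LinearMap.mul A A)
  have hμ : Function.Surjective μ := by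
    intro ψ
    obtain ⟨φ, hφ⟩ := exists_extension_of_ext_one I.subtype I.mkQ
      (Submodule.injective_subtype _) I.mkQ_surjective (LinearMap.exact_subtype_mkQ I) hE ψ
    refine ⟨φ 1, ?_⟩
    rw [← hφ]
    ext x
    simp only [μ, LinearMap.coe_comp, Function.comp_apply, LinearMap.dualMap_apply,
      LinearMap.mul_apply_apply, Submodule.coe_subtype]
    rw [mul_comm, ← smul_eq_mul, ← map_smul, smul_eq_mul, mul_one]
  have hker : LinearMap.ker μ = Submodule.annihilator I := by
    ext a
    rw [LinearMap.mem_ker, Submodule.mem_annihilator]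
    constructor
    · intro h x hx
      have := LinearMap.congr_fun h ⟨x, hx⟩
      simpa [μ] using this
    · intro h
      ext x
      simpa [μ] using h x.1 x.2
  exact hD.of_linearEquiv
    ((Submodule.quotEquivOfEq _ _ hker).symm.trans (μ.quotKerEquivOfSurjective hμ)).symm

end Gorenstein

end Groth.Agent.H34.GorMCM
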