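import Groth.Agent.H34.CanonExist
import Groth.Agent.H34.GorChar
import Groth.Agent.Lib.Helper60.NV5

/-!
# Gorenstein quotients of a Gorenstein local ring (helper34)

`isGorensteinLocalRing_of_ext`: if `A → C` is a surjection from a Gorenstein local ring of
dimension `r` onto a Noetherian local ring with `Ext^i_A(C, A) = 0` for `i ≠ g` and
`Ext^g_A(C, A) ≃ C` (`A`-linearly), then `C` is Gorenstein.
-/

set_option autoImplicit false
universe u
open CategoryTheory Abelian IsLocalRing

namespace Groth.Agent.H34.GorQuot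

open Groth.Agent.Lib.Helper60 Groth.Agent.Lib.Helper2 Groth.Agent.H34.CanonExist

lemma subsingleton_linearMap_of_subsingleton {R M N : Type*} [CommRing R] [AddCommGroup M]
    [Module R M] [AddCommGroup N] [Module R N] [Subsingleton M] : Subsingleton (M →ₗ[R] N) := by
  refine ⟨fun f g => ?_⟩
  ext x
  rw [Subsingleton.elim x 0, map_zero, map_zero]

/-- vanishing of the local cohomology of `C` outside degree `d`. -/
theorem lc_subsingleton_of_ext (A C : Type u) [CommRing A] [LocCoh.IsGorensteinLocalRing A]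
    [CommRing C] [IsNoetherianRing C] [IsLocalRing C] [Algebra A C]
    (hsurj : Function.Surjective (algebraMap A C)) (r : ℕ) (hr : ringKrullDim A = r)
    (d g : ℕ) (hdg : d + g = r)
    (hvan : ∀ i : ℕ, i ≠ g → Subsingleton (Ext (ModuleCat.of A C) (ModuleCat.of A A) i))
    (i : ℕ) (hi : i ≠ d) : Subsingleton (LocCoh.H (maximalIdeal C) i C) := by
  classical
  haveI : IsNoetherianRing A := inferInstance
  haveI : IsLocalRing A := inferInstance
  haveI : Module.Finite A C := Module.Finite.of_surjective (Algebra.linearMap A C) hsurj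
  have hmap : (maximalIdeal A).map (algebraMap A C) = maximalIdeal C :=
    IsLocalRing.map_maximalIdeal_of_surjective _ hsurj
  obtain ⟨φ, -⟩ : ∃ φ : LocCoh.H (maximalIdeal C) i C ≃+ LocCoh.H (maximalIdeal A) i C,
      ∀ (a : A) (x : LocCoh.H (maximalIdeal C) i C), φ (algebraMap A C a • x) = a • φ x := by
    rw [← hmap]
    exact Groth.Agent.Lib.Helper60.exists_lc_baseChange (maximalIdeal A) i C
  suffices h : Subsingleton (LocCoh.H (maximalIdeal A) i C) from φ.toEquiv.subsingleton
  by_cases hir : i ≤ r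
  · obtain ⟨e⟩ := Groth.Agent.H34.GorLD.nonempty_linearEquiv A r hr C i (r - i) (by omega)
    haveI := hvan (r - i) (by omega)
    haveI : Subsingleton (Ext (ModuleCat.of A C) (ModuleCat.of A A) (r - i) →ₗ[A]
        LocCoh.H (maximalIdeal A) r A) := subsingleton_linearMap_of_subsingleton
    exact e.toEquiv.subsingleton
  · apply lc_subsingleton_of_supportDim_lt
    refine lt_of_le_of_lt (Module.supportDim_le_ringKrullDim A C) ?_
    rw [hr]
    exact_mod_cast (not_le.mp hir)

/-- the dimension of `C` is `d`. -/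
theorem ringKrullDim_eq_of_ext (A C : Type u) [CommRing A] [LocCoh.IsGorensteinLocalRing A]
    [CommRing C] [IsNoetherianRing C] [IsLocalRing C] [Algebra A C]
    (hsurj : Function.Surjective (algebraMap A C)) (r : ℕ) (hr : ringKrullDim A = r)
    (d g : ℕ) (hdg : d + g = r)
    (hvan : ∀ i : ℕ, i ≠ g → Subsingleton (Ext (ModuleCat.of A C) (ModuleCat.of A A) i)) :
    ringKrullDim C = d := by
  have hnn : (0 : WithBot ℕ∞) ≤ ringKrullDim C := ringKrullDim_nonneg_of_nontrivial
  obtain ⟨e, he⟩ : ∃ e : ℕ, ringKrullDim C = e := by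
    have htop : ringKrullDim C ≠ ⊤ := ringKrullDim_ne_top
    cases h : ringKrullDim C with
    | bot => rw [h] at hnn; simp at hnn
    | coe n =>
      have hn' : n ≠ ⊤ := by
        rintro rfl
        exact htop h
      obtain ⟨d, hd⟩ := ENat.ne_top_iff_exists.mp hn'
      exact ⟨d, by rw [← hd]; rfl⟩
  have hnt := Groth.Agent.Lib.Helper60.lc_top_nontrivial C e he
  by_cases hed : e = d
  · rw [he, hed]
  · have := lc_subsingleton_of_ext A C hsurj r hr d g hdg hvan e hed
    exact absurd this (not_subsingleton _)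

theorem isGorensteinLocalRing_of_ext (A C : Type u) [CommRing A] [LocCoh.IsGorensteinLocalRing A]
    [CommRing C] [IsNoetherianRing C] [IsLocalRing C] [Algebra A C]
    (hsurj : Function.Surjective (algebraMap A C)) (r : ℕ) (hr : ringKrullDim A = r)
    (d g : ℕ) (hdg : d + g = r)
    (hvan : ∀ i : ℕ, i ≠ g → Subsingleton (Ext (ModuleCat.of A C) (ModuleCat.of A A) i))
    (ε : Ext (ModuleCat.of A C) (ModuleCat.of A A) g ≃ₗ[A] C) :
    LocCoh.IsGorensteinLocalRing C := by
  classical
  haveI : IsNoetherianRing A := inferInstance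
  haveI : IsLocalRing A := inferInstance
  haveI : Module.Finite A C := Module.Finite.of_surjective (Algebra.linearMap A C) hsurj
  have hmap : (maximalIdeal A).map (algebraMap A C) = maximalIdeal C :=
    IsLocalRing.map_maximalIdeal_of_surjective _ hsurj
  have hbc : ∀ i : ℕ, ∃ φ : LocCoh.H (maximalIdeal C) i C ≃+ LocCoh.H (maximalIdeal A) i C,
      ∀ (a : A) (x : LocCoh.H (maximalIdeal C) i C), φ (algebraMap A C a • x) = a • φ x := by
    intro i
    rw [← hmap]
    exact Groth.Agent.Lib.Helper60.exists_lc_baseChange (maximalIdeal A) i C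
  rw [Groth.Agent.H34.GorChar.gorenstein_iff]
  refine ⟨d, ?_, ?_⟩
  · intro i hi
    obtain ⟨φ, -⟩ := hbc i
    suffices h : Subsingleton (LocCoh.H (maximalIdeal A) i C) from φ.toEquiv.subsingleton
    by_cases hir : i ≤ r
    · obtain ⟨e⟩ := Groth.Agent.H34.GorLD.nonempty_linearEquiv A r hr C i (r - i) (by omega)
      haveI := hvan (r - i) (by omega)
      haveI : Subsingleton (Ext (ModuleCat.of A C) (ModuleCat.of A A) (r - i) →ₗ[A]
          LocCoh.H (maximalIdeal A) r A) := subsingleton_linearMap_of_subsingleton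
      exact e.toEquiv.subsingleton
    · apply lc_subsingleton_of_supportDim_lt
      refine lt_of_le_of_lt (Module.supportDim_le_ringKrullDim A C) ?_
      rw [hr]
      exact_mod_cast (not_le.mp hir)
  · obtain ⟨φ, hφ⟩ := hbc d
    obtain ⟨g', hg'⟩ := Groth.Agent.H34.GorHull.main A r hr
    obtain ⟨g₀, hg₀⟩ := Groth.Agent.S5156.result A C (LocCoh.H (maximalIdeal A) r A) g' hg'
    obtain ⟨eLD⟩ := Groth.Agent.H34.GorLD.nonempty_linearEquiv A r hr C d g hdg
    let e1 : (Ext (ModuleCat.of A C) (ModuleCat.of A A) g →ₗ[A] LocCoh.H (maximalIdeal A) r A) ≃ₗ[A]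
        (C →ₗ[A] LocCoh.H (maximalIdeal A) r A) :=
      LinearEquiv.congrLeft (LocCoh.H (maximalIdeal A) r A) A ε
    let e2 := adjEquiv C (LocCoh.H (maximalIdeal A) r A) (A := A) (R := C)
    let e3 : (C →ₗ[C] (ModuleCat.coextendScalars (algebraMap A C)).obj
        (ModuleCat.of A (LocCoh.H (maximalIdeal A) r A))) ≃ₗ[C]
        (ModuleCat.coextendScalars (algebraMap A C)).obj
          (ModuleCat.of A (LocCoh.H (maximalIdeal A) r A)) :=
      LinearMap.ringLmapEquivSelf C C _
    let θ : LocCoh.H (maximalIdeal C) d C ≃+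
        (ModuleCat.coextendScalars (algebraMap A C)).obj
          (ModuleCat.of A (LocCoh.H (maximalIdeal A) r A)) :=
      (φ.trans (eLD.toAddEquiv.trans e1.toAddEquiv)).trans (e2.symm.trans e3.toAddEquiv)
    have he2 : ∀ (a : A) (χ : C →ₗ[A] LocCoh.H (maximalIdeal A) r A),
        e2.symm (a • χ) = algebraMap A C a • e2.symm χ := by
      intro a χ
      apply e2.injective
      rw [adjEquiv_smul, AddEquiv.apply_symm_apply, AddEquiv.apply_symm_apply]
    let Θ : LocCoh.H (maximalIdeal C) d C ≃ₗ[C]
        (ModuleCat.coextendScalars (algebraMap A C)).obj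
          (ModuleCat.of A (LocCoh.H (maximalIdeal A) r A)) :=
      { θ with
        map_smul' := by
          intro c x
          obtain ⟨a, rfl⟩ := hsurj c
          change e3 (e2.symm (e1 (eLD (φ (algebraMap A C a • x))))) =
            algebraMap A C a • e3 (e2.symm (e1 (eLD (φ x))))
          rw [hφ, map_smul, map_smul, he2, map_smul] }
    exact Groth.Agent.H34.GorChar.injective_of_linearEquiv Θ.symm hg₀.isInjective

end Groth.Agent.H34.GorQuot
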