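import Groth.Agent.H34.GorQuotLocal
import Groth.Agent.H34.GorLinkGlobal
import Groth.Agent.Lib.Helper24.GorenEquiv

/-!
# Gorenstein quotients from linkage, global form (helper34)

`S` a Gorenstein ring.
* `isGorensteinRing_quot_of_span_singleton`: `(0 : x) = J`, `(0 : J) = (x)`, `S/(x)` CM ⟹ `S/J`
  Gorenstein.
* `isGorensteinRing_quot_sup`: `I₁`, `I₂` mutually annihilating with `I₁ ∩ I₂ = 0`, `S/I₁` CM ⟹
  `S/(I₁ + I₂)` Gorenstein, and the minimal primes of `I₁ + I₂` have height one.
-/

set_option autoImplicit false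
universe u

namespace Groth.Agent.H34.GorQuotGlobal

open CategoryTheory IsLocalRing Groth.Agent.Lib.Helper29 Groth.Agent.Lib.Helper60
  Groth.Agent.H34.GorMCM Groth.Agent.H34.Liaison Groth.Agent.H34.GorLinkGlobal
  Groth.Agent.Lib.Helper24

theorem exists_nat_ringKrullDim (A : Type u) [CommRing A] [IsNoetherianRing A] [IsLocalRing A] :
    ∃ r : ℕ, ringKrullDim A = r := by
  have hnn : (0 : WithBot ℕ∞) ≤ ringKrullDim A := ringKrullDim_nonneg_of_nontrivial
  have htop : ringKrullDim A ≠ ⊤ := ringKrullDim_ne_top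
  cases h : ringKrullDim A with
  | bot => rw [h] at hnn; simp at hnn
  | coe n =>
    have hn' : n ≠ ⊤ := by
      rintro rfl
      exact htop h
    obtain ⟨d, hd⟩ := ENat.ne_top_iff_exists.mp hn'
    exact ⟨d, by rw [← hd]; rfl⟩

section Main

variable (S : Type u) [CommRing S] [hG : LocCoh.IsGorensteinRing S]

/-- If `S/I` is Cohen–Macaulay and `I = (0 : J)`, then `S_p / I S_p` is maximal Cohen–Macaulay
(or zero) over `S_p`. -/
theorem lcVan_quot_map (I J : Ideal S) (h2 : Submodule.annihilator J = I)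
    [hCM : LocCoh.IsCohenMacaulayRing (S ⧸ I)] (p : Ideal S) [p.IsPrime] (r : ℕ)
    (hr : ringKrullDim (Localization.AtPrime p) = r) :
    ∀ j < r, Subsingleton (LocCoh.H (maximalIdeal (Localization.AtPrime p)) j
      (Localization.AtPrime p ⧸ I.map (algebraMap S (Localization.AtPrime p)))) := by
  classical
  haveI : IsNoetherianRing S := inferInstance
  haveI hGA : LocCoh.IsGorensteinLocalRing (Localization.AtPrime p) :=
    hG.isGorensteinLocalRing_localization p
  haveI hCMA : LocCoh.IsCohenMacaulayLocalRing (Localization.AtPrime p) :=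
    isCohenMacaulayLocalRing_of_isGorensteinLocalRing _
  set A := Localization.AtPrime p with hA
  by_cases hIp : I ≤ p
  · haveI hP : (p.map (Ideal.Quotient.mk I)).IsPrime := map_mk_isPrime hIp
    have hCMloc := hCM.isCohenMacaulayLocalRing_localization (p.map (Ideal.Quotient.mk I))
    obtain ⟨eI⟩ := nonempty_quotLocEquiv I p hIp
    haveI : LocCoh.IsCohenMacaulayLocalRing (A ⧸ I.map (algebraMap S A)) :=
      isCohenMacaulayLocalRing_of_ringEquiv eI hCMloc
    have hdim : ringKrullDim (A ⧸ I.map (algebraMap S A)) = r := by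
      obtain ⟨𝔭', hmin, hle⟩ := Ideal.exists_minimalPrimes_le hIp
      haveI : 𝔭'.IsPrime := hmin.1.1
      have hass : 𝔭' ∈ associatedPrimes S (S ⧸ I) := by
        apply Module.associatedPrimes.minimalPrimes_annihilator_subset_associatedPrimes S (S ⧸ I)
        rw [Ideal.annihilator_quotient]
        exact hmin
      have hass' := mem_associatedPrimes_self_of_annihilator I J h2 hass
      have hmin' := mem_minimalPrimes_of_mem_associatedPrimes_self S hass'
      have hht : 𝔭'.height = 0 := Ideal.height_eq_zero_iff.mpr hmin'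
      have hsum := height_map_mk_add_height 𝔭' p hle
      have h3 := ringKrullDim_quotient_map_atPrime 𝔭' p hle
      have h4 := IsLocalization.AtPrime.ringKrullDim_eq_height p A
      rw [hht] at hsum
      simp only [WithBot.coe_zero, add_zero] at hsum
      have h5 : ringKrullDim (A ⧸ 𝔭'.map (algebraMap S A)) = r := by
        rw [h3, hsum, ← h4, hr]
      have hIle : I.map (algebraMap S A) ≤ 𝔭'.map (algebraMap S A) := Ideal.map_mono hmin.1.2
      have h6 : ringKrullDim (A ⧸ 𝔭'.map (algebraMap S A)) ≤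
          ringKrullDim (A ⧸ I.map (algebraMap S A)) :=
        ringKrullDim_le_of_surjective (Ideal.Quotient.factor hIle)
          (Ideal.Quotient.factor_surjective hIle)
      have h7 : ringKrullDim (A ⧸ I.map (algebraMap S A)) ≤ ringKrullDim A :=
        ringKrullDim_le_of_surjective _ Ideal.Quotient.mk_surjective
      exact le_antisymm (h7.trans (le_of_eq hr)) (h5 ▸ h6)
    exact Groth.Agent.H34.GorLink.lcVan_of_isCohenMacaulayLocalRing A r _ hdim
  · have htop : I.map (algebraMap S A) = ⊤ := by
      by_contra hne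
      rw [← ne_eq, IsLocalization.map_algebraMap_ne_top_iff_disjoint p.primeCompl A I,
        Set.disjoint_left] at hne
      apply hIp
      intro x hx
      by_contra hxp
      exact hne hxp hx
    haveI : Subsingleton (A ⧸ I.map (algebraMap S A)) := by
      rw [htop]
      exact Ideal.Quotient.subsingleton_iff.mpr rfl
    exact fun j _ => subsingleton_lc_of_subsingleton _ _ j

/-- the local step for the sum of geometrically linked ideals. -/
theorem quot_sup_map (I₁ I₂ : Ideal S) (h1 : Submodule.annihilator I₁ = I₂)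
    (h2 : Submodule.annihilator I₂ = I₁) (hinf : I₁ ⊓ I₂ = ⊥)
    [hCM : LocCoh.IsCohenMacaulayRing (S ⧸ I₁)] (p : Ideal S) [p.IsPrime] (hp : I₁ ⊔ I₂ ≤ p) :
    LocCoh.IsGorensteinLocalRing
        (Localization.AtPrime p ⧸ (I₁ ⊔ I₂).map (algebraMap S (Localization.AtPrime p))) ∧
      ringKrullDim
        (Localization.AtPrime p ⧸ (I₁ ⊔ I₂).map (algebraMap S (Localization.AtPrime p))) + 1 =
        p.height := by
  haveI : IsNoetherianRing S := inferInstance
  haveI hGA : LocCoh.IsGorensteinLocalRing (Localization.AtPrime p) :=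
    hG.isGorensteinLocalRing_localization p
  set A := Localization.AtPrime p with hA
  obtain ⟨r, hr⟩ := exists_nat_ringKrullDim A
  have ha1 : Submodule.annihilator (I₁.map (algebraMap S A)) = I₂.map (algebraMap S A) := by
    rw [← annihilator_map p.primeCompl A I₁, h1]
  have ha2 : Submodule.annihilator (I₂.map (algebraMap S A)) = I₁.map (algebraMap S A) := by
    rw [← annihilator_map p.primeCompl A I₂, h2]
  have hinf' : I₁.map (algebraMap S A) ⊓ I₂.map (algebraMap S A) = ⊥ := by
    rw [← IsLocalization.map_inf p.primeCompl A, hinf, Ideal.map_bot]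
  have hsup' : I₁.map (algebraMap S A) ⊔ I₂.map (algebraMap S A) ≠ ⊤ := by
    rw [← Ideal.map_sup, IsLocalization.map_algebraMap_ne_top_iff_disjoint p.primeCompl A,
      Set.disjoint_left]
    intro x hx hxJ
    exact hx (hp hxJ)
  have hv := lcVan_quot_map S I₁ I₂ h2 p r hr
  have key := Groth.Agent.H34.GorQuotLocal.quot_sup A r hr _ _ ha1 ha2 hinf' hsup' hv
  rw [Ideal.map_sup]
  refine ⟨key.1, ?_⟩
  rw [key.2, ← hr, IsLocalization.AtPrime.ringKrullDim_eq_height p A]

/-- the local step for the link of an almost complete intersection. -/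
theorem quot_of_span_singleton_map (x : S) (J : Ideal S)
    (h1 : Submodule.annihilator (Ideal.span {x} : Ideal S) = J)
    (h2 : Submodule.annihilator J = Ideal.span {x})
    [hCM : LocCoh.IsCohenMacaulayRing (S ⧸ (Ideal.span {x} : Ideal S))]
    (p : Ideal S) [p.IsPrime] (hp : J ≤ p) :
    LocCoh.IsGorensteinLocalRing
      (Localization.AtPrime p ⧸ J.map (algebraMap S (Localization.AtPrime p))) := by
  haveI : IsNoetherianRing S := inferInstance
  haveI hGA : LocCoh.IsGorensteinLocalRing (Localization.AtPrime p) :=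
    hG.isGorensteinLocalRing_localization p
  set A := Localization.AtPrime p with hA
  obtain ⟨r, hr⟩ := exists_nat_ringKrullDim A
  have hspan : (Ideal.span {x} : Ideal S).map (algebraMap S A) = Ideal.span {algebraMap S A x} := by
    rw [Ideal.map_span, Set.image_singleton]
  have ha1 : Submodule.annihilator (Ideal.span {algebraMap S A x} : Ideal A) =
      J.map (algebraMap S A) := by
    rw [← hspan, ← annihilator_map p.primeCompl A, h1]
  have ha2 : Submodule.annihilator (J.map (algebraMap S A)) =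
      Ideal.span {algebraMap S A x} := by
    rw [← annihilator_map p.primeCompl A J, h2, hspan]
  have hJtop : J.map (algebraMap S A) ≠ ⊤ := by
    rw [IsLocalization.map_algebraMap_ne_top_iff_disjoint p.primeCompl A J, Set.disjoint_left]
    intro y hy hyJ
    exact hy (hp hyJ)
  have hv := lcVan_quot_map S (Ideal.span {x}) J h2 p r hr
  rw [hspan] at hv
  exact (Groth.Agent.H34.GorQuotLocal.quot_of_span_singleton A r hr _ _ ha1 ha2 hJtop hv).1

/-- Passing from `S_p / I S_p` at all primes to `S/I`. -/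
theorem isGorensteinRing_quot_of_forall (I : Ideal S)
    (h : ∀ (p : Ideal S) [p.IsPrime], I ≤ p → LocCoh.IsGorensteinLocalRing
      (Localization.AtPrime p ⧸ I.map (algebraMap S (Localization.AtPrime p)))) :
    LocCoh.IsGorensteinRing (S ⧸ I) := by
  haveI : IsNoetherianRing S := inferInstance
  refine { isGorensteinLocalRing_localization := fun q hq => ?_ }
  have hJp : I ≤ q.comap (Ideal.Quotient.mk I) := by
    intro x hx
    rw [Ideal.mem_comap, Ideal.Quotient.eq_zero_iff_mem.mpr hx]
    exact zero_mem _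
  have hqeq : (q.comap (Ideal.Quotient.mk I)).map (Ideal.Quotient.mk I) = q :=
    Ideal.map_comap_of_surjective _ Ideal.Quotient.mk_surjective q
  haveI : (q.comap (Ideal.Quotient.mk I)).IsPrime := Ideal.comap_isPrime _ _
  have key := h (q.comap (Ideal.Quotient.mk I)) hJp
  haveI hP : ((q.comap (Ideal.Quotient.mk I)).map (Ideal.Quotient.mk I)).IsPrime := by
    rw [hqeq]; exact hq
  obtain ⟨e⟩ := nonempty_quotLocEquiv I (q.comap (Ideal.Quotient.mk I)) hJp
  have h3 := isGorensteinLocalRing_of_ringEquiv e.symm key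
  have h4 : ∀ (q' : Ideal (S ⧸ I)) (hq' : q'.IsPrime) (_ : q' = q),
      LocCoh.IsGorensteinLocalRing (Localization.AtPrime q') →
      LocCoh.IsGorensteinLocalRing (Localization.AtPrime q) := by
    intro q' hq' heq h
    subst heq
    exact h
  exact h4 _ hP hqeq h3

theorem isGorensteinRing_quot_sup (I₁ I₂ : Ideal S) (h1 : Submodule.annihilator I₁ = I₂)
    (h2 : Submodule.annihilator I₂ = I₁) (hinf : I₁ ⊓ I₂ = ⊥)
    [hCM : LocCoh.IsCohenMacaulayRing (S ⧸ I₁)] : LocCoh.IsGorensteinRing (S ⧸ (I₁ ⊔ I₂)) :=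
  isGorensteinRing_quot_of_forall S _ fun p _ hp => (quot_sup_map S I₁ I₂ h1 h2 hinf p hp).1

theorem isGorensteinRing_quot_of_span_singleton (x : S) (J : Ideal S)
    (h1 : Submodule.annihilator (Ideal.span {x} : Ideal S) = J)
    (h2 : Submodule.annihilator J = Ideal.span {x})
    [hCM : LocCoh.IsCohenMacaulayRing (S ⧸ (Ideal.span {x} : Ideal S))] :
    LocCoh.IsGorensteinRing (S ⧸ J) :=
  isGorensteinRing_quot_of_forall S _ fun p _ hp => quot_of_span_singleton_map S x J h1 h2 p hp

/-- minimal primes of `I₁ + I₂` have height one. -/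
theorem height_eq_one_of_mem_minimalPrimes_sup (I₁ I₂ : Ideal S)
    (h1 : Submodule.annihilator I₁ = I₂) (h2 : Submodule.annihilator I₂ = I₁)
    (hinf : I₁ ⊓ I₂ = ⊥) [hCM : LocCoh.IsCohenMacaulayRing (S ⧸ I₁)] {p : Ideal S}
    (hp : p ∈ (I₁ ⊔ I₂).minimalPrimes) : p.height = 1 := by
  haveI : IsNoetherianRing S := inferInstance
  haveI : p.IsPrime := hp.1.1
  have hle : I₁ ⊔ I₂ ≤ p := hp.1.2
  have key := (quot_sup_map S I₁ I₂ h1 h2 hinf p hle).2
  have h3 := ringKrullDim_quotient_map_atPrime (I₁ ⊔ I₂) p hle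
  haveI : (p.map (Ideal.Quotient.mk (I₁ ⊔ I₂))).IsPrime := map_mk_isPrime hle
  have hmin : p.map (Ideal.Quotient.mk (I₁ ⊔ I₂)) ∈ minimalPrimes (S ⧸ (I₁ ⊔ I₂)) := by
    have h4 := hp
    rw [Ideal.minimalPrimes_eq_comap] at h4
    obtain ⟨q, hq, hqp⟩ := h4
    have : p.map (Ideal.Quotient.mk (I₁ ⊔ I₂)) = q := by
      rw [← hqp, Ideal.map_comap_of_surjective _ Ideal.Quotient.mk_surjective]
    rw [this]
    exact hq
  have hht : (p.map (Ideal.Quotient.mk (I₁ ⊔ I₂))).height = 0 :=
    Ideal.height_eq_zero_iff.mpr hmin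
  rw [h3, hht] at key
  have : ((p.height : ℕ∞) : WithBot ℕ∞) = ((1 : ℕ∞) : WithBot ℕ∞) := by
    rw [← key]
    simp
  exact_mod_cast this

end Main

end Groth.Agent.H34.GorQuotGlobal
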