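import Groth.Agent.H34.GorQuot
import Groth.Agent.H34.GorMCM

/-!
# Gorenstein quotients from linkage, local form (helper34)

Over a Gorenstein local ring `A` of dimension `r`:
* `quot_of_span_singleton`: if `(0 : x) = J`, `(0 : J) = (x)` and `A/(x)` is maximal
  Cohen–Macaulay, then `A/J` is Gorenstein of dimension `r`.
* `quot_sup`: if `𝔞₁`, `𝔞₂` are mutually annihilating with `𝔞₁ ∩ 𝔞₂ = 0` and `A/𝔞₁` maximal
  Cohen–Macaulay then `A/(𝔞₁ + 𝔞₂)` is Gorenstein of dimension `r - 1`.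
-/

set_option autoImplicit false
universe u
open CategoryTheory Abelian IsLocalRing

namespace Groth.Agent.H34.GorQuotLocal

open Groth.Agent.Lib.Helper60 Groth.Agent.H34.GorMCM Groth.Agent.H34.GorQuot

variable (A : Type u) [CommRing A] [hG : LocCoh.IsGorensteinLocalRing A] (r : ℕ)
  (hr : ringKrullDim A = r)

section Principal

variable {A}

/-- `Hom_A(A/J, A) ≃ A/J` when `(0 : x) = J` and `(0 : J) = (x)`. -/
theorem nonempty_dual_quot_equiv (x : A) (J : Ideal A)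
    (h1 : Submodule.annihilator (Ideal.span {x} : Ideal A) = J)
    (h2 : Submodule.annihilator J = Ideal.span {x}) :
    Nonempty (((A ⧸ J) →ₗ[A] A) ≃ₗ[A] (A ⧸ J)) := by
  have hJx : ∀ j ∈ J, j * x = 0 := by
    intro j hj
    rw [← h1, Submodule.mem_annihilator_span_singleton] at hj
    exact hj
  have hle : J ≤ LinearMap.ker (LinearMap.toSpanSingleton A A x) := by
    intro j hj
    rw [LinearMap.mem_ker, LinearMap.toSpanSingleton_apply, smul_eq_mul]
    exact hJx j hj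
  let ψ₀ : A ⧸ J →ₗ[A] A := J.liftQ (LinearMap.toSpanSingleton A A x) hle
  have hψ₀ : ∀ b : A, ψ₀ (Submodule.Quotient.mk b) = b * x := fun b => by
    change J.liftQ (LinearMap.toSpanSingleton A A x) hle (Submodule.Quotient.mk b) = b * x
    rw [Submodule.liftQ_apply, LinearMap.toSpanSingleton_apply, smul_eq_mul]
  let μ : A →ₗ[A] (A ⧸ J →ₗ[A] A) := LinearMap.toSpanSingleton A _ ψ₀
  have hker : LinearMap.ker μ = J := by
    ext a
    rw [LinearMap.mem_ker]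
    constructor
    · intro h
      have h3 := LinearMap.congr_fun h (Submodule.Quotient.mk 1)
      rw [LinearMap.toSpanSingleton_apply, LinearMap.smul_apply, hψ₀, one_mul, smul_eq_mul,
        LinearMap.zero_apply] at h3
      rw [← h1, Submodule.mem_annihilator_span_singleton]
      exact h3
    · intro ha
      refine LinearMap.ext fun y => ?_
      obtain ⟨b, rfl⟩ := Submodule.Quotient.mk_surjective J y
      change (a • ψ₀) (Submodule.Quotient.mk b) = 0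
      rw [LinearMap.smul_apply, hψ₀, smul_eq_mul, mul_left_comm, hJx a ha, mul_zero]
  have hsurj : Function.Surjective μ := by
    intro ψ
    have hy : ψ (Submodule.Quotient.mk 1) ∈ Submodule.annihilator J := by
      rw [Submodule.mem_annihilator]
      intro j hj
      rw [smul_eq_mul, mul_comm, ← smul_eq_mul, ← map_smul, ← Submodule.Quotient.mk_smul,
        smul_eq_mul, mul_one, (Submodule.Quotient.mk_eq_zero J).mpr hj, map_zero]
    rw [h2, Ideal.mem_span_singleton'] at hy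
    obtain ⟨a, ha⟩ := hy
    refine ⟨a, ?_⟩
    refine LinearMap.ext fun y => ?_
    obtain ⟨b, rfl⟩ := Submodule.Quotient.mk_surjective J y
    change (a • ψ₀) (Submodule.Quotient.mk b) = ψ (Submodule.Quotient.mk b)
    have h3 : (Submodule.Quotient.mk b : A ⧸ J) = b • Submodule.Quotient.mk 1 := by
      rw [← Submodule.Quotient.mk_smul, smul_eq_mul, mul_one]
    rw [LinearMap.smul_apply, hψ₀, h3, map_smul, ← ha, smul_eq_mul, smul_eq_mul]
    ring
  exact ⟨((Submodule.quotEquivOfEq _ _ hker).symm.trans (μ.quotKerEquivOfSurjective hsurj)).symm⟩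

variable (A)

include hr in
theorem quot_of_span_singleton (x : A) (J : Ideal A)
    (h1 : Submodule.annihilator (Ideal.span {x} : Ideal A) = J)
    (h2 : Submodule.annihilator J = Ideal.span {x}) (hJ : J ≠ ⊤)
    (hv : LcVan A r (A ⧸ (Ideal.span {x} : Ideal A))) :
    LocCoh.IsGorensteinLocalRing (A ⧸ J) ∧ ringKrullDim (A ⧸ J) = r := by
  haveI : IsNoetherianRing A := inferInstance
  haveI : IsLocalRing A := inferInstance
  haveI : Nontrivial (A ⧸ J) := Ideal.Quotient.nontrivial_iff.mpr hJ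
  haveI : IsLocalRing (A ⧸ J) := IsLocalRing.of_surjective' _ Ideal.Quotient.mk_surjective
  have hvJ : LcVan A r (A ⧸ J) := by
    have := lcVan_quot_annihilator A r hr _ hv
    rwa [h1] at this
  have hvan : ∀ i : ℕ, i ≠ 0 →
      Subsingleton (Ext (ModuleCat.of A (A ⧸ J)) (ModuleCat.of A A) i) :=
    fun i hi => ext_subsingleton A r hr (A ⧸ J) hvJ i (Nat.pos_of_ne_zero hi)
  obtain ⟨ε'⟩ := nonempty_dual_quot_equiv x J h1 h2
  let ε : Ext (ModuleCat.of A (A ⧸ J)) (ModuleCat.of A A) 0 ≃ₗ[A] (A ⧸ J) :=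
    (Ext.linearEquiv₀.trans ModuleCat.homLinearEquiv).trans ε'
  exact ⟨isGorensteinLocalRing_of_ext A (A ⧸ J) Ideal.Quotient.mk_surjective r hr r 0
      (add_zero r) hvan ε,
    ringKrullDim_eq_of_ext A (A ⧸ J) Ideal.Quotient.mk_surjective r hr r 0 (add_zero r) hvan⟩

end Principal

section Sup

include hr in
theorem quot_sup (𝔞₁ 𝔞₂ : Ideal A)
    (h1 : Submodule.annihilator 𝔞₁ = 𝔞₂) (h2 : Submodule.annihilator 𝔞₂ = 𝔞₁)
    (hinf : 𝔞₁ ⊓ 𝔞₂ = ⊥) (hsup : 𝔞₁ ⊔ 𝔞₂ ≠ ⊤) (hv : LcVan A r (A ⧸ 𝔞₁)) :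
    LocCoh.IsGorensteinLocalRing (A ⧸ (𝔞₁ ⊔ 𝔞₂)) ∧ ringKrullDim (A ⧸ (𝔞₁ ⊔ 𝔞₂)) + 1 = r := by
  classical
  haveI : IsNoetherianRing A := inferInstance
  haveI : IsLocalRing A := inferInstance
  set T : Ideal A := 𝔞₁ ⊔ 𝔞₂ with hT
  haveI : Nontrivial (A ⧸ T) := Ideal.Quotient.nontrivial_iff.mpr hsup
  haveI : IsLocalRing (A ⧸ T) := IsLocalRing.of_surjective' _ Ideal.Quotient.mk_surjective
  have hv2 : LcVan A r (A ⧸ 𝔞₂) := by
    have := lcVan_quot_annihilator A r hr _ hv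
    rwa [h1] at this
  have hv𝔞₂ : LcVan A r 𝔞₂ :=
    lcVan_left (maximalIdeal A) 𝔞₂.subtype 𝔞₂.mkQ (Submodule.injective_subtype _)
      𝔞₂.mkQ_surjective (LinearMap.exact_subtype_mkQ 𝔞₂) r (lcVan_self A r hr)
      (fun j hj => hv2 j (by omega))
  have hE1 : ∀ i : ℕ, 0 < i → Subsingleton (Ext (ModuleCat.of A 𝔞₂) (ModuleCat.of A A) i) :=
    fun i hi => ext_subsingleton A r hr 𝔞₂ hv𝔞₂ i hi
  have hE2 : ∀ i : ℕ, 0 < i →
      Subsingleton (Ext (ModuleCat.of A (A ⧸ 𝔞₁)) (ModuleCat.of A A) i) :=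
    fun i hi => ext_subsingleton A r hr (A ⧸ 𝔞₁) hv i hi
  have hE3 : Subsingleton (Ext (ModuleCat.of A (A ⧸ 𝔞₂)) (ModuleCat.of A A) 1) :=
    ext_subsingleton A r hr (A ⧸ 𝔞₂) hv2 1 one_pos
  have hmul12 : ∀ a ∈ 𝔞₁, ∀ b ∈ 𝔞₂, a * b = 0 := by
    intro a ha b hb
    rw [← h2] at ha
    exact (Submodule.mem_annihilator.mp ha) b hb
  -- the short exact sequence `0 → 𝔞₂ → A/𝔞₁ → A/T → 0`
  let f : 𝔞₂ →ₗ[A] A ⧸ 𝔞₁ := 𝔞₁.mkQ ∘ₗ 𝔞₂.subtype
  let g : A ⧸ 𝔞₁ →ₗ[A] A ⧸ T := Submodule.factor (le_sup_left : 𝔞₁ ≤ T)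
  have hfa : ∀ a : 𝔞₂, f a = Submodule.Quotient.mk (a : A) := fun a => rfl
  have hgb : ∀ b : A, g (Submodule.Quotient.mk b) = Submodule.Quotient.mk b := fun b =>
    Submodule.factor_mk _ b
  have hf : Function.Injective f := by
    rw [← LinearMap.ker_eq_bot, LinearMap.ker_eq_bot']
    intro a ha
    rw [hfa] at ha
    have h3 : (a : A) ∈ 𝔞₁ := (Submodule.Quotient.mk_eq_zero 𝔞₁).mp ha
    have h4 : (a : A) ∈ 𝔞₁ ⊓ 𝔞₂ := ⟨h3, a.2⟩
    rw [hinf] at h4
    exact Subtype.ext h4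
  have hg : Function.Surjective g := Submodule.factor_surjective _
  have hfg : Function.Exact f g := by
    intro y
    obtain ⟨b, rfl⟩ := Submodule.Quotient.mk_surjective 𝔞₁ y
    rw [hgb]
    constructor
    · intro h
      have hb : b ∈ T := (Submodule.Quotient.mk_eq_zero T).mp h
      obtain ⟨a₁, ha₁, a₂, ha₂, rfl⟩ := Submodule.mem_sup.mp hb
      refine ⟨⟨a₂, ha₂⟩, ?_⟩
      rw [hfa, Submodule.Quotient.eq]
      have : a₂ - (a₁ + a₂) = -a₁ := by ring
      rw [this]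
      exact 𝔞₁.neg_mem ha₁
    · rintro ⟨a, ha⟩
      rw [hfa] at ha
      have h3 : (a : A) - b ∈ 𝔞₁ := (Submodule.Quotient.eq 𝔞₁).mp ha
      rw [Submodule.Quotient.mk_eq_zero]
      have : b = (a : A) - ((a : A) - b) := by ring
      rw [this]
      exact T.sub_mem (le_sup_right (a := 𝔞₁) a.2) (le_sup_left (b := 𝔞₂) h3)
  have hS := ModuleCat.shortComplex_shortExact
    (ModuleCat.shortComplexOfCompEqZero f g hfg.linearMap_comp_eq_zero) hfg hf hg
  -- `Hom(A/T, A) = 0`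
  have hHom0 : ∀ ψ : (A ⧸ T) →ₗ[A] A, ψ = 0 := by
    intro ψ
    have hmk : ∀ c : A, ψ (Submodule.Quotient.mk c) = c * ψ (Submodule.Quotient.mk 1) := by
      intro c
      have h3 : (Submodule.Quotient.mk c : A ⧸ T) = c • Submodule.Quotient.mk 1 := by
        rw [← Submodule.Quotient.mk_smul, smul_eq_mul, mul_one]
      rw [h3, map_smul, smul_eq_mul]
    have hkill : ∀ a ∈ T, ψ (Submodule.Quotient.mk 1) * a = 0 := by
      intro a ha
      rw [mul_comm, ← hmk, (Submodule.Quotient.mk_eq_zero T).mpr ha, map_zero]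
    have hy2 : ψ (Submodule.Quotient.mk 1) ∈ 𝔞₂ := by
      rw [← h1, Submodule.mem_annihilator]
      intro a ha
      rw [smul_eq_mul]
      exact hkill a (le_sup_left (b := 𝔞₂) ha)
    have hy1 : ψ (Submodule.Quotient.mk 1) ∈ 𝔞₁ := by
      rw [← h2, Submodule.mem_annihilator]
      intro a ha
      rw [smul_eq_mul]
      exact hkill a (le_sup_right (a := 𝔞₁) ha)
    have hy0 : ψ (Submodule.Quotient.mk 1) = 0 := by
      have : ψ (Submodule.Quotient.mk 1) ∈ 𝔞₁ ⊓ 𝔞₂ := ⟨hy1, hy2⟩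
      rwa [hinf] at this
    refine LinearMap.ext fun z => ?_
    obtain ⟨c, rfl⟩ := Submodule.Quotient.mk_surjective T z
    rw [hmk, hy0, mul_zero, LinearMap.zero_apply]
  have hvan0 : Subsingleton (Ext (ModuleCat.of A (A ⧸ T)) (ModuleCat.of A A) 0) := by
    haveI : Subsingleton ((A ⧸ T) →ₗ[A] A) := ⟨fun a b => by rw [hHom0 a, hHom0 b]⟩
    let e0 : Ext (ModuleCat.of A (A ⧸ T)) (ModuleCat.of A A) 0 ≃ₗ[A] ((A ⧸ T) →ₗ[A] A) :=
      Ext.linearEquiv₀.trans ModuleCat.homLinearEquiv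
    exact e0.toEquiv.subsingleton
  have hvan2 : ∀ i : ℕ, 2 ≤ i →
      Subsingleton (Ext (ModuleCat.of A (A ⧸ T)) (ModuleCat.of A A) i) := by
    intro i hi
    refine ⟨fun a b => ?_⟩
    suffices H : ∀ x₃ : Ext (ModuleCat.of A (A ⧸ T)) (ModuleCat.of A A) i, x₃ = 0 by
      rw [H a, H b]
    intro x₃
    have h0 : (Ext.mk₀ (ModuleCat.ofHom g)).comp x₃ (zero_add i) = 0 :=
      (hE2 i (by omega)).elim _ _
    obtain ⟨x₁, hx₁⟩ := Ext.contravariant_sequence_exact₃ hS (ModuleCat.of A A) x₃ h0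
      (n₀ := i - 1) (by omega)
    have hx0 : x₁ = 0 := (hE1 (i - 1) (by omega)).elim _ _
    rw [← hx₁, hx0, Ext.comp_zero]
  -- the connecting map
  let E0 : (𝔞₂ →ₗ[A] A) ≃ₗ[A] Ext (ModuleCat.of A 𝔞₂) (ModuleCat.of A A) 0 :=
    (Ext.linearEquiv₀.trans ModuleCat.homLinearEquiv).symm
  have hE0 : ∀ ψ : 𝔞₂ →ₗ[A] A, E0 ψ = Ext.mk₀ (ModuleCat.ofHom ψ) := fun ψ => rfl
  let δ : (𝔞₂ →ₗ[A] A) →ₗ[A] Ext (ModuleCat.of A (A ⧸ T)) (ModuleCat.of A A) 1 :=
    (Ext.precompOfLinear hS.extClass A (ModuleCat.of A A) (add_zero 1)) ∘ₗ E0.toLinearMap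
  have hδ : ∀ ψ : 𝔞₂ →ₗ[A] A,
      δ ψ = hS.extClass.comp (Ext.mk₀ (ModuleCat.ofHom ψ)) (add_zero 1) := fun ψ => rfl
  have hδsurj : Function.Surjective δ := by
    intro x₃
    have h0 : (Ext.mk₀ (ModuleCat.ofHom g)).comp x₃ (zero_add 1) = 0 :=
      (hE2 1 one_pos).elim _ _
    obtain ⟨x₁, hx₁⟩ := Ext.contravariant_sequence_exact₃ hS (ModuleCat.of A A) x₃ h0
      (n₀ := 0) (add_zero 1)
    obtain ⟨φ', rfl⟩ := (Ext.mk₀_bijective _ _).2 x₁
    exact ⟨φ'.hom, by rw [hδ]; exact hx₁⟩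
  have hδker : ∀ ψ : 𝔞₂ →ₗ[A] A, δ ψ = 0 ↔ ∃ φ : A ⧸ 𝔞₁ →ₗ[A] A, φ ∘ₗ f = ψ := by
    intro ψ
    rw [hδ]
    constructor
    · intro h0
      obtain ⟨x₂, hx₂⟩ := Ext.contravariant_sequence_exact₁ hS (ModuleCat.of A A)
        (Ext.mk₀ (ModuleCat.ofHom ψ)) (add_zero 1) h0
      obtain ⟨φ', rfl⟩ := (Ext.mk₀_bijective _ _).2 x₂
      rw [Ext.mk₀_comp_mk₀] at hx₂
      have h3 := (Ext.mk₀_bijective _ _).1 hx₂
      exact ⟨φ'.hom, congrArg ModuleCat.Hom.hom h3⟩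
    · rintro ⟨φ, rfl⟩
      have h3 : Ext.mk₀ (ModuleCat.ofHom (φ ∘ₗ f)) =
          (Ext.mk₀ (ModuleCat.ofHom f)).comp (Ext.mk₀ (ModuleCat.ofHom φ)) (zero_add 0) := by
        rw [Ext.mk₀_comp_mk₀]
        rfl
      rw [h3]
      exact hS.extClass_comp_assoc _
  let ν : A →ₗ[A] (𝔞₂ →ₗ[A] A) := LinearMap.toSpanSingleton A _ 𝔞₂.subtype
  have hν : ∀ (t : A) (a : 𝔞₂), ν t a = t * (a : A) := fun t a => rfl
  have hνsurj : Function.Surjective ν := by
    intro ψ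
    obtain ⟨φ, hφ⟩ := exists_extension_of_ext_one 𝔞₂.subtype 𝔞₂.mkQ
      (Submodule.injective_subtype _) 𝔞₂.mkQ_surjective (LinearMap.exact_subtype_mkQ 𝔞₂) hE3 ψ
    refine ⟨φ 1, ?_⟩
    refine LinearMap.ext fun a => ?_
    rw [hν, ← hφ, LinearMap.comp_apply, Submodule.subtype_apply]
    have : (a : A) = (a : A) • (1 : A) := by rw [smul_eq_mul, mul_one]
    conv_rhs => rw [this, map_smul, smul_eq_mul]
    ring
  let Δ : A →ₗ[A] Ext (ModuleCat.of A (A ⧸ T)) (ModuleCat.of A A) 1 := δ ∘ₗ ν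
  have hΔsurj : Function.Surjective Δ := hδsurj.comp hνsurj
  have hΔker : LinearMap.ker Δ = T := by
    ext t
    rw [LinearMap.mem_ker]
    change δ (ν t) = 0 ↔ _
    rw [hδker]
    constructor
    · rintro ⟨φ, hφ⟩
      have hφb : ∀ c : A, φ (Submodule.Quotient.mk c) = c * φ (Submodule.Quotient.mk 1) := by
        intro c
        have h3 : (Submodule.Quotient.mk c : A ⧸ 𝔞₁) = c • Submodule.Quotient.mk 1 := by
          rw [← Submodule.Quotient.mk_smul, smul_eq_mul, mul_one]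
        rw [h3, map_smul, smul_eq_mul]
      have hb : φ (Submodule.Quotient.mk 1) ∈ 𝔞₂ := by
        rw [← h1, Submodule.mem_annihilator]
        intro a ha
        rw [smul_eq_mul, mul_comm, ← hφb, (Submodule.Quotient.mk_eq_zero 𝔞₁).mpr ha, map_zero]
      have htb : t - φ (Submodule.Quotient.mk 1) ∈ 𝔞₁ := by
        suffices H : t - φ (Submodule.Quotient.mk 1) ∈ Submodule.annihilator 𝔞₂ by rwa [h2] at H
        rw [Submodule.mem_annihilator]
        intro a ha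
        have h3 := LinearMap.congr_fun hφ ⟨a, ha⟩
        rw [LinearMap.comp_apply, hfa, hφb, hν] at h3
        rw [smul_eq_mul, sub_mul]
        change a * φ (Submodule.Quotient.mk 1) = t * a at h3
        rw [← h3]
        ring
      have : t = (t - φ (Submodule.Quotient.mk 1)) + φ (Submodule.Quotient.mk 1) := by ring
      rw [this]
      exact Submodule.add_mem_sup htb hb
    · intro ht
      obtain ⟨a₁, ha₁, a₂, ha₂, rfl⟩ := Submodule.mem_sup.mp ht
      have hle : 𝔞₁ ≤ LinearMap.ker (LinearMap.toSpanSingleton A A a₂) := by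
        intro c hc
        rw [LinearMap.mem_ker, LinearMap.toSpanSingleton_apply, smul_eq_mul]
        exact hmul12 c hc a₂ ha₂
      refine ⟨𝔞₁.liftQ (LinearMap.toSpanSingleton A A a₂) hle, ?_⟩
      refine LinearMap.ext fun a => ?_
      rw [LinearMap.comp_apply, hfa, Submodule.liftQ_apply, LinearMap.toSpanSingleton_apply, hν,
        smul_eq_mul, add_mul, hmul12 a₁ ha₁ a a.2, zero_add, mul_comm]
  let ε : Ext (ModuleCat.of A (A ⧸ T)) (ModuleCat.of A A) 1 ≃ₗ[A] (A ⧸ T) :=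
    ((Submodule.quotEquivOfEq _ _ hΔker).symm.trans (Δ.quotKerEquivOfSurjective hΔsurj)).symm
  -- `r ≥ 1`
  have hr1 : 1 ≤ r := by
    by_contra hlt
    have hr0 : r = 0 := by omega
    obtain ⟨t, ht, hsd, hinj⟩ := gorenstein_data (A := A)
      LocCoh.IsGorensteinLocalRing.exists_hasInjectiveDimensionLT
    rw [Module.supportDim_self_eq_ringKrullDim, hr, hr0] at hsd
    have ht0 : t = 0 := by
      have h3 : ((0 : ℕ∞) : WithBot ℕ∞) = ((t : ℕ∞) : WithBot ℕ∞) := hsd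
      have h4 : (0 : ℕ∞) = (t : ℕ∞) := WithBot.coe_injective h3
      exact_mod_cast h4.symm
    subst ht0
    haveI : Subsingleton (Ext (ModuleCat.of A (A ⧸ T)) (ModuleCat.of A A) 1) :=
      HasInjectiveDimensionLT.subsingleton (ModuleCat.of A A) 1 1 le_rfl _
    exact not_subsingleton (A ⧸ T) ε.symm.toEquiv.subsingleton
  have hvan : ∀ i : ℕ, i ≠ 1 →
      Subsingleton (Ext (ModuleCat.of A (A ⧸ T)) (ModuleCat.of A A) i) := by
    intro i hi
    rcases Nat.lt_or_ge i 1 with h | h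
    · have : i = 0 := by omega
      subst this
      exact hvan0
    · exact hvan2 i (by omega)
  refine ⟨isGorensteinLocalRing_of_ext A (A ⧸ T) Ideal.Quotient.mk_surjective r hr (r - 1) 1
      (by omega) hvan ε, ?_⟩
  have hd := ringKrullDim_eq_of_ext A (A ⧸ T) Ideal.Quotient.mk_surjective r hr (r - 1) 1
    (by omega) hvan
  rw [hd]
  have : r - 1 + 1 = r := by omega
  exact_mod_cast this

end Sup

end Groth.Agent.H34.GorQuotLocal
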