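import Mathlib
import Groth.Agent.H34.HilbertBurch

/-!
# Linear algebra for the degree matrix of a Hilbert–Burch resolution (helper34)
-/

set_option autoImplicit false
universe u

namespace Groth.Agent.H34.HBDeg

open Matrix

section Ext

variable {R : Type*} [CommRing R] {m n : Type*} [Fintype n] (p : n → Prop) [DecidablePred p]

/-- extension by zero of a vector indexed by a subtype -/
def ext (v : {l // p l} → R) : n → R := fun l => if h : p l then v ⟨l, h⟩ else 0

theorem mulVec_ext (Ψ : Matrix m n R) (v : {l // p l} → R) (r : m) :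
    Ψ.mulVec (ext p v) r = (Ψ.submatrix id (Subtype.val : {l // p l} → n)).mulVec v r := by
  simp only [Matrix.mulVec, dotProduct, Matrix.submatrix_apply, id]
  rw [← Fintype.sum_subtype_add_sum_subtype p]
  have h2 : ∑ i : {x // ¬ p x}, Ψ r i.1 * ext p v i.1 = 0 := by
    apply Finset.sum_eq_zero
    intro i _
    simp [ext, i.2]
  rw [h2, add_zero]
  apply Finset.sum_congr rfl
  intro i _
  simp [ext, i.2]

theorem ext_eq_zero (v : {l // p l} → R) (h : ext p v = 0) : v = 0 := by
  funext l
  have := congrFun h l.1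
  simpa [ext, l.2] using this

end Ext

section Blocks

variable {R : Type*} [CommRing R]

/-- A zero block of size `(i+2) × (t-i)` contradicts injectivity. -/
theorem false_of_zero_block_F [Nontrivial R] {t : ℕ} (Ψ : Matrix (Fin (t + 1)) (Fin t) R)
    (hinj : ∀ u, Ψ.mulVec u = 0 → u = 0) (i : Fin t)
    (hz : ∀ (r : Fin (t + 1)) (l : Fin t), r ≤ i.succ → i ≤ l → Ψ r l = 0) : False := by
  classical
  let P := {l : Fin t // i ≤ l}
  let Q := {q : P // q.1 ≠ i}
  let L : (P → R) →ₗ[R] (Q → R) :=
    (Ψ.submatrix (fun q : Q => q.1.1.succ) (fun p : P => p.1)).mulVecLin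
  have hL : Function.Injective L := by
    rw [injective_iff_map_eq_zero]
    intro v hv
    apply ext_eq_zero (fun l => i ≤ l)
    apply hinj
    funext r
    rw [mulVec_ext]
    refine Fin.cases ?_ (fun p => ?_) r
    · simp only [Matrix.mulVec, dotProduct, Matrix.submatrix_apply, id, Pi.zero_apply]
      apply Finset.sum_eq_zero
      intro l _
      rw [hz 0 l.1 (Fin.zero_le _) l.2, zero_mul]
    · by_cases hp : i < p
      · have := congrFun hv ⟨⟨p, hp.le⟩, hp.ne'⟩
        exact this
      · push_neg at hp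
        simp only [Matrix.mulVec, dotProduct, Matrix.submatrix_apply, id, Pi.zero_apply]
        apply Finset.sum_eq_zero
        intro l _
        rw [hz p.succ l.1 (Fin.succ_le_succ_iff.mpr hp) l.2, zero_mul]
  have h1 := card_le_of_injective R L hL
  have h2 : Fintype.card Q < Fintype.card P :=
    Fintype.card_subtype_lt (x := (⟨i, le_rfl⟩ : P)) (by simp)
  omega

/-- A zero block of size `(i+1) × (t-i)`: the generators with index `> i` vanish. -/
theorem g_eq_zero_of_zero_block [IsDomain R] {t : ℕ} (Ψ : Matrix (Fin (t + 1)) (Fin t) R)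
    (g : Fin (t + 1) → R)
    (hinj : ∀ u, Ψ.mulVec u = 0 → u = 0)
    (hg : ∀ u, ∑ r, g r * Ψ.mulVec u r = 0) (i : Fin t)
    (hz : ∀ (r : Fin (t + 1)) (l : Fin t), r ≤ i.castSucc → i ≤ l → Ψ r l = 0)
    (p0 : Fin t) (hp0 : i ≤ p0) : g p0.succ = 0 := by
  classical
  let P := {l : Fin t // i ≤ l}
  let B : Matrix P P R := Ψ.submatrix (fun p : P => p.1.succ) (fun p : P => p.1)
  have hrow : ∀ (v : P → R) (r : Fin (t + 1)), Ψ.mulVec (ext (fun l => i ≤ l) v) r =
      if h : ∃ p : P, p.1.succ = r then B.mulVec v h.choose else 0 := by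
    intro v r
    rw [mulVec_ext]
    refine Fin.cases ?_ (fun p => ?_) r
    · rw [dif_neg]
      · simp only [Matrix.mulVec, dotProduct, Matrix.submatrix_apply, id]
        apply Finset.sum_eq_zero
        intro l _
        rw [hz 0 l.1 (Fin.zero_le _) l.2, zero_mul]
      · rintro ⟨p, hp⟩
        exact Fin.succ_ne_zero _ hp
    · by_cases hp : i ≤ p
      · have hex : ∃ p' : P, p'.1.succ = p.succ := ⟨⟨p, hp⟩, rfl⟩
        rw [dif_pos hex]
        have h1 : hex.choose = ⟨p, hp⟩ := by
          apply Subtype.ext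
          exact Fin.succ_injective _ hex.choose_spec
        rw [h1]
        rfl
      · rw [dif_neg]
        · push_neg at hp
          simp only [Matrix.mulVec, dotProduct, Matrix.submatrix_apply, id]
          apply Finset.sum_eq_zero
          intro l _
          have : p.succ ≤ i.castSucc := by
            rw [Fin.le_def]
            have := Fin.lt_def.mp hp
            simp only [Fin.val_succ, Fin.val_castSucc]
            omega
          rw [hz p.succ l.1 this l.2, zero_mul]
        · rintro ⟨p', hp'⟩
          have := Fin.succ_injective _ hp'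
          exact hp (this ▸ p'.2)
  have hB : ∀ v, B.mulVec v = 0 → v = 0 := by
    intro v hv
    apply ext_eq_zero (fun l => i ≤ l)
    apply hinj
    funext r
    rw [hrow, hv]
    simp
  have hdet : B.det ≠ 0 := by
    intro h
    obtain ⟨v, hv0, hv⟩ := Matrix.exists_mulVec_eq_zero_iff.mpr h
    exact hv0 (hB v hv)
  let w' : P → R := Pi.single ⟨p0, hp0⟩ 1
  let u : P → R := B.adjugate.mulVec w'
  have hu : B.mulVec u = B.det • w' := by
    show B.mulVec (B.adjugate.mulVec w') = _
    rw [Matrix.mulVec_mulVec, Matrix.mul_adjugate, Matrix.smul_mulVec, Matrix.one_mulVec]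
  have h3 := hg (ext (fun l => i ≤ l) u)
  have h4 : ∀ r, Ψ.mulVec (ext (fun l => i ≤ l) u) r = if r = p0.succ then B.det else 0 := by
    intro r
    rw [hrow, hu]
    by_cases hr : r = p0.succ
    · rw [if_pos hr]
      have hex : ∃ p' : P, p'.1.succ = r := ⟨⟨p0, hp0⟩, hr.symm⟩
      rw [dif_pos hex]
      have h1 : hex.choose = ⟨p0, hp0⟩ := by
        apply Subtype.ext
        apply Fin.succ_injective
        rw [hex.choose_spec, hr]
      rw [h1]
      simp [w']
    · rw [if_neg hr]
      by_cases hex : ∃ p' : P, p'.1.succ = r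
      · rw [dif_pos hex]
        have h1 : hex.choose ≠ ⟨p0, hp0⟩ := by
          intro h
          apply hr
          rw [← hex.choose_spec, h]
        simp [w', h1]
      · rw [dif_neg hex]
  simp only [h4, mul_ite, mul_zero, Finset.sum_ite_eq', Finset.mem_univ, if_true] at h3
  exact (mul_eq_zero.mp h3).resolve_right hdet

end Blocks

section HB

variable {R : Type u} [CommRing R]

/-- Elementwise form of Hilbert–Burch: the generators are a common multiple of the signed
maximal minors. -/
theorem exists_eq_mul' [IsNoetherianRing R] {t : ℕ} (Ψ : Matrix (Fin (t + 1)) (Fin t) R)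
    (π : (Fin (t + 1) → R) →ₗ[R] R)
    (hex : LinearMap.ker π = LinearMap.range Ψ.mulVecLin)
    (hdepth : 2 ≤ LocCoh.idealDepth (CAlgX.minorIdeal Ψ t) R) :
    ∃ a : R, ∀ i : Fin (t + 1), π (Pi.single i 1) =
      a * ((-1 : R) ^ (i : ℕ) * (Ψ.submatrix i.succAbove id).det) := by
  classical
  obtain ⟨-, hker, hrange⟩ :=
    Groth.Agent.Lib.Helper66.HilbertBurch.hilbertBurch_exact Ψ hdepth 1 (one_mem _)
  set π' : (Fin (t + 1) → R) →ₗ[R] R := Fintype.linearCombination R
    (fun i : Fin (t + 1) => (1 : R) * ((-1 : R) ^ (i : ℕ) * (Ψ.submatrix i.succAbove id).det))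
    with hπ'
  set J := CAlgX.minorIdeal Ψ t with hJ
  have hrange' : LinearMap.range π' = J := by
    rw [hrange, Ideal.span_singleton_one, Ideal.top_mul]
  have hkk : ∀ w, π' w = 0 → π w = 0 := by
    intro w hw
    have h1 : w ∈ LinearMap.ker π' := hw
    rw [hker, ← hex] at h1
    exact h1
  obtain ⟨x, y, hxJ, hyJ, hxreg, hxy⟩ :=
    Groth.Agent.Lib.Helper66.HilbertBurch.exists_regular_pair J hdepth
  obtain ⟨wx, hwx⟩ : ∃ w, π' w = x := by
    have : x ∈ LinearMap.range π' := by rw [hrange']; exact hxJ
    exact this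
  obtain ⟨wy, hwy⟩ : ∃ w, π' w = y := by
    have : y ∈ LinearMap.range π' := by rw [hrange']; exact hyJ
    exact this
  have h1 : y * π wx = x * π wy := by
    have h0 : π' (y • wx - x • wy) = 0 := by
      rw [map_sub, map_smul, map_smul, hwx, hwy, smul_eq_mul, smul_eq_mul]; ring
    have := hkk _ h0
    rw [map_sub, map_smul, map_smul, smul_eq_mul, smul_eq_mul] at this
    exact sub_eq_zero.mp this
  obtain ⟨a, ha⟩ := hxy _ _ h1
  have h2 : ∀ w, π w = a * π' w := by
    intro w
    have h0 : π' (x • w - (π' w) • wx) = 0 := by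
      rw [map_sub, map_smul, map_smul, hwx, smul_eq_mul, smul_eq_mul]; ring
    have := hkk _ h0
    rw [map_sub, map_smul, map_smul, smul_eq_mul, smul_eq_mul, ha] at this
    apply hxreg
    show x • π w = x • (a * π' w)
    rw [smul_eq_mul, smul_eq_mul]
    linear_combination this
  refine ⟨a, fun i => ?_⟩
  rw [h2, hπ', Fintype.linearCombination_apply_single, one_smul, one_mul]

end HB

section Homog

open MvPolynomial

variable {σ : Type*} {k : Type*} [CommRing k]

theorem det_isWeightedHomogeneous {n : Type*} [Fintype n] [DecidableEq n] (w : σ → ℤ)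
    (M : Matrix n n (MvPolynomial σ k)) (α β : n → ℤ)
    (h : ∀ i j, IsWeightedHomogeneous w (M i j) (β j - α i)) :
    IsWeightedHomogeneous w M.det (∑ j, β j - ∑ i, α i) := by
  rw [Matrix.det_apply]
  apply IsWeightedHomogeneous.sum
  intro τ _
  have h1 : IsWeightedHomogeneous w (∏ i, M (τ i) i) (∑ j, β j - ∑ i, α i) := by
    have := IsWeightedHomogeneous.prod Finset.univ (fun i => M (τ i) i)
      (fun i => β i - α (τ i)) (w := w) (fun i _ => h (τ i) i)
    have h2 : ∑ i, (β i - α (τ i)) = ∑ j, β j - ∑ i, α i := by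
      rw [Finset.sum_sub_distrib, Equiv.sum_comp τ α]
    rw [← h2]
    exact this
  rcases Int.units_eq_one_or (Equiv.Perm.sign τ) with h2 | h2
  · rw [h2, one_smul]
    exact h1
  · rw [h2, Units.neg_smul, one_smul]
    exact (weightedHomogeneousSubmodule k w _).neg_mem h1

end Homog

end Groth.Agent.H34.HBDeg
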