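import Mathlib
import Groth.Prelude.Def_CAlg
import Groth.Agent.H34.HilbertBurch
import Groth.Agent.H34.CMCodimTwo
import Groth.Agent.S0605
import Groth.Agent.Lib.Helper29.Depth

/-!
# Local Hilbert–Burch bound (helper34)

`A` regular local of embedding dimension `≤ 3`, `J` a proper nonzero saturated ideal
(`(J : 𝔪) = J`), minimally generated by `n` elements (all relations have coefficients in `𝔪`).
Then `n = r + 1` and `J ≤ 𝔪 ^ r`.
-/

set_option autoImplicit false
universe u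

namespace Groth.Agent.H34.LocalHB

open CategoryTheory IsLocalRing

variable (A : Type u) [CommRing A] [IsRegularLocalRing A] (J : Ideal A)

/-- Saturated ideals have positive depth quotient. -/
theorem depth_ne_zero (hsat : ∀ x : A, (∀ y ∈ maximalIdeal A, y * x ∈ J) → x ∈ J) :
    LocCoh.depth A (A ⧸ J) ≠ 0 := by
  intro h0
  rw [Groth.Agent.Lib.Helper29.depth_eq_zero_iff] at h0
  obtain ⟨hp, x, hx⟩ := isAssociatedPrime_iff.mp h0
  obtain ⟨a, rfl⟩ := Ideal.Quotient.mk_surjective x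
  have ha : a ∈ J := by
    apply hsat
    intro y hy
    rw [hx, Submodule.mem_colon_singleton, Submodule.mem_bot] at hy
    rw [← Ideal.Quotient.eq_zero_iff_mem, map_mul]
    simpa [Algebra.smul_def] using hy
  have h1 : (1 : A) ∈ maximalIdeal A := by
    rw [hx, Submodule.mem_colon_singleton, Submodule.mem_bot, one_smul]
    exact Ideal.Quotient.eq_zero_iff_mem.mpr ha
  exact hp.ne_top ((Ideal.eq_top_iff_one _).mpr h1)

theorem pd_lt_three (hdim : (maximalIdeal A).spanFinrank ≤ 3)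
    (hsat : ∀ x : A, (∀ y ∈ maximalIdeal A, y * x ∈ J) → x ∈ J) (hJtop : J ≠ ⊤) :
    HasProjectiveDimensionLT (ModuleCat.of A (A ⧸ J)) 3 := by
  haveI : Nontrivial (A ⧸ J) := Ideal.Quotient.nontrivial_iff.mpr hJtop
  obtain ⟨e, he, hsum⟩ := Groth.Agent.S0605.pd_add_depth A (A ⧸ J)
  have hD := depth_ne_zero A J hsat
  set D := LocCoh.depth A (A ⧸ J) with hDdef
  have hDtop : D ≠ ⊤ := by
    intro htop
    rw [htop] at hsum
    simp at hsum
  obtain ⟨D', hD'⟩ := ENat.ne_top_iff_exists.mp hDtop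
  rw [← hD'] at hsum hD
  have h2 : (maximalIdeal A).spanFinrank = e + D' := by exact_mod_cast hsum
  have h3 : D' ≠ 0 := by
    intro h; apply hD; rw [h]; rfl
  have he2 : e ≤ 2 := by omega
  have h1 : HasProjectiveDimensionLE (ModuleCat.of A (A ⧸ J)) e :=
    (projectiveDimension_le_iff _ e).mp (le_of_eq he)
  exact hasProjectiveDimensionLT_of_ge _ (e + 1) 3 (by omega)


/-- Minors of size `r` of a matrix with entries in an ideal `𝔞` lie in `𝔞 ^ r`. -/
theorem minorIdeal_le_pow {R : Type u} [CommRing R] (𝔞 : Ideal R) {m n : Type} [Fintype m]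
    [Fintype n] (Ψ : Matrix m n R) (hΨ : ∀ i j, Ψ i j ∈ 𝔞) (r : ℕ) :
    CAlgX.minorIdeal Ψ r ≤ 𝔞 ^ r := by
  unfold CAlgX.minorIdeal
  rw [Ideal.span_le]
  rintro _ ⟨⟨f, g⟩, rfl⟩
  simp only [SetLike.mem_coe]
  rw [Matrix.det_apply]
  refine Ideal.sum_mem _ fun σ _ => ?_
  have hprod : (∏ i, (Ψ.submatrix f g) (σ i) i) ∈ 𝔞 ^ r := by
    have h := Ideal.prod_mem_prod (ι := Fin r) (s := Finset.univ) (I := fun _ => 𝔞)
      (x := fun i => (Ψ.submatrix f g) (σ i) i) (fun i _ => hΨ _ _)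
    simpa using h
  rcases Int.units_eq_one_or (Equiv.Perm.sign σ) with h | h
  · rw [h, one_smul]; exact hprod
  · rw [h, Units.neg_smul, one_smul]; exact neg_mem hprod

theorem core3 (n r : ℕ)
    (Ψ : Matrix (Fin n) (Fin r) A) (π' : (Fin n → A) →ₗ[A] A)
    (hΨ : LinearMap.ker Ψ.mulVecLin = ⊥)
    (hex : LinearMap.ker π' = LinearMap.range Ψ.mulVecLin)
    (hrange : LinearMap.range π' = J) (hJbot : J ≠ ⊥)
    (hentries : ∀ i j, Ψ i j ∈ maximalIdeal A) :
    n = r + 1 ∧ J ≤ (maximalIdeal A) ^ r := by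
  have hI' : LinearMap.range π' ≠ ⊥ := by rw [hrange]; exact hJbot
  obtain ⟨x₀, hx₀, hx₀'⟩ := Groth.Agent.H34.HilbertBurch.exists_nzd Ψ π' hΨ hex hI'
  obtain ⟨w₀, hw₀⟩ := hx₀
  have hnr : n = r + 1 :=
    Groth.Agent.H34.HilbertBurch.eq_succ Ψ π' hΨ hex w₀ (by rw [hw₀]; exact hx₀')
  refine ⟨hnr, ?_⟩
  subst hnr
  have hdepth := Groth.Agent.H34.HilbertBurch.two_le_depth Ψ π' hΨ hex
  obtain ⟨a, -, hIa⟩ :=
    Groth.Agent.H34.HilbertBurch.exists_eq_mul Ψ π' hex x₀ ⟨w₀, hw₀⟩ hx₀' hdepth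
  rw [hrange] at hIa
  rw [hIa]
  exact (Ideal.mul_le_right : Ideal.span {a} * CAlgX.minorIdeal Ψ r ≤ CAlgX.minorIdeal Ψ r).trans
    (minorIdeal_le_pow _ Ψ hentries r)

theorem local_main (hdim : (maximalIdeal A).spanFinrank ≤ 3)
    (hsat : ∀ x : A, (∀ y ∈ maximalIdeal A, y * x ∈ J) → x ∈ J)
    (hJbot : J ≠ ⊥) (hJtop : J ≠ ⊤)
    (n : ℕ) (g : Fin n → A) (hg : Ideal.span (Set.range g) = J)
    (hmin : ∀ c : Fin n → A, ∑ i, c i * g i = 0 → ∀ i, c i ∈ maximalIdeal A) :
    ∃ r, n = r + 1 ∧ J ≤ (maximalIdeal A) ^ r := by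
  let π' : (Fin n → A) →ₗ[A] A := Fintype.linearCombination A g
  have hπ'apply : ∀ v, π' v = ∑ i, v i * g i := by
    intro v
    simp [π', Fintype.linearCombination_apply]
  have hrange : LinearMap.range π' = J := by
    rw [Fintype.range_linearCombination]
    exact hg
  have hmem : ∀ v, π' v ∈ J := fun v => by
    rw [← hrange]
    exact ⟨v, rfl⟩
  let π : (Fin n → A) →ₗ[A] ↥J := π'.codRestrict J hmem
  have hπ : Function.Surjective π := by
    rintro ⟨y, hy⟩
    rw [← hrange] at hy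
    obtain ⟨v, hv⟩ := hy
    exact ⟨v, Subtype.ext hv⟩
  have hkerπ : LinearMap.ker π = LinearMap.ker π' := LinearMap.ker_codRestrict _ _ _
  have hfree : Module.Free A (LinearMap.ker π) :=
    Groth.Agent.H34.CMCodimTwo.free_ker A J (pd_lt_three A J hdim hsat hJtop) π hπ
  let r := Module.finrank A (LinearMap.ker π)
  let b : Module.Basis (Fin r) A (LinearMap.ker π) := Module.finBasis A (LinearMap.ker π)
  let Ψ : Matrix (Fin n) (Fin r) A := Matrix.of fun i j => (b j : Fin n → A) i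
  have hmul : ∀ v : Fin r → A, Ψ.mulVec v = ((∑ j, v j • b j : LinearMap.ker π) : Fin n → A) := by
    intro v
    funext i
    simp only [Matrix.mulVec, dotProduct, Ψ, Matrix.of_apply, Submodule.coe_sum,
      Submodule.coe_smul, Finset.sum_apply, Pi.smul_apply, smul_eq_mul]
    exact Finset.sum_congr rfl fun j _ => mul_comm _ _
  have hΨ : LinearMap.ker Ψ.mulVecLin = ⊥ := by
    rw [LinearMap.ker_eq_bot']
    intro v hv
    rw [Matrix.mulVecLin_apply, hmul] at hv
    have h0 : (∑ j, v j • b j : LinearMap.ker π) = 0 := Subtype.ext hv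
    funext j
    exact Fintype.linearIndependent_iff.mp b.linearIndependent v h0 j
  have hex : LinearMap.ker π' = LinearMap.range Ψ.mulVecLin := by
    rw [← hkerπ]
    ext w
    constructor
    · intro hw
      refine ⟨b.equivFun ⟨w, hw⟩, ?_⟩
      rw [Matrix.mulVecLin_apply, hmul, b.sum_equivFun]
    · rintro ⟨v, rfl⟩
      rw [Matrix.mulVecLin_apply, hmul]
      exact (∑ j, v j • b j : LinearMap.ker π).2
  have hentries : ∀ i j, Ψ i j ∈ maximalIdeal A := by
    intro i j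
    have hbj : (b j : Fin n → A) ∈ LinearMap.ker π' := by
      rw [← hkerπ]; exact (b j).2
    have h0 : π' (b j : Fin n → A) = 0 := hbj
    rw [hπ'apply] at h0
    exact hmin _ h0 i
  exact ⟨r, core3 A J n r Ψ π' hΨ hex hrange hJbot hentries⟩

end Groth.Agent.H34.LocalHB
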