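import Mathlib
import Groth.Agent.H34.LocalHB

/-!
# Homogeneous ideals of finite sets of points in the projective plane (helper34)
-/

set_option autoImplicit false
universe u

namespace Groth.Agent.H34.PointsP2

open MvPolynomial

section General

variable {σ : Type*} {R : Type*} [CommSemiring R]

attribute [local instance] MvPolynomial.gradedAlgebra in
/-- Homogeneous components of a product with a homogeneous polynomial. -/
theorem comp_mul (c h : MvPolynomial σ R) (e : ℕ)
    (hh : h.IsHomogeneous e) (D : ℕ) :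
    homogeneousComponent D (c * h) =
      if e ≤ D then homogeneousComponent (D - e) c * h else 0 := by
  have hmem : h ∈ homogeneousSubmodule σ R e := hh
  split_ifs with hle
  · have := DirectSum.coe_decompose_mul_of_right_mem_of_le (homogeneousSubmodule σ R) (a := c)
      hmem hle
    rw [← decomposition.decompose'_apply, ← decomposition.decompose'_apply]
    exact this
  · have := DirectSum.coe_decompose_mul_of_right_mem_of_not_le (homogeneousSubmodule σ R) (a := c)
      hmem hle
    rw [← decomposition.decompose'_apply]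
    exact this

theorem comp_mul_exists (c h : MvPolynomial σ R) (e : ℕ)
    (hh : h.IsHomogeneous e) (D : ℕ) :
    ∃ c', homogeneousComponent D (c * h) = c' * h := by
  rw [comp_mul c h e hh D]
  split_ifs
  · exact ⟨_, rfl⟩
  · exact ⟨0, (zero_mul _).symm⟩

theorem comp_mul_self (c h : MvPolynomial σ R) (e : ℕ) (hh : h.IsHomogeneous e) :
    homogeneousComponent e (c * h) = C (coeff 0 c) * h := by
  rw [comp_mul c h e hh e, if_pos le_rfl, Nat.sub_self, homogeneousComponent_zero]

theorem mem_idealOfVars_iff (f : MvPolynomial σ R) :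
    f ∈ idealOfVars σ R ↔ coeff 0 f = 0 := by
  have := mem_pow_idealOfVars_iff' (σ := σ) (R := R) 1 f
  rw [pow_one] at this
  rw [this]
  constructor
  · intro h
    exact h 0 (by simp)
  · intro h x hx
    have : x = 0 := by
      have h0 : x.degree = 0 := by omega
      exact (Finsupp.degree_eq_zero_iff x).mp h0
    rw [this]; exact h

end General

section Field

variable {k : Type u} [Field k] {σ : Type*}

/-- Minimal homogeneous generating families have all relations in the irrelevant ideal. -/
theorem rel_mem (I : Ideal (MvPolynomial σ k))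
    (P : ℕ → Prop)
    (hP : ∀ n, P n ↔ ∃ h : Fin n → MvPolynomial σ k,
      (∀ i, ∃ e, (h i).IsHomogeneous e) ∧ Ideal.span (Set.range h) = I)
    (n : ℕ) (hn : ∀ m, P m → n ≤ m)
    (h : Fin n → MvPolynomial σ k) (hh : ∀ i, ∃ e, (h i).IsHomogeneous e)
    (hspan : Ideal.span (Set.range h) = I)
    (c : Fin n → MvPolynomial σ k) (hc : ∑ i, c i * h i = 0) (i₀ : Fin n) :
    c i₀ ∈ idealOfVars σ k := by
  by_contra hcon
  rw [mem_idealOfVars_iff] at hcon
  obtain ⟨m, rfl⟩ : ∃ m, n = m + 1 := ⟨n - 1, by have := i₀.pos; omega⟩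
  obtain ⟨e₀, he₀⟩ := hh i₀
  -- the relation in degree `e₀`
  have h1 : ∑ i, homogeneousComponent e₀ (c i * h i) = 0 := by
    rw [← map_sum, hc, map_zero]
  rw [Fin.sum_univ_succAbove _ i₀, comp_mul_self _ _ _ he₀] at h1
  choose e he using hh
  choose c' hc' using fun j => comp_mul_exists (c j) (h j) (e j) (he j) e₀
  have h2 : h i₀ ∈ Ideal.span (Set.range (h ∘ i₀.succAbove)) := by
    have h3 : C (coeff 0 (c i₀)) * h i₀ = - ∑ j, c' (i₀.succAbove j) * h (i₀.succAbove j) := by
      rw [eq_neg_iff_add_eq_zero, ← h1]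
      congr 1
      exact Finset.sum_congr rfl fun j _ => (hc' _).symm
    have h4 : h i₀ = C (coeff 0 (c i₀))⁻¹ * (C (coeff 0 (c i₀)) * h i₀) := by
      rw [← mul_assoc, ← C_mul, inv_mul_cancel₀ hcon, C_1, one_mul]
    rw [h4, h3]
    apply Ideal.mul_mem_left
    apply neg_mem
    refine Ideal.sum_mem _ fun j _ => ?_
    exact Ideal.mul_mem_left _ _ (Ideal.subset_span ⟨j, rfl⟩)
  have hPm : P m := by
    rw [hP]
    refine ⟨h ∘ i₀.succAbove, fun j => ⟨e _, he _⟩, ?_⟩
    rw [← hspan]
    apply le_antisymm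
    · apply Ideal.span_mono
      rintro _ ⟨j, rfl⟩
      exact ⟨_, rfl⟩
    · rw [Ideal.span_le]
      rintro _ ⟨i, rfl⟩
      rcases Fin.eq_self_or_eq_succAbove i₀ i with rfl | ⟨j, rfl⟩
      · exact h2
      · exact Ideal.subset_span ⟨j, rfl⟩
  have := hn m hPm
  omega

end Field


theorem ncard_range_le {α : Type*} {n : ℕ} (h : Fin n → α) : (Set.range h).ncard ≤ n := by
  rw [← Set.image_univ]
  refine (Set.ncard_image_le (Set.toFinite _)).trans ?_
  simp [Set.ncard_univ]

section Points

variable {k : Type u} [Field k]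
  (Z : Finset (Fin 3 → k)) (hZ : ∀ p ∈ Z, p ≠ 0) (I : Ideal (MvPolynomial (Fin 3) k))
  (hI : ∀ f : MvPolynomial (Fin 3) k, f ∈ I ↔
      ∀ p ∈ Z, ∀ j : ℕ, MvPolynomial.eval p (MvPolynomial.homogeneousComponent j f) = 0)

include hI in
theorem comp_mem {f : MvPolynomial (Fin 3) k} (hf : f ∈ I) (j : ℕ) :
    homogeneousComponent j f ∈ I := by
  rw [hI]
  intro p hp i
  rw [homogeneousComponent_of_mem (homogeneousComponent_mem j f)]
  split_ifs with h
  · exact (hI f).mp hf p hp j
  · simp

include hI hZ in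
theorem sat (x : MvPolynomial (Fin 3) k) (hx : ∀ i, X i * x ∈ I) : x ∈ I := by
  rw [hI]
  intro p hp j
  obtain ⟨i, hi⟩ : ∃ i, p i ≠ 0 := Function.ne_iff.mp (hZ p hp)
  have h1 := (hI _).mp (hx i) p hp (j + 1)
  rw [mul_comm, comp_mul x (X i) 1 (isHomogeneous_X _ i) (j + 1), if_pos (by omega),
    Nat.add_sub_cancel, map_mul, eval_X] at h1
  exact (mul_eq_zero.mp h1).resolve_right hi

include hI in
theorem le_m (hne : Z.Nonempty) : I ≤ idealOfVars (Fin 3) k := by
  intro f hf
  obtain ⟨p, hp⟩ := hne
  have := (hI f).mp hf p hp 0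
  rw [homogeneousComponent_zero, eval_C] at this
  exact (mem_idealOfVars_iff f).mpr this

include hI in
theorem exists_gens : ∃ n, ∃ h : Fin n → MvPolynomial (Fin 3) k,
    (∀ i, ∃ e, (h i).IsHomogeneous e) ∧ Ideal.span (Set.range h) = I := by
  classical
  obtain ⟨s, hs⟩ : I.FG := (isNoetherianRing_iff_ideal_fg _).mp inferInstance I
  let T : Finset (MvPolynomial (Fin 3) k) := s.biUnion fun g =>
    (Finset.range (g.totalDegree + 1)).image fun j => homogeneousComponent j g
  have hT : ∀ t ∈ T, ∃ e, t.IsHomogeneous e := by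
    intro t ht
    simp only [T, Finset.mem_biUnion, Finset.mem_image, Finset.mem_range] at ht
    obtain ⟨g, -, j, -, rfl⟩ := ht
    exact ⟨j, homogeneousComponent_isHomogeneous j g⟩
  have hspan : Ideal.span (T : Set (MvPolynomial (Fin 3) k)) = I := by
    apply le_antisymm
    · rw [Ideal.span_le]
      intro t ht
      simp only [T, Finset.coe_biUnion, Finset.coe_image, Set.mem_iUnion, Set.mem_image] at ht
      obtain ⟨g, hg, j, -, rfl⟩ := ht
      apply comp_mem Z I hI
      rw [← hs]
      exact Ideal.subset_span hg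
    · rw [← hs]
      change Ideal.span (s : Set (MvPolynomial (Fin 3) k)) ≤ _
      rw [Ideal.span_le]
      intro g hg
      rw [SetLike.mem_coe, ← sum_homogeneousComponent g]
      refine Ideal.sum_mem _ fun j hj => ?_
      apply Ideal.subset_span
      simp only [T, Finset.coe_biUnion, Finset.coe_image, Set.mem_iUnion, Set.mem_image]
      exact ⟨g, hg, j, hj, rfl⟩
  refine ⟨T.card, fun i => (T.equivFin.symm i : MvPolynomial (Fin 3) k), ?_, ?_⟩
  · intro i
    exact hT _ (T.equivFin.symm i).2
  · rw [← hspan]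
    congr 1
    ext x
    constructor
    · rintro ⟨i, rfl⟩
      exact (T.equivFin.symm i).2
    · intro hx
      exact ⟨T.equivFin ⟨x, hx⟩, by simp⟩


theorem idealOfVars_isMaximal : (idealOfVars (Fin 3) k).IsMaximal := by
  have : idealOfVars (Fin 3) k = RingHom.ker (constantCoeff (σ := Fin 3) (R := k)) := by
    ext f
    rw [mem_idealOfVars_iff, RingHom.mem_ker, constantCoeff_eq]
  rw [this]
  exact RingHom.ker_isMaximal_of_surjective _ (fun a => ⟨C a, by simp⟩)

local notation "𝔪" => idealOfVars (Fin 3) k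

include hI hZ in
theorem main (hne : Z.Nonempty) (d : ℕ)
    (hf : ∃ f ∈ I, MvPolynomial.IsHomogeneous f d ∧ f ≠ 0) :
    Submodule.spanFinrank I ≤ d + 1 := by
  classical
  obtain ⟨f, hfI, hfd, hf0⟩ := hf
  have h𝔪max : (𝔪).IsMaximal := idealOfVars_isMaximal
  haveI : (𝔪).IsPrime := h𝔪max.isPrime
  let A := Localization.AtPrime 𝔪
  let J : Ideal A := I.map (algebraMap (MvPolynomial (Fin 3) k) A)
  have hinj : Function.Injective (algebraMap (MvPolynomial (Fin 3) k) A) :=
    IsLocalization.injective A (Ideal.primeCompl_le_nonZeroDivisors 𝔪)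
  have hmA : IsLocalRing.maximalIdeal A = (𝔪).map (algebraMap (MvPolynomial (Fin 3) k) A) :=
    Localization.AtPrime.map_eq_maximalIdeal.symm
  -- minimal homogeneous generators
  have hex := exists_gens Z I hI
  obtain ⟨n, ⟨h, hh, hspan⟩, hnmin⟩ : ∃ n, (∃ h : Fin n → MvPolynomial (Fin 3) k,
      (∀ i, ∃ e, (h i).IsHomogeneous e) ∧ Ideal.span (Set.range h) = I) ∧
      ∀ m, (∃ h : Fin m → MvPolynomial (Fin 3) k,
      (∀ i, ∃ e, (h i).IsHomogeneous e) ∧ Ideal.span (Set.range h) = I) → n ≤ m :=
    ⟨Nat.find hex, Nat.find_spec hex, fun m hm => Nat.find_min' hex hm⟩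
  have hrel : ∀ c : Fin n → MvPolynomial (Fin 3) k, ∑ i, c i * h i = 0 → ∀ i, c i ∈ 𝔪 :=
    fun c hc i => rel_mem I _ (fun _ => Iff.rfl) n hnmin h hh hspan c hc i
  -- the local data
  let g : Fin n → A := fun i => algebraMap _ A (h i)
  have hg : Ideal.span (Set.range g) = J := by
    change _ = I.map _
    rw [← hspan, Ideal.map_span, ← Set.range_comp]
    rfl
  have hmin : ∀ c : Fin n → A, ∑ i, c i * g i = 0 → ∀ i, c i ∈ IsLocalRing.maximalIdeal A := by
    intro c hc i
    obtain ⟨b, hb⟩ := IsLocalization.exist_integer_multiples (𝔪).primeCompl Finset.univ c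
    choose c' hc' using fun i => hb i (Finset.mem_univ i)
    have h0 : ∑ i, c' i * h i = 0 := by
      apply hinj
      rw [map_sum, map_zero]
      have : ∀ i, algebraMap _ A (c' i * h i) = (b : MvPolynomial (Fin 3) k) • (c i * g i) := by
        intro i
        rw [map_mul, hc', smul_mul_assoc]
      rw [Finset.sum_congr rfl fun i _ => this i, ← Finset.smul_sum, hc, smul_zero]
    have h1 := hrel c' h0 i
    have h2 : algebraMap _ A (c' i) ∈ IsLocalRing.maximalIdeal A := by
      rw [hmA]; exact Ideal.mem_map_of_mem _ h1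
    rw [hc', Algebra.smul_def] at h2
    exact (Ideal.unit_mul_mem_iff_mem _ (IsLocalization.map_units A b)).mp h2
  have hsat : ∀ x : A, (∀ y ∈ IsLocalRing.maximalIdeal A, y * x ∈ J) → x ∈ J := by
    intro x hx
    obtain ⟨⟨a, u⟩, rfl⟩ := IsLocalization.mk'_surjective (𝔪).primeCompl x
    have h1 : ∀ i : Fin 3, ∃ v ∈ (𝔪).primeCompl, v * (X i * a) ∈ I := by
      intro i
      have hXi : algebraMap _ A (X i : MvPolynomial (Fin 3) k) ∈ IsLocalRing.maximalIdeal A := by
        rw [hmA]; exact Ideal.mem_map_of_mem _ (Ideal.subset_span ⟨i, rfl⟩)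
      have := hx _ hXi
      rw [IsLocalization.mul_mk'_eq_mk'_of_mul] at this
      exact (IsLocalization.mk'_mem_map_algebraMap_iff (𝔪).primeCompl A I _ u).mp this
    choose v hv hvI using h1
    have hV : (∏ i, v i) ∈ (𝔪).primeCompl := Submonoid.prod_mem _ fun i _ => hv i
    have h2 : (∏ i, v i) * a ∈ I := by
      apply sat Z hZ I hI
      intro i
      obtain ⟨w, hw⟩ := Finset.dvd_prod_of_mem v (Finset.mem_univ i)
      rw [hw]
      have : X i * (v i * w * a) = w * (v i * (X i * a)) := by ring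
      rw [this]
      exact Ideal.mul_mem_left _ _ (hvI i)
    exact (IsLocalization.mk'_mem_map_algebraMap_iff (𝔪).primeCompl A I a u).mpr ⟨_, hV, h2⟩
  have hJbot : J ≠ ⊥ := by
    intro hbot
    have : algebraMap _ A f ∈ J := Ideal.mem_map_of_mem _ hfI
    rw [hbot, Ideal.mem_bot] at this
    exact hf0 (hinj (by rw [this, map_zero]))
  have hJle : J ≤ IsLocalRing.maximalIdeal A := by
    rw [hmA]; exact Ideal.map_mono (le_m Z I hI hne)
  have hJtop : J ≠ ⊤ := by
    intro htop
    rw [htop] at hJle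
    exact (IsLocalRing.maximalIdeal.isMaximal A).ne_top (top_le_iff.mp hJle)
  have hdim : (IsLocalRing.maximalIdeal A).spanFinrank ≤ 3 := by
    rw [hmA, Ideal.map_span, ← Set.range_comp]
    exact (Submodule.spanFinrank_span_le_ncard_of_finite (Set.finite_range _)).trans
      (ncard_range_le _)
  obtain ⟨r, hnr, hJr⟩ := Groth.Agent.H34.LocalHB.local_main A J hdim hsat hJbot hJtop n g hg hmin
  -- `r ≤ d`
  have hrd : r ≤ d := by
    by_contra hlt
    push_neg at hlt
    have h1 : algebraMap _ A f ∈ (𝔪 ^ r).map (algebraMap (MvPolynomial (Fin 3) k) A) := by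
      rw [Ideal.map_pow, ← hmA]
      exact hJr (Ideal.mem_map_of_mem _ hfI)
    obtain ⟨v, hv, hvf⟩ :=
      (IsLocalization.algebraMap_mem_map_algebraMap_iff (𝔪).primeCompl A (𝔪 ^ r) f).mp h1
    have h2 : homogeneousComponent d (v * f) = 0 := by
      ext x
      rw [coeff_homogeneousComponent, coeff_zero]
      split_ifs with hx
      · exact (mem_pow_idealOfVars_iff' r (v * f)).mp hvf x (by omega)
      · rfl
    rw [comp_mul_self v f d hfd] at h2
    rcases mul_eq_zero.mp h2 with h3 | h3
    · apply hv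
      change v ∈ 𝔪
      rw [mem_idealOfVars_iff]
      exact C_eq_zero.mp h3   
    · exact hf0 h3
  -- conclusion
  have h3 : Submodule.spanFinrank I ≤ n := by
    rw [← hspan]
    exact (Submodule.spanFinrank_span_le_ncard_of_finite
      (R := MvPolynomial (Fin 3) k) (Set.finite_range h)).trans (ncard_range_le h)
  omega

end Points

end Groth.Agent.H34.PointsP2
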