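import Mathlib
import Groth.Agent.H34.PointsP2

/-!
# Hilbert–Burch resolution of the ideal of points in the projective plane (helper34)
-/

set_option autoImplicit false
universe u

namespace Groth.Agent.H34.PointsP2

open MvPolynomial

section Abstract

variable {k : Type u} [Field k] {σ : Type*} {M : Type*} [AddCommGroup M]
  [Module (MvPolynomial σ k) M]
  (comp : ℕ → M →+ M) (IsHom : M → ℕ → Prop)

include comp in
/-- Abstract graded elimination: minimal homogeneous generating families have relations in the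
irrelevant ideal. -/
theorem rel_mem'
    (hP1 : ∀ w D, IsHom w D → ∀ (c : MvPolynomial σ k) (D' : ℕ), ∃ c' : MvPolynomial σ k, comp D' (c • w) = c' • w)
    (hP1' : ∀ w D, IsHom w D → ∀ c : MvPolynomial σ k, comp D (c • w) = (C (coeff 0 c) : MvPolynomial σ k) • w)
    (K : Submodule (MvPolynomial σ k) M)
    (n : ℕ) (hn : ∀ m, (∃ w : Fin m → M, (∀ i, ∃ D, IsHom (w i) D) ∧
      Submodule.span (MvPolynomial σ k) (Set.range w) = K) → n ≤ m)
    (w : Fin n → M) (hw : ∀ i, ∃ D, IsHom (w i) D)
    (hspan : Submodule.span (MvPolynomial σ k) (Set.range w) = K)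
    (c : Fin n → MvPolynomial σ k) (hc : ∑ i, c i • w i = 0) (i₀ : Fin n) :
    c i₀ ∈ idealOfVars σ k := by
  by_contra hcon
  rw [mem_idealOfVars_iff] at hcon
  obtain ⟨m, rfl⟩ : ∃ m, n = m + 1 := ⟨n - 1, by have := i₀.pos; omega⟩
  obtain ⟨D₀, hD₀⟩ := hw i₀
  have h1 : ∑ i, comp D₀ (c i • w i) = 0 := by
    rw [← map_sum, hc, map_zero]
  rw [Fin.sum_univ_succAbove _ i₀, hP1' _ _ hD₀] at h1
  choose D hD using hw
  choose c' hc' using fun j => hP1 (w j) (D j) (hD j) (c j) D₀
  have h2 : w i₀ ∈ Submodule.span (MvPolynomial σ k) (Set.range (w ∘ i₀.succAbove)) := by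
    have h3 : (C (coeff 0 (c i₀)) : MvPolynomial σ k) • w i₀ =
        - ∑ j, c' (i₀.succAbove j) • w (i₀.succAbove j) := by
      rw [eq_neg_iff_add_eq_zero, ← h1]
      congr 1
      exact Finset.sum_congr rfl fun j _ => (hc' _).symm
    have h4 : w i₀ = (C (coeff 0 (c i₀))⁻¹ : MvPolynomial σ k) •
        ((C (coeff 0 (c i₀)) : MvPolynomial σ k) • w i₀) := by
      rw [smul_smul, ← C_mul, inv_mul_cancel₀ hcon, C_1, one_smul]
    rw [h4, h3]
    apply Submodule.smul_mem
    apply neg_mem
    refine Submodule.sum_mem _ fun j _ => ?_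
    exact Submodule.smul_mem _ _ (Submodule.subset_span ⟨j, rfl⟩)
  have hPm : ∃ w' : Fin m → M, (∀ i, ∃ D, IsHom (w' i) D) ∧
      Submodule.span (MvPolynomial σ k) (Set.range w') = K := by
    refine ⟨w ∘ i₀.succAbove, fun j => ⟨D _, hD _⟩, ?_⟩
    rw [← hspan]
    apply le_antisymm
    · apply Submodule.span_mono
      rintro _ ⟨j, rfl⟩
      exact ⟨_, rfl⟩
    · rw [Submodule.span_le]
      rintro _ ⟨i, rfl⟩
      rcases Fin.eq_self_or_eq_succAbove i₀ i with rfl | ⟨j, rfl⟩
      · exact h2
      · exact Submodule.subset_span ⟨j, rfl⟩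
  have := hn m hPm
  omega

include comp in
theorem exists_gens' [IsNoetherian (MvPolynomial σ k) M]
    (K : Submodule (MvPolynomial σ k) M)
    (hP3 : ∀ v ∈ K, ∀ D, comp D v ∈ K)
    (hP4 : ∀ v : M, ∃ N, v = ∑ D ∈ Finset.range N, comp D v)
    (hP5 : ∀ v D, IsHom (comp D v) D) :
    ∃ n, ∃ w : Fin n → M, (∀ i, ∃ D, IsHom (w i) D) ∧
      Submodule.span (MvPolynomial σ k) (Set.range w) = K := by
  classical
  obtain ⟨s, hs⟩ : K.FG := IsNoetherian.noetherian K
  choose N hN using hP4
  let T : Finset M := s.biUnion fun v => (Finset.range (N v)).image fun D => comp D v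
  have hT : ∀ t ∈ T, ∃ D, IsHom t D := by
    intro t ht
    simp only [T, Finset.mem_biUnion, Finset.mem_image, Finset.mem_range] at ht
    obtain ⟨v, -, D, -, rfl⟩ := ht
    exact ⟨D, hP5 v D⟩
  have hspan : Submodule.span (MvPolynomial σ k) (T : Set M) = K := by
    apply le_antisymm
    · rw [Submodule.span_le]
      intro t ht
      simp only [T, Finset.coe_biUnion, Finset.coe_image, Set.mem_iUnion, Set.mem_image] at ht
      obtain ⟨v, hv, D, -, rfl⟩ := ht
      apply hP3
      rw [← hs]
      exact Submodule.subset_span hv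
    · rw [← hs, Submodule.span_le]
      intro v hv
      rw [SetLike.mem_coe, hN v]
      refine Submodule.sum_mem _ fun D hD => ?_
      apply Submodule.subset_span
      simp only [T, Finset.coe_biUnion, Finset.coe_image, Set.mem_iUnion, Set.mem_image]
      exact ⟨v, hv, D, hD, rfl⟩
  refine ⟨T.card, fun i => (T.equivFin.symm i : M), ?_, ?_⟩
  · intro i
    exact hT _ (T.equivFin.symm i).2
  · rw [← hspan]
    congr 1
    ext x
    constructor
    · rintro ⟨i, rfl⟩
      exact (T.equivFin.symm i).2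
    · intro hx
      exact ⟨T.equivFin ⟨x, hx⟩, by simp⟩

end Abstract


section Weighted

variable {k : Type u} [Field k] {σ : Type*} {n : ℕ} (e : Fin n → ℕ)

/-- The weighted homogeneous component of degree `D` of a vector of polynomials, where the
`i`-th basis vector has degree `e i`. -/
noncomputable def wcomp (D : ℕ) : (Fin n → MvPolynomial σ k) →+ (Fin n → MvPolynomial σ k) where
  toFun v := fun i => if e i ≤ D then homogeneousComponent (D - e i) (v i) else 0
  map_zero' := by funext i; simp
  map_add' := by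
    intro v w; funext i
    simp only [Pi.add_apply]
    split_ifs <;> simp

theorem wcomp_apply (D : ℕ) (v : Fin n → MvPolynomial σ k) (i : Fin n) :
    wcomp e D v i = if e i ≤ D then homogeneousComponent (D - e i) (v i) else 0 := rfl

/-- Weighted homogeneity. -/
def WHom (w : Fin n → MvPolynomial σ k) (D : ℕ) : Prop :=
  ∀ i, if e i ≤ D then (w i).IsHomogeneous (D - e i) else w i = 0

theorem wHom_wcomp (v : Fin n → MvPolynomial σ k) (D : ℕ) : WHom e (wcomp e D v) D := by
  intro i
  rw [wcomp_apply]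
  split_ifs with h
  · exact homogeneousComponent_isHomogeneous _ _
  · rfl

theorem wcomp_smul (w : Fin n → MvPolynomial σ k) (D : ℕ) (hw : WHom e w D)
    (c : MvPolynomial σ k) (D' : ℕ) :
    wcomp e D' (c • w) = (if D ≤ D' then homogeneousComponent (D' - D) c else 0) • w := by
  funext i
  rw [wcomp_apply, Pi.smul_apply, Pi.smul_apply, smul_eq_mul, smul_eq_mul]
  have hwi := hw i
  by_cases h1 : e i ≤ D
  · rw [if_pos h1] at hwi
    by_cases h2 : e i ≤ D'
    · rw [if_pos h2, comp_mul c (w i) (D - e i) hwi (D' - e i)]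
      by_cases h3 : D ≤ D'
      · rw [if_pos h3, if_pos (by omega)]
        have h4 : D' - e i - (D - e i) = D' - D := by omega
        rw [h4]
      · rw [if_neg h3, if_neg (by omega), zero_mul]
    · rw [if_neg h2, if_neg (by omega), zero_mul]
  · rw [if_neg h1] at hwi
    rw [hwi, mul_zero, mul_zero]
    split_ifs <;> simp

theorem wcomp_sum (v : Fin n → MvPolynomial σ k) :
    ∃ N, v = ∑ D ∈ Finset.range N, wcomp e D v := by
  refine ⟨(Finset.univ.sup fun i => (v i).totalDegree + e i) + 1, ?_⟩
  funext i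
  rw [Finset.sum_apply]
  simp only [wcomp_apply]
  set N := (Finset.univ.sup fun i => (v i).totalDegree + e i) + 1 with hN
  have hle : (v i).totalDegree + e i + 1 ≤ N := by
    have := Finset.le_sup (f := fun i => (v i).totalDegree + e i) (Finset.mem_univ i)
    omega
  obtain ⟨x, hx⟩ : ∃ x, N = e i + (((v i).totalDegree + 1) + x) :=
    ⟨N - (e i + ((v i).totalDegree + 1)), by omega⟩
  rw [hx, Finset.sum_range_add, Finset.sum_range_add]
  have h1 : ∑ x ∈ Finset.range (e i),
      (if e i ≤ x then homogeneousComponent (x - e i) (v i) else 0) = 0 := by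
    apply Finset.sum_eq_zero
    intro D hD
    rw [Finset.mem_range] at hD
    rw [if_neg (by omega)]
  have h2 : ∑ x ∈ Finset.range ((v i).totalDegree + 1),
      (if e i ≤ e i + x then homogeneousComponent (e i + x - e i) (v i) else 0) = v i := by
    conv_rhs => rw [← sum_homogeneousComponent (v i)]
    apply Finset.sum_congr rfl
    intro D _
    rw [if_pos (by omega), Nat.add_sub_cancel_left]
  have h3 : ∑ y ∈ Finset.range x,
      (if e i ≤ e i + ((v i).totalDegree + 1 + y) then
        homogeneousComponent (e i + ((v i).totalDegree + 1 + y) - e i) (v i) else 0) = 0 := by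
    apply Finset.sum_eq_zero
    intro D _
    rw [if_pos (by omega), Nat.add_sub_cancel_left]
    exact homogeneousComponent_eq_zero _ _ (by omega)
  rw [h1, h2, h3, zero_add, add_zero]

theorem wcomp_mem_ker (h : Fin n → MvPolynomial σ k) (hh : ∀ i, (h i).IsHomogeneous (e i))
    (v : Fin n → MvPolynomial σ k)
    (hv : v ∈ LinearMap.ker (Fintype.linearCombination (MvPolynomial σ k) h)) (D : ℕ) :
    wcomp e D v ∈ LinearMap.ker (Fintype.linearCombination (MvPolynomial σ k) h) := by
  rw [LinearMap.mem_ker, Fintype.linearCombination_apply] at hv ⊢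
  have h1 : ∑ i, homogeneousComponent D (v i • h i) = 0 := by
    rw [← map_sum, hv, map_zero]
  rw [← h1]
  apply Finset.sum_congr rfl
  intro i _
  rw [smul_eq_mul, smul_eq_mul, comp_mul (v i) (h i) (e i) (hh i) D, wcomp_apply]
  split_ifs
  · rfl
  · rw [zero_mul]

end Weighted


section LocalInj

variable {A : Type*} [CommRing A] [IsLocalRing A] {m : ℕ} {P : Type*} [AddCommGroup P]
  [Module A P] [Module.Projective A P]

/-- A surjection from a finite free module over a local ring onto a projective module whose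
kernel lies in `𝔪 · A^m` is injective. -/
theorem injective_of_surjective_of_ker_le (φ : (Fin m → A) →ₗ[A] P) (hφ : Function.Surjective φ)
    (hker : ∀ c, φ c = 0 → ∀ j, c j ∈ IsLocalRing.maximalIdeal A) : Function.Injective φ := by
  classical
  obtain ⟨s, hs⟩ := Module.projective_lifting_property φ LinearMap.id hφ
  have hs' : ∀ x, φ (s x) = x := fun x => by
    have := LinearMap.congr_fun hs x
    simpa using this
  let p : (Fin m → A) →ₗ[A] (Fin m → A) := LinearMap.id - s ∘ₗ φ
  have hpker : ∀ x, p x ∈ LinearMap.ker φ := by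
    intro x
    simp [p, hs']
  have hpid : ∀ x ∈ LinearMap.ker φ, p x = x := by
    intro x hx
    rw [LinearMap.mem_ker] at hx
    simp [p, hx]
  have hrange : LinearMap.range p = LinearMap.ker φ := by
    apply le_antisymm
    · rintro _ ⟨x, rfl⟩
      exact hpker x
    · intro x hx
      exact ⟨x, hpid x hx⟩
  have hfg : (LinearMap.ker φ).FG := by
    rw [← hrange, ← Submodule.map_top]
    exact (Module.Finite.fg_top).map p
  have hle : LinearMap.ker φ ≤ IsLocalRing.maximalIdeal A • LinearMap.ker φ := by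
    intro x hx
    have hx0 : φ x = 0 := hx
    have h1 : x = ∑ j, x j • p (Pi.single j 1) := by
      conv_lhs => rw [← hpid x hx]
      conv_lhs => rw [← Finset.univ_sum_single x]
      rw [map_sum]
      apply Finset.sum_congr rfl
      intro j _
      rw [← map_smul]
      congr 1
      rw [← Pi.single_smul', smul_eq_mul, mul_one]
    rw [h1]
    refine Submodule.sum_mem _ fun j _ => ?_
    exact Submodule.smul_mem_smul (hker x hx0 j) (hpker _)
  have hbot : LinearMap.ker φ = ⊥ :=
    Submodule.eq_bot_of_le_smul_of_le_jacobson_bot _ _ hfg hle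
      (IsLocalRing.maximalIdeal_le_jacobson ⊥)
  exact LinearMap.ker_eq_bot.mp hbot

end LocalInj

section Nonzero

variable {k : Type u} [Field k]
  (Z : Finset (Fin 3 → k)) (hZ : ∀ p ∈ Z, p ≠ 0) (I : Ideal (MvPolynomial (Fin 3) k))
  (hI : ∀ f : MvPolynomial (Fin 3) k, f ∈ I ↔
      ∀ p ∈ Z, ∀ j : ℕ, MvPolynomial.eval p (MvPolynomial.homogeneousComponent j f) = 0)

theorem exists_linear_form (p : Fin 3 → k) (hp : p ≠ 0) :
    ∃ ℓ : MvPolynomial (Fin 3) k, ℓ.IsHomogeneous 1 ∧ ℓ ≠ 0 ∧ eval p ℓ = 0 := by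
  obtain ⟨i, hi⟩ : ∃ i, p i ≠ 0 := Function.ne_iff.mp hp
  obtain ⟨j, hj⟩ : ∃ j : Fin 3, j ≠ i := ⟨i + 1, by fin_cases i <;> decide⟩
  refine ⟨C (p i) * X j - C (p j) * X i, ?_, ?_, ?_⟩
  · apply IsHomogeneous.sub
    · have := (isHomogeneous_C (Fin 3) (p i)).mul (isHomogeneous_X k j)
      simpa using this
    · have := (isHomogeneous_C (Fin 3) (p j)).mul (isHomogeneous_X k i)
      simpa using this
  · intro h0
    have := congrArg (coeff (Finsupp.single j 1)) h0
    rw [coeff_sub, coeff_C_mul, coeff_C_mul, coeff_X, coeff_X', coeff_zero] at this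
    have hne : Finsupp.single i 1 ≠ Finsupp.single j 1 := by
      intro h
      have := (Finsupp.single_left_inj (by norm_num : (1 : ℕ) ≠ 0)).mp h
      exact hj this.symm
    rw [if_neg hne] at this
    simp at this
    exact hi this
  · simp [mul_comm]

include hI hZ in
theorem ne_bot : I ≠ ⊥ := by
  classical
  have h1 : ∀ p : Fin 3 → k, ∃ ℓ : MvPolynomial (Fin 3) k, p ≠ 0 →
      (ℓ.IsHomogeneous 1 ∧ ℓ ≠ 0 ∧ eval p ℓ = 0) := by
    intro p
    by_cases hp : p = 0
    · exact ⟨0, fun h => absurd hp h⟩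
    · obtain ⟨ℓ, hℓ⟩ := exists_linear_form p hp
      exact ⟨ℓ, fun _ => hℓ⟩
  choose ℓ hℓ using h1
  have hhom : (∏ p ∈ Z, ℓ p).IsHomogeneous (∑ _p ∈ Z, 1) :=
    IsHomogeneous.prod Z ℓ (fun _ => 1) fun p hp => (hℓ p (hZ p hp)).1
  have hne : (∏ p ∈ Z, ℓ p) ≠ 0 :=
    Finset.prod_ne_zero_iff.mpr fun p hp => (hℓ p (hZ p hp)).2.1
  have hmem : (∏ p ∈ Z, ℓ p) ∈ I := by
    rw [hI]
    intro p hp j
    rw [homogeneousComponent_of_mem hhom]
    split_ifs
    · rw [map_prod]
      exact Finset.prod_eq_zero hp (hℓ p (hZ p hp)).2.2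
    · simp
  intro hbot
  rw [hbot, Ideal.mem_bot] at hmem
  exact hne hmem

end Nonzero


section Resolution

variable {k : Type u} [Field k]
  (Z : Finset (Fin 3 → k)) (hZ : ∀ p ∈ Z, p ≠ 0) (I : Ideal (MvPolynomial (Fin 3) k))
  (hI : ∀ f : MvPolynomial (Fin 3) k, f ∈ I ↔
      ∀ p ∈ Z, ∀ j : ℕ, MvPolynomial.eval p (MvPolynomial.homogeneousComponent j f) = 0)

local notation "𝔪" => idealOfVars (Fin 3) k
local notation "S" => MvPolynomial (Fin 3) k

include hI hZ in
theorem main2 (hne : Z.Nonempty) :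
    ∃ (t : ℕ) (Ψ : Matrix (Fin (t + 1)) (Fin t) S) (π : (Fin (t + 1) → S) →ₗ[S] S),
      LinearMap.ker Ψ.mulVecLin = ⊥ ∧ LinearMap.ker π = LinearMap.range Ψ.mulVecLin ∧
        LinearMap.range π = I := by
  classical
  have h𝔪max : (𝔪).IsMaximal := idealOfVars_isMaximal
  haveI : (𝔪).IsPrime := h𝔪max.isPrime
  let A := Localization.AtPrime 𝔪
  let J : Ideal A := I.map (algebraMap S A)
  have hinj : Function.Injective (algebraMap S A) :=
    IsLocalization.injective A (Ideal.primeCompl_le_nonZeroDivisors 𝔪)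
  have hmA : IsLocalRing.maximalIdeal A = (𝔪).map (algebraMap S A) :=
    Localization.AtPrime.map_eq_maximalIdeal.symm
  -- minimal homogeneous generators of `I`
  have hex := exists_gens Z I hI
  obtain ⟨n, ⟨h, hh, hspan⟩, -⟩ : ∃ n, (∃ h : Fin n → S,
      (∀ i, ∃ e, (h i).IsHomogeneous e) ∧ Ideal.span (Set.range h) = I) ∧
      ∀ m, (∃ h : Fin m → S,
      (∀ i, ∃ e, (h i).IsHomogeneous e) ∧ Ideal.span (Set.range h) = I) → n ≤ m :=
    ⟨Nat.find hex, Nat.find_spec hex, fun m hm => Nat.find_min' hex hm⟩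
  choose e he using hh
  let π' : (Fin n → S) →ₗ[S] S := Fintype.linearCombination S h
  have hrangeπ' : LinearMap.range π' = I := by
    rw [Fintype.range_linearCombination]
    exact hspan
  -- minimal weighted homogeneous generators of the syzygy module
  have hexK := exists_gens' (wcomp e) (WHom e) (LinearMap.ker π') (wcomp_mem_ker e h he)
    (wcomp_sum e) (wHom_wcomp e)
  obtain ⟨m, ⟨w, hw, hwspan⟩, hmmin⟩ : ∃ m, (∃ w : Fin m → (Fin n → S),
      (∀ i, ∃ D, WHom e (w i) D) ∧ Submodule.span S (Set.range w) = LinearMap.ker π') ∧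
      ∀ m', (∃ w : Fin m' → (Fin n → S),
      (∀ i, ∃ D, WHom e (w i) D) ∧ Submodule.span S (Set.range w) = LinearMap.ker π') → m ≤ m' :=
    ⟨Nat.find hexK, Nat.find_spec hexK, fun m' hm' => Nat.find_min' hexK hm'⟩
  have hrelK : ∀ c : Fin m → S, ∑ j, c j • w j = 0 → ∀ j, c j ∈ 𝔪 := fun c hc j =>
    rel_mem' (wcomp e) (WHom e)
      (fun w D hw c D' => ⟨_, wcomp_smul e w D hw c D'⟩)
      (fun w D hw c => by
        rw [wcomp_smul e w D hw c D, if_pos le_rfl, Nat.sub_self, homogeneousComponent_zero])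
      (LinearMap.ker π') m hmmin w hw hwspan c hc j
  let Ψ : Matrix (Fin n) (Fin m) S := Matrix.of fun i j => w j i
  have hmulVec : ∀ c : Fin m → S, Ψ.mulVec c = ∑ j, c j • w j := by
    intro c
    funext i
    simp only [Matrix.mulVec, dotProduct, Ψ, Matrix.of_apply, Finset.sum_apply, Pi.smul_apply,
      smul_eq_mul]
    exact Finset.sum_congr rfl fun j _ => mul_comm _ _
  have hexact : LinearMap.ker π' = LinearMap.range Ψ.mulVecLin := by
    rw [← hwspan]
    ext v
    rw [Submodule.mem_span_range_iff_exists_fun]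
    constructor
    · rintro ⟨c, rfl⟩
      exact ⟨c, by rw [Matrix.mulVecLin_apply, hmulVec]⟩
    · rintro ⟨c, rfl⟩
      exact ⟨c, by rw [Matrix.mulVecLin_apply, hmulVec]⟩
  -- the local data
  let g : Fin n → A := fun i => algebraMap S A (h i)
  have hg : Ideal.span (Set.range g) = J := by
    change _ = I.map _
    rw [← hspan, Ideal.map_span, ← Set.range_comp]
    rfl
  have hsat : ∀ x : A, (∀ y ∈ IsLocalRing.maximalIdeal A, y * x ∈ J) → x ∈ J := by
    intro x hx
    obtain ⟨⟨a, u⟩, rfl⟩ := IsLocalization.mk'_surjective (𝔪).primeCompl x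
    have h1 : ∀ i : Fin 3, ∃ v ∈ (𝔪).primeCompl, v * (X i * a) ∈ I := by
      intro i
      have hXi : algebraMap S A (X i : S) ∈ IsLocalRing.maximalIdeal A := by
        rw [hmA]; exact Ideal.mem_map_of_mem _ (Ideal.subset_span ⟨i, rfl⟩)
      have := hx _ hXi
      rw [IsLocalization.mul_mk'_eq_mk'_of_mul] at this
      exact (IsLocalization.mk'_mem_map_algebraMap_iff (𝔪).primeCompl A I _ u).mp this
    choose v hv hvI using h1
    have hV : (∏ i, v i) ∈ (𝔪).primeCompl := Submonoid.prod_mem _ fun i _ => hv i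
    have h2 : (∏ i, v i) * a ∈ I := by
      apply sat Z hZ I hI
      intro i
      obtain ⟨w, hw⟩ := Finset.dvd_prod_of_mem v (Finset.mem_univ i)
      rw [hw]
      have : X i * (v i * w * a) = w * (v i * (X i * a)) := by ring
      rw [this]
      exact Ideal.mul_mem_left _ _ (hvI i)
    exact (IsLocalization.mk'_mem_map_algebraMap_iff (𝔪).primeCompl A I a u).mpr ⟨_, hV, h2⟩
  have hJle : J ≤ IsLocalRing.maximalIdeal A := by
    rw [hmA]; exact Ideal.map_mono (le_m Z I hI hne)
  have hJtop : J ≠ ⊤ := by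
    intro htop
    rw [htop] at hJle
    exact (IsLocalRing.maximalIdeal.isMaximal A).ne_top (top_le_iff.mp hJle)
  have hdim : (IsLocalRing.maximalIdeal A).spanFinrank ≤ 3 := by
    rw [hmA, Ideal.map_span, ← Set.range_comp]
    exact (Submodule.spanFinrank_span_le_ncard_of_finite (Set.finite_range _)).trans
      (ncard_range_le _)
  let π'A : (Fin n → A) →ₗ[A] A := Fintype.linearCombination A g
  have hπ'A : ∀ v, π'A v = ∑ i, v i * g i := by
    intro v
    simp [π'A, Fintype.linearCombination_apply]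
  have hrangeA : LinearMap.range π'A = J := by
    rw [Fintype.range_linearCombination]
    exact hg
  have hmemA : ∀ v, π'A v ∈ J := fun v => by
    rw [← hrangeA]
    exact ⟨v, rfl⟩
  let πA : (Fin n → A) →ₗ[A] ↥J := π'A.codRestrict J hmemA
  have hπA : Function.Surjective πA := by
    rintro ⟨y, hy⟩
    rw [← hrangeA] at hy
    obtain ⟨v, hv⟩ := hy
    exact ⟨v, Subtype.ext hv⟩
  have hkerπA : LinearMap.ker πA = LinearMap.ker π'A := LinearMap.ker_codRestrict _ _ _
  have hfree : Module.Free A (LinearMap.ker πA) :=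
    Groth.Agent.H34.CMCodimTwo.free_ker A J
      (Groth.Agent.H34.LocalHB.pd_lt_three A J hdim hsat hJtop) πA hπA
  let wA : Fin m → (Fin n → A) := fun j i => algebraMap S A (w j i)
  have hwker : ∀ j, π' (w j) = 0 := by
    intro j
    have : w j ∈ LinearMap.ker π' := by
      rw [← hwspan]; exact Submodule.subset_span ⟨j, rfl⟩
    exact this
  have hwAker : ∀ j, π'A (wA j) = 0 := by
    intro j
    rw [hπ'A]
    have := congrArg (algebraMap S A) (hwker j)
    rw [map_zero, Fintype.linearCombination_apply, map_sum] at this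
    rw [← this]
    exact Finset.sum_congr rfl fun i _ => by rw [smul_eq_mul, map_mul]
  have hφmem : ∀ c : Fin m → A, Fintype.linearCombination A wA c ∈ LinearMap.ker πA := by
    intro c
    rw [hkerπA, LinearMap.mem_ker]
    have : Fintype.linearCombination A wA c = ∑ j, c j • wA j :=
      Fintype.linearCombination_apply A wA c
    rw [this, map_sum]
    exact Finset.sum_eq_zero fun j _ => by rw [map_smul, hwAker, smul_zero]
  let φ : (Fin m → A) →ₗ[A] ↥(LinearMap.ker πA) :=
    (Fintype.linearCombination A wA).codRestrict _ hφmem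
  have hφapply : ∀ c, ((φ c : ↥(LinearMap.ker πA)) : Fin n → A) = ∑ j, c j • wA j := by
    intro c
    simp [φ, Fintype.linearCombination_apply]
  have hφsurj : Function.Surjective φ := by
    rintro ⟨v, hv⟩
    rw [hkerπA, LinearMap.mem_ker, hπ'A] at hv
    obtain ⟨b, hb⟩ := IsLocalization.exist_integer_multiples (𝔪).primeCompl Finset.univ v
    choose v' hv' using fun i => hb i (Finset.mem_univ i)
    have h0 : π' v' = 0 := by
      apply hinj
      rw [Fintype.linearCombination_apply, map_sum, map_zero]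
      have : ∀ i, algebraMap S A (v' i • h i) = (b : S) • (v i * g i) := by
        intro i
        rw [smul_eq_mul, map_mul, hv', smul_mul_assoc]
      rw [Finset.sum_congr rfl fun i _ => this i, ← Finset.smul_sum, hv, smul_zero]
    have h1 : v' ∈ Submodule.span S (Set.range w) := by
      rw [hwspan]; exact h0
    obtain ⟨c', hc'⟩ := (Submodule.mem_span_range_iff_exists_fun S).mp h1
    obtain ⟨uu, huu⟩ := IsLocalization.map_units A b
    refine ⟨fun j => ↑uu⁻¹ * algebraMap S A (c' j), ?_⟩
    apply Subtype.ext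
    rw [hφapply]
    funext i
    rw [Finset.sum_apply]
    simp only [Pi.smul_apply, smul_eq_mul, wA]
    have h2 : ∑ j, ↑uu⁻¹ * algebraMap S A (c' j) * algebraMap S A (w j i) =
        ↑uu⁻¹ * algebraMap S A (v' i) := by
      rw [← hc', Finset.sum_apply, map_sum, Finset.mul_sum]
      exact Finset.sum_congr rfl fun j _ => by
        rw [Pi.smul_apply, smul_eq_mul, map_mul, mul_assoc]
    rw [h2, hv', Algebra.smul_def, ← huu, ← mul_assoc, Units.inv_mul, one_mul]
  have hφker : ∀ c, φ c = 0 → ∀ j, c j ∈ IsLocalRing.maximalIdeal A := by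
    intro c hc j
    have hc0 : ∑ j, c j • wA j = 0 := by
      rw [← hφapply, hc]; rfl
    obtain ⟨b, hb⟩ := IsLocalization.exist_integer_multiples (𝔪).primeCompl Finset.univ c
    choose c' hc' using fun j => hb j (Finset.mem_univ j)
    have h0 : ∑ j, c' j • w j = 0 := by
      funext i
      apply hinj
      rw [Finset.sum_apply, map_sum, Pi.zero_apply, map_zero]
      have : ∀ j, algebraMap S A ((c' j • w j) i) = (b : S) • ((c j • wA j) i) := by
        intro j
        rw [Pi.smul_apply, smul_eq_mul, map_mul, hc', Pi.smul_apply, smul_eq_mul, smul_mul_assoc]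
      rw [Finset.sum_congr rfl fun j _ => this j, ← Finset.smul_sum, ← Finset.sum_apply, hc0,
        Pi.zero_apply, smul_zero]
    have h1 := hrelK c' h0 j
    have h2 : algebraMap S A (c' j) ∈ IsLocalRing.maximalIdeal A := by
      rw [hmA]; exact Ideal.mem_map_of_mem _ h1
    rw [hc', Algebra.smul_def] at h2
    exact (Ideal.unit_mul_mem_iff_mem _ (IsLocalization.map_units A b)).mp h2
  have hφinj := injective_of_surjective_of_ker_le (A := A) (m := m)
    (P := ↥(LinearMap.ker πA)) φ hφsurj hφker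
  have hΨ : LinearMap.ker Ψ.mulVecLin = ⊥ := by
    rw [LinearMap.ker_eq_bot']
    intro c hc
    rw [Matrix.mulVecLin_apply, hmulVec] at hc
    have h0 : φ (fun j => algebraMap S A (c j)) = 0 := by
      apply Subtype.ext
      rw [hφapply]
      funext i
      have := congrArg (algebraMap S A) (congrFun hc i)
      rw [Finset.sum_apply, map_sum, Pi.zero_apply, map_zero] at this
      rw [Finset.sum_apply]
      simp only [Pi.smul_apply, smul_eq_mul, wA, ZeroMemClass.coe_zero, Pi.zero_apply]
      rw [← this]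
      exact Finset.sum_congr rfl fun j _ => by rw [Pi.smul_apply, smul_eq_mul, map_mul]
    have h1 := hφinj (h0.trans (map_zero φ).symm)
    funext j
    apply hinj
    rw [Pi.zero_apply, map_zero]
    exact congrFun h1 j
  -- `n = m + 1`
  have hI' : LinearMap.range π' ≠ ⊥ := by
    rw [hrangeπ']; exact ne_bot Z hZ I hI
  obtain ⟨x₀, hx₀, hx₀'⟩ := Groth.Agent.H34.HilbertBurch.exists_nzd Ψ π' hΨ hexact hI'
  obtain ⟨w₀, hw₀⟩ := hx₀
  have hnm : n = m + 1 :=
    Groth.Agent.H34.HilbertBurch.eq_succ Ψ π' hΨ hexact w₀ (by rw [hw₀]; exact hx₀')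
  clear_value Ψ π'
  subst hnm
  exact ⟨m, Ψ, π', hΨ, hexact, hrangeπ'⟩

end Resolution

end Groth.Agent.H34.PointsP2
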