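import Mathlib
import Groth.Prelude.Def_GrSyz
import Groth.Prelude.Def_GrLC
import Groth.Agent.H34.HBDeg1
import Groth.Agent.H34.PointsP2b

/-!
# Degrees in the Hilbert–Burch resolution of points in the plane (helper34)
-/

set_option autoImplicit false
universe u

namespace Groth.Agent.H34.HBDeg

open MvPolynomial

section StdGr

variable {k : Type u} [Field k]

theorem constantCoeff_of_mem_irrel (f : MvPolynomial (Fin 3) k)
    (hf : f ∈ (GrSyz.irrel (GrSyz.stdGr k (Fin 3))).toIdeal) : constantCoeff f = 0 := by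
  have : (GrSyz.irrel (GrSyz.stdGr k (Fin 3))).toIdeal ≤
      RingHom.ker (constantCoeff (σ := Fin 3) (R := k)) := by
    show Ideal.span _ ≤ _
    rw [Ideal.span_le]
    rintro r ⟨n, hn, hr⟩
    rw [SetLike.mem_coe, RingHom.mem_ker, constantCoeff_eq]
    apply IsWeightedHomogeneous.coeff_eq_zero hr 0
    rw [map_zero]
    omega
  exact this hf

theorem eq_zero_of_mem_stdGr_of_nonpos {n : ℤ} (hn : n ≤ 0) (f : MvPolynomial (Fin 3) k)
    (hf : f ∈ GrSyz.stdGr k (Fin 3) n) (h0 : constantCoeff f = 0) : f = 0 := by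
  ext d
  rw [coeff_zero]
  by_cases hd : Finsupp.weight (fun _ : Fin 3 => (1 : ℤ)) d = n
  · have hd0 : d = 0 := by
      have h1 : Finsupp.weight (fun _ : Fin 3 => (1 : ℤ)) d = ((d.degree : ℕ) : ℤ) := by
        simp [Finsupp.weight_apply, Finsupp.sum, Finsupp.degree]
      rw [h1] at hd
      have h2 : d.degree = 0 := by omega
      exact (Finsupp.degree_eq_zero_iff d).mp h2
    rw [hd0]
    rw [constantCoeff_eq] at h0
    exact h0
  · exact IsWeightedHomogeneous.coeff_eq_zero hf d hd

end StdGr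

section Points

variable {k : Type u} [Field k]
  (Z : Finset (Fin 3 → k)) (hZ : ∀ p ∈ Z, p ≠ 0) (hZne : Z.Nonempty)
  (I : Ideal (MvPolynomial (Fin 3) k))
  (hI : ∀ f : MvPolynomial (Fin 3) k, f ∈ I ↔
      ∀ p ∈ Z, ∀ j : ℕ, MvPolynomial.eval p (MvPolynomial.homogeneousComponent j f) = 0)

include hZne hI in
theorem constantCoeff_of_mem (f : MvPolynomial (Fin 3) k) (hf : f ∈ I) : constantCoeff f = 0 := by
  obtain ⟨p, hp⟩ := hZne
  have := (hI f).mp hf p hp 0
  rw [homogeneousComponent_zero, eval_C] at this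
  rw [constantCoeff_eq]
  exact this

theorem lin_irreducible (q : Fin 3 → k) (i j : Fin 3) (hij : j ≠ i) (hi : q i ≠ 0) :
    Irreducible (C (q i) * X j - C (q j) * X i : MvPolynomial (Fin 3) k) := by
  have hcoeff : coeff (Finsupp.single j 1) (C (q i) * X j - C (q j) * X i : MvPolynomial (Fin 3) k)
      = q i := by
    rw [coeff_sub, coeff_C_mul, coeff_C_mul, coeff_X, coeff_X']
    have hne : Finsupp.single i 1 ≠ Finsupp.single j 1 := by
      intro h
      have := (Finsupp.single_left_inj (by norm_num : (1 : ℕ) ≠ 0)).mp h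
      exact hij this.symm
    rw [if_neg hne]
    simp
  have hne0 : (C (q i) * X j - C (q j) * X i : MvPolynomial (Fin 3) k) ≠ 0 := by
    intro h0
    rw [h0, coeff_zero] at hcoeff
    exact hi hcoeff.symm
  have hhom : (C (q i) * X j - C (q j) * X i : MvPolynomial (Fin 3) k).IsHomogeneous 1 := by
    apply IsHomogeneous.sub
    · have := (isHomogeneous_C (Fin 3) (q i)).mul (isHomogeneous_X k j)
      simpa using this
    · have := (isHomogeneous_C (Fin 3) (q j)).mul (isHomogeneous_X k i)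
      simpa using this
  apply irreducible_of_totalDegree_eq_one (hhom.totalDegree hne0)
  intro x hx
  have := hx (Finsupp.single j 1)
  rw [hcoeff] at this
  have hx0 : x ≠ 0 := by
    rintro rfl
    exact hi (zero_dvd_iff.mp this)
  exact isUnit_iff_ne_zero.mpr hx0

theorem exists_form_not_dvd (π : MvPolynomial (Fin 3) k) (hπ : ¬ IsUnit π)
    (q : Fin 3 → k) (hq : q ≠ 0) :
    ∃ m : MvPolynomial (Fin 3) k, m.IsHomogeneous 1 ∧ eval q m = 0 ∧ ¬ π ∣ m := by
  obtain ⟨i, hi⟩ : ∃ i, q i ≠ 0 := Function.ne_iff.mp hq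
  obtain ⟨j, j', hj, hj', hjj'⟩ : ∃ j j' : Fin 3, j ≠ i ∧ j' ≠ i ∧ j ≠ j' :=
    ⟨i + 1, i + 2, by fin_cases i <;> decide, by fin_cases i <;> decide,
      by fin_cases i <;> decide⟩
  have hhom : ∀ j : Fin 3,
      (C (q i) * X j - C (q j) * X i : MvPolynomial (Fin 3) k).IsHomogeneous 1 := by
    intro j
    apply IsHomogeneous.sub
    · have := (isHomogeneous_C (Fin 3) (q i)).mul (isHomogeneous_X k j)
      simpa using this
    · have := (isHomogeneous_C (Fin 3) (q j)).mul (isHomogeneous_X k i)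
      simpa using this
  have hev : ∀ j : Fin 3,
      eval q (C (q i) * X j - C (q j) * X i : MvPolynomial (Fin 3) k) = 0 := by
    intro j
    simp [mul_comm]
  by_cases h1 : π ∣ (C (q i) * X j - C (q j) * X i : MvPolynomial (Fin 3) k)
  · refine ⟨C (q i) * X j' - C (q j') * X i, hhom j', hev j', ?_⟩
    intro h2
    obtain ⟨u, hu⟩ := h1
    obtain ⟨u', hu'⟩ := h2
    have hirr := lin_irreducible q i j hj hi
    have hirr' := lin_irreducible q i j' hj' hi
    have huu : IsUnit u := by
      rcases hirr.isUnit_or_isUnit hu with h | h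
      · exact absurd h hπ
      · exact h
    have huu' : IsUnit u' := by
      rcases hirr'.isUnit_or_isUnit hu' with h | h
      · exact absurd h hπ
      · exact h
    obtain ⟨c, hc, rfl⟩ := MvPolynomial.isUnit_iff_eq_C_of_isReduced.mp huu
    obtain ⟨c', hc', rfl⟩ := MvPolynomial.isUnit_iff_eq_C_of_isReduced.mp huu'
    have h3 : C c' * (C (q i) * X j - C (q j) * X i : MvPolynomial (Fin 3) k) =
        C c * (C (q i) * X j' - C (q j') * X i) := by
      rw [hu, hu']
      ring
    have h4 := congrArg (coeff (Finsupp.single j' 1)) h3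
    simp only [coeff_C_mul, coeff_sub, coeff_X'] at h4
    have hne1 : Finsupp.single j 1 ≠ Finsupp.single j' 1 := by
      intro h
      exact hjj' ((Finsupp.single_left_inj (by norm_num : (1 : ℕ) ≠ 0)).mp h)
    have hne2 : Finsupp.single i 1 ≠ Finsupp.single j' 1 := by
      intro h
      exact hj' ((Finsupp.single_left_inj (by norm_num : (1 : ℕ) ≠ 0)).mp h).symm
    rw [if_neg hne1, if_neg hne2] at h4
    simp only [mul_zero, sub_zero, mul_one, if_true] at h4
    have : c * q i ≠ 0 := mul_ne_zero hc.ne_zero hi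
    exact this h4.symm
  · exact ⟨_, hhom j, hev j, h1⟩

include hZ hI in
theorem isUnit_of_forall_dvd (a : MvPolynomial (Fin 3) k) (ha : ∀ f ∈ I, a ∣ f) : IsUnit a := by
  classical
  by_contra hnu
  have ha0 : a ≠ 0 := by
    rintro rfl
    apply Groth.Agent.H34.PointsP2.ne_bot Z hZ I hI
    rw [eq_bot_iff]
    intro f hf
    rw [Ideal.mem_bot]
    exact zero_dvd_iff.mp (ha f hf)
  obtain ⟨π, hπirr, hπa⟩ := WfDvdMonoid.exists_irreducible_factor hnu ha0
  have hπ : Prime π := hπirr.prime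
  have key : ∀ q : Fin 3 → k, ∃ m : MvPolynomial (Fin 3) k, q ≠ 0 →
      (m.IsHomogeneous 1 ∧ eval q m = 0 ∧ ¬ π ∣ m) := by
    intro q
    by_cases hq : q = 0
    · exact ⟨0, fun h => absurd hq h⟩
    · obtain ⟨m, hm⟩ := exists_form_not_dvd π hπirr.not_isUnit q hq
      exact ⟨m, fun _ => hm⟩
  choose m hm using key
  have hhom : (∏ p ∈ Z, m p).IsHomogeneous (∑ _p ∈ Z, 1) :=
    IsHomogeneous.prod Z m (fun _ => 1) fun p hp => (hm p (hZ p hp)).1
  have hmem : (∏ p ∈ Z, m p) ∈ I := by
    rw [hI]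
    intro p hp j
    rw [homogeneousComponent_of_mem hhom]
    split_ifs
    · rw [map_prod]
      exact Finset.prod_eq_zero hp (hm p (hZ p hp)).2.1
    · simp
  have h2 : π ∣ ∏ q ∈ Z, m q := hπa.trans (ha _ hmem)
  obtain ⟨q, hq, hdvd⟩ := hπ.exists_mem_finset_dvd h2
  exact (hm q (hZ q hq)).2.2 hdvd

end Points

end Groth.Agent.H34.HBDeg
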