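import Mathlib
import Groth.Agent.H34.HBDeg2

/-!
# Degrees in the Hilbert–Burch resolution of points in the plane, module side (helper34)
-/

set_option autoImplicit false
universe u

namespace Groth.Agent.H34.HBDeg

open MvPolynomial

section Core

variable {k : Type u} [Field k]
  (Z : Finset (Fin 3 → k)) (hZ : ∀ p ∈ Z, p ≠ 0) (hZne : Z.Nonempty)
  (I : Ideal (MvPolynomial (Fin 3) k))
  (hI : ∀ f : MvPolynomial (Fin 3) k, f ∈ I ↔
      ∀ p ∈ Z, ∀ j : ℕ, MvPolynomial.eval p (MvPolynomial.homogeneousComponent j f) = 0)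
  {M : Type u} [AddCommGroup M] [Module k M] [Module (MvPolynomial (Fin 3) k) M]
  [IsScalarTower k (MvPolynomial (Fin 3) k) M]
  (ℳ : ℤ → Submodule k M) [DirectSum.Decomposition ℳ]
  (π : MvPolynomial (Fin 3) k →ₗ[MvPolynomial (Fin 3) k] M) (hπ : Function.Surjective π)
  (hπg : GrLC.IsGrHom (GrSyz.stdGr k (Fin 3)) ℳ π) (hker : LinearMap.ker π = I)

include hπg in
theorem decompose_map (x : MvPolynomial (Fin 3) k) (c : ℤ) :
    ((DirectSum.decompose ℳ (π x)) c : M) =
      π ((DirectSum.decompose (GrSyz.stdGr k (Fin 3)) x) c : MvPolynomial (Fin 3) k) := by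
  classical
  induction x using DirectSum.Decomposition.inductionOn (GrSyz.stdGr k (Fin 3)) with
  | zero => simp
  | @homogeneous i m =>
    by_cases h : i = c
    · subst h
      rw [DirectSum.decompose_of_mem_same _ m.2,
        DirectSum.decompose_of_mem_same _ (hπg _ _ m.2)]
    · rw [DirectSum.decompose_of_mem_ne _ m.2 h,
        DirectSum.decompose_of_mem_ne _ (hπg _ _ m.2) h, map_zero]
  | add x y hx hy =>
    rw [map_add, DirectSum.decompose_add, DirectSum.decompose_add, DirectSum.add_apply,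
      DirectSum.add_apply, Submodule.coe_add, Submodule.coe_add, hx, hy, map_add]

include hZne hI hπ hker in
theorem rk_zero_eq_one (n0 n1 : ℕ) (aug : Fin n0 → M)
    (d0 : Matrix (Fin n0) (Fin n1) (MvPolynomial (Fin 3) k))
    (aug_surj : Function.Surjective (Fintype.linearCombination (MvPolynomial (Fin 3) k) aug))
    (ex0 : LinearMap.ker (Fintype.linearCombination (MvPolynomial (Fin 3) k) aug) =
      LinearMap.range d0.mulVecLin)
    (min0 : ∀ x y, constantCoeff (d0 x y) = 0) : n0 = 1 := by
  classical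
  have hI0 := constantCoeff_of_mem Z hZne I hI
  have key : ∀ (v : Fin n0 → MvPolynomial (Fin 3) k) (h : MvPolynomial (Fin 3) k),
      constantCoeff h = 0 →
      Fintype.linearCombination (MvPolynomial (Fin 3) k) aug v = π h →
      ∀ b, constantCoeff (v b) = 0 := by
    intro v h hh hv b
    obtain ⟨u, hu⟩ := aug_surj (π 1)
    have h1 : v - h • u ∈ LinearMap.ker (Fintype.linearCombination (MvPolynomial (Fin 3) k) aug) := by
      rw [LinearMap.mem_ker, map_sub, map_smul, hu, hv, ← map_smul, smul_eq_mul, mul_one, sub_self]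
    rw [ex0] at h1
    obtain ⟨z, hz⟩ := h1
    have h2 := congrFun hz b
    have h3 : constantCoeff ((d0.mulVec z) b) = 0 := by
      simp only [Matrix.mulVec, dotProduct, map_sum, map_mul, min0, zero_mul,
        Finset.sum_const_zero]
    rw [Matrix.mulVecLin_apply] at h2
    rw [h2] at h3
    simpa [hh] using h3
  have h1ne : π 1 ≠ 0 := by
    intro h
    have h1 : (1 : MvPolynomial (Fin 3) k) ∈ I := by
      rw [← hker]
      exact h
    have := hI0 1 h1
    rw [map_one] at this
    exact one_ne_zero this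
  have hne0 : n0 ≠ 0 := by
    intro h0
    subst h0
    obtain ⟨u, hu⟩ := aug_surj (π 1)
    apply h1ne
    rw [← hu, Fintype.linearCombination_apply]
    simp
  have hlt : n0 < 2 := by
    by_contra hge
    push_neg at hge
    let b0 : Fin n0 := ⟨0, by omega⟩
    let b1 : Fin n0 := ⟨1, by omega⟩
    have hb01 : b0 ≠ b1 := by
      intro h
      have := congrArg Fin.val h
      simp [b0, b1] at this
    choose f hf using fun b => hπ (aug b)
    by_cases hc : constantCoeff (f b0) = 0
    · have := key (Pi.single b0 1) (f b0) hc (by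
        rw [Fintype.linearCombination_apply_single, one_smul, hf]) b0
      rw [Pi.single_eq_same, map_one] at this
      exact one_ne_zero this
    · have := key (Pi.single b0 (C (constantCoeff (f b1))) - Pi.single b1 (C (constantCoeff (f b0))))
        (C (constantCoeff (f b1)) * f b0 - C (constantCoeff (f b0)) * f b1) (by
          simp only [map_sub, map_mul, constantCoeff_C]
          ring) (by
          rw [map_sub, Fintype.linearCombination_apply_single,
            Fintype.linearCombination_apply_single, map_sub, ← smul_eq_mul, ← smul_eq_mul,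
            map_smul, map_smul, hf, hf]) b1
      rw [Pi.sub_apply, Pi.single_eq_same, Pi.single_eq_of_ne hb01.symm, zero_sub, map_neg,
        constantCoeff_C, neg_eq_zero] at this
      exact hc this
  omega

include hZ hZne hI hπ hπg hker in
theorem core (t : ℕ) (c : ℤ) (a : Fin (t + 1) → ℤ) (b : Fin t → ℤ)
    (m0 : M) (hm0 : m0 ∈ ℳ c) (hgen : ∀ m : M, ∃ s : MvPolynomial (Fin 3) k, s • m0 = m)
    (g : Fin (t + 1) → MvPolynomial (Fin 3) k)
    (Ψ : Matrix (Fin (t + 1)) (Fin t) (MvPolynomial (Fin 3) k))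
    (hgdeg : ∀ j, g j ∈ GrSyz.stdGr k (Fin 3) (a j - c))
    (hΨdeg : ∀ i l, Ψ i l ∈ GrSyz.stdGr k (Fin 3) (b l - a i))
    (hΨmin : ∀ i l, constantCoeff (Ψ i l) = 0)
    (hinj : ∀ u, Ψ.mulVec u = 0 → u = 0)
    (hex1 : ∀ w : Fin (t + 1) → MvPolynomial (Fin 3) k,
      ∑ j, g j * w j = 0 ↔ ∃ u, Ψ.mulVec u = w)
    (hex0 : ∀ s : MvPolynomial (Fin 3) k, s • m0 = 0 ↔ ∃ w : Fin (t + 1) → _, ∑ j, g j * w j = s)
    (ha : ∀ i j : Fin (t + 1), i ≤ j → a j ≤ a i)
    (hb : ∀ i j : Fin t, i ≤ j → b j ≤ b i) :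
    (∀ i : Fin t, 1 ≤ b i - a i.castSucc ∧ 1 ≤ b i - a i.succ) ∧ ∑ i, a i = ∑ j, b j := by
  classical
  have hI0 := constantCoeff_of_mem Z hZne I hI
  -- annihilator of m0
  have hann : ∀ s : MvPolynomial (Fin 3) k, s • m0 = 0 ↔ s ∈ I := by
    intro s
    constructor
    · intro hs
      obtain ⟨s', hs'⟩ := hgen (π 1)
      rw [← hker, LinearMap.mem_ker]
      have : π s = s • π 1 := by rw [← map_smul, smul_eq_mul, mul_one]
      rw [this, ← hs', smul_comm, hs, smul_zero]
    · intro hs
      obtain ⟨f, hf⟩ := hπ m0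
      rw [← hf, ← map_smul, smul_eq_mul]
      have : s * f ∈ LinearMap.ker π := by
        rw [hker]
        exact I.mul_mem_right f hs
      exact this
  -- c = 0
  have hc : c = 0 := by
    obtain ⟨f, hf⟩ := hπ m0
    have h1 : m0 = π ((DirectSum.decompose (GrSyz.stdGr k (Fin 3)) f) c : MvPolynomial (Fin 3) k) := by
      rw [← decompose_map ℳ π hπg, hf, DirectSum.decompose_of_mem_same _ hm0]
    set fc : MvPolynomial (Fin 3) k :=
      ((DirectSum.decompose (GrSyz.stdGr k (Fin 3)) f) c : MvPolynomial (Fin 3) k) with hfc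
    have hfc_mem : fc ∈ GrSyz.stdGr k (Fin 3) c := SetLike.coe_mem _
    obtain ⟨s', hs'⟩ := hgen (π 1)
    have h2 : (1 - s' * fc) ∈ I := by
      rw [← hker, LinearMap.mem_ker, map_sub, ← smul_eq_mul, map_smul, ← h1, hs', sub_self]
    have h3 := hI0 _ h2
    rw [map_sub, map_one, map_mul] at h3
    by_contra hc0
    have h4 : constantCoeff fc = 0 := by
      rw [constantCoeff_eq]
      apply IsWeightedHomogeneous.coeff_eq_zero hfc_mem 0
      rw [map_zero]
      exact fun h => hc0 h.symm
    rw [h4, mul_zero, sub_zero] at h3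
    exact one_ne_zero h3
  subst hc
  -- the generators as a linear map
  set gLin : (Fin (t + 1) → MvPolynomial (Fin 3) k) →ₗ[MvPolynomial (Fin 3) k]
      MvPolynomial (Fin 3) k := Fintype.linearCombination (MvPolynomial (Fin 3) k) g with hgLin
  have hgLin_apply : ∀ w, gLin w = ∑ j, g j * w j := by
    intro w
    rw [hgLin, Fintype.linearCombination_apply]
    apply Finset.sum_congr rfl
    intro j _
    rw [smul_eq_mul, mul_comm]
  have hΨker : LinearMap.ker Ψ.mulVecLin = ⊥ := by
    rw [LinearMap.ker_eq_bot']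
    intro u hu
    exact hinj u hu
  have hexker : LinearMap.ker gLin = LinearMap.range Ψ.mulVecLin := by
    ext w
    rw [LinearMap.mem_ker, hgLin_apply, hex1, LinearMap.mem_range]
    rfl
  have hrange : ∀ s, s ∈ I ↔ ∃ w, gLin w = s := by
    intro s
    rw [← hann, hex0]
    constructor
    · rintro ⟨w, hw⟩
      exact ⟨w, by rw [hgLin_apply, hw]⟩
    · rintro ⟨w, hw⟩
      exact ⟨w, by rw [← hgLin_apply, hw]⟩
  have hzero : ∀ (r : Fin (t + 1)) (l : Fin t), b l ≤ a r → Ψ r l = 0 := by
    intro r l hrl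
    exact eq_zero_of_mem_stdGr_of_nonpos (by omega) _ (hΨdeg r l) (hΨmin r l)
  have hcc_mulVec : ∀ (u : Fin t → MvPolynomial (Fin 3) k) (r : Fin (t + 1)),
      constantCoeff (Ψ.mulVec u r) = 0 := by
    intro u r
    simp only [Matrix.mulVec, dotProduct, map_sum, map_mul, hΨmin, zero_mul,
      Finset.sum_const_zero]
  refine ⟨fun i => ⟨?_, ?_⟩, ?_⟩
  · -- e_i ≥ 1
    by_contra hcon
    push_neg at hcon
    have hz : ∀ (r : Fin (t + 1)) (l : Fin t), r ≤ i.castSucc → i ≤ l → Ψ r l = 0 := by
      intro r l hr hl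
      apply hzero
      have h1 := hb i l hl
      have h2 := ha r i.castSucc hr
      omega
    have hg0 : g i.succ = 0 := by
      apply g_eq_zero_of_zero_block Ψ g hinj _ i hz i le_rfl
      intro u
      exact (hex1 _).mpr ⟨u, rfl⟩
    have h1 : ∑ j, g j * (Pi.single i.succ 1 : Fin (t + 1) → MvPolynomial (Fin 3) k) j = 0 := by
      simp [Pi.single_apply, hg0]
    obtain ⟨u, hu⟩ := (hex1 _).mp h1
    have h2 := hcc_mulVec u i.succ
    rw [hu, Pi.single_eq_same, map_one] at h2
    exact one_ne_zero h2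
  · -- f_i ≥ 1
    by_contra hcon
    push_neg at hcon
    apply false_of_zero_block_F Ψ hinj i
    intro r l hr hl
    apply hzero
    have h1 := hb i l hl
    have h2 := ha r i.succ hr
    omega
  · -- sum of degrees
    have hdepth := Groth.Agent.H34.HilbertBurch.two_le_depth Ψ gLin hΨker hexker
    obtain ⟨a', ha'⟩ := exists_eq_mul' Ψ gLin hexker hdepth
    have hgi : ∀ i, g i = a' * ((-1 : MvPolynomial (Fin 3) k) ^ (i : ℕ) *
        (Ψ.submatrix i.succAbove id).det) := by
      intro i
      rw [← ha', hgLin, Fintype.linearCombination_apply_single, one_smul]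
    have hunit : IsUnit a' := by
      apply isUnit_of_forall_dvd Z hZ I hI
      intro f hf
      obtain ⟨w, rfl⟩ := (hrange f).mp hf
      rw [hgLin_apply]
      apply Finset.dvd_sum
      intro j _
      rw [hgi j, mul_assoc]
      exact Dvd.intro _ rfl
    obtain ⟨u0, hu0, rfl⟩ := MvPolynomial.isUnit_iff_eq_C_of_isReduced.mp hunit
    obtain ⟨j, hj⟩ : ∃ j, g j ≠ 0 := by
      by_contra hall
      push_neg at hall
      apply Groth.Agent.H34.PointsP2.ne_bot Z hZ I hI
      rw [eq_bot_iff]
      intro f hf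
      obtain ⟨w, rfl⟩ := (hrange f).mp hf
      rw [hgLin_apply, Ideal.mem_bot]
      apply Finset.sum_eq_zero
      intro j _
      rw [hall j, zero_mul]
    have hdet := det_isWeightedHomogeneous (fun _ : Fin 3 => (1 : ℤ))
      (Ψ.submatrix j.succAbove id) (fun i => a (j.succAbove i)) b
      (fun i l => hΨdeg (j.succAbove i) l)
    have hgj : IsWeightedHomogeneous (fun _ : Fin 3 => (1 : ℤ)) (g j)
        (∑ l, b l - ∑ i, a (j.succAbove i)) := by
      rw [hgi j]
      apply IsWeightedHomogeneous.C_mul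
      rcases neg_one_pow_eq_or (MvPolynomial (Fin 3) k) (j : ℕ) with h | h
      · rw [h, one_mul]
        exact hdet
      · rw [h, neg_one_mul]
        exact (weightedHomogeneousSubmodule k _ _).neg_mem hdet
    have heq := IsWeightedHomogeneous.inj_right hj hgj (hgdeg j)
    rw [Fin.sum_univ_succAbove _ j]
    omega

end Core

end Groth.Agent.H34.HBDeg
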