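import Mathlib
import Groth.Agent.H34.HBDeg3

/-!
# Degrees in the Hilbert–Burch resolution of points in the plane: reduction to the core (helper34)
-/

set_option autoImplicit false
universe u

namespace Groth.Agent.H34.HBDeg

open MvPolynomial

section Core'

variable {k : Type u} [Field k]
  (Z : Finset (Fin 3 → k)) (hZ : ∀ p ∈ Z, p ≠ 0) (hZne : Z.Nonempty)
  (I : Ideal (MvPolynomial (Fin 3) k))
  (hI : ∀ f : MvPolynomial (Fin 3) k, f ∈ I ↔
      ∀ p ∈ Z, ∀ j : ℕ, MvPolynomial.eval p (MvPolynomial.homogeneousComponent j f) = 0)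
  {M : Type u} [AddCommGroup M] [Module k M] [Module (MvPolynomial (Fin 3) k) M]
  [IsScalarTower k (MvPolynomial (Fin 3) k) M]
  (ℳ : ℤ → Submodule k M) [DirectSum.Decomposition ℳ]
  (π : MvPolynomial (Fin 3) k →ₗ[MvPolynomial (Fin 3) k] M) (hπ : Function.Surjective π)
  (hπg : GrLC.IsGrHom (GrSyz.stdGr k (Fin 3)) ℳ π) (hker : LinearMap.ker π = I)

include hZ hZne hI hπ hπg hker in
theorem core' (n0 n1 n2 n3 : ℕ) (deg0 : Fin n0 → ℤ) (deg1 : Fin n1 → ℤ) (deg2 : Fin n2 → ℤ)
    (d0 : Matrix (Fin n0) (Fin n1) (MvPolynomial (Fin 3) k))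
    (d1 : Matrix (Fin n1) (Fin n2) (MvPolynomial (Fin 3) k))
    (d2 : Matrix (Fin n2) (Fin n3) (MvPolynomial (Fin 3) k))
    (aug : Fin n0 → M)
    (d0_mem : ∀ x y, d0 x y ∈ GrSyz.stdGr k (Fin 3) (deg1 y - deg0 x))
    (d1_mem : ∀ x y, d1 x y ∈ GrSyz.stdGr k (Fin 3) (deg2 y - deg1 x))
    (aug_mem : ∀ x, aug x ∈ ℳ (deg0 x))
    (aug_surj : Function.Surjective (Fintype.linearCombination (MvPolynomial (Fin 3) k) aug))
    (ex0 : LinearMap.ker (Fintype.linearCombination (MvPolynomial (Fin 3) k) aug) =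
      LinearMap.range d0.mulVecLin)
    (ex1 : LinearMap.ker d0.mulVecLin = LinearMap.range d1.mulVecLin)
    (ex2 : LinearMap.ker d1.mulVecLin = LinearMap.range d2.mulVecLin)
    (min0 : ∀ x y, constantCoeff (d0 x y) = 0) (min1 : ∀ x y, constantCoeff (d1 x y) = 0)
    (h3 : n3 = 0) (t : ℕ) (h1 : n1 = t + 1) (h2 : n2 = t)
    (ha : ∀ i j : Fin (t + 1), i ≤ j → deg1 (Fin.cast h1.symm j) ≤ deg1 (Fin.cast h1.symm i))
    (hb : ∀ i j : Fin t, i ≤ j → deg2 (Fin.cast h2.symm j) ≤ deg2 (Fin.cast h2.symm i)) :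
    (∀ i : Fin t, 1 ≤ deg2 (Fin.cast h2.symm i) - deg1 (Fin.cast h1.symm i.castSucc) ∧
        1 ≤ deg2 (Fin.cast h2.symm i) - deg1 (Fin.cast h1.symm i.succ)) ∧
      ∑ i : Fin (t + 1), deg1 (Fin.cast h1.symm i) = ∑ j : Fin t, deg2 (Fin.cast h2.symm j) := by
  classical
  have h0 : n0 = 1 := rk_zero_eq_one Z hZne I hI π hπ hker n0 n1 aug d0 aug_surj ex0 min0
  subst h0
  subst h3
  subst h2
  subst h1
  simp only [Fin.cast_eq_self] at ha hb ⊢
  have haug : ∀ v : Fin 1 → MvPolynomial (Fin 3) k,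
      Fintype.linearCombination (MvPolynomial (Fin 3) k) aug v = v 0 • aug 0 := by
    intro v
    rw [Fintype.linearCombination_apply]
    simp
  have hd0 : ∀ (w : Fin (n2 + 1) → MvPolynomial (Fin 3) k) (x : Fin 1),
      d0.mulVec w x = ∑ j, d0 0 j * w j := by
    intro w x
    have : x = 0 := Subsingleton.elim _ _
    subst this
    rfl
  apply core Z hZ hZne I hI ℳ π hπ hπg hker n2 (deg0 0) deg1 deg2 (aug 0) (aug_mem 0) _
    (fun j => d0 0 j) d1 (fun j => d0_mem 0 j) d1_mem min1 _ _ _ ha hb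
  · -- generation
    intro m
    obtain ⟨v, hv⟩ := aug_surj m
    exact ⟨v 0, by rw [← haug, hv]⟩
  · -- injectivity
    intro u hu
    have h1 : u ∈ LinearMap.ker d1.mulVecLin := hu
    rw [ex2] at h1
    obtain ⟨z, hz⟩ := h1
    rw [← hz]
    have : z = 0 := Subsingleton.elim _ _
    rw [this, map_zero]
  · -- exactness at F_1
    intro w
    constructor
    · intro hw
      have h1 : w ∈ LinearMap.ker d0.mulVecLin := by
        rw [LinearMap.mem_ker, Matrix.mulVecLin_apply]
        funext x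
        rw [hd0, hw]
        rfl
      rw [ex1] at h1
      exact h1
    · rintro ⟨u, hu⟩
      have h1 : w ∈ LinearMap.ker d0.mulVecLin := by
        rw [ex1]
        exact ⟨u, hu⟩
      rw [LinearMap.mem_ker, Matrix.mulVecLin_apply] at h1
      have := congrFun h1 0
      rw [hd0] at this
      exact this
  · -- exactness at F_0
    intro s
    constructor
    · intro hs
      have h1 : (fun _ : Fin 1 => s) ∈
          LinearMap.ker (Fintype.linearCombination (MvPolynomial (Fin 3) k) aug) := by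
        rw [LinearMap.mem_ker, haug]
        exact hs
      rw [ex0] at h1
      obtain ⟨w, hw⟩ := h1
      refine ⟨w, ?_⟩
      have := congrFun hw 0
      rw [Matrix.mulVecLin_apply, hd0] at this
      exact this
    · rintro ⟨w, hw⟩
      have h1 : d0.mulVec w ∈
          LinearMap.ker (Fintype.linearCombination (MvPolynomial (Fin 3) k) aug) := by
        rw [ex0]
        exact ⟨w, rfl⟩
      rw [LinearMap.mem_ker, haug, hd0, hw] at h1
      exact h1

end Core'

end Groth.Agent.H34.HBDeg
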