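import Groth.Agent.H34.HomPres
import Groth.Agent.H34.CokerBC
import Groth.Agent.H34.CMCodimTwo
import Groth.Agent.H34.GorLD
import Groth.Agent.S0342
import Groth.Agent.S6291
import Groth.Agent.Lib.Helper75.ExtPres
import Groth.Agent.Lib.Helper73.CMFibre1
import Groth.Agent.Lib.Helper2.Matlis

/-!
# `ℓ(Hom(I, R/J)) + ℓ(R/(I:J)) = ℓ(R/J) + ℓ(R/I)` over a regular local ring of dimension two
(helper34)

Hilbert–Burch resolution `0 → R^r → R^{r+1} → I → 0` + local duality `Ext²(R/I, R)^∨ ≃ R/I`.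
-/

set_option autoImplicit false
universe u

namespace Groth.Agent.H34.HomColon

open CategoryTheory Abelian IsLocalRing

section shift

variable {A : Type u} [CommRing A]

/-- Dimension shift `Ext^i(I, Y) ≃ Ext^{i+1}(A/I, Y)` for `i ≥ 1`. -/
theorem nonempty_ext_shift (I : Ideal A) (Y : ModuleCat.{u} A) (i : ℕ) (hi : 1 ≤ i) :
    Nonempty (Ext (ModuleCat.of A ↥I) Y i ≃ₗ[A] Ext (ModuleCat.of A (A ⧸ I)) Y (i + 1)) := by
  have hex : LinearMap.range (Submodule.subtype I) = LinearMap.ker (Submodule.mkQ I) := by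
    rw [Submodule.range_subtype, Submodule.ker_mkQ]
  have hzero : (Submodule.mkQ I) ∘ₗ (Submodule.subtype I) = 0 := by
    refine LinearMap.ext fun x => ?_
    have : (Submodule.subtype I) x ∈ LinearMap.ker (Submodule.mkQ I) :=
      hex ▸ LinearMap.mem_range_self _ x
    exact this
  have hS : (Groth.Agent.Lib.Helper75.ExtPres.S (Submodule.subtype I) (Submodule.mkQ I)
      hzero).ShortExact :=
    Groth.Agent.Lib.Helper75.ExtPres.shortExact (Submodule.subtype I) (Submodule.mkQ I)
      (Submodule.subtype_injective I) (Submodule.mkQ_surjective I) hex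
  have hproj : Projective (ModuleCat.of A A) :=
    (IsProjective.iff_projective (P := A)).mp inferInstance
  let δ : Ext (ModuleCat.of A ↥I) Y i →ₗ[A] Ext (ModuleCat.of A (A ⧸ I)) Y (i + 1) :=
    { toFun := fun x => hS.extClass.comp x (add_comm 1 i)
      map_add' := fun x y => by rw [Ext.comp_add]
      map_smul' := fun r x => by
        rw [Ext.comp_smul]
        rfl }
  have hδ : ∀ x, δ x = hS.extClass.comp x (add_comm 1 i) := fun x => rfl
  refine ⟨LinearEquiv.ofBijective δ ⟨?_, ?_⟩⟩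
  · rw [injective_iff_map_eq_zero]
    intro x hx
    rw [hδ] at hx
    obtain ⟨x₂, rfl⟩ := Ext.contravariant_sequence_exact₁ hS Y x (add_comm 1 i) hx
    obtain ⟨j, rfl⟩ : ∃ j, i = j + 1 := ⟨i - 1, by omega⟩
    have : x₂ = 0 := by
      haveI : Projective (Groth.Agent.Lib.Helper75.ExtPres.S (Submodule.subtype I)
        (Submodule.mkQ I) hzero).X₂ := hproj
      exact Ext.eq_zero_of_projective x₂
    rw [this, Ext.comp_zero]
  · intro y
    have h0 : (Ext.mk₀ (Groth.Agent.Lib.Helper75.ExtPres.S (Submodule.subtype I)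
        (Submodule.mkQ I) hzero).g).comp y (zero_add (i + 1)) = 0 := by
      haveI : Projective (Groth.Agent.Lib.Helper75.ExtPres.S (Submodule.subtype I)
        (Submodule.mkQ I) hzero).X₂ := hproj
      exact Ext.eq_zero_of_projective _
    exact Ext.contravariant_sequence_exact₃ hS Y y h0 (add_comm 1 i)

end shift

section tors

variable {A : Type*} [CommRing A] {X Y : Type*} [AddCommGroup X] [Module A X]
  [AddCommGroup Y] [Module A Y]

theorem length_torsionBySet_congr (e : X ≃ₗ[A] Y) (S : Set A) :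
    Module.length A (Submodule.torsionBySet A X S) =
      Module.length A (Submodule.torsionBySet A Y S) := by
  refine (LinearEquiv.ofSubmodules e _ _ ?_).length_eq
  ext y
  simp only [Submodule.mem_map, Submodule.mem_torsionBySet_iff]
  constructor
  · rintro ⟨x, hx, rfl⟩ a
    change a.1 • e x = 0
    rw [← map_smul, hx a, map_zero]
  · intro hy
    refine ⟨e.symm y, fun a => ?_, e.apply_symm_apply y⟩
    rw [← map_smul, hy a, map_zero]

end tors

section main

variable (R : Type u) [CommRing R] [IsRegularLocalRing R] (hdim : ringKrullDim R = 2)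
  (I J : Ideal R)

include hdim

/-- The case `I ≠ ⊤`. -/
theorem main_of_ne_top (hItop : I ≠ ⊤) (hI : Module.length R (R ⧸ I) < ⊤)
    (hJ : Module.length R (R ⧸ J) < ⊤) :
    Module.length R (↥I →ₗ[R] (R ⧸ J)) + Module.length R (R ⧸ I.colon (J : Set R)) =
      Module.length R (R ⧸ J) + Module.length R (R ⧸ I) := by
  classical
  haveI : LocCoh.IsGorensteinLocalRing R := Groth.Agent.S0342.result R
  haveI : IsNoetherianRing R := inferInstance
  haveI : IsLocalRing R := inferInstance
  have hdim' : ringKrullDim R = ((2 : ℕ) : WithBot ℕ∞) := by rw [hdim]; rfl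
  -- `R/I` is an Artinian local ring
  have hIfl : IsFiniteLength R (R ⧸ I) := Module.length_ne_top_iff.mp hI.ne
  haveI : Nontrivial (R ⧸ I) := Ideal.Quotient.nontrivial_iff.mpr hItop
  haveI : IsLocalRing (R ⧸ I) :=
    IsLocalRing.of_surjective' (Ideal.Quotient.mk I) Ideal.Quotient.mk_surjective
  haveI : IsArtinianRing (R ⧸ I) := by
    have h := (isFiniteLength_iff_isNoetherian_isArtinian.mp hIfl).2
    exact isArtinian_of_tower R h
  haveI : LocCoh.IsCohenMacaulayLocalRing (R ⧸ I) :=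
    Groth.Agent.Lib.Helper73.CMFibre.isCohenMacaulayLocalRing_of_isArtinianRing _
  have hcodim : ringKrullDim (R ⧸ I) + 2 = ringKrullDim R := by
    rw [hdim, (ringKrullDimZero_iff_ringKrullDim_eq_zero).mp inferInstance, zero_add]
  obtain ⟨r, φ, hspan, -, hinj, hexact⟩ := Groth.Agent.H34.CMCodimTwo.main R I hcodim
  set Δ : Fin (r + 1) → R :=
    fun i => (-1 : R) ^ (i : ℕ) * (φ.submatrix i.succAbove id).det with hΔ
  have hrange : LinearMap.range (Fintype.linearCombination R Δ) = I := by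
    rw [Fintype.range_linearCombination]
    exact hspan
  have hmem : ∀ v, Fintype.linearCombination R Δ v ∈ I := fun v => by
    rw [← hrange]
    exact LinearMap.mem_range_self _ v
  let π : (Fin (r + 1) → R) →ₗ[R] ↥I := (Fintype.linearCombination R Δ).codRestrict I hmem
  have hπ : Function.Surjective π := by
    rintro ⟨x, hx⟩
    rw [← hrange] at hx
    obtain ⟨v, hv⟩ := hx
    exact ⟨v, Subtype.ext hv⟩
  have hex : LinearMap.range φ.mulVecLin = LinearMap.ker π := by
    rw [hexact, LinearMap.ker_codRestrict]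
  -- the module `P = coker(φᵀ)` and its dual
  obtain ⟨e1⟩ := Groth.Agent.Lib.Helper75.ExtPres.ext_one_equiv (N := R) φ.mulVecLin π hinj hπ hex
  obtain ⟨e2⟩ := nonempty_ext_shift I (ModuleCat.of R R) 1 le_rfl
  obtain ⟨e3⟩ := Groth.Agent.H34.GorLD.nonempty_linearEquiv R 2 hdim' (R ⧸ I) 0 2 rfl
  obtain ⟨g, hg⟩ := Groth.Agent.H34.GorHull.main R 2 hdim'
  obtain ⟨n, hn⟩ := Groth.Agent.S6291.result (R ⧸ I) hIfl
  have htop : DRing.torsionSub (maximalIdeal R) (R ⧸ I) = ⊤ := by
    rw [eq_top_iff]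
    intro x _
    refine ⟨n, fun a ha => ?_⟩
    have h1 : a • x ∈ (maximalIdeal R ^ n • ⊤ : Submodule R (R ⧸ I)) :=
      Submodule.smul_mem_smul ha Submodule.mem_top
    rw [hn] at h1
    exact (Submodule.mem_bot R).mp h1
  let e4 : LocCoh.H (maximalIdeal R) 0 (R ⧸ I) ≃ₗ[R] (R ⧸ I) :=
    (Groth.Agent.Lib.Helper60.lcH0Equiv (maximalIdeal R) (ModuleCat.of R (R ⧸ I))).trans
      (LinearEquiv.ofTop _ htop)
  let eP := (LinearEquiv.congrLeft (LocCoh.H (maximalIdeal R) 2 R) R (e1.symm.trans e2)).trans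
    (e3.symm.trans e4)
  -- lengths
  have h1 := Groth.Agent.H34.HomPres.length_hom_of_pres (N := R ⧸ J) r φ.mulVecLin π hπ hex hJ.ne
  obtain ⟨e5⟩ := Groth.Agent.H34.CokerBC.nonempty_quot_smul_equiv r φ.mulVecLin J
  have hCfin : Module.length R (((Fin r → R) →ₗ[R] (R ⧸ J)) ⧸
      LinearMap.range (LinearMap.lcomp R (R ⧸ J) φ.mulVecLin)) ≠ ⊤ := by
    refine ne_top_of_le_ne_top ?_ (Module.length_le_of_surjective _ (Submodule.mkQ_surjective _))
    rw [Groth.Agent.H34.HomPres.length_hom_pi]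
    exact WithTop.mul_ne_top (ENat.natCast_ne_top r) hJ.ne
  have hfin := Module.length_ne_top_iff.mp (e5.length_eq ▸ hCfin)
  have h2 := Groth.Agent.Lib.Helper2.length_hom_eq_length hg _ hfin
  obtain ⟨e6⟩ := Groth.Agent.H34.CokerBC.nonempty_hom_quot_smul_equiv
    (P := ((Fin r → R) →ₗ[R] R) ⧸ LinearMap.range (LinearMap.lcomp R R φ.mulVecLin))
    (E := LocCoh.H (maximalIdeal R) 2 R) J
  have h3 := length_torsionBySet_congr eP (J : Set R)
  have h4 := Groth.Agent.H34.CokerBC.length_torsionBySet_quot_add I J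
  rw [h1, ← e5.length_eq, ← h2, e6.length_eq, h3, add_assoc, h4]

/-- The main theorem. -/
theorem main (hI : Module.length R (R ⧸ I) < ⊤) (hJ : Module.length R (R ⧸ J) < ⊤) :
    Module.length R (↥I →ₗ[R] (R ⧸ J)) + Module.length R (R ⧸ I.colon (J : Set R)) =
      Module.length R (R ⧸ J) + Module.length R (R ⧸ I) := by
  by_cases hItop : I = ⊤
  · subst hItop
    have hcol : (⊤ : Ideal R).colon (J : Set R) = ⊤ := by
      rw [eq_top_iff]
      intro x _
      rw [Submodule.mem_colon]
      intro s _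
      exact Submodule.mem_top
    haveI : Subsingleton (R ⧸ (⊤ : Ideal R)) := Ideal.Quotient.subsingleton_iff.mpr rfl
    have h0 : Module.length R (R ⧸ (⊤ : Ideal R)) = 0 := Module.length_eq_zero
    have e : ((⊤ : Ideal R) →ₗ[R] (R ⧸ J)) ≃ₗ[R] (R ⧸ J) :=
      (LinearEquiv.congrLeft (R ⧸ J) R (Submodule.topEquiv (R := R) (M := R))).trans
        (LinearMap.ringLmapEquivSelf R R (R ⧸ J))
    rw [hcol, h0, add_zero, add_zero, e.length_eq]
  · exact main_of_ne_top R hdim I J hItop hI hJ

end main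

end Groth.Agent.H34.HomColon
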