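import Mathlib

/-!
# `Hom` out of a presented module: length count (helper34)

For a right exact sequence `K →ι F →π M → 0` and a module `N`,
`ℓ(Hom(F, N)) + ℓ(Hom(K, N) / im ι^*) = ℓ(Hom(M, N)) + ℓ(Hom(K, N))`.
For `F = A^{r+1}`, `K = A^r` and `ℓ(N) < ∞` this reads `ℓ(Hom(M,N)) = ℓ(N) + ℓ(coker ι^*)`.
-/

set_option autoImplicit false
universe u

namespace Groth.Agent.H34.HomPres

variable {A : Type*} [CommRing A]

section count

variable {V W : Type*} [AddCommGroup V] [Module A V] [AddCommGroup W] [Module A W]

/-- `ℓ(V) + ℓ(coker f) = ℓ(ker f) + ℓ(W)`. -/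
theorem length_add_length_coker (f : V →ₗ[A] W) :
    Module.length A V + Module.length A (W ⧸ LinearMap.range f) =
      Module.length A (LinearMap.ker f) + Module.length A W := by
  have h1 : Module.length A V =
      Module.length A (LinearMap.ker f) + Module.length A (LinearMap.range f) :=
    Module.length_eq_add_of_exact (LinearMap.ker f).subtype f.rangeRestrict
      (Submodule.subtype_injective _) f.surjective_rangeRestrict (by
        intro x
        constructor
        · intro hx
          have hx' : f x = 0 := congrArg Subtype.val hx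
          exact ⟨⟨x, hx'⟩, rfl⟩
        · rintro ⟨y, rfl⟩
          exact Subtype.ext y.2)
  have h2 : Module.length A W =
      Module.length A (LinearMap.range f) + Module.length A (W ⧸ LinearMap.range f) :=
    Module.length_eq_add_of_exact (LinearMap.range f).subtype (LinearMap.range f).mkQ
      (Submodule.subtype_injective _) (Submodule.mkQ_surjective _) (by
        intro x
        rw [Submodule.mkQ_apply, Submodule.Quotient.mk_eq_zero]
        constructor
        · intro hx
          exact ⟨⟨x, hx⟩, rfl⟩
        · rintro ⟨y, rfl⟩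
          exact y.2)
  rw [h1, h2, add_assoc]

end count

section pres

variable {K F M N : Type*} [AddCommGroup K] [Module A K] [AddCommGroup F] [Module A F]
  [AddCommGroup M] [Module A M] [AddCommGroup N] [Module A N]

/-- `Hom(M, N) ≃ ker(Hom(F, N) → Hom(K, N))` for a right exact sequence `K → F → M → 0`. -/
theorem nonempty_hom_equiv_ker (ι : K →ₗ[A] F) (π : F →ₗ[A] M)
    (hπ : Function.Surjective π) (hex : LinearMap.range ι = LinearMap.ker π) :
    Nonempty ((M →ₗ[A] N) ≃ₗ[A] LinearMap.ker (LinearMap.lcomp A N ι)) := by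
  have hzero : ∀ x, π (ι x) = 0 := fun x => by
    have : ι x ∈ LinearMap.ker π := hex ▸ LinearMap.mem_range_self ι x
    exact this
  let Φ : (M →ₗ[A] N) →ₗ[A] LinearMap.ker (LinearMap.lcomp A N ι) :=
    (LinearMap.lcomp A N π).codRestrict _ (by
      intro g
      rw [LinearMap.mem_ker]
      ext x
      simp [hzero])
  refine ⟨LinearEquiv.ofBijective Φ ⟨?_, ?_⟩⟩
  · intro g g' h
    have h' : g ∘ₗ π = g' ∘ₗ π := congrArg Subtype.val h
    ext m
    obtain ⟨x, rfl⟩ := hπ m
    exact LinearMap.congr_fun h' x
  · rintro ⟨g, hg⟩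
    rw [LinearMap.mem_ker] at hg
    have hle : LinearMap.ker π ≤ LinearMap.ker g := by
      rw [← hex]
      rintro _ ⟨y, rfl⟩
      rw [LinearMap.mem_ker]
      exact LinearMap.congr_fun hg y
    refine ⟨((LinearMap.ker π).liftQ g hle) ∘ₗ (π.quotKerEquivOfSurjective hπ).symm.toLinearMap, ?_⟩
    apply Subtype.ext
    ext x
    change ((LinearMap.ker π).liftQ g hle) ((π.quotKerEquivOfSurjective hπ).symm (π x)) = g x
    have : (π.quotKerEquivOfSurjective hπ).symm (π x) = Submodule.Quotient.mk x := by
      rw [LinearEquiv.symm_apply_eq]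
      rfl
    rw [this, Submodule.liftQ_apply]

/-- The length count. -/
theorem length_hom_add (ι : K →ₗ[A] F) (π : F →ₗ[A] M)
    (hπ : Function.Surjective π) (hex : LinearMap.range ι = LinearMap.ker π) :
    Module.length A (F →ₗ[A] N) +
        Module.length A ((K →ₗ[A] N) ⧸ LinearMap.range (LinearMap.lcomp A N ι)) =
      Module.length A (M →ₗ[A] N) + Module.length A (K →ₗ[A] N) := by
  obtain ⟨e⟩ := nonempty_hom_equiv_ker (N := N) ι π hπ hex
  rw [length_add_length_coker, e.length_eq]

/-- `ℓ(Hom(A^n, N)) = n ℓ(N)`. -/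
theorem length_hom_pi (n : ℕ) :
    Module.length A ((Fin n → A) →ₗ[A] N) = n * Module.length A N := by
  rw [← ((Pi.basisFun A (Fin n)).constr A (M' := N)).length_eq, Module.length_pi]
  simp

/-- The free case `F = A^{r+1}`, `K = A^r`. -/
theorem length_hom_of_pres (r : ℕ) (ι : (Fin r → A) →ₗ[A] (Fin (r + 1) → A))
    (π : (Fin (r + 1) → A) →ₗ[A] M)
    (hπ : Function.Surjective π) (hex : LinearMap.range ι = LinearMap.ker π)
    (hN : Module.length A N ≠ ⊤) :
    Module.length A (M →ₗ[A] N) =
      Module.length A N +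
        Module.length A (((Fin r → A) →ₗ[A] N) ⧸ LinearMap.range (LinearMap.lcomp A N ι)) := by
  have h := length_hom_add (N := N) ι π hπ hex
  rw [length_hom_pi, length_hom_pi] at h
  have hr : (r : ℕ∞) * Module.length A N ≠ ⊤ := WithTop.mul_ne_top (ENat.natCast_ne_top r) hN
  have h2 : ((r + 1 : ℕ) : ℕ∞) * Module.length A N =
      (r : ℕ∞) * Module.length A N + Module.length A N := by
    push_cast
    rw [add_mul, one_mul]
  rw [h2, add_assoc, add_comm (Module.length A (M →ₗ[A] N))] at h
  exact ((ENat.add_right_injective_of_ne_top hr) h).symm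

end pres

end Groth.Agent.H34.HomPres
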