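import Groth.Agent.H34.GorQuotGlobal
import Groth.Agent.H34.LiaisonGraded
import Groth.Agent.H34.BasicDoubleLink
import Groth.Agent.H34.DoubleAnn
import Groth.Agent.Lib.Helper73.GorenLCI1
import Groth.Agent.Lib.Helper82.CMHeight
import Groth.Agent.Lib.Helper59.LciT2b
import Groth.Agent.Lib.Helper24.GorenFibre
import Groth.Agent.Lib.Helper28.RegularCM
import Groth.Agent.S0342

/-!
# Liaison: Cohen–Macaulay unmixedness, complete intersections are Gorenstein (helper34)
-/

set_option autoImplicit false
universe u

namespace Groth.Agent.H34.LiaisonCM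

open Groth.Agent.Lib.Helper29 Groth.Agent.Lib.Helper60 Groth.Agent.H34.Liaison
  Groth.Agent.H34.GorLinkGlobal Groth.Agent.H34.GorQuotGlobal Groth.Agent.Lib.Helper24

/-- In a Cohen–Macaulay ring, `depth S_P = ht P`. -/
theorem depth_eq_height_of_cm (S : Type u) [CommRing S] [hS : LocCoh.IsCohenMacaulayRing S]
    (P : Ideal S) [P.IsPrime] :
    LocCoh.depth (Localization.AtPrime P) (Localization.AtPrime P) = P.height := by
  have h := (hS.isCohenMacaulayLocalRing_localization P).supportDim_eq_depth
  rw [Module.supportDim_self_eq_ringKrullDim, IsLocalization.AtPrime.ringKrullDim_eq_height P]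
    at h
  exact (WithBot.coe_injective h).symm

/-- In a Cohen–Macaulay ring, associated primes of the ring are minimal. -/
theorem mem_minimalPrimes_of_mem_associatedPrimes_self (S : Type u) [CommRing S]
    [hS : LocCoh.IsCohenMacaulayRing S] {Q : Ideal S} (hQ : Q ∈ associatedPrimes S S) :
    Q ∈ minimalPrimes S := by
  haveI : IsNoetherianRing S := inferInstance
  exact mem_minimalPrimes_of_mem_associatedPrimes_of_hasSk_two
    (fun p _ => by rw [depth_eq_height_of_cm]; exact min_le_right _ _) hQ

variable {R : Type u} [CommRing R] [IsNoetherianRing R]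

/-- If `R ⧸ I` is Cohen–Macaulay, the associated primes of `R ⧸ I` are minimal over `I`. -/
theorem mem_minimalPrimes_of_mem_associatedPrimes (I : Ideal R) [LocCoh.IsCohenMacaulayRing (R ⧸ I)]
    {p : Ideal R} (hp : p ∈ associatedPrimes R (R ⧸ I)) : p ∈ I.minimalPrimes := by
  obtain ⟨hpp, x, hx⟩ := isAssociatedPrime_iff.mp hp
  have hmem : ∀ a : R, a ∈ p ↔ Ideal.Quotient.mk I a * x = 0 := by
    intro a
    rw [hx, Submodule.mem_colon_singleton, Submodule.mem_bot]
    rfl
  have hIp : I ≤ p := by
    intro a ha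
    rw [hmem, Ideal.Quotient.eq_zero_iff_mem.mpr ha, zero_mul]
  have hker : RingHom.ker (Ideal.Quotient.mk I) ≤ p := by rwa [Ideal.mk_ker]
  have hcomap : (p.map (Ideal.Quotient.mk I)).comap (Ideal.Quotient.mk I) = p := by
    rw [Ideal.comap_map_of_surjective _ Ideal.Quotient.mk_surjective, ← RingHom.ker_eq_comap_bot,
      sup_eq_left.mpr hker]
  haveI : (p.map (Ideal.Quotient.mk I)).IsPrime :=
    Ideal.map_isPrime_of_surjective Ideal.Quotient.mk_surjective hker
  have hQ : p.map (Ideal.Quotient.mk I) ∈ associatedPrimes (R ⧸ I) (R ⧸ I) := by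
    rw [AssociatedPrimes.mem_iff, isAssociatedPrime_iff]
    refine ⟨inferInstance, x, ?_⟩
    ext y
    obtain ⟨a, rfl⟩ := Ideal.Quotient.mk_surjective y
    rw [Submodule.mem_colon_singleton, Submodule.mem_bot, smul_eq_mul, ← hmem, ← hcomap,
      Ideal.mem_comap, hcomap]
  have hmin := mem_minimalPrimes_of_mem_associatedPrimes_self (R ⧸ I) hQ
  rw [Ideal.minimalPrimes_eq_comap]
  exact ⟨_, hmin, hcomap⟩

/-- Gorenstein rings transfer along ring isomorphisms. -/
theorem isGorensteinRing_of_ringEquiv {F G : Type u} [CommRing F] [CommRing G]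
    (e : F ≃+* G) (h : LocCoh.IsGorensteinRing F) : LocCoh.IsGorensteinRing G := by
  have hN : IsNoetherianRing G := isNoetherianRing_of_ringEquiv F e
  refine { isGorensteinLocalRing_localization := fun p hp => ?_ }
  have h1 := h.isGorensteinLocalRing_localization (p.comap e)
  exact isGorensteinLocalRing_of_ringEquiv (IsLocalization.ringEquivOfRingEquiv
    (Localization.AtPrime (p.comap e)) (Localization.AtPrime p) e
    (e.map_primeCompl_comap_eq p)) h1

/-- A quotient of a regular ring by an ideal of height `≥ c` generated by `c` elements is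
Gorenstein. -/
theorem isGorensteinRing_quot_span_range (P : Type u) [CommRing P] [IsRegularRing P] (c : ℕ)
    (g : Fin c → P) (𝔠 : Ideal P) (h𝔠g : Ideal.span (Set.range g) = 𝔠)
    (h𝔠c : (c : ℕ∞) ≤ 𝔠.height) : LocCoh.IsGorensteinRing (P ⧸ 𝔠) := by
  haveI : LocCoh.IsGorensteinRing P := isGorensteinRing_of_isRegularRing P
  haveI : IsNoetherianRing P := inferInstance
  apply isGorensteinRing_quot_of_forall P 𝔠
  intro p _ hp
  set A := Localization.AtPrime p with hA
  haveI : IsRegularLocalRing A := IsRegularRing.isRegularLocalRing_localization p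
  have hCM : LocCoh.IsCohenMacaulayModule A A :=
    Groth.Agent.Lib.Helper28.isCohenMacaulayModule_self_of_isRegularLocalRing A
  set xs : List A := List.ofFn fun i => algebraMap P A (g i) with hxs_def
  have hofList : Ideal.ofList xs = 𝔠.map (algebraMap P A) := by
    rw [hxs_def, Groth.Agent.Lib.Helper59.LciT2b.ofList_ofFn, ← h𝔠g, Ideal.map_span,
      ← Set.range_comp]
    rfl
  have hxs : ∀ x ∈ xs, x ∈ IsLocalRing.maximalIdeal A := by
    intro x hx
    obtain ⟨i, rfl⟩ := (List.mem_ofFn' _ x).mp hx
    have h1 : g i ∈ p := hp (h𝔠g ▸ Ideal.subset_span ⟨i, rfl⟩)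
    rw [← Localization.AtPrime.map_eq_maximalIdeal]
    exact Ideal.mem_map_of_mem _ h1
  have hht : (xs.length : ℕ∞) ≤ (Ideal.ofList xs).height := by
    rw [hofList, hxs_def, List.length_ofFn, ← IsLocalization.height_under p.primeCompl]
    exact h𝔠c.trans (Ideal.height_mono Ideal.le_comap_map)
  have hreg := Groth.Agent.Lib.Helper82.CMHeight.isWeaklyRegular_of_length_le_height hCM xs hxs hht
  have hG := Groth.Agent.Lib.Helper73.GorenLCI.isGorensteinLocalRing_quotient_ofList xs.length A xs
    rfl hxs hreg (Groth.Agent.S0342.result A)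
  exact (isGorensteinLocalRing_quotient_congr hofList).mp hG

end Groth.Agent.H34.LiaisonCM
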