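import Groth.Agent.H34.LocDual
import Groth.Agent.H34.GorMCM
import Groth.Agent.Lib.Helper60.LocalCohBC

/-!
# Faltings' annihilator theorem for homomorphic images of Gorenstein local rings (helper34)
-/

set_option autoImplicit false
universe u
open CategoryTheory Abelian IsLocalRing

namespace Groth.Agent.H34.LocDualQuot

section E

variable {A R : Type u} [CommRing A] [IsNoetherianRing A] [CommRing R] [IsNoetherianRing R] [Algebra A R]
  (hsurj : Function.Surjective (algebraMap A R)) (p : Ideal R) [p.IsPrime]

/-- the induced map `A_P → R_p`, `P` the preimage of `p`. -/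
noncomputable def locHom :
    Localization.AtPrime (p.comap (algebraMap A R)) →+* Localization.AtPrime p :=
  Localization.localRingHom _ p (algebraMap A R) rfl

include hsurj in
theorem locHom_surjective : Function.Surjective (locHom (A := A) p) := by
  intro x
  obtain ⟨r, t, rfl⟩ := IsLocalization.exists_mk'_eq p.primeCompl x
  obtain ⟨a, rfl⟩ := hsurj r
  obtain ⟨s, hs⟩ := hsurj t.1
  have hsP : s ∈ (p.comap (algebraMap A R)).primeCompl := by
    change s ∉ p.comap (algebraMap A R)
    rw [Ideal.mem_comap, hs]
    exact t.2
  refine ⟨IsLocalization.mk' _ a ⟨s, hsP⟩, ?_⟩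
  unfold locHom
  rw [Localization.localRingHom_mk']
  congr 1
  exact Subtype.ext hs

include hsurj in
theorem algebraMapSubmonoid_primeCompl :
    Algebra.algebraMapSubmonoid R (p.comap (algebraMap A R)).primeCompl = p.primeCompl := by
  ext s
  constructor
  · rintro ⟨a, ha, rfl⟩
    exact ha
  · intro hs
    obtain ⟨a, rfl⟩ := hsurj s
    exact ⟨a, hs, rfl⟩

include hsurj in
/-- local cohomology of the localizations over `A_P` and over `R_p` vanish together. -/
theorem lc_localization_subsingleton_iff (M : Type u) [AddCommGroup M] [Module R M] [Module A M]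
    [IsScalarTower A R M] (j : ℕ) :
    Subsingleton (LocCoh.H (maximalIdeal (Localization.AtPrime (p.comap (algebraMap A R)))) j
        (LocalizedModule (p.comap (algebraMap A R)).primeCompl M)) ↔
      Subsingleton (LocCoh.H (maximalIdeal (Localization.AtPrime p)) j
        (LocalizedModule p.primeCompl M)) := by
  letI : Algebra (Localization.AtPrime (p.comap (algebraMap A R))) (Localization.AtPrime p) :=
    (locHom (A := A) p).toAlgebra
  letI : Module (Localization.AtPrime (p.comap (algebraMap A R)))
      (LocalizedModule p.primeCompl M) :=
    Module.compHom (LocalizedModule p.primeCompl M) (locHom (A := A) p)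
  haveI : IsScalarTower (Localization.AtPrime (p.comap (algebraMap A R))) (Localization.AtPrime p)
      (LocalizedModule p.primeCompl M) := IsScalarTower.of_algebraMap_smul (fun _ _ => rfl)
  haveI : IsScalarTower A (Localization.AtPrime (p.comap (algebraMap A R)))
      (LocalizedModule p.primeCompl M) := by
    refine IsScalarTower.of_algebraMap_smul (fun a x => ?_)
    change locHom (A := A) p (algebraMap A _ a) • x = a • x
    unfold locHom
    rw [Localization.localRingHom_to_map, algebraMap_smul, algebraMap_smul]
  -- base independence
  have hmap : (maximalIdeal (Localization.AtPrime (p.comap (algebraMap A R)))).map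
      (algebraMap (Localization.AtPrime (p.comap (algebraMap A R))) (Localization.AtPrime p)) =
      maximalIdeal (Localization.AtPrime p) :=
    IsLocalRing.map_maximalIdeal_of_surjective _ (locHom_surjective hsurj p)
  obtain ⟨φ, -⟩ := Groth.Agent.Lib.Helper60.exists_lc_baseChange
    (R := Localization.AtPrime (p.comap (algebraMap A R))) (R' := Localization.AtPrime p)
    (maximalIdeal (Localization.AtPrime (p.comap (algebraMap A R)))) j
    (LocalizedModule p.primeCompl M)
  rw [hmap] at φ
  -- the module isomorphism
  haveI hloc : IsLocalizedModule (p.comap (algebraMap A R)).primeCompl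
      ((LocalizedModule.mkLinearMap p.primeCompl M).restrictScalars A) := by
    haveI : IsLocalizedModule
        (Algebra.algebraMapSubmonoid R (p.comap (algebraMap A R)).primeCompl)
        (LocalizedModule.mkLinearMap p.primeCompl M) := by
      rw [algebraMapSubmonoid_primeCompl hsurj p]
      infer_instance
    exact IsLocalizedModule.restrictScalars _ _
  let e : LocalizedModule (p.comap (algebraMap A R)).primeCompl M
      ≃ₗ[Localization.AtPrime (p.comap (algebraMap A R))] LocalizedModule p.primeCompl M :=
    (IsLocalizedModule.linearEquiv (p.comap (algebraMap A R)).primeCompl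
      (LocalizedModule.mkLinearMap (p.comap (algebraMap A R)).primeCompl M)
      ((LocalizedModule.mkLinearMap p.primeCompl M).restrictScalars A)).extendScalarsOfIsLocalization
        (p.comap (algebraMap A R)).primeCompl (Localization.AtPrime (p.comap (algebraMap A R)))
  constructor
  · intro h
    have h1 := Groth.Agent.H34.GorMCM.subsingleton_of_linearEquiv
      (maximalIdeal (Localization.AtPrime (p.comap (algebraMap A R)))) e j h
    exact φ.toEquiv.subsingleton
  · intro h
    have h1 : Subsingleton (LocCoh.H (maximalIdeal (Localization.AtPrime (p.comap (algebraMap A R))))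
        j (LocalizedModule p.primeCompl M)) := φ.symm.toEquiv.subsingleton
    exact Groth.Agent.H34.GorMCM.subsingleton_of_linearEquiv
      (maximalIdeal (Localization.AtPrime (p.comap (algebraMap A R)))) e.symm j h1

end E

section Main

/-- **Faltings' annihilator theorem** for a homomorphic image of a Gorenstein local ring. -/
theorem main (A R : Type u) [CommRing A] [LocCoh.IsGorensteinLocalRing A] [CommRing R]
    [IsNoetherianRing R] [IsLocalRing R] [Algebra A R]
    (hsurj : Function.Surjective (algebraMap A R)) (M : Type u) [AddCommGroup M] [Module R M]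
    [Module.Finite R M] (J : Ideal R) (i : ℕ) :
    J ≤ (Module.annihilator R (LocCoh.H (maximalIdeal R) i M)).radical ↔
      ∀ (p : Ideal R) [p.IsPrime], ¬ J ≤ p → ∀ j : ℕ,
        (j : WithBot ℕ∞) + ringKrullDim (R ⧸ p) = i →
        Subsingleton (LocCoh.H (maximalIdeal (Localization.AtPrime p)) j
          (LocalizedModule p.primeCompl M)) := by
  classical
  haveI : IsNoetherianRing A := inferInstance
  haveI : IsLocalRing A := inferInstance
  letI : Module A M := Module.compHom M (algebraMap A R)
  haveI : IsScalarTower A R M := IsScalarTower.of_algebraMap_smul (fun _ _ => rfl)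
  haveI : Module.Finite A R := Module.Finite.of_surjective (Algebra.linearMap A R) hsurj
  haveI : Module.Finite A M := Module.Finite.trans R M
  have hG := Groth.Agent.H34.LocDual.le_radical_annihilator_lc_iff A M
    (J.comap (algebraMap A R)) i
  have hmap : (maximalIdeal A).map (algebraMap A R) = maximalIdeal R :=
    IsLocalRing.map_maximalIdeal_of_surjective _ hsurj
  obtain ⟨φ, hφ⟩ : ∃ φ : LocCoh.H (maximalIdeal R) i M ≃+ LocCoh.H (maximalIdeal A) i M,
      ∀ (a : A) (x : LocCoh.H (maximalIdeal R) i M), φ (algebraMap A R a • x) = a • φ x := by
    rw [← hmap]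
    exact Groth.Agent.Lib.Helper60.exists_lc_baseChange (maximalIdeal A) i M
  have hann : Module.annihilator A (LocCoh.H (maximalIdeal A) i M) =
      (Module.annihilator R (LocCoh.H (maximalIdeal R) i M)).comap (algebraMap A R) := by
    ext a
    rw [Ideal.mem_comap, Module.mem_annihilator, Module.mem_annihilator]
    constructor
    · intro h x
      apply φ.injective
      rw [hφ, h, map_zero]
    · intro h y
      obtain ⟨x, rfl⟩ := φ.surjective y
      rw [← hφ, h, map_zero]
  have hL : J ≤ (Module.annihilator R (LocCoh.H (maximalIdeal R) i M)).radical ↔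
      J.comap (algebraMap A R) ≤
        (Module.annihilator A (LocCoh.H (maximalIdeal A) i M)).radical := by
    rw [hann, ← Ideal.comap_radical, Ideal.comap_le_comap_iff_of_surjective _ hsurj]
  rw [hL, hG]
  have hdim : ∀ (p : Ideal R) [p.IsPrime],
      ringKrullDim (A ⧸ p.comap (algebraMap A R)) = ringKrullDim (R ⧸ p) := by
    intro p _
    refine ringKrullDim_eq_of_ringEquiv (RingEquiv.ofBijective
      (Ideal.quotientMap p (algebraMap A R) le_rfl) ⟨?_, ?_⟩)
    · exact Ideal.quotientMap_injective
    · exact Ideal.quotientMap_surjective hsurj
  constructor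
  · intro h p hp hJp j hj
    have h1 := h (p.comap (algebraMap A R))
      (by rwa [Ideal.comap_le_comap_iff_of_surjective _ hsurj]) j (by rw [hdim p]; exact hj)
    exact (lc_localization_subsingleton_iff hsurj p M j).mp h1
  · intro h P hP hJP j hj
    by_cases hker : RingHom.ker (algebraMap A R) ≤ P
    · haveI hp' : (P.map (algebraMap A R)).IsPrime := Ideal.map_isPrime_of_surjective hsurj hker
      have hPeq : (P.map (algebraMap A R)).comap (algebraMap A R) = P := by
        rw [Ideal.comap_map_of_surjective _ hsurj]
        exact sup_eq_left.mpr hker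
      have hquot : ∀ I I' : Ideal A, I = I' → ringKrullDim (A ⧸ I) = ringKrullDim (A ⧸ I') := by
        rintro I _ rfl
        rfl
      have h1 := h (P.map (algebraMap A R))
        (by rwa [← Ideal.comap_le_comap_iff_of_surjective _ hsurj, hPeq]) j
        (by rw [← hdim (P.map (algebraMap A R)), hquot _ _ hPeq]; exact hj)
      have h2 := (lc_localization_subsingleton_iff hsurj (P.map (algebraMap A R)) M j).mpr h1
      have key : ∀ (Q : Ideal A) [Q.IsPrime], Q = P →
          Subsingleton (LocCoh.H (maximalIdeal (Localization.AtPrime Q)) j
            (LocalizedModule Q.primeCompl M)) →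
          Subsingleton (LocCoh.H (maximalIdeal (Localization.AtPrime P)) j
            (LocalizedModule P.primeCompl M)) := by
        rintro Q _ rfl hQ
        exact hQ
      exact key _ hPeq h2
    · obtain ⟨a, hak, haP⟩ := Set.not_subset.mp hker
      haveI : Subsingleton (LocalizedModule P.primeCompl M) := by
        rw [LocalizedModule.subsingleton_iff]
        intro m
        refine ⟨a, haP, ?_⟩
        rw [← algebraMap_smul R a m, (RingHom.mem_ker).mp hak, zero_smul]
      exact Groth.Agent.H34.GorLinkGlobal.subsingleton_lc_of_subsingleton _ _ j

end Main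

end Groth.Agent.H34.LocDualQuot
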