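import Mathlib.RingTheory.Nakayama
import Mathlib.LinearAlgebra.TensorProduct.Quotient
import Mathlib.Algebra.Module.Projective
import Mathlib.RingTheory.Finiteness.Basic
import Mathlib.RingTheory.TensorProduct.Basic

/-! Helper lemmas (helper34): Nakayama-type statements for base change to `R ⧸ I`. -/

set_option autoImplicit false
universe u v w
open TensorProduct

namespace Groth.Agent.H34

variable {R : Type u} [CommRing R] (I : Ideal R)

theorem one_tmul_eq_zero_iff {M : Type v} [AddCommGroup M] [Module R M] (x : M) :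
    ((1 : R ⧸ I) ⊗ₜ[R] x = 0) ↔ x ∈ I • (⊤ : Submodule R M) := by
  rw [← (TensorProduct.quotTensorEquivQuotSMul M I).map_eq_zero_iff,
    TensorProduct.quotTensorEquivQuotSMul_mk_one_tmul, Submodule.Quotient.mk_eq_zero]

theorem exists_one_tmul {M : Type v} [AddCommGroup M] [Module R M] (z : (R ⧸ I) ⊗[R] M) :
    ∃ x : M, z = (1 : R ⧸ I) ⊗ₜ[R] x := by
  obtain ⟨y, hy⟩ := (TensorProduct.quotTensorEquivQuotSMul M I).symm.surjective z
  obtain ⟨x, rfl⟩ := Submodule.Quotient.mk_surjective _ y
  exact ⟨x, by rw [← hy]; rfl⟩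

theorem surjective_of_baseChange_surjective (hI : I ≤ Ideal.jacobson (⊥ : Ideal R))
    {P : Type v} {P' : Type w} [AddCommGroup P] [Module R P] [AddCommGroup P'] [Module R P']
    [Module.Finite R P'] (φ : P →ₗ[R] P')
    (h : Function.Surjective (φ.baseChange (R ⧸ I))) : Function.Surjective φ := by
  rw [← LinearMap.range_eq_top]
  have key : (⊤ : Submodule R P') ≤ LinearMap.range φ ⊔ I • (⊤ : Submodule R P') := by
    intro y _
    obtain ⟨z, hz⟩ := h ((1 : R ⧸ I) ⊗ₜ[R] y)
    obtain ⟨x, rfl⟩ := exists_one_tmul I z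
    rw [LinearMap.baseChange_tmul] at hz
    have : (1 : R ⧸ I) ⊗ₜ[R] (y - φ x) = 0 := by
      rw [TensorProduct.tmul_sub, hz, sub_self]
    rw [one_tmul_eq_zero_iff] at this
    have hy : y = φ x + (y - φ x) := by abel
    rw [hy]
    exact Submodule.add_mem_sup (LinearMap.mem_range_self φ x) this
  have := Submodule.sup_eq_sup_smul_of_le_smul_of_le_jacobson (N := LinearMap.range φ)
    (Module.Finite.fg_top (R := R) (M := P')) hI key
  exact Eq.symm (by simpa using this)

theorem bijective_of_baseChange_bijective (hI : I ≤ Ideal.jacobson (⊥ : Ideal R))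
    {P : Type v} {P' : Type w} [AddCommGroup P] [Module R P] [Module.Finite R P]
    [AddCommGroup P'] [Module R P'] [Module.Finite R P'] [Module.Projective R P']
    (φ : P →ₗ[R] P')
    (h : Function.Bijective (φ.baseChange (R ⧸ I))) : Function.Bijective φ := by
  have hsurj : Function.Surjective φ := surjective_of_baseChange_surjective I hI φ h.2
  refine ⟨?_, hsurj⟩
  obtain ⟨s, hs⟩ := Module.projective_lifting_property φ LinearMap.id hsurj
  have hs' : ∀ y, φ (s y) = y := fun y => LinearMap.congr_fun hs y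
  -- projection onto the kernel
  let π : P →ₗ[R] P := LinearMap.id - s ∘ₗ φ
  have hπK : ∀ p, π p ∈ LinearMap.ker φ := by
    intro p
    simp [π, hs']
  have hπid : ∀ k ∈ LinearMap.ker φ, π k = k := by
    intro k hk
    have : φ k = 0 := hk
    simp [π, this]
  have hrange : LinearMap.range π = LinearMap.ker φ := by
    apply le_antisymm
    · rintro _ ⟨p, rfl⟩; exact hπK p
    · intro k hk; exact ⟨k, hπid k hk⟩
  have hfg : (LinearMap.ker φ).FG := by
    rw [← hrange, LinearMap.range_eq_map]
    exact (Module.Finite.fg_top (R := R) (M := P)).map π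
  have hle : LinearMap.ker φ ≤ I • LinearMap.ker φ := by
    intro k hk
    have hk0 : φ k = 0 := hk
    have h1 : (φ.baseChange (R ⧸ I)) ((1 : R ⧸ I) ⊗ₜ[R] k) = 0 := by
      rw [LinearMap.baseChange_tmul, hk0, TensorProduct.tmul_zero]
    have h2 : (1 : R ⧸ I) ⊗ₜ[R] k = 0 := h.1 (by rw [h1, map_zero])
    rw [one_tmul_eq_zero_iff] at h2
    -- apply π
    have h3 : π k ∈ Submodule.map π (I • (⊤ : Submodule R P)) := Submodule.mem_map_of_mem h2
    rw [Submodule.map_smul'', Submodule.map_top, hrange, hπid k hk] at h3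
    exact h3
  have hbot := Submodule.eq_bot_of_le_smul_of_le_jacobson_bot I _ hfg hle hI
  exact LinearMap.ker_eq_bot.mp hbot

end Groth.Agent.H34

namespace Groth.Agent.H34

/-- Nakayama: a linear map into a finite module whose range together with `I • ⊤` spans is
surjective (for `I` in the Jacobson radical). -/
theorem surjective_of_le_range_sup_smul_top {R : Type u} [CommRing R] (I : Ideal R)
    (hI : I ≤ Ideal.jacobson (⊥ : Ideal R))
    {P : Type v} {P' : Type w} [AddCommGroup P] [Module R P] [AddCommGroup P'] [Module R P']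
    [Module.Finite R P'] (φ : P →ₗ[R] P')
    (key : (⊤ : Submodule R P') ≤ LinearMap.range φ ⊔ I • (⊤ : Submodule R P')) :
    Function.Surjective φ := by
  rw [← LinearMap.range_eq_top]
  have := Submodule.sup_eq_sup_smul_of_le_smul_of_le_jacobson (N := LinearMap.range φ)
    (Module.Finite.fg_top (R := R) (M := P')) hI key
  exact Eq.symm (by simpa using this)

/-- Two decompositions `X ≃ Y × Z`, `X ≃ Y' × Z` with the same second projection have isomorphic
first factors. -/
def equivOfProdEquiv {A : Type*} [Ring A] {X Y Y' Z : Type*} [AddCommGroup X] [Module A X]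
    [AddCommGroup Y] [Module A Y] [AddCommGroup Y'] [Module A Y'] [AddCommGroup Z] [Module A Z]
    (f : X ≃ₗ[A] Y × Z) (g : X ≃ₗ[A] Y' × Z) (h : ∀ x, (f x).2 = (g x).2) : Y ≃ₗ[A] Y' where
  toFun y := (g (f.symm (y, 0))).1
  invFun y' := (f (g.symm (y', 0))).1
  map_add' y₁ y₂ := by
    have : ((y₁ + y₂, (0 : Z)) : Y × Z) = (y₁, 0) + (y₂, 0) := by simp
    rw [this, map_add, map_add, Prod.fst_add]
  map_smul' a y := by
    have : ((a • y, (0 : Z)) : Y × Z) = a • (y, 0) := by simp
    rw [this, map_smul, map_smul, Prod.smul_fst, RingHom.id_apply]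
  left_inv y := by
    have h2 : (g (f.symm (y, 0))).2 = 0 := by rw [← h, LinearEquiv.apply_symm_apply]
    have h3 : ((g (f.symm (y, 0))).1, (0 : Z)) = g (f.symm (y, 0)) := Prod.ext rfl h2.symm
    change (f (g.symm ((g (f.symm (y, 0))).1, 0))).1 = y
    rw [h3, LinearEquiv.symm_apply_apply, LinearEquiv.apply_symm_apply]
  right_inv y' := by
    have h2 : (f (g.symm (y', 0))).2 = 0 := by rw [h, LinearEquiv.apply_symm_apply]
    have h3 : ((f (g.symm (y', 0))).1, (0 : Z)) = f (g.symm (y', 0)) := Prod.ext rfl h2.symm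
    change (g (f.symm ((f (g.symm (y', 0))).1, 0))).1 = y'
    rw [h3, LinearEquiv.symm_apply_apply, LinearEquiv.apply_symm_apply]

end Groth.Agent.H34
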