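import Mathlib

/-!
# Projectivity of finite flat modules modulo nil ideals; lifting along surjective towers (helper34)
-/

set_option autoImplicit false
universe u

namespace Groth.Agent.H34.NilProj

/-- Compatible sequences through a given element exist in a tower with surjective transitions. -/
theorem lift_seq : ∀ (n : ℕ) (X : ℕ → Type u) (t : ∀ n, X (n + 1) → X n)
    (_ : ∀ n, Function.Surjective (t n)) (a : X n),
    ∃ x : ∀ m, X m, (∀ m, t m (x (m + 1)) = x m) ∧ x n = a := by
  intro n
  induction n with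
  | zero =>
    intro X t ht a
    refine ⟨fun m => Nat.rec (motive := fun m => X m) a (fun m xm => Classical.choose (ht m xm)) m,
      fun m => ?_, rfl⟩
    exact Classical.choose_spec (ht m _)
  | succ n ih =>
    intro X t ht a
    obtain ⟨x', hx', hx'a⟩ := ih (fun m => X (m + 1)) (fun m => t (m + 1)) (fun m => ht (m + 1)) a
    refine ⟨fun m => Nat.casesOn (motive := fun m => X m) m (t 0 (x' 0)) (fun m => x' m),
      fun m => ?_, hx'a⟩
    cases m with
    | zero => rfl
    | succ m => exact hx' m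

section Matrix

variable {R : Type*} [CommRing R] {N : ℕ}

theorem entries_pow_mem (I : Ideal R) (E : Matrix (Fin N) (Fin N) R) (hE : ∀ i j, E i j ∈ I)
    (k : ℕ) : ∀ i j, (E ^ k) i j ∈ I ^ k := by
  induction k with
  | zero => intro i j; simp
  | succ k ih =>
    intro i j
    have h1 : E ^ (k + 1) = E ^ k * E := pow_succ E k
    rw [h1, Matrix.mul_apply, pow_succ]
    exact Ideal.sum_mem _ fun l _ => Ideal.mul_mem_mul (ih i l) (hE l j)

theorem matrix_isNilpotent (E : Matrix (Fin N) (Fin N) R) (h : ∀ i j, IsNilpotent (E i j)) :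
    IsNilpotent E := by
  classical
  let I : Ideal R := Ideal.span (Set.range fun p : Fin N × Fin N => E p.1 p.2)
  have hfg : I.FG := ⟨(Finset.univ.image fun p : Fin N × Fin N => E p.1 p.2), by
    simp only [I, Finset.coe_image, Finset.coe_univ, Set.image_univ]⟩
  have hle : I ≤ nilradical R := by
    rw [Ideal.span_le]
    rintro _ ⟨p, rfl⟩
    exact h p.1 p.2
  obtain ⟨k, hk⟩ := (Ideal.FG.isNilpotent_iff_le_nilradical hfg).mpr hle
  refine ⟨k, ?_⟩
  ext i j
  have := entries_pow_mem I E (fun i j => Ideal.subset_span ⟨(i, j), rfl⟩) k i j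
  rw [hk] at this
  simpa using this

end Matrix


section NilProj

variable {R R₀ : Type*} [CommRing R] [CommRing R₀] (ρ : R →+* R₀)
  {M M₀ : Type*} [AddCommGroup M] [Module R M] [AddCommGroup M₀] [Module R₀ M₀]

theorem map_mulVec' {N : ℕ} (E : Matrix (Fin N) (Fin N) R) (c : Fin N → R) :
    ρ ∘ (E.mulVec c) = (ρ.mapMatrix E).mulVec (ρ ∘ c) := by
  funext i
  exact RingHom.map_mulVec ρ E c i

theorem exists_comp_eq {N : ℕ} (hρ : Function.Surjective ρ) (c₀ : Fin N → R₀) :
    ∃ c : Fin N → R, ρ ∘ c = c₀ :=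
  ⟨fun i => Classical.choose (hρ (c₀ i)), funext fun i => Classical.choose_spec (hρ (c₀ i))⟩

theorem exists_mapMatrix_eq {N : ℕ} (hρ : Function.Surjective ρ)
    (E₀ : Matrix (Fin N) (Fin N) R₀) : ∃ E : Matrix (Fin N) (Fin N) R, ρ.mapMatrix E = E₀ :=
  ⟨Matrix.of fun i j => Classical.choose (hρ (E₀ i j)), by
    ext i j
    exact Classical.choose_spec (hρ (E₀ i j))⟩

theorem isNilpotent_of_mapMatrix_eq_zero {N : ℕ} (hnil : ∀ x, ρ x = 0 → IsNilpotent x)
    (E : Matrix (Fin N) (Fin N) R) (hE : ρ.mapMatrix E = 0) : IsNilpotent E := by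
  apply matrix_isNilpotent
  intro i j
  apply hnil
  have := congrFun (congrFun hE i) j
  simpa using this

theorem linearCombination_compat {N : ℕ} (v : M →ₛₗ[ρ] M₀) (g : Fin N → M) (c : Fin N → R) :
    Fintype.linearCombination R₀ (fun i => v (g i)) (ρ ∘ c) =
      v (Fintype.linearCombination R g c) := by
  rw [Fintype.linearCombination_apply, Fintype.linearCombination_apply, map_sum]
  exact Finset.sum_congr rfl fun i _ => by rw [map_smulₛₗ]; rfl

/-- A finite flat module which is projective modulo a nil ideal is projective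
(semilinear formulation). -/
theorem projective_of_nil (hρ : Function.Surjective ρ) (hnil : ∀ x, ρ x = 0 → IsNilpotent x)
    (v : M →ₛₗ[ρ] M₀) (hv : Function.Surjective v)
    (hker : LinearMap.ker v = RingHom.ker ρ • (⊤ : Submodule R M))
    [Module.Finite R M] [Module.Flat R M] [Module.Projective R₀ M₀] : Module.Projective R M := by
  classical
  obtain ⟨N, ψ', hψ'⟩ := Module.Finite.exists_fin' R M
  -- write `ψ'` as a linear combination
  let g : Fin N → M := fun i => ψ' (Pi.single i 1)
  let ψ : (Fin N → R) →ₗ[R] M := Fintype.linearCombination R g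
  have hψeq : ψ = ψ' := by
    apply LinearMap.pi_ext'
    intro i
    ext
    simp [ψ, g, Fintype.linearCombination_apply]
  have hψ : Function.Surjective ψ := hψeq ▸ hψ'
  let ψ₀ : (Fin N → R₀) →ₗ[R₀] M₀ := Fintype.linearCombination R₀ (fun i => v (g i))
  have hcompat : ∀ c : Fin N → R, ψ₀ (ρ ∘ c) = v (ψ c) := linearCombination_compat ρ v g
  have hψ₀ : Function.Surjective ψ₀ := by
    intro m₀
    obtain ⟨m, rfl⟩ := hv m₀
    obtain ⟨c, rfl⟩ := hψ m
    exact ⟨ρ ∘ c, hcompat c⟩
  obtain ⟨σ₀, hσ₀⟩ := Module.projective_lifting_property ψ₀ LinearMap.id hψ₀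
  have hσ₀' : ∀ m₀, ψ₀ (σ₀ m₀) = m₀ := fun m₀ => by
    have := LinearMap.congr_fun hσ₀ m₀
    simpa using this
  let ebar : Matrix (Fin N) (Fin N) R₀ := LinearMap.toMatrix' (σ₀ ∘ₗ ψ₀)
  have hebar : ∀ c₀, ebar.mulVec c₀ = σ₀ (ψ₀ c₀) := fun c₀ => by
    simp only [ebar, LinearMap.toMatrix'_mulVec, LinearMap.comp_apply]
  have hebar_idem : IsIdempotentElem ebar := by
    apply Matrix.mulVec_injective
    funext c₀
    rw [← Matrix.mulVec_mulVec, hebar, hebar, hσ₀']
  obtain ⟨e, he_idem, he_map⟩ := exists_isIdempotentElem_eq_of_ker_isNilpotent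
    (ρ.mapMatrix : Matrix (Fin N) (Fin N) R →+* Matrix (Fin N) (Fin N) R₀)
    (fun x hx => isNilpotent_of_mapMatrix_eq_zero ρ hnil x ((RingHom.mem_ker).mp hx)) ebar
    (RingHom.mem_range.mpr (exists_mapMatrix_eq ρ hρ ebar)) hebar_idem
  have he_mul : ∀ c, e.mulVec (e.mulVec c) = e.mulVec c := fun c => by
    rw [Matrix.mulVec_mulVec, he_idem.eq]
  -- (F1)
  have hF1 : ∀ c, v (ψ (c - e.mulVec c)) = 0 := by
    intro c
    rw [← hcompat]
    have : ρ ∘ (c - e.mulVec c) = ρ ∘ c - ebar.mulVec (ρ ∘ c) := by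
      rw [← he_map, ← map_mulVec']
      funext i
      simp
    rw [this, map_sub, hebar, hσ₀', sub_self]
  have hjac : RingHom.ker ρ ≤ (⊥ : Ideal R).jacobson := by
    intro x hx
    rw [Ideal.jacobson_bot]
    exact nilradical_le_jacobson R (hnil x hx)
  let e' : (Fin N → R) →ₗ[R] (Fin N → R) := e.mulVecLin
  -- surjectivity
  have hsurj : LinearMap.range (ψ ∘ₗ e') = ⊤ := by
    apply top_le_iff.mp
    apply Submodule.le_of_le_smul_of_le_jacobson_bot (Module.Finite.fg_top) hjac
    intro m _
    obtain ⟨c, rfl⟩ := hψ m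
    have h1 : ψ c = ψ (e.mulVec c) + ψ (c - e.mulVec c) := by
      rw [← map_add]; congr 1; abel
    rw [h1]
    apply Submodule.add_mem_sup
    · exact ⟨c, rfl⟩
    · rw [← hker]
      exact hF1 c
  -- injectivity
  have hinj : ∀ x : Fin N → R, e.mulVec x = x → ψ x = 0 → x = 0 := by
    intro x hex hψx
    obtain ⟨k, a, y, hya, hax⟩ :=
      Module.Flat.exists_factorization_of_apply_eq_zero_of_free (R := R) (M := M)
        (N := Fin N → R) (f := x) (x := ψ) hψx
    obtain ⟨ytil, hytil⟩ := Module.projective_lifting_property ψ y hψ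
    let θ : (Fin N → R) →ₗ[R] (Fin N → R) := LinearMap.id - ytil ∘ₗ a
    have hψθ : ∀ c, ψ (θ c) = 0 := by
      intro c
      have h1 : ψ (ytil (a c)) = y (a c) := LinearMap.congr_fun hytil (a c)
      have h2 : ψ c = y (a c) := LinearMap.congr_fun hya c
      simp only [θ, LinearMap.sub_apply, LinearMap.id_apply, LinearMap.comp_apply, map_sub, h1, h2,
        sub_self]
    have hθx : θ x = x := by
      simp only [θ, LinearMap.sub_apply, LinearMap.id_apply, LinearMap.comp_apply, hax, map_zero,
        sub_zero]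
    let Θ : Matrix (Fin N) (Fin N) R := LinearMap.toMatrix' θ
    have hΘ : ∀ c, Θ.mulVec c = θ c := fun c => LinearMap.toMatrix'_mulVec θ c
    let T : Matrix (Fin N) (Fin N) R := e * Θ * e
    have hTx : T.mulVec x = x := by
      simp only [T]
      rw [← Matrix.mulVec_mulVec, ← Matrix.mulVec_mulVec, hex, hΘ, hθx, hex]
    have hzero : ebar * ρ.mapMatrix Θ = 0 := by
      apply Matrix.mulVec_injective
      funext c₀
      obtain ⟨c, rfl⟩ := exists_comp_eq ρ hρ c₀
      rw [← Matrix.mulVec_mulVec, ← map_mulVec', hebar, hΘ, hcompat, hψθ, map_zero, map_zero,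
        Matrix.zero_mulVec]
    have hTnil : IsNilpotent T := by
      apply isNilpotent_of_mapMatrix_eq_zero ρ hnil
      simp only [T]
      rw [map_mul, map_mul, he_map, hzero, zero_mul]
    obtain ⟨j, hj⟩ := hTnil
    have hpow : ∀ j : ℕ, (T ^ j).mulVec x = x := by
      intro j
      induction j with
      | zero => simp
      | succ j ih => rw [pow_succ, ← Matrix.mulVec_mulVec, hTx, ih]
    rw [← hpow j, hj, Matrix.zero_mulVec]
  -- the equivalence
  let P' : Submodule R (Fin N → R) := LinearMap.range e'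
  let φ : ↥P' →ₗ[R] M := ψ ∘ₗ P'.subtype
  have hφinj : Function.Injective φ := by
    rw [← LinearMap.ker_eq_bot, LinearMap.ker_eq_bot']
    rintro ⟨x, c, rfl⟩ hx
    apply Subtype.ext
    exact hinj _ (he_mul c) hx
  have hφsurj : Function.Surjective φ := by
    intro m
    have : m ∈ LinearMap.range (ψ ∘ₗ e') := by rw [hsurj]; trivial
    obtain ⟨c, rfl⟩ := this
    exact ⟨⟨e' c, c, rfl⟩, rfl⟩
  have hP' : Module.Projective R ↥P' := by
    apply Module.Projective.of_split P'.subtype e'.rangeRestrict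
    apply LinearMap.ext
    rintro ⟨x, c, rfl⟩
    apply Subtype.ext
    exact he_mul c
  exact Module.Projective.of_equiv (LinearEquiv.ofBijective φ ⟨hφinj, hφsurj⟩)

end NilProj


section Idem

variable {R R₀ : Type*} [CommRing R] [CommRing R₀] (ρ : R →+* R₀)
  {M M₀ : Type*} [AddCommGroup M] [Module R M] [AddCommGroup M₀] [Module R₀ M₀]

/-- A surjection from a finite free module onto a projective module is the cokernel of an
idempotent matrix. -/
theorem idem_of_projective {N : ℕ} (g : Fin N → M)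
    (hψ : Function.Surjective (Fintype.linearCombination R g)) [Module.Projective R M] :
    ∃ e : Matrix (Fin N) (Fin N) R, IsIdempotentElem e ∧
      (∀ c, Fintype.linearCombination R g c = 0 ↔ e.mulVec c = 0) ∧
      (∀ c, Fintype.linearCombination R g (e.mulVec c) = Fintype.linearCombination R g c) := by
  classical
  obtain ⟨σ, hσ⟩ := Module.projective_lifting_property (Fintype.linearCombination R g)
    LinearMap.id hψ
  have hσ' : ∀ m, Fintype.linearCombination R g (σ m) = m := fun m => by
    have := LinearMap.congr_fun hσ m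
    simpa using this
  let e : Matrix (Fin N) (Fin N) R := LinearMap.toMatrix' (σ ∘ₗ Fintype.linearCombination R g)
  have he : ∀ c, e.mulVec c = σ (Fintype.linearCombination R g c) := fun c => by
    simp only [e, LinearMap.toMatrix'_mulVec, LinearMap.comp_apply]
  refine ⟨e, ?_, ?_, ?_⟩
  · apply Matrix.mulVec_injective
    funext c
    rw [← Matrix.mulVec_mulVec, he, he, hσ']
  · intro c
    rw [he]
    constructor
    · intro h; rw [h, map_zero]
    · intro h
      rw [← hσ' (Fintype.linearCombination R g c), h, map_zero]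
  · intro c
    rw [he, hσ']

theorem coord_mem_of_mem_smul_top {N : ℕ} (I : Ideal R) (x : Fin N → R)
    (hx : x ∈ I • (⊤ : Submodule R (Fin N → R))) (i : Fin N) : x i ∈ I := by
  refine Submodule.smul_induction_on (p := fun x => x i ∈ I) hx ?_ ?_
  · intro r hr n _
    exact Ideal.mul_mem_right _ _ hr
  · intro x y hx hy
    exact Ideal.add_mem _ hx hy

/-- Lifting an idempotent presentation matrix along a surjection of rings. -/
theorem idem_step (hρ : Function.Surjective ρ) (v : M →ₛₗ[ρ] M₀)
    (hker : LinearMap.ker v = RingHom.ker ρ • (⊤ : Submodule R M))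
    {N : ℕ} (g : Fin N → M) (hψ : Function.Surjective (Fintype.linearCombination R g))
    [Module.Projective R M]
    (e₀ : Matrix (Fin N) (Fin N) R₀) (he₀ : IsIdempotentElem e₀)
    (hk₀ : ∀ c₀, Fintype.linearCombination R₀ (fun i => v (g i)) c₀ = 0 ↔ e₀.mulVec c₀ = 0) :
    ∃ e : Matrix (Fin N) (Fin N) R, IsIdempotentElem e ∧
      (∀ c, Fintype.linearCombination R g c = 0 ↔ e.mulVec c = 0) ∧ ρ.mapMatrix e = e₀ := by
  classical
  set ψ := Fintype.linearCombination R g with hψdef
  set ψ₀ := Fintype.linearCombination R₀ (fun i => v (g i)) with hψ₀def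
  have hcompat : ∀ c : Fin N → R, ψ₀ (ρ ∘ c) = v (ψ c) := linearCombination_compat ρ v g
  obtain ⟨e', he'idem, he'ker, he'ψ⟩ := idem_of_projective g hψ
  set eb := ρ.mapMatrix e' with hebdef
  have hebidem : eb * eb = eb := by
    rw [hebdef, ← map_mul, he'idem.eq]
  -- (a)
  have ha : e₀ * eb = e₀ := by
    have h0 : e₀ * (1 - eb) = 0 := by
      apply Matrix.mulVec_injective
      funext c₀
      obtain ⟨c, rfl⟩ := exists_comp_eq ρ hρ c₀
      rw [← Matrix.mulVec_mulVec, Matrix.sub_mulVec, Matrix.one_mulVec, hebdef, ← map_mulVec',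
        Matrix.zero_mulVec]
      have h1 : ρ ∘ c - ρ ∘ e'.mulVec c = ρ ∘ (c - e'.mulVec c) := by
        funext i; simp
      rw [h1]
      apply (hk₀ _).mp
      rw [hcompat, map_sub, he'ψ, sub_self, map_zero]
    rw [mul_sub, mul_one, sub_eq_zero] at h0
    exact h0.symm
  -- (b)
  have hb : eb * e₀ = eb := by
    have h0 : eb * (1 - e₀) = 0 := by
      apply Matrix.mulVec_injective
      funext c₀
      rw [← Matrix.mulVec_mulVec, Matrix.sub_mulVec, Matrix.one_mulVec, Matrix.zero_mulVec]
      set d₀ := c₀ - e₀.mulVec c₀ with hd₀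
      have hed₀ : e₀.mulVec d₀ = 0 := by
        rw [hd₀, Matrix.mulVec_sub, Matrix.mulVec_mulVec, he₀.eq, sub_self]
      have hψd₀ : ψ₀ d₀ = 0 := (hk₀ d₀).mpr hed₀
      obtain ⟨d, hd⟩ := exists_comp_eq ρ hρ d₀
      rw [← hd, hcompat] at hψd₀
      have hmem : ψ d ∈ RingHom.ker ρ • (⊤ : Submodule R M) := by
        rw [← hker]; exact hψd₀
      have htop : (⊤ : Submodule R M) = Submodule.map ψ ⊤ := by
        rw [Submodule.map_top, LinearMap.range_eq_top.mpr hψ]
      rw [htop, ← Submodule.map_smul''] at hmem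
      obtain ⟨d', hd', hdd'⟩ := hmem
      have hρd' : ρ ∘ d' = 0 := by
        funext i
        exact coord_mem_of_mem_smul_top _ d' hd' i
      have h1 : e'.mulVec d = e'.mulVec d' := by
        have : e'.mulVec (d - d') = 0 := by
          apply (he'ker _).mp
          rw [map_sub, hdd', sub_self]
        rw [Matrix.mulVec_sub, sub_eq_zero] at this
        exact this
      rw [← hd, hebdef, ← map_mulVec', h1, map_mulVec', hρd', Matrix.mulVec_zero]
    rw [mul_sub, mul_one, sub_eq_zero] at h0
    exact h0.symm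
  -- the lift
  obtain ⟨δt, hδt⟩ := exists_mapMatrix_eq ρ hρ (e₀ - eb)
  set q := (1 - e') * δt * e' with hq
  have he'q : e' * q = 0 := by
    rw [hq, ← mul_assoc, ← mul_assoc, mul_sub, mul_one, he'idem.eq, sub_self, zero_mul, zero_mul]
  have hqe' : q * e' = q := by
    rw [hq, mul_assoc, he'idem.eq]
  have hqq : q * q = 0 := by
    calc q * q = q * e' * q := by rw [hqe']
      _ = q * (e' * q) := by rw [mul_assoc]
      _ = 0 := by rw [he'q, mul_zero]
  refine ⟨e' + q, ?_, ?_, ?_⟩
  · show (e' + q) * (e' + q) = e' + q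
    rw [mul_add, add_mul, add_mul, he'idem.eq, he'q, hqe', hqq, add_zero, add_zero]
  · intro c
    constructor
    · intro h
      have h1 : e'.mulVec c = 0 := (he'ker c).mp h
      rw [Matrix.add_mulVec, h1, hq, ← Matrix.mulVec_mulVec, h1, Matrix.mulVec_zero, add_zero]
    · intro h
      have h1 : (e' * (e' + q)).mulVec c = 0 := by
        rw [← Matrix.mulVec_mulVec, h, Matrix.mulVec_zero]
      rw [mul_add, he'idem.eq, he'q, add_zero] at h1
      exact (he'ker c).mpr h1
  · rw [map_add, hq, map_mul, map_mul, map_sub, map_one, hδt, ← hebdef]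
    have h1 : (1 - eb) * (e₀ - eb) * eb = e₀ - eb := by
      calc (1 - eb) * (e₀ - eb) * eb = (1 - eb) * (e₀ * eb - eb * eb) := by
            rw [mul_assoc, sub_mul e₀ eb eb]
        _ = (1 - eb) * (e₀ - eb) := by rw [ha, hebidem]
        _ = e₀ - eb - (eb * e₀ - eb * eb) := by rw [sub_mul, one_mul, mul_sub]
        _ = e₀ - eb := by rw [hb, hebidem, sub_self, sub_zero]
    rw [h1]
    abel

end Idem

end Groth.Agent.H34.NilProj
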