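import Mathlib
import Groth.Prelude.Def_CAlg
import Groth.Agent.Lib.Helper29.DepthRees

/-!
Helper lemmas (helper34): a Noetherian normal local domain of dimension `≥ 2` has depth `≥ 2`.
-/

set_option autoImplicit false
universe u v

namespace Groth.Agent.H34

open RingTheory.Sequence IsLocalRing
open scoped Pointwise

/-- In a Noetherian local domain, if `𝔪 = (aA : c)` with `c ∉ aA`, `a ≠ 0` and the ring is integrally
closed, then `𝔪` is principal. -/
theorem maximalIdeal_principal_of_colon (A : Type u) [CommRing A] [IsDomain A] [IsNoetherianRing A]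
    [IsLocalRing A] [IsIntegrallyClosed A] (a c : A) (ha : a ≠ 0) (ham : a ∈ maximalIdeal A)
    (hc : ¬ a ∣ c) (hcolon : ∀ r ∈ maximalIdeal A, a ∣ r * c) :
    ∃ t : A, maximalIdeal A = Ideal.span {t} := by
  by_cases hcase : ∃ t ∈ maximalIdeal A, ∃ u : A, IsUnit u ∧ t * c = a * u
  · obtain ⟨t, ht, u, hu, htc⟩ := hcase
    refine ⟨t, le_antisymm ?_ ?_⟩
    · intro m hm
      obtain ⟨d, hd⟩ := hcolon m hm
      obtain ⟨u', rfl⟩ := hu
      rw [Ideal.mem_span_singleton]
      refine ⟨↑u'⁻¹ * d, ?_⟩
      have hc0 : c ≠ 0 := by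
        rintro rfl
        exact hc (dvd_zero a)
      apply mul_right_cancel₀ hc0
      have h1 : a = t * c * ↑u'⁻¹ := by
        rw [htc, mul_assoc, Units.mul_inv, mul_one]
      calc m * c = a * d := hd
        _ = t * c * ↑u'⁻¹ * d := by rw [← h1]
        _ = t * (↑u'⁻¹ * d) * c := by ring
    · rw [Ideal.span_le]
      intro x hx
      rw [Set.mem_singleton_iff] at hx
      rw [hx]
      exact ht
  · exfalso
    push Not at hcase
    -- `𝔪 (c/a) ⊆ 𝔪`
    have hstable : ∀ t ∈ maximalIdeal A, ∃ m' ∈ maximalIdeal A, t * c = a * m' := by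
      intro t ht
      obtain ⟨d, hd⟩ := hcolon t ht
      refine ⟨d, ?_, hd⟩
      by_contra hdm
      have hdu : IsUnit d := by
        by_contra hnu
        exact hdm ((IsLocalRing.mem_maximalIdeal d).mpr hnu)
      exact hcase t ht d hdu hd
    let K := FractionRing A
    let ι : A →ₗ[A] K := Algebra.linearMap A K
    have hιinj : Function.Injective (algebraMap A K) := IsFractionRing.injective A K
    have ha' : algebraMap A K a ≠ 0 := fun h0 => ha (hιinj (by rw [h0, map_zero]))
    let N : Submodule A K := Submodule.map ι (maximalIdeal A)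
    have hN : N ≠ ⊥ := by
      intro h0
      have : ι a ∈ N := ⟨a, ham, rfl⟩
      rw [h0, Submodule.mem_bot] at this
      exact ha' this
    have hNfg : N.FG := Submodule.FG.map ι (IsNoetherian.noetherian _)
    have hint : IsIntegral A (algebraMap A K c / algebraMap A K a) := by
      apply isIntegral_of_smul_mem_submodule N hN hNfg
      rintro n ⟨t, ht, rfl⟩
      obtain ⟨m', hm', hm⟩ := hstable t ht
      refine ⟨m', hm', ?_⟩
      change algebraMap A K m' = (algebraMap A K c / algebraMap A K a) * algebraMap A K t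
      rw [div_mul_eq_mul_div, eq_div_iff ha', ← map_mul, ← map_mul, mul_comm m' a, ← hm, mul_comm]
    obtain ⟨d, hd⟩ := IsIntegrallyClosed.isIntegral_iff.mp hint
    apply hc
    refine ⟨d, ?_⟩
    apply hιinj
    rw [map_mul, hd, mul_div_cancel₀ _ ha']

/-- A Noetherian normal local domain of dimension at least two has depth at least two. -/
theorem two_le_depth_of_isIntegrallyClosed (A : Type u) [CommRing A] [IsDomain A]
    [IsNoetherianRing A] [IsLocalRing A] [IsIntegrallyClosed A]
    (hdim : (2 : WithBot ℕ∞) ≤ ringKrullDim A) : 2 ≤ LocCoh.depth A A := by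
  -- a nonzero element of the maximal ideal
  have hm0 : maximalIdeal A ≠ ⊥ := by
    intro h0
    have hf : IsField A := IsLocalRing.isField_iff_maximalIdeal_eq.mpr h0
    have := ringKrullDim_eq_zero_of_isField hf
    rw [this] at hdim
    exact absurd hdim (by decide)
  obtain ⟨a, ham, ha0⟩ := Submodule.exists_mem_ne_zero_of_ne_bot hm0
  have hareg : IsSMulRegular A a := IsSMulRegular.of_ne_zero ha0
  have hd1 := Groth.Agent.Lib.Helper29.depth_quotSMulTop_add_one A A ham hareg
  by_contra hcon
  -- then `depth (A/aA) = 0`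
  have h0 : LocCoh.depth A (QuotSMulTop a A) = 0 := by
    by_contra hne
    apply hcon
    have : 1 ≤ LocCoh.depth A (QuotSMulTop a A) := Order.one_le_iff_pos.mpr (pos_iff_ne_zero.mpr hne)
    calc (2 : ℕ∞) = 1 + 1 := by norm_num
      _ ≤ LocCoh.depth A (QuotSMulTop a A) + 1 := by gcongr
      _ = LocCoh.depth A A := hd1
  rw [Groth.Agent.Lib.Helper29.depth_eq_zero_iff, AssociatedPrimes.mem_iff,
    isAssociatedPrime_iff] at h0
  obtain ⟨-, cbar, hcbar⟩ := h0
  obtain ⟨c, rfl⟩ := Submodule.Quotient.mk_surjective _ cbar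
  have hmem : ∀ r : A, r ∈ maximalIdeal A ↔ a ∣ r * c := by
    intro r
    rw [hcbar, Submodule.mem_colon_singleton, Submodule.mem_bot, ← Submodule.Quotient.mk_smul,
      Submodule.Quotient.mk_eq_zero, Submodule.mem_smul_pointwise_iff_exists]
    constructor
    · rintro ⟨d, -, hd⟩
      exact ⟨d, hd.symm⟩
    · rintro ⟨d, hd⟩
      exact ⟨d, trivial, by rw [smul_eq_mul, smul_eq_mul, ← hd]⟩
  have hc : ¬ a ∣ c := by
    intro h
    have : (1 : A) ∈ maximalIdeal A := (hmem 1).mpr (by rwa [one_mul])
    exact (maximalIdeal.isMaximal A).ne_top ((Ideal.eq_top_iff_one _).mpr this)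
  obtain ⟨t, ht⟩ := maximalIdeal_principal_of_colon A a c ha0 ham hc (fun r hr => (hmem r).mp hr)
  have htnu : ¬ IsUnit t := by
    have : t ∈ maximalIdeal A := ht ▸ Ideal.mem_span_singleton_self t
    exact (IsLocalRing.mem_maximalIdeal t).mp this
  have h1 := Ideal.height_span_singleton_le_one htnu
  rw [← ht] at h1
  have h2 : ringKrullDim A ≤ 1 := by
    rw [← IsLocalRing.maximalIdeal_height_eq_ringKrullDim]
    exact_mod_cast h1
  have := hdim.trans h2
  exact absurd this (by decide)

end Groth.Agent.H34
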