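import Mathlib
import Groth.Agent.H34.NormalDepth

/-!
# Noetherian normal local domains of dimension two (helper34)

* `Mid q`: `q` is a nonzero nonmaximal prime (= height one prime); its local ring is a DVR (`Mid.isDVR`),
  with order function `ord q`.
* `dvd_of_forall_ass`, `isRadical_of_forall_ass`: divisibility by `f` / radicality of `(f)` can be
  tested at the associated primes of `A/(f)`; these are height one primes (`mid_of_mem_ass`).
* `main`: for finitely many height one primes there is `f ≠ 0` in all of them with `(f)` radical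
  (Stacks, More on Algebra, "Eliminating ramification").
* `main2`: for `a ≠ 0` there is `c ≠ 0` with `(c)` radical and `a ∣ c ^ n`.
-/

set_option autoImplicit false
set_option linter.unusedSectionVars false
set_option linter.style.haveILetI false
universe u

namespace Groth.Agent.H34.NormalDimTwo

section Part1


open IsLocalRing

variable {A : Type u} [CommRing A] [IsDomain A] [IsNoetherianRing A] [IsLocalRing A]

/-- a nonzero nonmaximal prime -/
def Mid (q : Ideal A) : Prop := q.IsPrime ∧ q ≠ ⊥ ∧ q ≠ maximalIdeal A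

theorem height_max (hdim : ringKrullDim A = 2) : (maximalIdeal A).height = 2 := by
  have h := IsLocalRing.maximalIdeal_height_eq_ringKrullDim (R := A)
  rw [hdim] at h
  have h' : ((maximalIdeal A).height : WithBot ℕ∞) = ((2 : ℕ∞) : WithBot ℕ∞) := h
  exact WithBot.coe_injective h'

theorem Mid.height_eq_one (hdim : ringKrullDim A = 2) {q : Ideal A} (hq : Mid q) :
    q.height = 1 := by
  have := hq.1
  apply le_antisymm
  · have hlt : q < maximalIdeal A :=
      lt_of_le_of_ne (IsLocalRing.le_maximalIdeal hq.1.ne_top) hq.2.2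
    have := Ideal.height_strict_mono_of_isPrime_of_isPrime hlt
    rw [height_max hdim] at this
    have h2 : (2 : ℕ∞) = 1 + 1 := by norm_num
    rw [h2, ENat.lt_add_one_iff (by simp)] at this
    exact this
  · have hlt : (⊥ : Ideal A) < q := bot_lt_iff_ne_bot.mpr hq.2.1
    have : (⊥ : Ideal A).IsPrime := Ideal.isPrime_bot
    have := Ideal.height_strict_mono_of_isPrime_of_isPrime hlt
    rw [Ideal.height_bot] at this
    exact Order.one_le_iff_pos.mpr this

theorem mid_of_height_eq_one (hdim : ringKrullDim A = 2) {p : Ideal A} (hp : p.IsPrime)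
    (h : p.height = 1) : Mid p := by
  refine ⟨hp, ?_, ?_⟩
  · rintro rfl
    rw [Ideal.height_bot] at h
    exact zero_ne_one h
  · rintro rfl
    rw [height_max hdim] at h
    norm_num at h

theorem Mid.eq_of_le (hdim : ringKrullDim A = 2) {q P : Ideal A} (hq : Mid q) (hP : P.IsPrime)
    (hle : P ≤ q) (hP0 : P ≠ ⊥) : P = q := by
  by_contra hne
  have := hq.1
  have hlt : P < q := lt_of_le_of_ne hle hne
  have h1 := Ideal.height_strict_mono_of_isPrime_of_isPrime hlt
  rw [hq.height_eq_one hdim] at h1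
  have hlt0 : (⊥ : Ideal A) < P := bot_lt_iff_ne_bot.mpr hP0
  have : (⊥ : Ideal A).IsPrime := Ideal.isPrime_bot
  have h2 := Ideal.height_strict_mono_of_isPrime_of_isPrime hlt0
  rw [Ideal.height_bot] at h2
  have : P.height = 0 := by
    exact Order.lt_one_iff.mp h1
  rw [this] at h2
  exact lt_irrefl _ h2

theorem Mid.eq_max_of_lt (hdim : ringKrullDim A = 2) {q P : Ideal A} (hq : Mid q) (hP : P.IsPrime)
    (hlt : q < P) : P = maximalIdeal A := by
  by_contra hne
  have := hq.1
  have hlt' : P < maximalIdeal A := lt_of_le_of_ne (IsLocalRing.le_maximalIdeal hP.ne_top) hne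
  have h1 := Ideal.height_strict_mono_of_isPrime_of_isPrime hlt'
  rw [height_max hdim] at h1
  have h2 := Ideal.height_strict_mono_of_isPrime_of_isPrime hlt
  rw [hq.height_eq_one hdim] at h2
  have h3 : (2 : ℕ∞) = 1 + 1 := by norm_num
  rw [h3, ENat.lt_add_one_iff (by simp)] at h1
  exact absurd (lt_of_lt_of_le h2 h1) (lt_irrefl _)



end Part1

section Part2


open IsLocalRing

variable {A : Type u} [CommRing A] [IsDomain A] [IsNoetherianRing A] [IsLocalRing A]
  [IsIntegrallyClosed A]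

theorem Mid.isDVR (hdim : ringKrullDim A = 2) (q : Ideal A) [hqp : q.IsPrime] (hq : Mid q) :
    IsDiscreteValuationRing (Localization.AtPrime q) := by
  have hIC : IsIntegrallyClosed (Localization.AtPrime q) :=
    isIntegrallyClosed_of_isLocalization (R := A) (S := Localization.AtPrime q) q.primeCompl
      q.primeCompl_le_nonZeroDivisors
  have hmax : maximalIdeal (Localization.AtPrime q) ≠ ⊥ := by
    intro h0
    apply hq.2.1
    rw [eq_bot_iff]
    intro a ha
    have h1 : algebraMap A (Localization.AtPrime q) a ∈ maximalIdeal (Localization.AtPrime q) :=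
      (IsLocalization.AtPrime.to_map_mem_maximal_iff (Localization.AtPrime q) q a).mpr ha
    rw [h0, Ideal.mem_bot] at h1
    have hinj : Function.Injective (algebraMap A (Localization.AtPrime q)) :=
      IsLocalization.injective _ q.primeCompl_le_nonZeroDivisors
    rw [Ideal.mem_bot]
    exact hinj (by rw [h1, map_zero])
  have hnf : ¬ IsField (Localization.AtPrime q) := by
    intro hf
    exact hmax (IsLocalRing.isField_iff_maximalIdeal_eq.mp hf)
  have h30 := (IsDiscreteValuationRing.TFAE (Localization.AtPrime q) hnf).out 3 0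
  apply h30.mp
  refine ⟨hIC, ?_⟩
  refine ⟨maximalIdeal _, ⟨hmax, inferInstance⟩, ?_⟩
  rintro P ⟨hP0, hPprime⟩
  -- comap of P
  have hcomap : P.under A = q := by
    apply hq.eq_of_le hdim (Ideal.comap_isPrime _ _)
    · intro a ha
      by_contra haq
      have hu : IsUnit (algebraMap A (Localization.AtPrime q) a) :=
        IsLocalization.map_units (Localization.AtPrime q) (⟨a, haq⟩ : q.primeCompl)
      exact hPprime.ne_top (Ideal.eq_top_of_isUnit_mem _ ha hu)
    · intro h0
      apply hP0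
      have h0' : P.under A = ⊥ := h0
      rw [← IsLocalization.map_under q.primeCompl (Localization.AtPrime q) P, h0', Ideal.map_bot]
  rw [← IsLocalization.map_under q.primeCompl (Localization.AtPrime q) P, hcomap,
    Localization.AtPrime.map_eq_maximalIdeal]



end Part2

section Part3


open IsLocalRing IsDiscreteValuationRing

variable {A : Type u} [CommRing A] [IsDomain A]

/-- the order of vanishing of `x` along a prime `q` whose local ring is a DVR -/
noncomputable def ord (q : Ideal A) [q.IsPrime] [IsDiscreteValuationRing (Localization.AtPrime q)]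
    (x : A) : ℕ∞ :=
  addVal (Localization.AtPrime q) (algebraMap A (Localization.AtPrime q) x)

variable (q : Ideal A) [q.IsPrime] [IsDiscreteValuationRing (Localization.AtPrime q)]

theorem algebraMap_injective : Function.Injective (algebraMap A (Localization.AtPrime q)) :=
  IsLocalization.injective _ q.primeCompl_le_nonZeroDivisors

theorem ord_eq_top_iff {x : A} : ord q x = ⊤ ↔ x = 0 := by
  rw [ord, addVal_eq_top_iff]
  constructor
  · intro h
    exact algebraMap_injective q (by rw [h, map_zero])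
  · rintro rfl
    exact map_zero _

theorem ord_mul (x y : A) : ord q (x * y) = ord q x + ord q y := by
  rw [ord, map_mul, addVal_mul]; rfl

theorem ord_pow (x : A) (n : ℕ) : ord q (x ^ n) = n • ord q x := by
  rw [ord, map_pow, addVal_pow]; rfl

theorem ord_add_ge (x y : A) : min (ord q x) (ord q y) ≤ ord q (x + y) := by
  rw [ord, ord, ord, map_add]
  exact addVal_add

theorem ord_add_eq_of_lt {x y : A} (h : ord q x < ord q y) : ord q (x + y) = ord q x := by
  rw [ord, map_add]
  exact AddValuation.map_add_eq_of_lt_left _ h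

theorem ord_eq_zero_iff {x : A} : ord q x = 0 ↔ x ∉ q := by
  rw [ord, addVal_eq_zero_iff, IsLocalization.AtPrime.isUnit_to_map_iff (Localization.AtPrime q) q]
  rfl

theorem one_le_ord_iff {x : A} : 1 ≤ ord q x ↔ x ∈ q := by
  rw [Order.one_le_iff_pos, pos_iff_ne_zero, Ne, ord_eq_zero_iff, not_not]

theorem exists_ord_eq_one : ∃ π ∈ q, ord q π = 1 := by
  obtain ⟨ϖ, hϖ⟩ := exists_irreducible (Localization.AtPrime q)
  obtain ⟨⟨a, s⟩, rfl⟩ := IsLocalization.mk'_surjective q.primeCompl ϖ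
  have h1 : addVal (Localization.AtPrime q) (IsLocalization.mk' (Localization.AtPrime q) a s) = 1 :=
    addVal_uniformizer hϖ
  have h2 : algebraMap A (Localization.AtPrime q) a =
      IsLocalization.mk' (Localization.AtPrime q) a s * algebraMap A (Localization.AtPrime q) s := by
    rw [IsLocalization.mk'_spec]
  have h3 : ord q a = 1 := by
    rw [ord, h2, addVal_mul, h1]
    have : addVal (Localization.AtPrime q) (algebraMap A (Localization.AtPrime q) (s : A)) = 0 := by
      rw [addVal_eq_zero_iff]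
      exact IsLocalization.map_units _ s
    rw [this, add_zero]
  refine ⟨a, ?_, h3⟩
  rw [← one_le_ord_iff, h3]

theorem ord_le_iff {f g : A} : ord q f ≤ ord q g ↔ ∃ s, s ∉ q ∧ f ∣ s * g := by
  rw [ord, ord, addVal_le_iff_dvd]
  constructor
  · rintro ⟨c, hc⟩
    obtain ⟨⟨a, s⟩, rfl⟩ := IsLocalization.mk'_surjective q.primeCompl c
    refine ⟨s, s.2, a, ?_⟩
    apply algebraMap_injective q
    rw [map_mul, map_mul, hc, mul_comm ((algebraMap A (Localization.AtPrime q)) s), mul_assoc,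
      IsLocalization.mk'_spec]
  · rintro ⟨s, hs, c, hc⟩
    have hu : IsUnit (algebraMap A (Localization.AtPrime q) s) :=
      IsLocalization.map_units (Localization.AtPrime q) (⟨s, hs⟩ : q.primeCompl)
    have := congrArg (algebraMap A (Localization.AtPrime q)) hc
    rw [map_mul, map_mul] at this
    rw [← hu.dvd_mul_left]
    exact ⟨_, this⟩



end Part3

section Part4


open IsLocalRing IsDiscreteValuationRing

variable {A : Type u} [CommRing A] [IsDomain A] [IsNoetherianRing A] [IsLocalRing A]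

theorem not_max_le_radical_span_singleton (hdim : ringKrullDim A = 2) (t : A)
    (ht : t ∈ maximalIdeal A) (h : maximalIdeal A ≤ (Ideal.span {t}).radical) : False := by
  have hm : maximalIdeal A ∈ (Ideal.span {t}).minimalPrimes := by
    refine ⟨⟨inferInstance, ?_⟩, ?_⟩
    · rw [Ideal.span_le]
      intro x hx
      rw [Set.mem_singleton_iff] at hx
      rw [hx]; exact ht
    · rintro P ⟨hP, hPle⟩ _
      exact le_trans h (hP.radical_le_iff.mpr hPle)
  have := Ideal.height_le_one_of_isPrincipal_of_mem_minimalPrimes (Ideal.span {t}) _ hm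
  rw [height_max hdim] at this
  norm_num at this

/-- membership in an associated prime of `A/(f)` given by the annihilator of the class of `c`. -/
theorem mem_colon_mk_iff (f c r : A) :
    r ∈ (⊥ : Submodule A (A ⧸ Ideal.span {f})).colon {Ideal.Quotient.mk (Ideal.span {f}) c} ↔
      f ∣ r * c := by
  rw [Submodule.mem_colon_singleton, Submodule.mem_bot, ← Ideal.Quotient.mk_eq_mk,
    ← Submodule.Quotient.mk_smul, Ideal.Quotient.mk_eq_mk, Ideal.Quotient.eq_zero_iff_mem,
    Ideal.mem_span_singleton, smul_eq_mul]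

theorem exists_of_mem_ass {f : A} {q : Ideal A}
    (hq : q ∈ associatedPrimes A (A ⧸ Ideal.span {f})) :
    q.IsPrime ∧ ∃ c : A, ∀ r, r ∈ q ↔ f ∣ r * c := by
  obtain ⟨hqp, x, hx⟩ := (isAssociatedPrime_iff).mp hq
  obtain ⟨c, rfl⟩ := Ideal.Quotient.mk_surjective x
  refine ⟨hqp, c, fun r => ?_⟩
  rw [hx, mem_colon_mk_iff]

theorem mid_of_mem_ass [IsIntegrallyClosed A] (hdim : ringKrullDim A = 2) {f : A} (hf : f ≠ 0)
    {q : Ideal A} (hq : q ∈ associatedPrimes A (A ⧸ Ideal.span {f})) : Mid q ∧ f ∈ q := by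
  obtain ⟨hqp, c, hc⟩ := exists_of_mem_ass hq
  have hfq : f ∈ q := (hc f).mpr ⟨c, rfl⟩
  refine ⟨⟨hqp, ?_, ?_⟩, hfq⟩
  · rintro rfl
    exact hf hfq
  · rintro rfl
    have hnc : ¬ f ∣ c := by
      intro h
      have : (1 : A) ∈ maximalIdeal A := (hc 1).mpr (by rwa [one_mul])
      exact (Ideal.ne_top_iff_one _).mp hqp.ne_top this
    obtain ⟨t, ht⟩ := Groth.Agent.H34.maximalIdeal_principal_of_colon A f c hf hfq hnc
      (fun r hr => (hc r).mp hr)
    have htm : t ∈ maximalIdeal A := by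
      rw [ht]; exact Ideal.mem_span_singleton_self t
    apply not_max_le_radical_span_singleton hdim t htm
    rw [← ht]
    exact Ideal.le_radical

/-- divisibility can be tested at the associated primes. -/
theorem dvd_of_forall_ass {f g : A}
    (h : ∀ q ∈ associatedPrimes A (A ⧸ Ideal.span {f}), ∃ s, s ∉ q ∧ f ∣ s * g) : f ∣ g := by
  by_contra hng
  have hx : Ideal.Quotient.mk (Ideal.span {f}) g ≠ 0 := by
    rw [Ne, Ideal.Quotient.eq_zero_iff_mem, Ideal.mem_span_singleton]
    exact hng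
  obtain ⟨P, hP, hle⟩ := exists_le_isAssociatedPrime_of_isNoetherianRing (R := A) _ hx
  obtain ⟨s, hs, hdvd⟩ := h P hP
  apply hs
  apply hle
  rw [mem_colon_mk_iff]
  exact hdvd

theorem mem_ass_of_mid (hdim : ringKrullDim A = 2) {f : A} (hf : f ≠ 0) {P : Ideal A}
    (hP : Mid P) (hfP : f ∈ P) : P ∈ associatedPrimes A (A ⧸ Ideal.span {f}) := by
  apply Module.associatedPrimes.minimalPrimes_annihilator_subset_associatedPrimes A
  rw [Ideal.annihilator_quotient]
  refine ⟨⟨hP.1, ?_⟩, ?_⟩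
  · rw [Ideal.span_le]
    intro x hx
    rw [Set.mem_singleton_iff] at hx
    rw [hx]; exact hfP
  · rintro P' ⟨hP', hle⟩ hP'P
    have hP'0 : P' ≠ ⊥ := by
      rintro rfl
      apply hf
      have : f ∈ (⊥ : Ideal A) := hle (Ideal.mem_span_singleton_self f)
      simpa using this
    rw [hP.eq_of_le hdim hP' hP'P hP'0]

theorem isRadical_of_forall_ass {f : A}
    (h : ∀ q ∈ associatedPrimes A (A ⧸ Ideal.span {f}), ∀ a ∈ q, ∃ s, s ∉ q ∧ f ∣ s * a) :
    (Ideal.span {f}).IsRadical := by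
  intro a ha
  obtain ⟨n, hn⟩ := ha
  rw [Ideal.mem_span_singleton] at hn ⊢
  apply dvd_of_forall_ass
  intro q hq
  have hqp : q.IsPrime := hq.isPrime
  have hfq : f ∈ q := by
    have := IsAssociatedPrime.annihilator_le hq
    rw [Submodule.annihilator_top, Ideal.annihilator_quotient] at this
    exact this (Ideal.mem_span_singleton_self f)
  have haq : a ∈ q := by
    apply hqp.mem_of_pow_mem n
    obtain ⟨c, hc⟩ := hn
    rw [hc]
    exact Ideal.mul_mem_right _ _ hfq
  exact h q hq a haq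



end Part4

section Part5


open IsLocalRing IsDiscreteValuationRing

variable {A : Type u} [CommRing A] [IsDomain A] [IsNoetherianRing A] [IsLocalRing A]
  [IsIntegrallyClosed A]

/-- local data at a prime `q ≠ q₁`. -/
theorem exists_local_data (hdim : ringKrullDim A = 2) {f : A} (hf : f ≠ 0) {q q₁ : Ideal A}
    (hq : Mid q) (hq₁ : Mid q₁) (hne : q ≠ q₁) :
    ∃ (e : A) (n : ℕ), e ∈ q ∧ e ∉ q₁ ∧ 0 < n ∧
      ∀ t : A, ∃ s, s ∉ q ∧ (f + e ^ n * t) ∣ s * f := by
  have hnle : ¬ q ≤ q₁ := fun hle => hne (hq₁.eq_of_le hdim hq.1 hle hq.2.1)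
  obtain ⟨e, heq, heq₁⟩ := SetLike.not_le_iff_exists.mp hnle
  haveI := hq.1
  haveI := hq.isDVR hdim q
  have hfin : ord q f ≠ ⊤ := fun h => hf ((ord_eq_top_iff q).mp h)
  obtain ⟨k, hk⟩ := ENat.ne_top_iff_exists.mp hfin
  refine ⟨e, k + 1, heq, heq₁, Nat.succ_pos k, fun t => ?_⟩
  have h1 : ord q f < ord q (e ^ (k + 1) * t) := by
    rw [ord_mul, ord_pow, ← hk]
    have he1 : 1 ≤ ord q e := (one_le_ord_iff q).mpr heq
    calc (k : ℕ∞) < ((k + 1 : ℕ) : ℕ∞) := by exact_mod_cast Nat.lt_succ_self k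
      _ = (k + 1) • (1 : ℕ∞) := by simp
      _ ≤ (k + 1) • ord q e := nsmul_le_nsmul_right he1 _
      _ ≤ (k + 1) • ord q e + ord q t := le_self_add
  have h2 : ord q (f + e ^ (k + 1) * t) = ord q f := ord_add_eq_of_lt q h1
  exact (ord_le_iff q).mp (le_of_eq h2)



end Part5

section Part6


open IsLocalRing IsDiscreteValuationRing

variable {A : Type u} [CommRing A] [IsDomain A] [IsNoetherianRing A] [IsLocalRing A]
  [IsIntegrallyClosed A]

/-- the perturbation lemma. -/
theorem exists_perturbation (hdim : ringKrullDim A = 2) {f h : A} (hf : f ≠ 0)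
    (hh : ∀ q ∈ associatedPrimes A (A ⧸ Ideal.span {f}), h ∉ q)
    {q₁ : Ideal A} (hq₁ : q₁ ∈ associatedPrimes A (A ⧸ Ideal.span {f}))
    (hbad : ∃ a ∈ q₁, ∀ s, s ∉ q₁ → ¬ f ∣ s * a) :
    ∃ π : A, (∀ q ∈ associatedPrimes A (A ⧸ Ideal.span {f}), π ∈ q) ∧
      (∀ q ∈ associatedPrimes A (A ⧸ Ideal.span {f}), ∃ s, s ∉ q ∧ (f + h * π) ∣ s * f) ∧
      (∀ b, f = (f + h * π) * b → ¬ IsUnit b) := by
  classical
  have hmid₁ : Mid q₁ := (mid_of_mem_ass hdim hf hq₁).1
  have hfq₁ : f ∈ q₁ := (mid_of_mem_ass hdim hf hq₁).2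
  haveI := hmid₁.1
  haveI := hmid₁.isDVR hdim q₁
  -- ord f ≥ 2
  have hord2 : 2 ≤ ord q₁ f := by
    obtain ⟨a, haq, ha⟩ := hbad
    have h1 : ¬ ord q₁ f ≤ ord q₁ a := by
      rw [ord_le_iff]
      rintro ⟨s, hs, hd⟩
      exact ha s hs hd
    have h2 : 1 ≤ ord q₁ a := (one_le_ord_iff q₁).mpr haq
    have h3 : ord q₁ a < ord q₁ f := not_le.mp h1
    have h4 : 1 < ord q₁ f := lt_of_le_of_lt h2 h3
    have : (2 : ℕ∞) = 1 + 1 := by norm_num
    rw [this]
    exact Order.add_one_le_of_lt h4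
  -- local data
  have hdata : ∀ q : Ideal A, ∃ (e : A) (n : ℕ),
      q ∈ associatedPrimes A (A ⧸ Ideal.span {f}) → q ≠ q₁ →
        (e ∈ q ∧ e ∉ q₁ ∧ 0 < n ∧ ∀ t : A, ∃ s, s ∉ q ∧ (f + e ^ n * t) ∣ s * f) := by
    intro q
    by_cases hq : q ∈ associatedPrimes A (A ⧸ Ideal.span {f}) ∧ q ≠ q₁
    · obtain ⟨e, n, hen⟩ := exists_local_data hdim hf (mid_of_mem_ass hdim hf hq.1).1 hmid₁ hq.2
      exact ⟨e, n, fun _ _ => hen⟩
    · exact ⟨1, 0, fun h1 h2 => absurd ⟨h1, h2⟩ hq⟩
  choose e n hen using hdata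
  obtain ⟨π₁, hπ₁q, hπ₁⟩ := exists_ord_eq_one q₁
  set Q : Finset (Ideal A) := (associatedPrimes.finite A (A ⧸ Ideal.span {f})).toFinset with hQ
  have hQmem : ∀ q, q ∈ Q ↔ q ∈ associatedPrimes A (A ⧸ Ideal.span {f}) := by
    intro q; rw [hQ, Set.Finite.mem_toFinset]
  set E : A := ∏ q ∈ Q.erase q₁, e q ^ n q with hE
  have hEq₁ : E ∉ q₁ := by
    rw [hE, Ideal.IsPrime.prod_mem_iff]
    rintro ⟨q, hq, hmem⟩
    rw [Finset.mem_erase] at hq
    have := hen q ((hQmem q).mp hq.2) hq.1
    exact this.2.1 (Ideal.IsPrime.mem_of_pow_mem inferInstance _ hmem)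
  refine ⟨π₁ * E, ?_, ?_, ?_⟩
  · intro q hq
    by_cases hqq : q = q₁
    · rw [hqq]; exact Ideal.mul_mem_right _ _ hπ₁q
    · have hmemQ : q ∈ Q.erase q₁ := Finset.mem_erase.mpr ⟨hqq, (hQmem q).mpr hq⟩
      have hd : e q ^ n q ∣ E := Finset.dvd_prod_of_mem (fun q => e q ^ n q) hmemQ
      obtain ⟨c, hc⟩ := hd
      have := hen q hq hqq
      rw [hc]
      apply Ideal.mul_mem_left
      apply Ideal.mul_mem_right
      exact Ideal.pow_mem_of_mem _ this.1 _ this.2.2.1
  · -- local divisibility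
    have hordhπ : ord q₁ (h * (π₁ * E)) = 1 := by
      rw [ord_mul, ord_mul, hπ₁, (ord_eq_zero_iff q₁).mpr (hh q₁ hq₁),
        (ord_eq_zero_iff q₁).mpr hEq₁]
      simp
    intro q hq
    by_cases hqq : q = q₁
    · rw [hqq, ← ord_le_iff]
      have hlt : ord q₁ (h * (π₁ * E)) < ord q₁ f := by
        rw [hordhπ]
        exact lt_of_lt_of_le (by norm_num) hord2
      rw [add_comm, ord_add_eq_of_lt q₁ hlt, hordhπ]
      exact le_trans (by norm_num) hord2
    · have hmemQ : q ∈ Q.erase q₁ := Finset.mem_erase.mpr ⟨hqq, (hQmem q).mpr hq⟩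
      have hprod := Finset.mul_prod_erase (Q.erase q₁) (fun q => e q ^ n q) hmemQ
      obtain ⟨s, hs, hd⟩ := (hen q hq hqq).2.2.2
        (h * π₁ * ∏ x ∈ (Q.erase q₁).erase q, e x ^ n x)
      refine ⟨s, hs, ?_⟩
      have : f + h * (π₁ * E) =
          f + e q ^ n q * (h * π₁ * ∏ x ∈ (Q.erase q₁).erase q, e x ^ n x) := by
        rw [hE, ← hprod]; ring
      rw [this]
      exact hd
  · intro b hb hbu
    have hordf' : ord q₁ (f + h * (π₁ * E)) = 1 := by
      have hordhπ : ord q₁ (h * (π₁ * E)) = 1 := by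
        rw [ord_mul, ord_mul, hπ₁, (ord_eq_zero_iff q₁).mpr (hh q₁ hq₁),
          (ord_eq_zero_iff q₁).mpr hEq₁]
        simp
      have hlt : ord q₁ (h * (π₁ * E)) < ord q₁ f := by
        rw [hordhπ]
        exact lt_of_lt_of_le (by norm_num) hord2
      rw [add_comm, ord_add_eq_of_lt q₁ hlt, hordhπ]
    have hb0 : ord q₁ b = 0 := by
      rw [ord_eq_zero_iff]
      intro hbq
      exact (inferInstance : q₁.IsPrime).ne_top (Ideal.eq_top_of_isUnit_mem _ hbq hbu)
    have : ord q₁ f = 1 := by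
      conv_lhs => rw [hb]
      rw [ord_mul, hordf', hb0, add_zero]
    rw [this] at hord2
    norm_num at hord2



end Part6

section Part7


open IsLocalRing

variable {A : Type u} [CommRing A] [IsNoetherianRing A] [IsLocalRing A]

theorem isArtinianRing_quotient (c : Ideal A) (hc : maximalIdeal A ≤ c.radical) :
    IsArtinianRing (A ⧸ c) := by
  haveI : Ring.KrullDimLE 0 (A ⧸ c) := by
    rw [Ring.krullDimLE_zero_iff]
    intro P hP
    have hsurj : Function.Surjective (Ideal.Quotient.mk c) := Ideal.Quotient.mk_surjective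
    have hcomap : (P.comap (Ideal.Quotient.mk c)).IsPrime := Ideal.comap_isPrime _ _
    have hle : c ≤ P.comap (Ideal.Quotient.mk c) := by
      intro x hx
      rw [Ideal.mem_comap, Ideal.Quotient.eq_zero_iff_mem.mpr hx]
      exact P.zero_mem
    have hmax : maximalIdeal A ≤ P.comap (Ideal.Quotient.mk c) :=
      le_trans hc (hcomap.radical_le_iff.mpr hle)
    have heq : P.comap (Ideal.Quotient.mk c) = maximalIdeal A :=
      (IsLocalRing.eq_maximalIdeal
        ((maximalIdeal.isMaximal A).eq_of_le hcomap.ne_top hmax ▸ maximalIdeal.isMaximal A))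
    have hmap : P = (maximalIdeal A).map (Ideal.Quotient.mk c) := by
      rw [← heq, Ideal.map_comap_of_surjective _ hsurj]
    rcases Ideal.map_eq_top_or_isMaximal_of_surjective _ hsurj (maximalIdeal.isMaximal A) with h | h
    · exfalso
      apply hP.ne_top
      rw [hmap, h]
    · rw [hmap]; exact h
  exact IsNoetherianRing.isArtinianRing_of_krullDimLE_zero

/-- minimal elements for ideals containing `c`. -/
theorem exists_minimal (c : Ideal A) (hc : maximalIdeal A ≤ c.radical) (F : Set A)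
    (hF : F.Nonempty) (μ : A → Ideal A) (hμ : ∀ f ∈ F, c ≤ μ f) :
    ∃ f ∈ F, ∀ f' ∈ F, μ f' ≤ μ f → μ f' = μ f := by
  haveI := isArtinianRing_quotient c hc
  have hwf : WellFounded ((· < ·) : Ideal (A ⧸ c) → Ideal (A ⧸ c) → Prop) := wellFounded_lt
  obtain ⟨f₀, hf₀⟩ := hF
  obtain ⟨J, ⟨f, hfF, rfl⟩, hmin⟩ := hwf.has_min
    ((fun f => (μ f).map (Ideal.Quotient.mk c)) '' F) ⟨_, ⟨f₀, hf₀, rfl⟩⟩
  refine ⟨f, hfF, fun f' hf' hle => ?_⟩
  have hsurj : Function.Surjective (Ideal.Quotient.mk c) := Ideal.Quotient.mk_surjective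
  have h1 : (μ f').map (Ideal.Quotient.mk c) ≤ (μ f).map (Ideal.Quotient.mk c) :=
    Ideal.map_mono hle
  have h2 : (μ f').map (Ideal.Quotient.mk c) = (μ f).map (Ideal.Quotient.mk c) :=
    eq_of_le_of_not_lt h1 (hmin _ ⟨f', hf', rfl⟩)
  have h3 := congrArg (Ideal.comap (Ideal.Quotient.mk c)) h2
  rw [Ideal.comap_map_of_surjective _ hsurj, Ideal.comap_map_of_surjective _ hsurj,
    ← RingHom.ker_eq_comap_bot, Ideal.mk_ker, sup_eq_left.mpr (hμ f' hf'),
    sup_eq_left.mpr (hμ f hfF)] at h3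
  exact h3

theorem le_of_le_sup_span (r r' : Ideal A) (h : A) (hh : h ∈ maximalIdeal A) (hle : r' ≤ r)
    (hreg : ∀ c, c * h ∈ r → c ∈ r) (hsup : r ≤ r' ⊔ Ideal.span {h}) : r ≤ r' := by
  apply Submodule.le_of_le_smul_of_le_jacobson_bot (I := Ideal.span {h})
    (IsNoetherian.noetherian r)
  · rw [IsLocalRing.jacobson_eq_maximalIdeal _ bot_ne_top, Ideal.span_le]
    intro x hx
    rw [Set.mem_singleton_iff] at hx
    rw [hx]; exact hh
  · intro a ha
    obtain ⟨b, hb, y, hy, rfl⟩ := Submodule.mem_sup.mp (hsup ha)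
    obtain ⟨d, rfl⟩ := Ideal.mem_span_singleton'.mp hy
    have hd : d * h ∈ r := by
      have := r.sub_mem ha (hle hb)
      rwa [add_sub_cancel_left] at this
    have hdr : d ∈ r := hreg d hd
    apply Submodule.add_mem_sup hb
    rw [mul_comm]
    exact Submodule.smul_mem_smul (Ideal.mem_span_singleton_self h) hdr



end Part7

section Part8


open IsLocalRing

variable {A : Type u} [CommRing A] [IsDomain A] [IsNoetherianRing A] [IsLocalRing A]
  [IsIntegrallyClosed A]

theorem minimalPrimes_subset_ass (f : A) :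
    (Ideal.span {f}).minimalPrimes ⊆ associatedPrimes A (A ⧸ Ideal.span {f}) := by
  have := Module.associatedPrimes.minimalPrimes_annihilator_subset_associatedPrimes A
    (A ⧸ Ideal.span {f})
  rwa [Ideal.annihilator_quotient] at this

theorem main (hdim : ringKrullDim A = 2) (s : Finset (Ideal A))
    (hs : ∀ p ∈ s, p.IsPrime ∧ p.height = 1) :
    ∃ f : A, f ≠ 0 ∧ (∀ p ∈ s, f ∈ p) ∧ (Ideal.span {f}).IsRadical := by
  classical
  have hmid : ∀ p ∈ s, Mid p := fun p hp => mid_of_height_eq_one hdim (hs p hp).1 (hs p hp).2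
  -- the starting element
  have hex : ∀ p : Ideal A, ∃ a : A, p ∈ s → (a ∈ p ∧ a ≠ 0) := by
    intro p
    by_cases hp : p ∈ s
    · obtain ⟨a, ha, ha0⟩ := Submodule.exists_mem_ne_zero_of_ne_bot (hmid p hp).2.1
      exact ⟨a, fun _ => ⟨ha, ha0⟩⟩
    · exact ⟨0, fun h => absurd h hp⟩
  choose a ha using hex
  set f₀ : A := ∏ p ∈ s, a p with hf₀def
  have hf₀ : f₀ ≠ 0 := Finset.prod_ne_zero_iff.mpr (fun p hp => (ha p hp).2)
  have hf₀mem : ∀ p ∈ s, f₀ ∈ p := by
    intro p hp
    obtain ⟨c, hc⟩ := Finset.dvd_prod_of_mem a hp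
    rw [hf₀def, hc]
    exact Ideal.mul_mem_right _ _ (ha p hp).1
  -- the parameter `h`
  obtain ⟨h, hhm, hh₀⟩ : ∃ h ∈ maximalIdeal A,
      ∀ q ∈ associatedPrimes A (A ⧸ Ideal.span {f₀}), h ∉ q := by
    by_contra hcon
    push Not at hcon
    set Q₀ : Finset (Ideal A) :=
      (associatedPrimes.finite A (A ⧸ Ideal.span {f₀})).toFinset with hQ₀
    have hsub : ((maximalIdeal A : Ideal A) : Set A) ⊆ ⋃ q ∈ (↑Q₀ : Set (Ideal A)), (id q : Ideal A) := by
      intro x hx
      obtain ⟨q, hq, hxq⟩ := hcon x hx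
      refine Set.mem_iUnion₂.mpr ⟨q, ?_, hxq⟩
      rw [hQ₀]; simpa using hq
    obtain ⟨q, hq, hle⟩ := (Ideal.subset_union_prime (f := id) ⊥ ⊥ (fun q hq _ _ => by
      rw [hQ₀, Set.Finite.mem_toFinset] at hq
      exact hq.isPrime)).mp hsub
    rw [hQ₀, Set.Finite.mem_toFinset] at hq
    have hqmid := (mid_of_mem_ass hdim hf₀ hq).1
    exact hqmid.2.2 ((maximalIdeal.isMaximal A).eq_of_le hqmid.1.ne_top hle).symm
  set c : Ideal A := Ideal.span {f₀, h} with hcdef
  have hc : maximalIdeal A ≤ c.radical := by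
    rw [Ideal.radical_eq_sInf]
    refine le_sInf ?_
    rintro P ⟨hcP, hP⟩
    have hf₀P : f₀ ∈ P := hcP (Ideal.subset_span (by simp))
    have hhP : h ∈ P := hcP (Ideal.subset_span (by simp))
    by_contra hnle
    have hPne : P ≠ maximalIdeal A := fun h => hnle (le_of_eq h.symm)
    have hP0 : P ≠ ⊥ := by
      rintro rfl
      exact hf₀ (by simpa using hf₀P)
    exact hh₀ P (mem_ass_of_mid hdim hf₀ ⟨hP, hP0, hPne⟩ hf₀P) hhP
  -- the family
  set F : Set A := {f | (∀ p ∈ s, f ∈ p) ∧ Ideal.span {f, h} = c} with hFdef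
  have hf₀F : f₀ ∈ F := ⟨hf₀mem, rfl⟩
  have hK1 : ∀ g ∈ F, ¬ h ∣ g := by
    rintro g ⟨_, hg⟩ hdvd
    apply not_max_le_radical_span_singleton hdim h hhm
    have : c ≤ Ideal.span {h} := by
      rw [← hg, Ideal.span_le]
      intro x hx
      rcases hx with rfl | rfl
      · exact Ideal.mem_span_singleton.mpr hdvd
      · exact Ideal.mem_span_singleton_self _
    exact le_trans hc (Ideal.radical_mono this)
  have hK1' : ∀ g ∈ F, g ≠ 0 := by
    rintro g hg rfl
    exact hK1 0 hg (dvd_zero h)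
  have hK2 : ∀ g ∈ F, ∀ q ∈ associatedPrimes A (A ⧸ Ideal.span {g}), h ∉ q := by
    intro g hg q hq hhq
    obtain ⟨hqmid, hgq⟩ := mid_of_mem_ass hdim (hK1' g hg) hq
    have hcq : c ≤ q := by
      rw [← hg.2, Ideal.span_le]
      intro x hx
      rcases hx with rfl | rfl
      · exact hgq
      · exact hhq
    have : maximalIdeal A ≤ q := le_trans hc (hqmid.1.radical_le_iff.mpr hcq)
    exact hqmid.2.2 ((maximalIdeal.isMaximal A).eq_of_le hqmid.1.ne_top this).symm
  set μ : A → Ideal A := fun f => (Ideal.span {f}).radical ⊔ Ideal.span {h} with hμdef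
  have hμ : ∀ f ∈ F, c ≤ μ f := by
    rintro f ⟨_, hf⟩
    rw [← hf, Ideal.span_insert]
    exact sup_le_sup_right Ideal.le_radical _
  obtain ⟨f, hfF, hmin⟩ := exists_minimal c hc F ⟨f₀, hf₀F⟩ μ hμ
  have hf : f ≠ 0 := hK1' f hfF
  refine ⟨f, hf, hfF.1, ?_⟩
  by_contra hnr
  have hbad : ∃ q₁ ∈ associatedPrimes A (A ⧸ Ideal.span {f}), ∃ a ∈ q₁, ∀ s, s ∉ q₁ → ¬ f ∣ s * a := by
    by_contra hcon
    push Not at hcon
    exact hnr (isRadical_of_forall_ass hcon)
  obtain ⟨q₁, hq₁, hbad'⟩ := hbad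
  obtain ⟨π, hπ1, hπ2, hπ3⟩ := exists_perturbation hdim hf (hK2 f hfF) hq₁ hbad'
  set f' : A := f + h * π with hf'def
  have hf'F : f' ∈ F := by
    refine ⟨fun p hp => ?_, ?_⟩
    · have hpass := mem_ass_of_mid hdim hf (hmid p hp) (hfF.1 p hp)
      exact Ideal.add_mem _ (hfF.1 p hp) (Ideal.mul_mem_left _ _ (hπ1 p hpass))
    · rw [hf'def, mul_comm h π, Ideal.span_pair_add_mul_right]
      exact hfF.2
  have hf' : f' ≠ 0 := hK1' f' hf'F
  have hrad' : (Ideal.span {f'}).radical ≤ (Ideal.span {f}).radical := by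
    rw [Ideal.radical_le_radical_iff, Ideal.span_le, Set.singleton_subset_iff, SetLike.mem_coe,
      ← Ideal.sInf_minimalPrimes, Ideal.mem_sInf]
    intro p hp
    have hpass := minimalPrimes_subset_ass f hp
    have hfp : f ∈ p := hp.1.2 (Ideal.mem_span_singleton_self f)
    exact Ideal.add_mem _ hfp (Ideal.mul_mem_left _ _ (hπ1 p hpass))
  have heq : μ f' = μ f := hmin f' hf'F (sup_le_sup_right hrad' _)
  have hrad : (Ideal.span {f}).radical ≤ (Ideal.span {f'}).radical := by
    apply le_of_le_sup_span _ _ h hhm hrad'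
    · intro d hd
      rw [← Ideal.sInf_minimalPrimes, Ideal.mem_sInf] at hd ⊢
      intro p hp
      have hpass := minimalPrimes_subset_ass f hp
      have hpp : p.IsPrime := hp.1.1
      exact (hpp.mem_or_mem (hd hp)).resolve_right (hK2 f hfF p hpass)
    · calc (Ideal.span {f}).radical ≤ μ f := le_sup_left
        _ = μ f' := heq.symm
  have hsub : ∀ q' ∈ associatedPrimes A (A ⧸ Ideal.span {f'}),
      q' ∈ associatedPrimes A (A ⧸ Ideal.span {f}) := by
    intro q' hq'
    obtain ⟨hq'mid, hf'q'⟩ := mid_of_mem_ass hdim hf' hq'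
    apply mem_ass_of_mid hdim hf hq'mid
    have h1 : (Ideal.span {f'}).radical ≤ q' := by
      rw [hq'mid.1.radical_le_iff, Ideal.span_le, Set.singleton_subset_iff]
      exact hf'q'
    exact h1 (hrad (Ideal.le_radical (Ideal.mem_span_singleton_self f)))
  have hdvd : f' ∣ f := dvd_of_forall_ass (fun q' hq' => hπ2 q' (hsub q' hq'))
  obtain ⟨b, hb⟩ := hdvd
  have hbnu : ¬ IsUnit b := hπ3 b hb
  have hu : IsUnit (1 - b) := IsLocalRing.isUnit_one_sub_self_of_mem_nonunits b hbnu
  obtain ⟨u, hu⟩ := hu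
  apply hK1 f hfF
  refine ⟨π * b * ↑u⁻¹, ?_⟩
  have h1 : f * (1 - b) = h * π * b := by
    rw [hf'def] at hb
    linear_combination hb
  calc f = f * (1 - b) * ↑u⁻¹ := by rw [← hu, mul_assoc, Units.mul_inv, mul_one]
    _ = h * (π * b * ↑u⁻¹) := by rw [h1]; ring



end Part8

section Part9


open IsLocalRing

variable {A : Type u} [CommRing A] [IsDomain A] [IsNoetherianRing A] [IsLocalRing A]
  [IsIntegrallyClosed A]

theorem main2 (hdim : ringKrullDim A = 2) (a : A) (ha0 : a ≠ 0) :
    ∃ c : A, c ≠ 0 ∧ (Ideal.span {c}).IsRadical ∧ ∃ n : ℕ, a ∣ c ^ n := by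
  classical
  set Q : Finset (Ideal A) := (associatedPrimes.finite A (A ⧸ Ideal.span {a})).toFinset with hQ
  have hQmem : ∀ q, q ∈ Q ↔ q ∈ associatedPrimes A (A ⧸ Ideal.span {a}) := by
    intro q; rw [hQ, Set.Finite.mem_toFinset]
  obtain ⟨c, hc0, hcmem, hcrad⟩ := main hdim Q (fun p hp => by
    have hmid := (mid_of_mem_ass hdim ha0 ((hQmem p).mp hp)).1
    exact ⟨hmid.1, hmid.height_eq_one hdim⟩)
  refine ⟨c, hc0, hcrad, ?_⟩
  have hdata : ∀ q : Ideal A, ∃ k : ℕ, q ∈ associatedPrimes A (A ⧸ Ideal.span {a}) →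
      ∀ n, k ≤ n → ∃ s, s ∉ q ∧ a ∣ s * c ^ n := by
    intro q
    by_cases hq : q ∈ associatedPrimes A (A ⧸ Ideal.span {a})
    · have hmid := (mid_of_mem_ass hdim ha0 hq).1
      haveI := hmid.1
      haveI := hmid.isDVR hdim q
      have hfin : ord q a ≠ ⊤ := fun h => ha0 ((ord_eq_top_iff q).mp h)
      obtain ⟨k, hk⟩ := ENat.ne_top_iff_exists.mp hfin
      refine ⟨k, fun _ n hn => ?_⟩
      rw [← ord_le_iff, ord_pow, ← hk]
      have hc1 : 1 ≤ ord q c := (one_le_ord_iff q).mpr (hcmem q ((hQmem q).mpr hq))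
      calc (k : ℕ∞) ≤ (n : ℕ∞) := by exact_mod_cast hn
        _ = n • (1 : ℕ∞) := by simp
        _ ≤ n • ord q c := nsmul_le_nsmul_right hc1 _
    · exact ⟨0, fun h => absurd h hq⟩
  choose k hk using hdata
  refine ⟨Q.sup k, ?_⟩
  apply dvd_of_forall_ass
  intro q hq
  exact hk q hq _ (Finset.le_sup ((hQmem q).mpr hq))



end Part9

end Groth.Agent.H34.NormalDimTwo
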