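import Mathlib

/-!
# Regular sequences stable under permutation and the sequence `f i * X i`

`main`: all reorderings of `f` are regular sequences iff the `f i * X i` form a regular sequence in
the polynomial ring.
-/

namespace Groth.Agent.H34.PermRegular

section Part0
open RingTheory.Sequence

variable {A : Type*} [CommRing A] {r : ℕ}

/-- `g k` is a nonzerodivisor modulo the ideal generated by `g '' T`. -/
def NZD (g : Fin r → A) (k : Fin r) (T : Set (Fin r)) : Prop :=
  ∀ a : A, g k * a ∈ Ideal.span (g '' T) → a ∈ Ideal.span (g '' T)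

lemma ofList_take_ofFn (g : Fin r → A) (i : ℕ) :
    (Ideal.ofList ((List.ofFn g).take i) • ⊤ : Submodule A A) =
      Ideal.span (g '' {j | j.val < i}) := by
  rw [smul_eq_mul, Ideal.mul_top]
  change Ideal.span {x | x ∈ (List.ofFn g).take i} = _
  congr 1
  ext x
  simp only [Set.mem_ofPred_eq, Set.mem_image]
  rw [List.mem_take_iff_getElem]
  constructor
  · rintro ⟨j, hj, rfl⟩
    rw [List.length_ofFn] at hj
    refine ⟨⟨j, (lt_min_iff.mp hj).2⟩, (lt_min_iff.mp hj).1, ?_⟩
    rw [List.getElem_ofFn]
  · rintro ⟨j, hj, rfl⟩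
    refine ⟨j.val, ?_, ?_⟩
    · rw [List.length_ofFn]; exact lt_min hj j.2
    · rw [List.getElem_ofFn]

lemma isWeaklyRegular_ofFn_iff (g : Fin r → A) :
    IsWeaklyRegular A (List.ofFn g) ↔ ∀ k : Fin r, NZD g k {j | j < k} := by
  rw [isWeaklyRegular_iff]
  constructor
  · intro h k a ha
    have h1 := h k.val (by rw [List.length_ofFn]; exact k.2)
    rw [isSMulRegular_quotient_iff_mem_of_smul_mem, ofList_take_ofFn] at h1
    have h2 := h1 a
    rw [List.getElem_ofFn] at h2
    exact h2 ha
  · intro h i hi
    rw [isSMulRegular_quotient_iff_mem_of_smul_mem, ofList_take_ofFn]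
    intro a ha
    rw [List.getElem_ofFn] at ha
    rw [List.length_ofFn] at hi
    exact h ⟨i, hi⟩ a ha

lemma ofList_ofFn (g : Fin r → A) :
    (Ideal.ofList (List.ofFn g) • ⊤ : Submodule A A) = Ideal.span (Set.range g) := by
  rw [smul_eq_mul, Ideal.mul_top]
  change Ideal.span {x | x ∈ List.ofFn g} = _
  congr 1
  ext x
  simp [List.mem_ofFn]

lemma isRegular_ofFn_iff (g : Fin r → A) :
    IsRegular A (List.ofFn g) ↔
      (∀ k : Fin r, NZD g k {j | j < k}) ∧ Ideal.span (Set.range g) ≠ ⊤ := by
  rw [isRegular_iff, isWeaklyRegular_ofFn_iff, ofList_ofFn]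
  constructor
  · rintro ⟨h1, h2⟩
    exact ⟨h1, fun h => h2 h.symm⟩
  · rintro ⟨h1, h2⟩
    exact ⟨h1, fun h => h2 h.symm⟩

end Part0

section Part1
open RingTheory.Sequence

variable {A : Type*} [CommRing A] {r : ℕ}

lemma span_image_insert (g : Fin r → A) (j : Fin r) (T : Set (Fin r)) :
    Ideal.span (g '' insert j T) = Ideal.span {g j} ⊔ Ideal.span (g '' T) := by
  rw [Set.image_insert_eq, Ideal.span_insert]

theorem nzd_of_ordered (g : Fin r → A)
    (h : ∀ k : Fin r, ∀ T : Set (Fin r), (∀ j ∈ T, j < k) → NZD g k T) :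
    ∀ (k : Fin r) (T : Finset (Fin r)), k ∉ T → NZD g k (T : Set (Fin r)) := by
  classical
  intro k
  suffices H : ∀ n : ℕ, ∀ T : Finset (Fin r), (T.filter (k < ·)).card = n → k ∉ T →
      NZD g k (T : Set (Fin r)) from fun T hT => H _ T rfl hT
  intro n
  induction n with
  | zero =>
    intro T hcard hkT
    apply h k
    intro j hj
    have hj' : j ∈ T := hj
    have : j ∉ T.filter (k < ·) := by rw [Finset.card_eq_zero.mp hcard]; simp
    rw [Finset.mem_filter, not_and] at this
    have h1 := this hj'
    have h2 : j ≠ k := fun e => hkT (e ▸ hj')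
    exact lt_of_le_of_ne (not_lt.mp h1) h2
  | succ n ih =>
    intro T hcard hkT
    have hne : (T.filter (k < ·)).Nonempty := by rw [← Finset.card_pos, hcard]; omega
    set j := (T.filter (k < ·)).max' hne with hj
    have hjmem : j ∈ T.filter (k < ·) := Finset.max'_mem _ _
    rw [Finset.mem_filter] at hjmem
    obtain ⟨hjT, hkj⟩ := hjmem
    have hjmax : ∀ i ∈ T, i ≤ j := by
      intro i hi
      by_cases hki : k < i
      · exact Finset.le_max' _ i (Finset.mem_filter.mpr ⟨hi, hki⟩)
      · exact (not_lt.mp hki).trans hkj.le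
    set T' := T.erase j with hT'
    have hTeq : (T : Set (Fin r)) = insert j (T' : Set (Fin r)) := by
      rw [hT', Finset.coe_erase, Set.insert_sdiff_singleton, Set.insert_eq_of_mem]; exact hjT
    have hcard' : (T'.filter (k < ·)).card = n := by
      rw [hT', Finset.filter_erase, Finset.card_erase_of_mem (Finset.mem_filter.mpr ⟨hjT, hkj⟩),
        hcard]; rfl
    have hkT' : k ∉ T' := fun hk => hkT (Finset.mem_of_mem_erase hk)
    have ih' := ih T' hcard' hkT'
    have hj' : NZD g j (insert k (T' : Set (Fin r))) := by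
      apply h j
      intro i hi
      rcases hi with rfl | hi
      · exact hkj
      · have hi' : i ∈ T' := hi
        have := Finset.mem_erase.mp hi'
        exact lt_of_le_of_ne (hjmax i this.2) this.1
    intro a ha
    rw [hTeq, span_image_insert] at ha ⊢
    rw [Ideal.mem_span_singleton_sup] at ha ⊢
    obtain ⟨c, b, hb, hcb⟩ := ha
    have h1 : g j * c ∈ Ideal.span (g '' insert k (T' : Set (Fin r))) := by
      rw [span_image_insert, Ideal.mem_span_singleton_sup]
      refine ⟨a, -b, neg_mem hb, ?_⟩
      linear_combination -hcb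
    have h2 := hj' c h1
    rw [span_image_insert, Ideal.mem_span_singleton_sup] at h2
    obtain ⟨c', b', hb', hc'⟩ := h2
    have h3 : g k * (a - g j * c') ∈ Ideal.span (g '' (T' : Set (Fin r))) := by
      have : g k * (a - g j * c') = b + g j * b' := by
        linear_combination -hcb - g j * hc'
      rw [this]; exact add_mem hb (Ideal.mul_mem_left _ _ hb')
    have h4 := ih' _ h3
    exact ⟨c', a - g j * c', h4, by ring⟩

end Part1

section Part2
open RingTheory.Sequence

variable {A : Type*} [CommRing A] {r : ℕ}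

/-- All permutations weakly regular implies `f k` is regular modulo any subset not containing `k`. -/
theorem nzd_of_forall_perm (f : Fin r → A)
    (h : ∀ σ : Equiv.Perm (Fin r), IsWeaklyRegular A (List.ofFn (f ∘ σ)))
    (k : Fin r) (T : Set (Fin r)) (hk : k ∉ T) : NZD f k T := by
  classical
  let w : Fin r → ℕ := fun j => if j ∈ T then 0 else if j = k then 1 else 2
  let σ : Equiv.Perm (Fin r) := Tuple.sort w
  have hmono : Monotone (w ∘ σ) := Tuple.monotone_sort w
  let p : Fin r := σ.symm k
  have hp : σ p = k := σ.apply_symm_apply k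
  have hwk : w k = 1 := by simp [w, hk]
  have himg : σ '' {j | j < p} = T := by
    ext t
    constructor
    · rintro ⟨j, hj, rfl⟩
      have hjp : j < p := hj
      have h1 : w (σ j) ≤ w (σ p) := hmono hjp.le
      rw [hp, hwk] at h1
      have h2 : σ j ≠ k := by
        intro e
        rw [← hp] at e
        exact (ne_of_lt hjp) (σ.injective e)
      by_contra hnT
      simp only [w] at h1
      rw [if_neg hnT, if_neg h2] at h1
      omega
    · intro ht
      refine ⟨σ.symm t, ?_, σ.apply_symm_apply t⟩
      change σ.symm t < p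
      by_contra hnlt
      have h1 : w (σ p) ≤ w (σ (σ.symm t)) := hmono (not_lt.mp hnlt)
      rw [hp, hwk, σ.apply_symm_apply] at h1
      simp only [w] at h1
      rw [if_pos ht] at h1
      omega
  have h1 := (isWeaklyRegular_ofFn_iff (f ∘ σ)).mp (h σ) p
  intro a ha
  have h2 := h1 a
  rw [Set.image_comp, himg, Function.comp_apply, hp] at h2
  exact h2 ha

theorem isRegular_perm_of_nzd (f : Fin r → A) (hf : Ideal.span (Set.range f) ≠ ⊤)
    (h : ∀ (k : Fin r) (T : Finset (Fin r)), k ∉ T → NZD f k (T : Set (Fin r)))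
    (σ : Equiv.Perm (Fin r)) : IsRegular A (List.ofFn (f ∘ σ)) := by
  classical
  rw [isRegular_ofFn_iff]
  constructor
  · intro p a ha
    have hT : σ p ∉ (Finset.univ.filter (· < p)).image σ := by
      rw [Finset.mem_image]
      rintro ⟨j, hj, e⟩
      rw [Finset.mem_filter] at hj
      exact (ne_of_lt hj.2) (σ.injective e)
    have h1 := h (σ p) _ hT
    have hcoe : (((Finset.univ.filter (· < p)).image σ : Finset (Fin r)) : Set (Fin r)) =
        σ '' {j | j < p} := by
      ext t; simp
    rw [hcoe] at h1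
    rw [Set.image_comp] at ha ⊢
    exact h1 a ha
  · rw [σ.surjective.range_comp]; exact hf

end Part2

section Part3
open RingTheory.Sequence MvPolynomial

variable {R : Type*} [CommRing R] {r : ℕ}

/-- The elements `f i * X i` of the polynomial ring. -/
noncomputable def G (f : Fin r → R) (i : Fin r) : MvPolynomial (Fin r) R := C (f i) * X i

lemma G_eq_monomial (f : Fin r → R) (i : Fin r) : G f i = monomial (Finsupp.single i 1) (f i) :=
  C_mul_X_eq_monomial

lemma coeff_G_mul (f : Fin r → R) (k : Fin r) (p : MvPolynomial (Fin r) R) (m : Fin r →₀ ℕ) :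
    coeff m (G f k * p) = if m k ≠ 0 then f k * coeff (m - Finsupp.single k 1) p else 0 := by
  classical
  rw [G, mul_assoc, coeff_C_mul, coeff_X_mul']
  by_cases h : m k ≠ 0
  · rw [if_pos h, if_pos (Finsupp.mem_support_iff.mpr h)]
  · rw [if_neg h, if_neg (by rwa [Finsupp.mem_support_iff]), mul_zero]

/-- Coefficient description of the ideal generated by some of the `f i * X i`. -/
theorem mem_span_G_iff (f : Fin r → R) (S : Set (Fin r)) (p : MvPolynomial (Fin r) R) :
    p ∈ Ideal.span (G f '' S) ↔
      ∀ m : Fin r →₀ ℕ, coeff m p ∈ Ideal.span (f '' {i | i ∈ S ∧ m i ≠ 0}) := by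
  classical
  constructor
  · intro hp
    induction hp using Submodule.span_induction with
    | mem x hx =>
      obtain ⟨i, hi, rfl⟩ := hx
      intro m
      rw [G_eq_monomial, coeff_monomial]
      split_ifs with h
      · apply Ideal.subset_span
        refine ⟨i, ⟨hi, ?_⟩, rfl⟩
        rw [← h]; simp
      · exact zero_mem _
    | zero => intro m; rw [coeff_zero]; exact zero_mem _
    | add x y _ _ hx hy => intro m; rw [coeff_add]; exact add_mem (hx m) (hy m)
    | smul q x _ hx =>
      intro m
      rw [smul_eq_mul, coeff_mul]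
      apply Ideal.sum_mem
      intro ab hab
      apply Ideal.mul_mem_left
      have hsum : ab.1 + ab.2 = m := Finset.HasAntidiagonal.mem_antidiagonal.mp hab
      refine Ideal.span_mono (Set.image_mono ?_) (hx ab.2)
      rintro i ⟨hi, hne⟩
      refine ⟨hi, ?_⟩
      rw [← hsum, Finsupp.add_apply]
      omega
  · intro h
    rw [p.as_sum]
    apply Ideal.sum_mem
    intro m _
    have key : ∀ a ∈ Ideal.span (f '' {i | i ∈ S ∧ m i ≠ 0}),
        monomial m a ∈ Ideal.span (G f '' S) := by
      intro a ha
      induction ha using Submodule.span_induction with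
      | mem x hx =>
        obtain ⟨i, ⟨hi, hne⟩, rfl⟩ := hx
        have hle : Finsupp.single i 1 ≤ m := by
          rw [Finsupp.single_le_iff]
          omega
        have : monomial m (f i) = G f i * monomial (m - Finsupp.single i 1) 1 := by
          rw [G_eq_monomial, monomial_mul, mul_one, add_tsub_cancel_of_le hle]
        rw [this]
        exact Ideal.mul_mem_right _ _ (Ideal.subset_span ⟨i, hi, rfl⟩)
      | zero => rw [map_zero]; exact zero_mem _
      | add x y _ _ hx hy => rw [map_add]; exact add_mem hx hy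
      | smul c x _ hx =>
        rw [smul_eq_mul, ← C_mul_monomial]
        exact Ideal.mul_mem_left _ _ hx
    exact key _ (h m)

end Part3

section Part4
open RingTheory.Sequence MvPolynomial

variable {R : Type*} [CommRing R] {r : ℕ}

/-- ordered condition implies regularity of the `f i * X i`. -/
theorem nzd_G_of_ordered (f : Fin r → R)
    (h : ∀ k : Fin r, ∀ T : Set (Fin r), (∀ j ∈ T, j < k) → NZD f k T) (k : Fin r) :
    NZD (G f) k {j | j < k} := by
  classical
  intro p hp
  rw [mem_span_G_iff] at hp ⊢
  intro m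
  have h1 := hp (m + Finsupp.single k 1)
  have hk : (m + Finsupp.single k 1 : Fin r →₀ ℕ) k ≠ 0 := by
    rw [Finsupp.add_apply, Finsupp.single_eq_same]; omega
  rw [coeff_G_mul, if_pos hk, add_tsub_cancel_right] at h1
  have hset : {i | i ∈ {j | j < k} ∧ (m + Finsupp.single k 1 : Fin r →₀ ℕ) i ≠ 0} =
      {i | i ∈ {j | j < k} ∧ m i ≠ 0} := by
    ext i
    simp only [Set.mem_ofPred_eq]
    constructor
    · rintro ⟨hi, hne⟩
      refine ⟨hi, ?_⟩
      rwa [Finsupp.add_apply, Finsupp.single_eq_of_ne (ne_of_lt hi), add_zero] at hne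
    · rintro ⟨hi, hne⟩
      refine ⟨hi, ?_⟩
      rwa [Finsupp.add_apply, Finsupp.single_eq_of_ne (ne_of_lt hi), add_zero]
  rw [hset] at h1
  exact h k _ (fun j hj => hj.1) _ h1

/-- regularity of the `f i * X i` implies the ordered condition. -/
theorem ordered_of_nzd_G (f : Fin r → R) (k : Fin r) (hk : NZD (G f) k {j | j < k})
    (T : Set (Fin r)) (hT : ∀ j ∈ T, j < k) : NZD f k T := by
  classical
  intro a ha
  -- the indicator exponent of `T`
  let mT : Fin r →₀ ℕ := Finsupp.equivFunOnFinite.symm (fun i => if i ∈ T then 1 else 0)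
  have hmT : ∀ i, mT i = if i ∈ T then 1 else 0 := fun i => rfl
  have hsetT : {i | i ∈ {j | j < k} ∧ mT i ≠ 0} = T := by
    ext i
    simp only [Set.mem_ofPred_eq, hmT]
    constructor
    · rintro ⟨_, hne⟩
      by_contra hi
      rw [if_neg hi] at hne
      exact hne rfl
    · intro hi
      exact ⟨hT i hi, by rw [if_pos hi]; exact one_ne_zero⟩
  have h1 : G f k * monomial mT a ∈ Ideal.span (G f '' {j | j < k}) := by
    rw [mem_span_G_iff]
    intro m
    rw [coeff_G_mul]
    split_ifs with hmk
    · rw [coeff_monomial]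
      split_ifs with heq
      · refine Ideal.span_mono (Set.image_mono ?_) ha
        intro i hi
        refine ⟨hT i hi, ?_⟩
        have hik : i ≠ k := ne_of_lt (hT i hi)
        have h2 : mT i = (m - Finsupp.single k 1 : Fin r →₀ ℕ) i := by rw [heq]
        rw [hmT, if_pos hi, Finsupp.tsub_apply, Finsupp.single_eq_of_ne hik] at h2
        omega
      · rw [mul_zero]; exact zero_mem _
    · exact zero_mem _
  have h2 := hk _ h1
  rw [mem_span_G_iff] at h2
  have h3 := h2 mT
  rwa [coeff_monomial, if_pos rfl, hsetT] at h3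

theorem span_range_G_ne_top (f : Fin r → R) (hf : Ideal.span (Set.range f) ≠ ⊤) :
    Ideal.span (Set.range (G f)) ≠ ⊤ := by
  intro h
  apply hf
  have h1 : (1 : MvPolynomial (Fin r) R) ∈ Ideal.span (G f '' Set.univ) := by
    rw [Set.image_univ, h]; trivial
  rw [mem_span_G_iff] at h1
  have h2 := h1 0
  have hempty : {i : Fin r | i ∈ Set.univ ∧ (0 : Fin r →₀ ℕ) i ≠ 0} = ∅ := by
    ext i; simp
  rw [hempty, Set.image_empty, Ideal.span_empty, coeff_zero_one, Ideal.mem_bot] at h2
  have : Subsingleton R := subsingleton_of_zero_eq_one h2.symm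
  exact Subsingleton.elim _ _

end Part4

section Main

open RingTheory.Sequence MvPolynomial

theorem main {R : Type*} [CommRing R] {r : ℕ} (f : Fin r → R)
    (hf : Ideal.span (Set.range f) ≠ ⊤) :
    (∀ σ : Equiv.Perm (Fin r), IsRegular R (List.ofFn (f ∘ σ))) ↔
      IsRegular (MvPolynomial (Fin r) R) (List.ofFn fun i => C (f i) * X i) := by
  change _ ↔ IsRegular (MvPolynomial (Fin r) R) (List.ofFn (G f))
  rw [isRegular_ofFn_iff (G f)]
  constructor
  · intro h
    have hw : ∀ σ : Equiv.Perm (Fin r), IsWeaklyRegular R (List.ofFn (f ∘ σ)) :=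
      fun σ => (h σ).toIsWeaklyRegular
    have hord : ∀ k : Fin r, ∀ T : Set (Fin r), (∀ j ∈ T, j < k) → NZD f k T :=
      fun k T hT => nzd_of_forall_perm f hw k T (fun hk => lt_irrefl k (hT k hk))
    exact ⟨fun k => nzd_G_of_ordered f hord k, span_range_G_ne_top f hf⟩
  · rintro ⟨h, -⟩
    have hord : ∀ k : Fin r, ∀ T : Set (Fin r), (∀ j ∈ T, j < k) → NZD f k T :=
      fun k T hT => ordered_of_nzd_G f k (h k) T hT
    exact isRegular_perm_of_nzd f hf (nzd_of_ordered f hord)

end Main

end Groth.Agent.H34.PermRegular
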