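import Mathlib

/-!
# General lemmas for the Popescu chain (helper34)
-/

set_option autoImplicit false

namespace Groth.Agent.H34.PopA

open MvPolynomial TensorProduct

universe u v w

section flat

variable {R : Type*} [CommRing R] {S : Type*} [CommRing S] [Algebra R S]

/-- If `Ann(π²) = Ann(π)` in `R` then the same holds in any flat `R`-algebra (module version). -/
theorem smul_eq_zero_of_flat {M : Type*} [AddCommGroup M] [Module R M] [Module.Flat R M]
    (π : R) (hR : ∀ r : R, π ^ 2 * r = 0 → π * r = 0) (s : M) (hs : π ^ 2 • s = 0) :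
    π • s = 0 := by
  classical
  let u : R →ₗ[R] R := (π ^ 2) • LinearMap.id
  have hu : ∀ y, u y = π ^ 2 * y := fun y => rfl
  have hex : Function.Exact (LinearMap.ker u).subtype u := LinearMap.exact_subtype_ker_map u
  have hex' := Module.Flat.lTensor_exact M hex
  have hz : (u.lTensor M) (s ⊗ₜ[R] (1 : R)) = 0 := by
    rw [LinearMap.lTensor_tmul, hu, mul_one]
    have : s ⊗ₜ[R] (π ^ 2 : R) = (π ^ 2 • s) ⊗ₜ[R] (1 : R) := by
      rw [TensorProduct.smul_tmul, smul_eq_mul, mul_one]
    rw [this, hs, TensorProduct.zero_tmul]
  obtain ⟨w, hw⟩ := (hex' _).mp hz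
  -- apply `rid ∘ (π • ·)`
  have h1 : ∀ w : M ⊗[R] (LinearMap.ker u),
      π • ((LinearMap.ker u).subtype.lTensor M) w = 0 := by
    intro w
    induction w using TensorProduct.induction_on with
    | zero => simp
    | tmul x y =>
      rw [LinearMap.lTensor_tmul, ← TensorProduct.tmul_smul]
      have : π • ((LinearMap.ker u).subtype y) = 0 := by
        have hy : u y.1 = 0 := y.2
        rw [hu] at hy
        exact hR _ hy
      rw [this, TensorProduct.tmul_zero]
    | add x y hx hy => rw [map_add, smul_add, hx, hy, add_zero]
  have h2 := h1 w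
  rw [hw, TensorProduct.smul_tmul'] at h2
  have h3 := congrArg (TensorProduct.rid R M) h2
  rwa [TensorProduct.rid_tmul, map_zero, one_smul] at h3

end flat

section away

variable {R : Type*} [CommRing R] {A B : Type*} [CommRing A] [CommRing B] [Algebra R A]
  [Algebra R B] [Algebra A B] [IsScalarTower R A B]

/-- If `A → B` is surjective and every element of the kernel is killed by a power of `s`, then
`B_s` is the localization of `A` at `s`. -/
theorem isLocalization_away_of_surjective (hsurj : Function.Surjective (algebraMap A B)) (s : A)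
    (hker : ∀ x : A, algebraMap A B x = 0 → ∃ N : ℕ, s ^ N * x = 0)
    (T : Type*) [CommRing T] [Algebra B T] [Algebra A T] [IsScalarTower A B T]
    [IsLocalization.Away (algebraMap A B s) T] : IsLocalization.Away s T := by
  refine IsLocalization.Away.mk (R := A) (S := T) s ?_ ?_ ?_
  · rw [IsScalarTower.algebraMap_apply A B T]
    exact IsLocalization.Away.algebraMap_isUnit (S := T) (algebraMap A B s)
  · intro z
    obtain ⟨n, b, hb⟩ := IsLocalization.Away.surj (algebraMap A B s) z
    obtain ⟨a, rfl⟩ := hsurj b
    refine ⟨n, a, ?_⟩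
    rw [IsScalarTower.algebraMap_apply A B T, hb, IsScalarTower.algebraMap_apply A B T]
  · intro a b hab
    rw [IsScalarTower.algebraMap_apply A B T, IsScalarTower.algebraMap_apply A B T b] at hab
    obtain ⟨n, hn⟩ := (IsLocalization.Away.exists_of_eq (algebraMap A B s)) hab
    have h0 : algebraMap A B (s ^ n * (a - b)) = 0 := by
      rw [map_mul, map_sub, mul_sub, map_pow, hn, sub_self]
    obtain ⟨N, hN⟩ := hker _ h0
    refine ⟨N + n, ?_⟩
    have : s ^ (N + n) * (a - b) = 0 := by
      rw [pow_add, mul_assoc]; exact hN
    rw [mul_sub] at this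
    exact sub_eq_zero.mp this

/-- Formal smoothness transfers to `B_s` from `A_s` in the above situation. -/
theorem formallySmooth_away_of_surjective (hsurj : Function.Surjective (algebraMap A B)) (s : A)
    (hker : ∀ x : A, algebraMap A B x = 0 → ∃ N : ℕ, s ^ N * x = 0)
    [Algebra.FormallySmooth R (Localization.Away s)] :
    Algebra.FormallySmooth R (Localization.Away (algebraMap A B s)) := by
  let T := Localization.Away (algebraMap A B s)
  haveI : IsLocalization.Away s T := isLocalization_away_of_surjective hsurj s hker T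
  let e : Localization.Away s ≃ₐ[A] T := IsLocalization.algEquiv (Submonoid.powers s) _ _
  exact Algebra.FormallySmooth.of_equiv (e.restrictScalars R)

end away

section stdsmooth

variable {R : Type u} [CommRing R] {σ ι : Type} [Finite σ] [Fintype ι] [DecidableEq ι]

/-- `R[X_σ]/(v_ι)` localized at a multiple of the Jacobian minor of the `v_j` against the
variables `cols` is standard smooth over `R` (general finite index types). -/
theorem isStandardSmooth_away_of_dvd
    (v : ι → MvPolynomial σ R) (cols : ι → σ) (hcols : Function.Injective cols)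
    (b : MvPolynomial σ R ⧸ Ideal.span (Set.range v))
    (hb : Ideal.Quotient.mk (Ideal.span (Set.range v))
      (Matrix.det (Matrix.of fun j k : ι => pderiv (cols k) (v j))) ∣ b) :
    Algebra.IsStandardSmooth R (Localization.Away b) := by
  classical
  let pres : Algebra.PreSubmersivePresentation R
      (MvPolynomial σ R ⧸ Ideal.span (Set.range v)) σ ι :=
    Algebra.PreSubmersivePresentation.naive cols hcols
  have hjac : pres.jacobian = Ideal.Quotient.mk (Ideal.span (Set.range v))
      (Matrix.det (Matrix.of fun j k : ι => pderiv (cols k) (v j))) := by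
    rw [Algebra.PreSubmersivePresentation.jacobian_eq_jacobiMatrix_det]
    have h1 : pres.jacobiMatrix = (Matrix.of fun j k : ι => pderiv (cols k) (v j)).transpose := by
      ext i j
      rw [Algebra.PreSubmersivePresentation.jacobiMatrix_naive]
      rfl
    rw [h1, Matrix.det_transpose]
    rfl
  have hbunit : IsUnit (algebraMap _ (Localization.Away b) b) :=
    IsLocalization.Away.algebraMap_isUnit b
  have hδunit : IsUnit (algebraMap _ (Localization.Away b) pres.jacobian) := by
    rw [hjac]
    obtain ⟨w, hw⟩ := hb
    have h2 : algebraMap _ (Localization.Away b) b =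
        algebraMap _ (Localization.Away b) (Ideal.Quotient.mk (Ideal.span (Set.range v))
          (Matrix.det (Matrix.of fun j k : ι => pderiv (cols k) (v j)))) *
        algebraMap _ (Localization.Away b) w := by
      rw [← map_mul, ← hw]
    rw [h2] at hbunit
    exact isUnit_of_mul_isUnit_left hbunit
  let P : Algebra.SubmersivePresentation R (Localization.Away b) _ _ :=
    { toPreSubmersivePresentation :=
        .comp (.localizationAway (Localization.Away b) b) pres
      jacobian_isUnit := by
        rw [Algebra.PreSubmersivePresentation.comp_jacobian_eq_jacobian_smul_jacobian,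
          Algebra.PreSubmersivePresentation.localizationAway_jacobian, Algebra.smul_def]
        exact hδunit.mul hbunit }
  exact P.isStandardSmooth

end stdsmooth

section lift

/-- descend an algebra map along a surjection (packaged existence form) -/
theorem exists_lift {R A B C' : Type*} [CommRing R] [CommRing A] [CommRing B] [CommRing C']
    [Algebra R A] [Algebra R B] [Algebra R C']
    (Φ : A →ₐ[R] B) (hΦsurj : Function.Surjective Φ) (Ψ₀ : A →ₐ[R] C')
    (hker : ∀ p, Φ p = 0 → Ψ₀ p = 0) :
    ∃ ψ : B →ₐ[R] C', ∀ p, ψ (Φ p) = Ψ₀ p :=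
  ⟨AlgHom.liftOfSurjective Φ hΦsurj Ψ₀ (fun p hp => hker p hp),
      fun p => AlgHom.liftOfSurjective_apply Φ hΦsurj Ψ₀ _ p⟩

/-- the same with target a quotient `D ⧸ I` (instance path of `Ideal.Quotient`) -/
theorem exists_lift_quot {R A B D : Type*} [CommRing R] [CommRing A] [CommRing B] [CommRing D]
    [Algebra R A] [Algebra R B] [Algebra R D] (I : Ideal D)
    (Φ : A →ₐ[R] B) (hΦsurj : Function.Surjective Φ) (Ψ₀ : A →ₐ[R] D ⧸ I)
    (hker : ∀ p, Φ p = 0 → Ψ₀ p = 0) :
    ∃ ψ : B →ₐ[R] D ⧸ I, ∀ p, ψ (Φ p) = Ψ₀ p :=
  ⟨AlgHom.liftOfSurjective Φ hΦsurj Ψ₀ (fun p hp => hker p hp),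
      fun p => AlgHom.liftOfSurjective_apply Φ hΦsurj Ψ₀ _ p⟩

end lift

end Groth.Agent.H34.PopA
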