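import Mathlib

/-!
# General lemmas for the desingularization lemma (Stacks 07CR) (helper34)
-/

set_option autoImplicit false

namespace Groth.Agent.H34.PopDesA

open MvPolynomial

section taylor

variable {R : Type*} [CommRing R] {S : Type*} [CommRing S] [Algebra R S] {σ : Type*} [Fintype σ]

/-- Second order Taylor expansion of a polynomial at `r + t y`. -/
theorem taylor2 (r : σ → R) (t : S) (y : σ → S) (p : MvPolynomial σ R) :
    ∃ E : S, aeval (fun i => algebraMap R S (r i) + t * y i) p =
      algebraMap R S (eval r p) + t * ∑ i, algebraMap R S (eval r (pderiv i p)) * y i +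
        t ^ 2 * E := by
  classical
  induction p using MvPolynomial.induction_on with
  | C a =>
    refine ⟨0, ?_⟩
    simp
  | add p q hp hq =>
    obtain ⟨E₁, h₁⟩ := hp
    obtain ⟨E₂, h₂⟩ := hq
    refine ⟨E₁ + E₂, ?_⟩
    rw [map_add, h₁, h₂]
    simp only [map_add, add_mul, Finset.sum_add_distrib]
    ring
  | mul_X p k hp =>
    obtain ⟨E, h⟩ := hp
    refine ⟨E * algebraMap R S (r k) + (∑ i, algebraMap R S (eval r (pderiv i p)) * y i) * y k +
      t * E * y k, ?_⟩
    rw [map_mul, h, aeval_X]
    have hd : ∑ i, algebraMap R S (eval r (pderiv i (p * X k))) * y i =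
        (∑ i, algebraMap R S (eval r (pderiv i p)) * y i) * algebraMap R S (r k) +
          algebraMap R S (eval r p) * y k := by
      have : ∀ i, algebraMap R S (eval r (pderiv i (p * X k))) * y i =
          algebraMap R S (eval r (pderiv i p)) * y i * algebraMap R S (r k) +
            (if i = k then algebraMap R S (eval r p) * y k else 0) := by
        intro i
        rw [Derivation.leibniz, smul_eq_mul, smul_eq_mul, map_add, map_mul, map_mul, eval_X]
        by_cases hik : i = k
        · subst hik
          rw [pderiv_X_self, map_one, if_pos rfl, mul_one]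
          simp only [map_add, map_mul]
          ring
        · rw [pderiv_X_of_ne (Ne.symm hik), map_zero, if_neg hik, mul_zero]
          simp only [map_add, map_mul, map_zero, zero_add, add_zero]
          ring
      simp only [this, Finset.sum_add_distrib, Finset.sum_ite_eq', Finset.mem_univ, if_true,
        Finset.sum_mul]
    rw [hd]
    simp only [map_mul, eval_X]
    ring

end taylor

section matrix

variable {B : Type*} [CommRing B] {m n : Type*} [Fintype m] [Fintype n] [DecidableEq m]
  [DecidableEq n]

/-- If a combination of the maximal minors is `d`, then `M N = d • 1` for some `N`. -/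
theorem exists_mul_eq_smul_one (M : Matrix m n B) (coef : (m → n) → B) (d : B)
    (h : ∑ g : m → n, coef g * (M.submatrix id g).det = d) :
    ∃ N : Matrix n m B, M * N = d • (1 : Matrix m m B) := by
  let E : (m → n) → Matrix n m B := fun g => Matrix.of fun i k => if i = g k then 1 else 0
  have hME : ∀ g, M * E g = M.submatrix id g := by
    intro g
    apply Matrix.ext
    intro j k
    simp only [Matrix.mul_apply, E, Matrix.of_apply, mul_ite, mul_one, mul_zero,
      Finset.sum_ite_eq', Finset.mem_univ, if_true, Matrix.submatrix_apply, id_eq]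
  refine ⟨∑ g : m → n, coef g • (E g * (M.submatrix id g).adjugate), ?_⟩
  rw [Matrix.mul_sum]
  have : ∀ g : m → n, M * (coef g • (E g * (M.submatrix id g).adjugate)) =
      (coef g * (M.submatrix id g).det) • (1 : Matrix m m B) := by
    intro g
    rw [Matrix.mul_smul, ← Matrix.mul_assoc, hME, Matrix.mul_adjugate, smul_smul]
  simp only [this]
  rw [← Finset.sum_smul, h]

/-- A matrix congruent to `1` modulo an ideal has determinant congruent to `1`. -/
theorem det_sub_one_mem (M : Matrix m m B) (I : Ideal B)
    (h : ∀ j k, M j k - (1 : Matrix m m B) j k ∈ I) : M.det - 1 ∈ I := by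
  rw [← Ideal.Quotient.eq_zero_iff_mem, map_sub, map_one, RingHom.map_det]
  have : (Ideal.Quotient.mk I).mapMatrix M = 1 := by
    ext j k
    have := Ideal.Quotient.eq_zero_iff_mem.mpr (h j k)
    rw [map_sub, sub_eq_zero] at this
    rw [RingHom.mapMatrix_apply, Matrix.map_apply, this]
    by_cases hjk : j = k
    · subst hjk; simp
    · simp [hjk]
  rw [this, Matrix.det_one, sub_self]

end matrix

section flat

variable {R : Type*} [CommRing R]

/-- Annihilators and flatness: if `a y = 0 → b y = 0` in `R` then the same on a flat module. -/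
theorem smul_eq_zero_of_flat' {M : Type*} [AddCommGroup M] [Module R M] [Module.Flat R M]
    (a b : R) (hR : ∀ r : R, a * r = 0 → b * r = 0) (x : M) (hx : a • x = 0) : b • x = 0 := by
  have hrel : ∑ i : Unit, (fun _ : Unit => a) i • (fun _ : Unit => x) i = 0 := by
    simpa using hx
  obtain ⟨κ, c, y, hxy, ha⟩ := Module.Flat.isTrivialRelation_of_sum_smul_eq_zero hrel
  have hx' : x = ∑ j, c () j • y j := hxy ()
  rw [hx', Finset.smul_sum]
  refine Finset.sum_eq_zero fun j _ => ?_
  have h1 : a * c () j = 0 := by simpa using ha j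
  rw [smul_smul, hR _ h1, zero_smul]

/-- `Ann(π²) = Ann(π)` implies `Ann(π^(k+1)) = Ann(π)`. -/
theorem smul_eq_zero_of_pow_smul {M : Type*} [AddCommGroup M] [Module R M] (π : R)
    (hM : ∀ x : M, π ^ 2 • x = 0 → π • x = 0) (k : ℕ) (x : M) (hx : π ^ (k + 1) • x = 0) :
    π • x = 0 := by
  induction k with
  | zero => simpa using hx
  | succ k ih =>
    apply ih
    have h1 : π ^ 2 • (π ^ k • x) = 0 := by
      rw [smul_smul, ← pow_add, add_comm]
      exact hx
    have h2 := hM _ h1
    rw [smul_smul, ← pow_succ'] at h2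
    exact h2

end flat

section congr

variable {R : Type*} [CommRing R] {S : Type*} [CommRing S] [Algebra R S] {σ : Type*}

/-- Evaluating a polynomial at two tuples congruent modulo `I` gives congruent values. -/
theorem aeval_sub_aeval_mem (I : Ideal S) (X₁ X₂ : σ → S) (h : ∀ i, X₁ i - X₂ i ∈ I)
    (p : MvPolynomial σ R) : aeval X₁ p - aeval X₂ p ∈ I := by
  induction p using MvPolynomial.induction_on with
  | C a => simp
  | add p q hp hq =>
    rw [map_add, map_add]
    have : aeval X₁ p + aeval X₁ q - (aeval X₂ p + aeval X₂ q) =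
        (aeval X₁ p - aeval X₂ p) + (aeval X₁ q - aeval X₂ q) := by ring
    rw [this]; exact add_mem hp hq
  | mul_X p k hp =>
    rw [map_mul, map_mul, aeval_X, aeval_X]
    have : aeval X₁ p * X₁ k - aeval X₂ p * X₂ k =
        (aeval X₁ p - aeval X₂ p) * X₁ k + aeval X₂ p * (X₁ k - X₂ k) := by ring
    rw [this]
    exact add_mem (Ideal.mul_mem_right _ _ hp) (Ideal.mul_mem_left _ _ (h k))

end congr


section chain

variable {R : Type*} [CommRing R] {σ τ : Type*} [Fintype σ]

/-- Chain rule for `aeval` into a polynomial ring. -/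
theorem pderiv_aeval (Xt : σ → MvPolynomial τ R) (k : τ) (p : MvPolynomial σ R) :
    pderiv k (aeval Xt p) = ∑ i, aeval Xt (pderiv i p) * pderiv k (Xt i) := by
  classical
  induction p using MvPolynomial.induction_on with
  | C a => simp
  | add p q hp hq =>
    simp only [map_add, hp, hq, add_mul, Finset.sum_add_distrib]
  | mul_X p j hp =>
    rw [map_mul, aeval_X, Derivation.leibniz, hp]
    have : ∀ i, aeval Xt (pderiv i (p * X j)) * pderiv k (Xt i) =
        Xt j * (aeval Xt (pderiv i p) * pderiv k (Xt i)) +
          (if i = j then aeval Xt p * pderiv k (Xt j) else 0) := by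
      intro i
      rw [Derivation.leibniz, smul_eq_mul, smul_eq_mul, map_add, map_mul, map_mul, aeval_X]
      by_cases hij : i = j
      · subst hij
        rw [pderiv_X_self, map_one, if_pos rfl]
        ring
      · rw [pderiv_X_of_ne (Ne.symm hij), map_zero, if_neg hij]
        ring
    simp only [this, Finset.sum_add_distrib, Finset.sum_ite_eq', Finset.mem_univ, if_true,
      smul_eq_mul, Finset.mul_sum]
    ring

end chain

section hloc

variable {P : Type*} [CommRing P]

/-- Local generation can be checked on generators. -/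
theorem hloc_of_generators (S : Set P) (J : Ideal P) (hJ : J = Ideal.span S) (L : Ideal P)
    (Q : Ideal (P ⧸ J)) [Q.IsPrime]
    (h : ∀ t ∈ S, ∃ s : P, Ideal.Quotient.mk J s ∉ Q ∧ s * t ∈ L) :
    ∀ t ∈ J, ∃ s : P, Ideal.Quotient.mk J s ∉ Q ∧ s * t ∈ L := by
  intro t ht
  rw [hJ] at ht
  induction ht using Submodule.span_induction with
  | mem x hx => exact h x hx
  | zero => exact ⟨1, by rw [map_one]; exact fun h1 => ‹Q.IsPrime›.ne_top ((Ideal.eq_top_iff_one _).2 h1),
      by rw [mul_zero]; exact zero_mem _⟩
  | add x y _ _ hx hy =>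
    obtain ⟨s₁, hs₁, h₁⟩ := hx
    obtain ⟨s₂, hs₂, h₂⟩ := hy
    refine ⟨s₁ * s₂, ?_, ?_⟩
    · rw [map_mul]
      exact fun h12 => (‹Q.IsPrime›.mem_or_mem h12).elim hs₁ hs₂
    · have : s₁ * s₂ * (x + y) = s₂ * (s₁ * x) + s₁ * (s₂ * y) := by ring
      rw [this]
      exact add_mem (Ideal.mul_mem_left _ _ h₁) (Ideal.mul_mem_left _ _ h₂)
  | smul a x _ hx =>
    obtain ⟨s₁, hs₁, h₁⟩ := hx
    refine ⟨s₁, hs₁, ?_⟩
    have : s₁ * (a • x) = a * (s₁ * x) := by rw [smul_eq_mul]; ring
    rw [this]
    exact Ideal.mul_mem_left _ _ h₁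

end hloc

end Groth.Agent.H34.PopDesA
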