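import Mathlib
import Groth.Agent.H34.PopDesA
import Groth.Agent.Lib.Helper81.PopJac
import Groth.Agent.Lib.Helper81.PopLiftChart
import Groth.Agent.S2108

/-!
# The two smoothness cases of the desingularization lemma (Stacks 07CR) (helper34)
-/

set_option autoImplicit false
universe u

namespace Groth.Agent.H34.PopDesB

open MvPolynomial Groth.Agent.H34.PopDesA

/-- Flatness of the standard smooth chart: annihilator conditions transfer. -/
theorem exists_pow_mul_mem_span_of_flat {R : Type u} [CommRing R] (a b : R)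
    (hR : ∀ r : R, a * r = 0 → b * r = 0) {σ ι : Type} [Finite σ] [Fintype ι] [DecidableEq ι]
    (G : ι → MvPolynomial σ R) (v : ι → σ) (hv : Function.Injective v)
    (t : MvPolynomial σ R) (h1 : C a * t ∈ Ideal.span (Set.range G)) :
    ∃ N : ℕ, (Matrix.det (Matrix.of fun j k : ι => pderiv (v k) (G j))) ^ N * (C b * t) ∈
      Ideal.span (Set.range G) := by
  classical
  set L : Ideal (MvPolynomial σ R) := Ideal.span (Set.range G) with hL
  set Δ : MvPolynomial σ R := Matrix.det (Matrix.of fun j k : ι => pderiv (v k) (G j)) with hΔ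
  set bb : MvPolynomial σ R ⧸ L := Ideal.Quotient.mk L Δ with hb
  haveI hss : Algebra.IsStandardSmooth R (Localization.Away bb) :=
    Groth.Agent.Lib.Helper81.Pop.isStandardSmooth_away_of_dvd G v hv bb (dvd_refl _)
  haveI : Algebra.Smooth R (Localization.Away bb) := inferInstance
  haveI : Module.Flat R (Localization.Away bb) := inferInstance
  let ρ : MvPolynomial σ R →+* Localization.Away bb :=
    (algebraMap (MvPolynomial σ R ⧸ L) (Localization.Away bb)).comp (Ideal.Quotient.mk L)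
  have hρL : ∀ x ∈ L, ρ x = 0 := fun x hx => by
    show algebraMap (MvPolynomial σ R ⧸ L) (Localization.Away bb) (Ideal.Quotient.mk L x) = 0
    rw [Ideal.Quotient.eq_zero_iff_mem.2 hx, map_zero]
  have hρC : ∀ r : R, ρ (C r) = algebraMap R (Localization.Away bb) r := by
    intro r
    show algebraMap (MvPolynomial σ R ⧸ L) (Localization.Away bb) (Ideal.Quotient.mk L (C r)) = _
    rw [IsScalarTower.algebraMap_apply R (MvPolynomial σ R ⧸ L) (Localization.Away bb)]
    rfl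
  have hat : a • ρ t = 0 := by
    have := hρL _ h1
    rw [map_mul, hρC] at this
    rw [Algebra.smul_def]
    exact this
  have hbt : b • ρ t = 0 := smul_eq_zero_of_flat' a b hR _ hat
  have hzero : ρ (C b * t) = 0 := by
    rw [map_mul, hρC, ← Algebra.smul_def]
    exact hbt
  have hz' : algebraMap (MvPolynomial σ R ⧸ L) (Localization.Away bb)
      (Ideal.Quotient.mk L (C b * t)) = 0 := hzero
  rw [IsLocalization.map_eq_zero_iff (Submonoid.powers bb)] at hz'
  obtain ⟨⟨_, N, rfl⟩, hN⟩ := hz'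
  refine ⟨N, ?_⟩
  rw [← Ideal.Quotient.eq_zero_iff_mem, map_mul, map_pow]
  exact hN

/-- The adjugate trick. -/
theorem exists_det_mul_mem {P : Type*} [CommRing P] {m : ℕ} (L : Ideal P) (p : P) (F : Fin m → P)
    (β' : Matrix (Fin m) (Fin m) P)
    (h : ∀ ℓ, p * F ℓ - p ^ 2 * ∑ ℓ', β' ℓ ℓ' * F ℓ' ∈ L) :
    ∃ δ : P, δ - 1 ∈ Ideal.span {p} ∧ ∀ ℓ, p * δ * F ℓ ∈ L := by
  classical
  set N : Matrix (Fin m) (Fin m) P := 1 - p • β' with hN
  refine ⟨N.det, ?_, ?_⟩
  · apply det_sub_one_mem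
    intro j k
    rw [hN, Matrix.sub_apply, sub_sub_cancel_left, Matrix.smul_apply, smul_eq_mul]
    exact neg_mem (Ideal.mul_mem_right _ _ (Ideal.mem_span_singleton_self p))
  · have hNF : ∀ ℓ, p * (N.mulVec F) ℓ ∈ L := by
      intro ℓ
      have : p * (N.mulVec F) ℓ = p * F ℓ - p ^ 2 * ∑ ℓ', β' ℓ ℓ' * F ℓ' := by
        rw [hN, Matrix.sub_mulVec, Matrix.one_mulVec, Pi.sub_apply, Matrix.smul_mulVec,
          Pi.smul_apply, smul_eq_mul]
        simp only [Matrix.mulVec, dotProduct]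
        ring
      rw [this]
      exact h ℓ
    intro ℓ
    have h1 : N.det • F = N.adjugate.mulVec (N.mulVec F) := by
      rw [Matrix.mulVec_mulVec, Matrix.adjugate_mul, Matrix.smul_mulVec, Matrix.one_mulVec]
    have h2 : p * N.det * F ℓ = ∑ ℓ', N.adjugate ℓ ℓ' * (p * (N.mulVec F) ℓ') := by
      have := congrFun h1 ℓ
      rw [Pi.smul_apply, smul_eq_mul] at this
      rw [mul_assoc, this]
      simp only [Matrix.mulVec, dotProduct, Finset.mul_sum]
      refine Finset.sum_congr rfl fun ℓ' _ => ?_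
      ring
    rw [h2]
    exact Ideal.sum_mem _ fun ℓ' _ => Ideal.mul_mem_left _ _ (hNF ℓ')

/-- Putting the tail condition into matrix form. -/
theorem exists_beta {P : Type*} [CommRing P] {m c : ℕ} (L : Ideal P) (p : P) (F F' : Fin m → P)
    (hF' : ∀ ℓ, F ℓ = p ^ 2 * F' ℓ)
    (hlead : ∀ ℓ : Fin m, (ℓ : ℕ) < c → F ℓ ∈ L)
    (htail : ∀ ℓ : Fin m, c ≤ (ℓ : ℕ) →
      p * F ℓ ∈ Ideal.span (F '' {j' : Fin m | (j' : ℕ) < c}) ⊔ Ideal.span (Set.range F) ^ 2) :
    ∃ β' : Matrix (Fin m) (Fin m) P, ∀ ℓ, p * F ℓ - p ^ 2 * ∑ ℓ', β' ℓ ℓ' * F ℓ' ∈ L := by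
  classical
  have hrow : ∀ ℓ, ∃ row : Fin m → P, p * F ℓ - p ^ 2 * ∑ ℓ', row ℓ' * F ℓ' ∈ L := by
    intro ℓ
    by_cases hℓ : (ℓ : ℕ) < c
    · refine ⟨0, ?_⟩
      simp only [Pi.zero_apply, zero_mul, Finset.sum_const_zero, mul_zero, sub_zero]
      exact Ideal.mul_mem_left _ _ (hlead ℓ hℓ)
    · obtain ⟨x, hx, y, hy, hxy⟩ := Submodule.mem_sup.1 (htail ℓ (not_lt.1 hℓ))
      have hxL : x ∈ L := by
        refine (Ideal.span_le.2 ?_) hx
        rintro _ ⟨j, hj, rfl⟩
        exact hlead j hj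
      have hy' : y ∈ (Ideal.span (Set.range F)) • (Submodule.span P (Set.range F)) := by
        have : (Ideal.span (Set.range F)) • (Submodule.span P (Set.range F)) =
            Ideal.span (Set.range F) ^ 2 := by
          rw [pow_two]; rfl
        rw [this]; exact hy
      obtain ⟨a, ha, hay⟩ := (Submodule.mem_ideal_smul_span_iff_exists_sum _ F y).1 hy'
      have hle : Ideal.span (Set.range F) ≤ Ideal.span {p ^ 2} := by
        rw [Ideal.span_le]
        rintro _ ⟨ℓ, rfl⟩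
        rw [hF']
        exact Ideal.mul_mem_right _ _ (Ideal.mem_span_singleton_self _)
      have hex : ∀ i, ∃ b, b * p ^ 2 = a i := fun i => Ideal.mem_span_singleton'.1 (hle (ha i))
      choose b hb using hex
      refine ⟨b, ?_⟩
      have hysum : y = p ^ 2 * ∑ ℓ', b ℓ' * F ℓ' := by
        rw [← hay, Finsupp.sum_fintype a (fun i c => c • F i) (fun i => zero_smul _ _),
          Finset.mul_sum]
        refine Finset.sum_congr rfl fun i _ => ?_
        rw [← hb i, smul_eq_mul]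
        ring
      rw [← hxy, hysum, add_sub_cancel_right]
      exact hxL
  choose β' hβ' using hrow
  exact ⟨Matrix.of β', hβ'⟩


theorem notMem_of_sub_one_mem {P : Type*} [CommRing P] (J : Ideal P) (Q : Ideal (P ⧸ J))
    [hQ : Q.IsPrime] (p x : P) (hp : Ideal.Quotient.mk J p ∈ Q) (hx : x - 1 ∈ Ideal.span {p}) :
    Ideal.Quotient.mk J x ∉ Q := by
  intro hxQ
  obtain ⟨z, hz⟩ := Ideal.mem_span_singleton'.1 hx
  have h1 : (1 : P ⧸ J) =
      Ideal.Quotient.mk J x - Ideal.Quotient.mk J z * Ideal.Quotient.mk J p := by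
    rw [← map_mul, ← map_sub, hz, sub_sub_cancel, map_one]
  refine hQ.ne_top ((Ideal.eq_top_iff_one _).2 ?_)
  rw [h1]
  exact sub_mem hxQ (Ideal.mul_mem_left _ _ hp)

/-- The case `π ∈ Q` of the desingularization lemma. -/
theorem isSmoothAt_of_mem {R : Type u} [CommRing R] {σ : Type} [Finite σ] {m c : ℕ} (hcm : c ≤ m)
    (π r₀ : R) (hr₀ : ∀ x : R, π ^ 2 * x = 0 → π * (r₀ * x) = 0)
    (g : Fin c → MvPolynomial σ R) (vv : Fin c → σ) (hvv : Function.Injective vv)
    (hjac : ∀ j k, pderiv (vv k) (g j) - (1 : Matrix (Fin c) (Fin c) (MvPolynomial σ R)) j k ∈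
      Ideal.span {C π})
    (F F' : Fin m → MvPolynomial σ R) (hF' : ∀ ℓ, F ℓ = C π ^ 2 * F' ℓ)
    (hlead : ∀ j : Fin c, F (Fin.castLE hcm j) = C π ^ 3 * g j)
    (htail : ∀ ℓ : Fin m, c ≤ (ℓ : ℕ) → C π * F ℓ ∈
      Ideal.span (F '' {j' : Fin m | (j' : ℕ) < c}) ⊔ Ideal.span (Set.range F) ^ 2)
    (J : Ideal (MvPolynomial σ R)) (hJ : J = Ideal.span (Set.range g ∪ Set.range F))
    (Q : Ideal (MvPolynomial σ R ⧸ J)) [hQ : Q.IsPrime] (hπQ : Ideal.Quotient.mk J (C π) ∈ Q)
    (hrQ : Ideal.Quotient.mk J (C r₀) ∉ Q) : Algebra.IsSmoothAt R Q := by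
  classical
  set L : Ideal (MvPolynomial σ R) := Ideal.span (Set.range g) with hL
  have hgL : ∀ j, g j ∈ L := fun j => Ideal.subset_span ⟨j, rfl⟩
  have hleadL : ∀ ℓ : Fin m, (ℓ : ℕ) < c → F ℓ ∈ L := by
    intro ℓ hℓ
    have : ℓ = Fin.castLE hcm ⟨ℓ, hℓ⟩ := by ext; simp
    rw [this, hlead]
    exact Ideal.mul_mem_left _ _ (hgL _)
  obtain ⟨β', hβ'⟩ := exists_beta L (C π) F F' hF' hleadL htail
  obtain ⟨δ₁, hδ₁, hδF⟩ := exists_det_mul_mem L (C π) F β' hβ'
  set Δ := Matrix.det (Matrix.of fun j k : Fin c => pderiv (vv k) (g j)) with hΔ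
  have hΔ1 : Δ - 1 ∈ Ideal.span {C π} := det_sub_one_mem _ _ (fun j k => hjac j k)
  have hΔQ : Ideal.Quotient.mk J Δ ∉ Q := notMem_of_sub_one_mem J Q (C π) Δ hπQ hΔ1
  have hδQ : Ideal.Quotient.mk J δ₁ ∉ Q := notMem_of_sub_one_mem J Q (C π) δ₁ hπQ hδ₁
  have hR : ∀ r : R, π ^ 3 * r = 0 → (r₀ * π ^ 2) * r = 0 := by
    intro r hr
    have h1 : π ^ 2 * (π * r) = 0 := by rw [← hr]; ring
    have h2 := hr₀ _ h1
    rw [← h2]; ring
  have hgJ : ∀ j, g j ∈ J := fun j => by rw [hJ]; exact Ideal.subset_span (Or.inl ⟨j, rfl⟩)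
  refine Groth.Agent.Lib.Helper81.Pop.isSmoothAt_quotient_of_jacobian J g hgJ vv hvv Q hΔQ ?_
  refine hloc_of_generators (Set.range g ∪ Set.range F) J hJ L Q ?_
  rintro t (⟨j, rfl⟩ | ⟨ℓ, rfl⟩)
  · exact ⟨1, by rw [map_one]; exact fun h1 => hQ.ne_top ((Ideal.eq_top_iff_one _).2 h1),
      by rw [one_mul]; exact hgL j⟩
  · have h1 : C (π ^ 3) * (δ₁ * F' ℓ) ∈ L := by
      have : C (π ^ 3) * (δ₁ * F' ℓ) = C π * δ₁ * F ℓ := by rw [hF', map_pow]; ring
      rw [this]; exact hδF ℓ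
    obtain ⟨N, hN⟩ := exists_pow_mul_mem_span_of_flat (π ^ 3) (r₀ * π ^ 2) hR g vv hvv _ h1
    refine ⟨Δ ^ N * (C r₀ * δ₁), ?_, ?_⟩
    · rw [map_mul, map_pow, map_mul]
      intro hmem
      rcases hQ.mem_or_mem hmem with h | h
      · exact hΔQ (hQ.mem_of_pow_mem _ h)
      · rcases hQ.mem_or_mem h with h | h
        · exact hrQ h
        · exact hδQ h
    · have : Δ ^ N * (C r₀ * δ₁) * F ℓ = Δ ^ N * (C (r₀ * π ^ 2) * (δ₁ * F' ℓ)) := by
        rw [hF', map_mul, map_pow]; ring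
      rw [this]; exact hN

/-- The case `π ∉ Q` of the desingularization lemma. -/
theorem isSmoothAt_of_notMem {R A : Type u} [CommRing R] [CommRing A] [Algebra R A] {n m : ℕ}
    (f : Fin m → MvPolynomial (Fin n) R) (hom : MvPolynomial (Fin n) R →ₐ[R] A)
    (surj : Function.Surjective hom)
    (ker_eq : RingHom.ker hom.toRingHom = Ideal.span (Set.range f))
    {σ : Type} [Finite σ] (Xt : Fin n → MvPolynomial σ R) (wv : Fin n → σ)
    (hwv : Function.Injective wv) (d : MvPolynomial σ R)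
    (hd : ∀ i k, pderiv (wv k) (Xt i) = if i = k then d else 0)
    (J : Ideal (MvPolynomial σ R))
    (α : A →ₐ[R] MvPolynomial σ R ⧸ J) (hα : ∀ p, α (hom p) = Ideal.Quotient.mk J (aeval Xt p))
    (Q : Ideal (MvPolynomial σ R ⧸ J)) [hQ : Q.IsPrime] (hdQ : Ideal.Quotient.mk J d ∉ Q)
    [hsm : Algebra.IsSmoothAt R (Q.comap α)]
    (hloc : ∀ t ∈ J, ∃ s, Ideal.Quotient.mk J s ∉ Q ∧
      s * t ∈ Ideal.span (Set.range fun ℓ => aeval Xt (f ℓ))) :
    Algebra.IsSmoothAt R Q := by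
  classical
  obtain ⟨a, haq, c', rows, cols, a', haa', hkill⟩ :=
    Groth.Agent.S2108.result f hom surj ker_eq (Q.comap α)
  obtain ⟨a₁, ha₁⟩ := surj a
  obtain ⟨a₂, ha₂, hrows⟩ :=
    Groth.Agent.Lib.Helper81.Pop.exists_mul_mem_span_of_mul_mem_sup_sq f rows a₁ (hkill a₁ ha₁)
  set ψ : MvPolynomial (Fin n) R →ₐ[R] MvPolynomial σ R := aeval Xt with hψ
  have hker0 : ∀ x ∈ Ideal.span (Set.range f), hom x = 0 := by
    intro x hx
    have : x ∈ RingHom.ker hom.toRingHom := by rw [ker_eq]; exact hx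
    exact this
  have hFJ : ∀ ℓ, ψ (f ℓ) ∈ J := by
    intro ℓ
    rw [← Ideal.Quotient.eq_zero_iff_mem, ← hα, hker0 _ (Ideal.subset_span ⟨ℓ, rfl⟩), map_zero]
  refine Groth.Agent.Lib.Helper81.Pop.isSmoothAt_quotient_of_jacobian J
    (fun j => ψ (f (rows j))) (fun j => hFJ _) (wv ∘ cols) (hwv.comp cols.injective) Q ?_ ?_
  · have hmat : (Matrix.of fun j k : Fin c' => pderiv ((wv ∘ cols) k) (ψ (f (rows j)))) =
        d • (ψ.toRingHom.mapMatrix
          (Matrix.of fun j k : Fin c' => pderiv (cols k) (f (rows j)))) := by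
      ext j k
      rw [Matrix.of_apply, Function.comp_apply, hψ, pderiv_aeval, Matrix.smul_apply,
        RingHom.mapMatrix_apply, Matrix.map_apply, Matrix.of_apply]
      simp only [hd]
      rw [Finset.sum_eq_single (cols k)]
      · rw [if_pos rfl, smul_eq_mul, mul_comm]; rfl
      · intro i _ hi; rw [if_neg hi, mul_zero]
      · intro h; exact absurd (Finset.mem_univ _) h
    rw [hmat, Matrix.det_smul, ← RingHom.map_det, map_mul, map_pow, Fintype.card_fin]
    have hminor : Ideal.Quotient.mk J (ψ.toRingHom (Matrix.det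
        (Matrix.of fun j k : Fin c' => pderiv (cols k) (f (rows j))))) =
        α (hom (Smoothing.jacobianMinor f rows cols)) := by
      rw [hα]; rfl
    rw [hminor]
    intro hmem
    rcases hQ.mem_or_mem hmem with h | h
    · exact hdQ (hQ.mem_of_pow_mem _ h)
    · apply haq
      rw [haa']
      exact Ideal.mul_mem_left _ _ h
  · intro t ht
    obtain ⟨s₁, hs₁, h₁⟩ := hloc t ht
    refine ⟨ψ a₂ * s₁, ?_, ?_⟩
    · rw [map_mul]
      intro hmem
      rcases hQ.mem_or_mem hmem with h | h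
      · apply haq
        have h2 : hom a₂ = a ^ m := by
          have := hker0 _ ha₂
          rw [map_sub, sub_eq_zero, map_pow, ha₁] at this
          exact this
        have h3 : α (a ^ m) ∈ Q := by rw [← h2, hα]; exact h
        rw [map_pow] at h3
        exact hQ.mem_of_pow_mem _ h3
      · exact hs₁ h
    · rw [mul_assoc]
      have hmap : ∀ x ∈ Ideal.span (Set.range fun ℓ => ψ (f ℓ)),
          ψ a₂ * x ∈ Ideal.span (Set.range fun j => ψ (f (rows j))) := by
        intro x hx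
        induction hx using Submodule.span_induction with
        | mem x hx =>
          obtain ⟨ℓ, rfl⟩ := hx
          rw [← map_mul]
          have h4 := Ideal.mem_map_of_mem ψ.toRingHom (hrows ℓ)
          rw [Ideal.map_span, ← Set.range_comp] at h4
          exact h4
        | zero => rw [mul_zero]; exact zero_mem _
        | add x y _ _ hx hy => rw [mul_add]; exact add_mem hx hy
        | smul c x _ hx => rw [smul_eq_mul, mul_left_comm]; exact Ideal.mul_mem_left _ _ hx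
      exact hmap _ h₁

end Groth.Agent.H34.PopDesB
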