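import Mathlib
import Groth.Agent.H34.PopDesA
import Groth.Agent.H34.PopDesB
import Groth.Agent.H34.PopA

/-!
# The desingularization lemma (Stacks 07CR), core statement (helper34)
-/

set_option autoImplicit false
universe u

namespace Groth.Agent.H34.PopDesing

open MvPolynomial Groth.Agent.H34.PopDesA Groth.Agent.H34.PopDesB

section defs

variable {R : Type u} [CommRing R] {n c : ℕ}

/-- the new variables `y_i = ∑ s_ik v_k + π w_i` -/
noncomputable def yv (π : R) (s : Matrix (Fin n) (Fin c) R) (i : Fin n) :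
    MvPolynomial (Fin c ⊕ Fin n) R :=
  ∑ k, C (s i k) * X (Sum.inl k) + C π * X (Sum.inr i)

/-- the substitution `x_i = r_i + π² y_i` -/
noncomputable def Xt (π : R) (r : Fin n → R) (s : Matrix (Fin n) (Fin c) R) (i : Fin n) :
    MvPolynomial (Fin c ⊕ Fin n) R :=
  C (r i) + C (π ^ 2) * yv π s i

theorem pderiv_inr_Xt (π : R) (r : Fin n → R) (s : Matrix (Fin n) (Fin c) R) (i k : Fin n) :
    pderiv (Sum.inr k) (Xt π r s i) = if i = k then C π ^ 3 else 0 := by
  classical
  rw [Xt, yv, map_add, pderiv_C, zero_add, pderiv_C_mul, map_add, map_sum, pderiv_C_mul]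
  have h1 : ∀ k' : Fin c, pderiv (Sum.inr k : Fin c ⊕ Fin n) (C (s i k') * X (Sum.inl k')) = 0 := by
    intro k'
    rw [pderiv_C_mul, pderiv_X_of_ne (by simp), mul_zero]
  rw [Finset.sum_eq_zero (fun k' _ => h1 k'), zero_add]
  by_cases hik : i = k
  · subst hik
    rw [pderiv_X_self, if_pos rfl, mul_one, map_pow]
    ring
  · rw [pderiv_X_of_ne (by simpa using hik), if_neg hik, mul_zero, mul_zero]

theorem exists_F' (π : R) (r : Fin n → R) (s : Matrix (Fin n) (Fin c) R) {m : ℕ}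
    (f : Fin m → MvPolynomial (Fin n) R) (t : Fin m → R) (ht : ∀ j, eval r (f j) = π ^ 4 * t j) :
    ∃ F' : Fin m → MvPolynomial (Fin c ⊕ Fin n) R,
      ∀ ℓ, aeval (Xt π r s) (f ℓ) = C π ^ 2 * F' ℓ := by
  have h : ∀ ℓ, ∃ x, aeval (Xt π r s) (f ℓ) = C π ^ 2 * x := by
    intro ℓ
    obtain ⟨E, hE⟩ := taylor2 r (C (π ^ 2) : MvPolynomial (Fin c ⊕ Fin n) R) (yv π s) (f ℓ)
    refine ⟨C (π ^ 2 * t ℓ) + ∑ i, C (eval r (pderiv i (f ℓ))) * yv π s i + C (π ^ 2) * E, ?_⟩
    have : Xt π r s = fun i => algebraMap R (MvPolynomial (Fin c ⊕ Fin n) R) (r i) +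
        C (π ^ 2) * yv π s i := rfl
    rw [this, hE, ht]
    simp only [MvPolynomial.algebraMap_eq, map_mul, map_pow]
    ring
  choose F' hF' using h
  exact ⟨F', hF'⟩

theorem exists_g (π : R) (r : Fin n → R) (s : Matrix (Fin n) (Fin c) R) {m : ℕ} (hcm : c ≤ m)
    (f : Fin m → MvPolynomial (Fin n) R) (t : Fin m → R) (ht : ∀ j, eval r (f j) = π ^ 4 * t j)
    (t₀ : R)
    (hs : (Matrix.of fun (j : Fin c) (i : Fin n) =>
        eval r (pderiv i (f (Fin.castLE hcm j)))) * s =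
      (π * (1 - π ^ 3 * t₀)) • (1 : Matrix (Fin c) (Fin c) R)) :
    ∃ E' : Fin c → MvPolynomial (Fin c ⊕ Fin n) R,
      ∀ j, aeval (Xt π r s) (f (Fin.castLE hcm j)) =
        C π ^ 3 * (C (1 - π ^ 3 * t₀) * X (Sum.inl j) +
          ∑ i, C (eval r (pderiv i (f (Fin.castLE hcm j)))) * X (Sum.inr i) + C π * E' j) := by
  classical
  have h : ∀ j : Fin c, ∃ x, aeval (Xt π r s) (f (Fin.castLE hcm j)) =
      C π ^ 3 * (C (1 - π ^ 3 * t₀) * X (Sum.inl j) +
        ∑ i, C (eval r (pderiv i (f (Fin.castLE hcm j)))) * X (Sum.inr i) + C π * x) := by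
    intro j
    obtain ⟨E, hE⟩ := taylor2 r (C (π ^ 2) : MvPolynomial (Fin c ⊕ Fin n) R) (yv π s)
      (f (Fin.castLE hcm j))
    refine ⟨C (t (Fin.castLE hcm j)) + E, ?_⟩
    have : Xt π r s = fun i => algebraMap R (MvPolynomial (Fin c ⊕ Fin n) R) (r i) +
        C (π ^ 2) * yv π s i := rfl
    rw [this, hE, ht]
    have hsum : ∑ i, algebraMap R (MvPolynomial (Fin c ⊕ Fin n) R)
        (eval r (pderiv i (f (Fin.castLE hcm j)))) * yv π s i =
        C (π * (1 - π ^ 3 * t₀)) * X (Sum.inl j) +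
          C π * ∑ i, C (eval r (pderiv i (f (Fin.castLE hcm j)))) * X (Sum.inr i) := by
      simp only [yv, mul_add, Finset.sum_add_distrib, Finset.mul_sum, MvPolynomial.algebraMap_eq]
      congr 1
      · rw [Finset.sum_comm]
        have : ∀ k : Fin c, ∑ i : Fin n, C (eval r (pderiv i (f (Fin.castLE hcm j)))) *
            (C (s i k) * X (Sum.inl k)) =
            C (((π * (1 - π ^ 3 * t₀)) • (1 : Matrix (Fin c) (Fin c) R)) j k) *
              (X (Sum.inl k) : MvPolynomial (Fin c ⊕ Fin n) R) := by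
          intro k
          rw [← hs, Matrix.mul_apply, map_sum, Finset.sum_mul]
          refine Finset.sum_congr rfl fun i _ => ?_
          rw [Matrix.of_apply, map_mul]
          ring
        simp only [this, Matrix.smul_apply, Matrix.one_apply, smul_eq_mul, mul_ite, mul_one,
          mul_zero]
        rw [Finset.sum_eq_single j]
        · rw [if_pos rfl]
        · intro k _ hk
          rw [if_neg (Ne.symm hk), map_zero, zero_mul]
        · intro h; exact absurd (Finset.mem_univ _) h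
      · refine Finset.sum_congr rfl fun i _ => ?_
        ring
    rw [hsum]
    simp only [MvPolynomial.algebraMap_eq, map_mul, map_pow, map_sub, map_one]
    ring
  choose E' hE' using h
  exact ⟨E', hE'⟩

end defs

/-- The desingularization lemma in explicit coordinates. -/
theorem desing_core {R Λ A : Type u} [CommRing R] [CommRing Λ] [Algebra R Λ] (π : R)
    (hΛ : ∀ x : Λ, π ^ 2 • x = 0 → π • x = 0) [CommRing A] [Algebra R A] (φ : A →ₐ[R] Λ)
    {n m c : ℕ} (hcm : c ≤ m) (f : Fin m → MvPolynomial (Fin n) R)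
    (hom : MvPolynomial (Fin n) R →ₐ[R] A) (surj : Function.Surjective hom)
    (ker_eq : RingHom.ker hom.toRingHom = Ideal.span (Set.range f))
    (htail : ∀ j : Fin m, c ≤ (j : ℕ) → C π * f j ∈
      Ideal.span (f '' {j' : Fin m | (j' : ℕ) < c}) ⊔ Ideal.span (Set.range f) ^ 2)
    (hsm : ∀ (q : Ideal A) [q.IsPrime], algebraMap R A π ∉ q → Algebra.IsSmoothAt R q)
    (r : Fin n → R) (l' : Fin n → Λ)
    (hl : ∀ i, φ (hom (X i)) = algebraMap R Λ (r i) + algebraMap R Λ (π ^ 4) * l' i)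
    (t : Fin m → R) (ht : ∀ j, eval r (f j) = π ^ 4 * t j)
    (s : Matrix (Fin n) (Fin c) R) (t₀ : R)
    (hs : (Matrix.of fun (j : Fin c) (i : Fin n) =>
        eval r (pderiv i (f (Fin.castLE hcm j)))) * s =
      (π * (1 - π ^ 3 * t₀)) • (1 : Matrix (Fin c) (Fin c) R)) :
    ∃ (B : Type u) (_ : CommRing B) (_ : Algebra R B), Algebra.FinitePresentation R B ∧
      ∃ (α : A →ₐ[R] B) (β : B →ₐ[R] Λ), β.comp α = φ ∧
        ∀ r₀ : R, (∀ x : R, π ^ 2 * x = 0 → π * (r₀ * x) = 0) →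
          algebraMap R B r₀ ∈ Smoothing.singularIdeal R B := by
  classical
  obtain ⟨F', hF'⟩ := exists_F' (c := c) π r s f t ht
  obtain ⟨E', hE'⟩ := exists_g π r s hcm f t ht t₀ hs
  obtain ⟨g, hg⟩ : ∃ g : Fin c → MvPolynomial (Fin c ⊕ Fin n) R, ∀ j, g j =
      C (1 - π ^ 3 * t₀) * X (Sum.inl j) +
        ∑ i, C (eval r (pderiv i (f (Fin.castLE hcm j)))) * X (Sum.inr i) + C π * E' j :=
    ⟨_, fun _ => rfl⟩
  obtain ⟨ψ, hψ⟩ : ∃ ψ : MvPolynomial (Fin n) R →ₐ[R] MvPolynomial (Fin c ⊕ Fin n) R,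
      ψ = aeval (Xt π r s) := ⟨_, rfl⟩
  obtain ⟨F, hF⟩ : ∃ F : Fin m → MvPolynomial (Fin c ⊕ Fin n) R, ∀ ℓ, F ℓ = ψ (f ℓ) :=
    ⟨_, fun _ => rfl⟩
  have hFF' : ∀ ℓ, F ℓ = C π ^ 2 * F' ℓ := fun ℓ => by rw [hF, hψ, hF']
  have hlead : ∀ j : Fin c, F (Fin.castLE hcm j) = C π ^ 3 * g j := fun j => by
    rw [hF, hψ, hE', hg]
  obtain ⟨J, hJ⟩ : ∃ J : Ideal (MvPolynomial (Fin c ⊕ Fin n) R),
      J = Ideal.span (Set.range g ∪ Set.range F) := ⟨_, rfl⟩
  have hker0 : ∀ x ∈ Ideal.span (Set.range f), hom x = 0 := by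
    intro x hx
    have : x ∈ RingHom.ker hom.toRingHom := by rw [ker_eq]; exact hx
    exact this
  have hFJ : ∀ ℓ, F ℓ ∈ J := fun ℓ => by
    rw [hJ]; exact Ideal.subset_span (Or.inr ⟨ℓ, rfl⟩)
  have hgJ : ∀ j, g j ∈ J := fun j => by
    rw [hJ]; exact Ideal.subset_span (Or.inl ⟨j, rfl⟩)
  have hψspan : ∀ x ∈ Ideal.span (Set.range f), ψ x ∈ Ideal.span (Set.range F) := by
    intro x hx
    have h1 := Ideal.mem_map_of_mem ψ.toRingHom hx
    rw [Ideal.map_span, ← Set.range_comp] at h1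
    have h2 : (⇑ψ.toRingHom ∘ f) = F := by
      funext ℓ
      rw [hF]; rfl
    rw [h2] at h1
    exact h1
  -- the map `α`
  obtain ⟨α, hα⟩ : ∃ α : A →ₐ[R] MvPolynomial (Fin c ⊕ Fin n) R ⧸ J,
      ∀ p, α (hom p) = Ideal.Quotient.mk J (ψ p) := by
    refine Groth.Agent.H34.PopA.exists_lift_quot J hom surj
      ((Ideal.Quotient.mkₐ R J).comp ψ) ?_
    intro p hp
    have hp' : p ∈ Ideal.span (Set.range f) := by rw [← ker_eq]; exact hp
    show Ideal.Quotient.mk J (ψ p) = 0
    rw [Ideal.Quotient.eq_zero_iff_mem]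
    have h3 : Ideal.span (Set.range F) ≤ J := by
      rw [hJ]; exact Ideal.span_mono Set.subset_union_right
    exact h3 (hψspan p hp')
  -- the map `β`
  obtain ⟨pt, hpt⟩ : ∃ pt : Fin c ⊕ Fin n → Λ,
      pt = Sum.elim (fun _ => 0) (fun i => algebraMap R Λ π * l' i) := ⟨_, rfl⟩
  have hptX : ∀ i, aeval pt (Xt π r s i) = φ (hom (X i)) := by
    intro i
    rw [hl, Xt, yv, hpt]
    simp only [map_add, map_mul, map_sum, aeval_C, aeval_X, Sum.elim_inl, Sum.elim_inr, mul_zero,
      Finset.sum_const_zero, zero_add, map_pow]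
    ring
  have hcomp : ∀ p, aeval pt (ψ p) = φ (hom p) := by
    intro p
    rw [hψ]
    induction p using MvPolynomial.induction_on with
    | C a =>
      rw [aeval_C, ← MvPolynomial.algebraMap_eq, AlgHom.commutes, AlgHom.commutes,
        AlgHom.commutes]
    | add p q hp hq => rw [map_add, map_add, map_add, map_add, hp, hq]
    | mul_X p i hp => rw [map_mul, map_mul, aeval_X, hp, hptX, map_mul, map_mul]
  have hβF : ∀ ℓ, aeval pt (F ℓ) = 0 := fun ℓ => by
    rw [hF, hcomp, hker0 _ (Ideal.subset_span ⟨ℓ, rfl⟩), map_zero]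
  have hβg : ∀ j, aeval pt (g j) = 0 := by
    intro j
    have h3 : algebraMap R Λ π ^ 3 * aeval pt (g j) = 0 := by
      have := hβF (Fin.castLE hcm j)
      rw [hlead, map_mul, map_pow, aeval_C] at this
      exact this
    obtain ⟨γ', hγ'⟩ : ∃ γ' : Λ, aeval pt (g j) = π • γ' := by
      refine ⟨∑ i, algebraMap R Λ (eval r (pderiv i (f (Fin.castLE hcm j)))) * l' i +
        aeval pt (E' j), ?_⟩
      rw [hg, hpt]
      simp only [map_add, map_mul, map_sum, aeval_C, aeval_X, Sum.elim_inl, Sum.elim_inr,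
        mul_zero, zero_add, Algebra.smul_def, mul_add, Finset.mul_sum]
      congr 1
      refine Finset.sum_congr rfl fun i _ => ?_
      ring
    have h4 : π ^ (3 + 1) • γ' = 0 := by
      rw [pow_succ, mul_smul, ← hγ', Algebra.smul_def, map_pow]
      exact h3
    rw [hγ']
    exact smul_eq_zero_of_pow_smul π hΛ 3 γ' h4
  have hβJ : ∀ x ∈ J, aeval pt x = 0 := by
    intro x hx
    have hle : J ≤ RingHom.ker (aeval pt : MvPolynomial (Fin c ⊕ Fin n) R →ₐ[R] Λ).toRingHom := by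
      rw [hJ, Ideal.span_le]
      rintro _ (⟨j, rfl⟩ | ⟨ℓ, rfl⟩)
      · exact hβg j
      · exact hβF ℓ
    exact hle hx
  obtain ⟨β, hβ⟩ : ∃ β : (MvPolynomial (Fin c ⊕ Fin n) R ⧸ J) →ₐ[R] Λ,
      ∀ p, β (Ideal.Quotient.mk J p) = aeval pt p :=
    ⟨Ideal.Quotient.liftₐ J (aeval pt) hβJ, fun p => rfl⟩
  have hfp : Algebra.FinitePresentation R (MvPolynomial (Fin c ⊕ Fin n) R ⧸ J) := by
    apply Algebra.FinitePresentation.quotient
    rw [hJ]
    exact ⟨Finset.univ.image g ∪ Finset.univ.image F, by simp⟩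
  refine ⟨MvPolynomial (Fin c ⊕ Fin n) R ⧸ J, inferInstance, inferInstance, hfp, α, β, ?_, ?_⟩
  · apply AlgHom.ext
    intro a
    obtain ⟨p, rfl⟩ := surj a
    rw [AlgHom.comp_apply, hα, hβ, hcomp]
  · intro r₀ hr₀
    rw [Smoothing.singularIdeal, PrimeSpectrum.mem_vanishingIdeal]
    intro Qp hQp
    by_contra hrQ
    apply hQp
    show Algebra.IsSmoothAt R Qp.asIdeal
    haveI := Qp.isPrime
    by_cases hπQ : Ideal.Quotient.mk J (C π) ∈ Qp.asIdeal
    · -- the case `π ∈ Q`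
      have hjac : ∀ j k, pderiv (Sum.inl k) (g j) -
          (1 : Matrix (Fin c) (Fin c) (MvPolynomial (Fin c ⊕ Fin n) R)) j k ∈
            Ideal.span {C π} := by
        intro j k
        rw [hg, map_add, map_add, pderiv_C_mul, pderiv_C_mul, map_sum]
        have h1 : ∀ i : Fin n, pderiv (Sum.inl k : Fin c ⊕ Fin n)
            (C (eval r (pderiv i (f (Fin.castLE hcm j)))) * X (Sum.inr i)) = 0 := by
          intro i
          rw [pderiv_C_mul, pderiv_X_of_ne (by simp), mul_zero]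
        rw [Finset.sum_eq_zero (fun i _ => h1 i), add_zero, Matrix.one_apply]
        rw [Ideal.mem_span_singleton']
        by_cases hjk : j = k
        · subst hjk
          rw [pderiv_X_self, if_pos rfl]
          refine ⟨- C (π ^ 2 * t₀) + pderiv (Sum.inl j) (E' j), ?_⟩
          simp only [map_sub, map_one, map_mul, map_pow]
          ring
        · rw [pderiv_X_of_ne (by simpa using hjk), if_neg hjk]
          refine ⟨pderiv (Sum.inl k) (E' j), ?_⟩
          ring
      have htailF : ∀ ℓ : Fin m, c ≤ (ℓ : ℕ) → C π * F ℓ ∈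
          Ideal.span (F '' {j' : Fin m | (j' : ℕ) < c}) ⊔ Ideal.span (Set.range F) ^ 2 := by
        intro ℓ hℓ
        have h1 := Ideal.mem_map_of_mem ψ.toRingHom (htail ℓ hℓ)
        rw [Ideal.map_sup, Ideal.map_pow, Ideal.map_span, Ideal.map_span, ← Set.image_comp,
          ← Set.range_comp] at h1
        have h2 : (⇑ψ.toRingHom ∘ f) = F := by
          funext ℓ
          rw [hF]; rfl
        have h3 : ψ.toRingHom (C π * f ℓ) = C π * F ℓ := by
          rw [map_mul, hF]
          congr 1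
          show ψ (algebraMap R (MvPolynomial (Fin n) R) π) = C π
          rw [AlgHom.commutes]
          rfl
        rw [h2, h3] at h1
        exact h1
      exact isSmoothAt_of_mem hcm π r₀ hr₀ g Sum.inl Sum.inl_injective hjac F F' hFF' hlead
        htailF J hJ Qp.asIdeal hπQ hrQ
    · -- the case `π ∉ Q`
      haveI : Algebra.IsSmoothAt R (Qp.asIdeal.comap α) := by
        apply hsm
        intro hmem
        apply hπQ
        have : α (algebraMap R A π) ∈ Qp.asIdeal := hmem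
        rw [AlgHom.commutes] at this
        exact this
      have hα' : ∀ p, α (hom p) = Ideal.Quotient.mk J (aeval (Xt π r s) p) := fun p => by
        rw [hα, hψ]
      have hdQ : Ideal.Quotient.mk J (C π ^ 3) ∉ Qp.asIdeal := by
        rw [map_pow]
        exact fun h => hπQ (Ideal.IsPrime.mem_of_pow_mem inferInstance _ h)
      refine isSmoothAt_of_notMem f hom surj ker_eq (Xt π r s) Sum.inr Sum.inr_injective
        (C π ^ 3) (pderiv_inr_Xt π r s) J α hα' Qp.asIdeal hdQ ?_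
      have hFeq : (fun ℓ => aeval (Xt π r s) (f ℓ)) = F := by
        funext ℓ
        rw [hF, hψ]
      rw [hFeq]
      refine hloc_of_generators (Set.range g ∪ Set.range F) J hJ _ Qp.asIdeal ?_
      rintro t (⟨j, rfl⟩ | ⟨ℓ, rfl⟩)
      · refine ⟨C π ^ 3, hdQ, ?_⟩
        rw [← hlead]
        exact Ideal.subset_span ⟨_, rfl⟩
      · refine ⟨1, ?_, ?_⟩
        · rw [map_one]
          exact fun h1 => (Ideal.IsPrime.ne_top inferInstance) ((Ideal.eq_top_iff_one _).2 h1)
        · rw [one_mul]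
          exact Ideal.subset_span ⟨_, rfl⟩

end Groth.Agent.H34.PopDesing
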