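import Mathlib
import Groth.Agent.S2027
import Groth.Agent.S6829
import Groth.Agent.Lib.Helper81.PopLocal2
import Groth.Agent.Lib.Helper81.PopTors

/-!
# Stacks 07CT: the desingularization lemma over a base `D` (helper34)
-/

set_option autoImplicit false
universe u

namespace Groth.Agent.H34.PopBC

open TensorProduct Groth.Agent.Lib.Helper81

/-- an element of the singular ideal of `D` over `R` has a power killing `Ann(π²)/Ann(π)` in `D` -/
theorem exists_pow_kill {R D : Type u} [CommRing R] [IsNoetherianRing R] [CommRing D] [Algebra R D]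
    [Algebra.FinitePresentation R D] (π : R) (hR : ∀ r : R, π ^ 2 * r = 0 → π * r = 0)
    (d : D) (hd : d ∈ Smoothing.singularIdeal R D) :
    ∃ N : ℕ, ∀ x : D, algebraMap R D π ^ 2 * x = 0 → algebraMap R D π * (d ^ N * x) = 0 := by
  classical
  haveI : IsNoetherianRing D := Algebra.FiniteType.isNoetherianRing R D
  haveI : Algebra.Smooth R (Localization.Away d) := Pop.smooth_away_of_mem_singularIdeal hd
  haveI : Module.Flat R (Localization.Away d) := inferInstance
  set π' := algebraMap R D π with hπ'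
  have key : ∀ x : D, π' ^ 2 * x = 0 → ∃ k, d ^ k * (π' * x) = 0 := by
    intro x hx
    have h1 : π ^ 2 • (algebraMap D (Localization.Away d) x) = 0 := by
      rw [Algebra.smul_def, IsScalarTower.algebraMap_apply R D (Localization.Away d), ← map_mul,
        map_pow, hx, map_zero]
    have h2 := Pop.smul_eq_zero_of_sq_smul_eq_zero_of_flat π hR _ h1
    rw [Algebra.smul_def, IsScalarTower.algebraMap_apply R D (Localization.Away d), ← map_mul,
      IsLocalization.map_eq_zero_iff (Submonoid.powers d)] at h2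
    obtain ⟨⟨_, k, rfl⟩, hk⟩ := h2
    exact ⟨k, hk⟩
  obtain ⟨S, hS⟩ := (isNoetherianRing_iff_ideal_fg D).1 inferInstance
    (Submodule.span D ({π' ^ 2} : Set D)).annihilator
  have hmem : ∀ x : D, x ∈ (Submodule.span D ({π' ^ 2} : Set D)).annihilator ↔ π' ^ 2 * x = 0 := by
    intro x
    rw [Submodule.mem_annihilator_span_singleton, smul_eq_mul, mul_comm]
  have hex : ∀ s ∈ S, ∃ k, d ^ k * (π' * s) = 0 := fun s hs =>
    key s ((hmem s).1 (hS ▸ Ideal.subset_span hs))
  choose! k hk using hex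
  refine ⟨S.sup k, ?_⟩
  intro x hx
  have hxI : x ∈ Ideal.span (S : Set D) := by rw [hS]; exact (hmem x).2 hx
  clear hx
  induction hxI using Submodule.span_induction with
  | mem s hs =>
    have hle : k s ≤ S.sup k := Finset.le_sup hs
    obtain ⟨e, he⟩ := Nat.exists_eq_add_of_le hle
    have : π' * (d ^ S.sup k * s) = d ^ e * (d ^ k s * (π' * s)) := by
      rw [he, pow_add]; ring
    rw [this, hk s hs, mul_zero]
  | zero => rw [mul_zero, mul_zero]
  | add x y _ _ hx hy => rw [mul_add, mul_add, hx, hy, add_zero]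
  | smul a x _ hx =>
    have : π' * (d ^ S.sup k * a • x) = a * (π' * (d ^ S.sup k * x)) := by
      rw [smul_eq_mul]; ring
    rw [this, hx, mul_zero]


/-- Stacks 07CT with a general name for the ideal `π⁴ D`. -/
theorem core {R Λ A D : Type u} [CommRing R] [IsNoetherianRing R]
    [CommRing Λ] [Algebra R Λ] (π : R) (hR : ∀ r : R, π ^ 2 * r = 0 → π * r = 0)
    (hΛ : ∀ x : Λ, π ^ 2 • x = 0 → π • x = 0) [CommRing A] [Algebra R A]
    [Algebra.FinitePresentation R A] [CommRing D] [Algebra R D] [Algebra.FinitePresentation R D]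
    (φ : A →ₐ[R] Λ) (δ : D →ₐ[R] Λ) (hπ : Smoothing.IsStrictlyStandard R A (algebraMap R A π))
    (I : Ideal D) (hI : I = Ideal.span {algebraMap R D π ^ 4})
    (ψ : A →ₐ[R] D ⧸ I)
    (hψ : ∀ (a : A) (d : D), Ideal.Quotient.mk I d = ψ a →
      δ d - φ a ∈ Ideal.span {algebraMap R Λ (π ^ 4)}) :
    ∃ (B : Type u) (_ : CommRing B) (_ : Algebra R B) (_ : Algebra D B) (_ : IsScalarTower R D B),
      Algebra.FinitePresentation R B ∧
      ∃ (α : A →ₐ[R] B) (β : B →ₐ[R] Λ), β.comp α = φ ∧
        β.comp (IsScalarTower.toAlgHom R D B) = δ ∧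
        (Smoothing.singularIdeal R D).map (algebraMap D B) ≤ Smoothing.singularIdeal D B ∧
        (Smoothing.singularIdeal R D).map (algebraMap D B) ≤ Smoothing.singularIdeal R B := by
  classical
  subst hI
  haveI : IsNoetherianRing D := Algebra.FiniteType.isNoetherianRing R D
  letI algDΛ : Algebra D Λ := δ.toRingHom.toAlgebra
  haveI : IsScalarTower R D Λ := IsScalarTower.of_algebraMap_eq (fun r => (δ.commutes r).symm)
  have hδ : ∀ d : D, algebraMap D Λ d = δ d := fun d => rfl
  have hΛ' : ∀ x : Λ, (algebraMap R D π) ^ 2 • x = 0 → (algebraMap R D π) • x = 0 := by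
    intro x hx
    rw [← map_pow, algebraMap_smul] at hx
    rw [algebraMap_smul]
    exact hΛ x hx
  have hπ4 : algebraMap D Λ ((algebraMap R D π) ^ 4) = algebraMap R Λ (π ^ 4) := by
    rw [hδ, ← map_pow, AlgHom.commutes]
  obtain ⟨φ', hφ'⟩ : ∃ φ' : D ⊗[R] A →ₐ[D] Λ, ∀ d a, φ' (d ⊗ₜ a) = δ d * φ a :=
    ⟨Algebra.TensorProduct.lift (Algebra.ofId D Λ) φ (fun _ _ => Commute.all _ _),
      fun d a => Algebra.TensorProduct.lift_tmul _ _ _ _ _⟩
  obtain ⟨ρ, hρt⟩ : ∃ ρ : D ⊗[R] A →ₐ[D] D ⧸ Ideal.span {(algebraMap R D π) ^ 4},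
      ∀ d a, ρ (d ⊗ₜ a) = Ideal.Quotient.mk _ d * ψ a :=
    ⟨Algebra.TensorProduct.lift (Algebra.ofId D _) ψ (fun _ _ => Commute.all _ _),
      fun d a => Algebra.TensorProduct.lift_tmul _ _ _ _ _⟩
  have hstd : Smoothing.IsStrictlyStandard D (D ⊗[R] A) (algebraMap D (D ⊗[R] A) (algebraMap R D π)) := by
    have h1 := (Groth.Agent.S6829.result (R := R) (A := A) (R' := D) (algebraMap R A π)).2 hπ
    have h2 : algebraMap D (D ⊗[R] A) (algebraMap R D π) = (1 : D) ⊗ₜ[R] (algebraMap R A π) := by
      rw [Algebra.TensorProduct.algebraMap_apply, Algebra.algebraMap_self, RingHom.id_apply,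
        Algebra.algebraMap_eq_smul_one, Algebra.algebraMap_eq_smul_one (A := A),
        TensorProduct.smul_tmul]
    rw [h2]
    exact h1
  have hI0 : ∀ d : D, Ideal.Quotient.mk (Ideal.span {(algebraMap R D π) ^ 4}) d = 0 →
      δ d ∈ Ideal.span {algebraMap R Λ (π ^ 4)} := by
    intro d hd
    rw [Ideal.Quotient.eq_zero_iff_mem, Ideal.mem_span_singleton'] at hd
    obtain ⟨z, rfl⟩ := hd
    rw [map_mul, ← hδ ((algebraMap R D π) ^ 4), hπ4]
    exact Ideal.mul_mem_left _ _ (Ideal.mem_span_singleton_self _)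
  have hρ : ∀ (a : D ⊗[R] A) (d : D), Ideal.Quotient.mk (Ideal.span {(algebraMap R D π) ^ 4}) d = ρ a →
      algebraMap D Λ d - φ' a ∈ Ideal.span {algebraMap D Λ ((algebraMap R D π) ^ 4)} := by
    rw [hπ4]
    intro a
    induction a using TensorProduct.induction_on with
    | zero =>
      intro d hd
      rw [map_zero] at hd
      rw [map_zero, sub_zero]
      exact hI0 d hd
    | tmul d₁ a =>
      intro d hd
      obtain ⟨e, he⟩ := Ideal.Quotient.mk_surjective (ψ a)
      have h1 := hψ a e he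
      have h2 : Ideal.Quotient.mk (Ideal.span {(algebraMap R D π) ^ 4}) (d - d₁ * e) = 0 := by
        rw [map_sub, map_mul, hd, he, hρt, sub_self]
      have h3 := hI0 _ h2
      have : algebraMap D Λ d - φ' (d₁ ⊗ₜ a) = δ (d - d₁ * e) + δ d₁ * (δ e - φ a) := by
        rw [hφ', map_sub, map_mul, hδ]; ring
      rw [this]
      exact add_mem h3 (Ideal.mul_mem_left _ _ h1)
    | add x y hx hy =>
      intro d hd
      obtain ⟨dx, hdx⟩ := Ideal.Quotient.mk_surjective (ρ x)
      have h1 := hx dx hdx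
      have h2 := hy (d - dx) (by rw [map_sub, hd, hdx, map_add, add_sub_cancel_left])
      have : algebraMap D Λ d - φ' (x + y) =
          (algebraMap D Λ dx - φ' x) + (algebraMap D Λ (d - dx) - φ' y) := by
        rw [map_add, map_sub]; ring
      rw [this]
      exact add_mem h1 h2
  obtain ⟨B, instB, algDB, hfp, α', β', hcomp, hsing⟩ :=
    Groth.Agent.S2027.result (algebraMap R D π) hΛ' φ' hstd ρ hρ
  letI algRB : Algebra R B := ((algebraMap D B).comp (algebraMap R D)).toAlgebra
  haveI tower : IsScalarTower R D B := IsScalarTower.of_algebraMap_eq (fun r => rfl)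
  haveI : Algebra.FinitePresentation R B := Algebra.FinitePresentation.trans R D B
  -- part (i)
  have hi : ∀ d ∈ Smoothing.singularIdeal R D, algebraMap D B d ∈ Smoothing.singularIdeal D B := by
    intro d hd
    obtain ⟨N, hN⟩ := exists_pow_kill π hR d hd
    have h1 := hsing (d ^ N) hN
    rw [map_pow] at h1
    rw [Pop.mem_singularIdeal_iff] at h1 ⊢
    intro Q _ hQ
    exact Ideal.IsPrime.mem_of_pow_mem inferInstance _ (h1 Q hQ)
  refine ⟨B, instB, algRB, algDB, tower, inferInstance,
    (α'.restrictScalars R).comp Algebra.TensorProduct.includeRight, β'.restrictScalars R,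
    ?_, ?_, ?_, ?_⟩
  · apply AlgHom.ext
    intro a
    have h1 := AlgHom.congr_fun hcomp ((1 : D) ⊗ₜ[R] a)
    rw [hφ', map_one, one_mul] at h1
    exact h1
  · apply AlgHom.ext
    intro d
    show β' (algebraMap D B d) = δ d
    rw [AlgHom.commutes, hδ]
  · rw [Ideal.map_le_iff_le_comap]
    intro d hd
    exact hi d hd
  · rw [Ideal.map_le_iff_le_comap]
    intro d hd
    show algebraMap D B d ∈ Smoothing.singularIdeal R B
    rw [Pop.mem_singularIdeal_iff]
    intro Q _ hQ
    by_contra hdQ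
    apply hQ
    have h1 : Algebra.IsSmoothAt R (Q.comap (algebraMap D B)) := by
      by_contra hns
      exact hdQ ((Pop.mem_singularIdeal_iff d).1 hd _ hns)
    have h2 : Algebra.IsSmoothAt D Q := by
      by_contra hns
      exact hdQ ((Pop.mem_singularIdeal_iff _).1 (hi d hd) Q hns)
    exact Pop.isSmoothAt_trans Q h1 h2

end Groth.Agent.H34.PopBC
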