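import Mathlib
import Groth.Prelude.Def_Smoothing

/-!
# Ind-smoothness is stable under base change

If `L` is an ind-smooth `R`-algebra (factorization form) and `R'` is any `R`-algebra, then
`R' ⊗[R] L` is an ind-smooth `R'`-algebra.
-/

namespace Groth.Agent.H34.PopBaseChange

open TensorProduct MvPolynomial

universe u

section Kernel

variable {R R' L : Type*} [CommRing R] [CommRing R'] [Algebra R R'] [CommRing L] [Algebra R L]

variable (R L) in
/-- the evaluation `R[Y_l : l ∈ L] → L` -/
noncomputable def eps : MvPolynomial L R →ₐ[R] L := aeval id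

variable (R R' L) in
/-- the evaluation `R'[Y_l : l ∈ L] → R' ⊗ L` -/
noncomputable def eps' : MvPolynomial L R' →ₐ[R'] R' ⊗[R] L := aeval (fun l => 1 ⊗ₜ[R] l)

@[simp] lemma eps_X (l : L) : eps R L (X l) = l := by simp [eps]

@[simp] lemma eps'_X (l : L) : eps' R R' L (X l) = 1 ⊗ₜ[R] l := by simp [eps']

lemma eps_surjective : Function.Surjective (eps R L) := fun l => ⟨X l, eps_X l⟩

lemma eps'_surjective : Function.Surjective (eps' R R' L) := by
  intro t
  induction t using TensorProduct.induction_on with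
  | zero => exact ⟨0, map_zero _⟩
  | tmul r l =>
    refine ⟨C r * X l, ?_⟩
    rw [map_mul, eps'_X, ← MvPolynomial.algebraMap_eq, AlgHom.commutes,
      Algebra.TensorProduct.algebraMap_apply, Algebra.TensorProduct.tmul_mul_tmul]
    simp
  | add x y hx hy =>
    obtain ⟨a, rfl⟩ := hx; obtain ⟨b, rfl⟩ := hy; exact ⟨a + b, map_add _ _ _⟩

lemma ker_eps'_le : RingHom.ker (eps' R R' L) ≤
    (RingHom.ker (eps R L)).map (MvPolynomial.map (σ := L) (algebraMap R R')) := by
  set 𝔞 : Ideal (MvPolynomial L R') :=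
    (RingHom.ker (eps R L)).map (MvPolynomial.map (σ := L) (algebraMap R R')) with h𝔞
  -- the `R`-algebra map `R[Y] → R'[Y]/𝔞`
  let m : MvPolynomial L R →ₐ[R] (MvPolynomial L R' ⧸ 𝔞) :=
    aeval (fun l => Ideal.Quotient.mk 𝔞 (X l))
  have hm : ∀ p : MvPolynomial L R,
      m p = Ideal.Quotient.mk 𝔞 (MvPolynomial.map (algebraMap R R') p) := by
    intro p
    induction p using MvPolynomial.induction_on with
    | C a =>
      simp only [m, aeval_C, map_C]
      rw [IsScalarTower.algebraMap_apply R R' (MvPolynomial L R' ⧸ 𝔞)]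
      rfl
    | add p q hp hq => rw [map_add, map_add, map_add, hp, hq]
    | mul_X p i hp => rw [map_mul, map_mul, map_mul, hp]; simp [m]
  have hker : RingHom.ker (eps R L).toRingHom ≤ RingHom.ker m.toRingHom := by
    intro κ hκ
    rw [RingHom.mem_ker]
    change m κ = 0
    rw [hm, Ideal.Quotient.eq_zero_iff_mem]
    exact Ideal.mem_map_of_mem _ hκ
  let lam : L →ₐ[R] (MvPolynomial L R' ⧸ 𝔞) :=
    AlgHom.liftOfSurjective (eps R L) eps_surjective m hker
  have hlam : ∀ l : L, lam l = Ideal.Quotient.mk 𝔞 (X l) := by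
    intro l
    have := AlgHom.liftOfSurjective_apply (eps R L) eps_surjective m hker (X l)
    rw [eps_X] at this
    rw [this]
    simp [m]
  let μ : R' ⊗[R] L →ₐ[R'] (MvPolynomial L R' ⧸ 𝔞) :=
    Algebra.TensorProduct.lift (Algebra.ofId R' _) lam (fun _ _ => Commute.all _ _)
  have hμ : μ.comp (eps' R R' L) = Ideal.Quotient.mkₐ R' 𝔞 := by
    apply MvPolynomial.algHom_ext
    intro l
    simp only [AlgHom.coe_comp, Function.comp_apply, eps'_X, Ideal.Quotient.mkₐ_eq_mk]
    simp only [μ, Algebra.TensorProduct.lift_tmul, map_one, one_mul, hlam]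
  intro p hp
  rw [RingHom.mem_ker] at hp
  have := congrArg (fun φ => φ p) hμ
  simp only [AlgHom.coe_comp, Function.comp_apply, Ideal.Quotient.mkₐ_eq_mk] at this
  rw [hp, map_zero] at this
  exact Ideal.Quotient.eq_zero_iff_mem.mp this.symm

end Kernel

section Finiteness

lemma exists_finset_of_mem_map_single {A B : Type*} [CommRing A] [CommRing B] (φ : A →+* B)
    (I : Ideal A) (x : B) (hx : x ∈ I.map φ) :
    ∃ K : Finset A, (∀ κ ∈ K, κ ∈ I) ∧ x ∈ (Ideal.span (K : Set A)).map φ := by
  classical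
  rw [Ideal.map] at hx
  induction hx using Submodule.span_induction with
  | mem x hx =>
    obtain ⟨κ, hκ, rfl⟩ := hx
    refine ⟨{κ}, by simpa using hκ, ?_⟩
    exact Ideal.mem_map_of_mem _ (Ideal.subset_span (by simp))
  | zero => exact ⟨∅, by simp, zero_mem _⟩
  | add x y _ _ hx hy =>
    obtain ⟨K₁, h₁, h₁'⟩ := hx
    obtain ⟨K₂, h₂, h₂'⟩ := hy
    refine ⟨K₁ ∪ K₂, ?_, ?_⟩
    · intro κ hκ
      rcases Finset.mem_union.mp hκ with h | h
      exacts [h₁ κ h, h₂ κ h]
    · refine add_mem (Ideal.map_mono (Ideal.span_mono ?_) h₁')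
        (Ideal.map_mono (Ideal.span_mono ?_) h₂')
      · exact_mod_cast Finset.subset_union_left
      · exact_mod_cast Finset.subset_union_right
  | smul a x _ hx =>
    obtain ⟨K, h₁, h₂⟩ := hx
    exact ⟨K, h₁, Ideal.mul_mem_left _ _ h₂⟩

lemma exists_finset_of_mem_map {A B : Type*} [CommRing A] [CommRing B] (φ : A →+* B)
    (I : Ideal A) (T : Finset B) (hT : ∀ x ∈ T, x ∈ I.map φ) :
    ∃ K : Finset A, (∀ κ ∈ K, κ ∈ I) ∧ ∀ x ∈ T, x ∈ (Ideal.span (K : Set A)).map φ := by
  classical
  induction T using Finset.induction_on with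
  | empty => exact ⟨∅, by simp, by simp⟩
  | insert a T' _ ih =>
    obtain ⟨K₁, h₁, h₁'⟩ := exists_finset_of_mem_map_single φ I a (hT a (Finset.mem_insert_self _ _))
    obtain ⟨K₂, h₂, h₂'⟩ := ih (fun x hx => hT x (Finset.mem_insert_of_mem hx))
    refine ⟨K₁ ∪ K₂, ?_, ?_⟩
    · intro κ hκ
      rcases Finset.mem_union.mp hκ with h | h
      exacts [h₁ κ h, h₂ κ h]
    · intro x hx
      rcases Finset.mem_insert.mp hx with rfl | hx
      · refine Ideal.map_mono (Ideal.span_mono ?_) h₁'
        exact_mod_cast Finset.subset_union_left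
      · refine Ideal.map_mono (Ideal.span_mono ?_) (h₂' x hx)
        exact_mod_cast Finset.subset_union_right

variable {A : Type*} [CommRing A] {σ : Type*} [DecidableEq σ]

/-- retraction of `A[Y_l : l ∈ σ]` onto `A[Y_l : l ∈ s]`, killing the other variables -/
noncomputable def ret (A : Type*) [CommRing A] {σ : Type*} [DecidableEq σ] (s : Finset σ) :
    MvPolynomial σ A →ₐ[A] MvPolynomial s A :=
  aeval (fun l => if h : l ∈ s then X ⟨l, h⟩ else 0)

lemma ret_rename (s : Finset σ) (q : MvPolynomial s A) :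
    ret A s (rename Subtype.val q) = q := by
  have : (ret A s).comp (rename Subtype.val) = AlgHom.id A _ := by
    apply MvPolynomial.algHom_ext
    intro i
    simp [ret]
  exact congrArg (fun φ => φ q) this

lemma rename_ret (s : Finset σ) (p : MvPolynomial σ A) (hp : (p.vars : Set σ) ⊆ s) :
    rename Subtype.val (ret A s p) = p := by
  obtain ⟨q, rfl⟩ := exists_rename_eq_of_vars_subset_range p (Subtype.val : s → σ)
    Subtype.val_injective (by simpa using hp)
  rw [ret_rename]

end Finiteness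

section Main

variable {R R' L : Type u} [CommRing R] [CommRing R'] [Algebra R R'] [CommRing L] [Algebra R L]

/-- **Ind-smoothness is stable under base change.** -/
theorem indSmooth_baseChange (h : Smoothing.IndSmooth R L) :
    Smoothing.IndSmooth R' (R' ⊗[R] L) := by
  classical
  intro A' _ _ hfp f'
  obtain ⟨n, π', hπ', T, hT⟩ := hfp.out
  -- lifts of the images of the variables
  have hz : ∀ i : Fin n, ∃ z : MvPolynomial L R', eps' R R' L z = f' (π' (X i)) :=
    fun i => eps'_surjective _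
  choose z hz using hz
  have hΨ : (eps' R R' L).comp (aeval z) = f'.comp π' := by
    apply MvPolynomial.algHom_ext
    intro i
    simp [hz]
  have hT' : ∀ x ∈ T, (aeval z : MvPolynomial (Fin n) R' →ₐ[R'] _) x ∈
      (RingHom.ker (eps R L)).map (MvPolynomial.map (σ := L) (algebraMap R R')) := by
    intro x hx
    apply ker_eps'_le
    rw [RingHom.mem_ker]
    have h1 : π' x = 0 := by
      have : x ∈ RingHom.ker π'.toRingHom := hT ▸ Ideal.subset_span hx
      exact this
    have h2 := congrArg (fun φ => φ x) hΨ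
    simp only [AlgHom.coe_comp, Function.comp_apply] at h2
    rw [h2, h1, map_zero]
  obtain ⟨K, hK, hTK⟩ := exists_finset_of_mem_map _ _
    (T.image (aeval z : MvPolynomial (Fin n) R' →ₐ[R'] _)) (by
      intro y hy
      obtain ⟨x, hx, rfl⟩ := Finset.mem_image.mp hy
      exact hT' x hx)
  -- the finite set of variables
  obtain ⟨s, hzs, hKs⟩ : ∃ s : Finset L, (∀ i, ((z i).vars : Set L) ⊆ s) ∧
      ∀ κ ∈ K, (κ.vars : Set L) ⊆ s := by
    refine ⟨(Finset.univ.biUnion fun i => (z i).vars) ∪ K.biUnion (fun κ => κ.vars), ?_, ?_⟩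
    · intro i l hl
      simp only [Finset.coe_union, Finset.coe_biUnion, Set.mem_union, Set.mem_iUnion]
      exact Or.inl ⟨i, by simp, hl⟩
    · intro κ hκ l hl
      simp only [Finset.coe_union, Finset.coe_biUnion, Set.mem_union, Set.mem_iUnion]
      exact Or.inr ⟨κ, hκ, hl⟩
  -- the finitely presented `R`-algebra
  obtain ⟨I₀, hI₀⟩ : ∃ I : Ideal (MvPolynomial s R),
      I = Ideal.span ((K.image (ret R s) : Finset _) : Set (MvPolynomial s R)) := ⟨_, rfl⟩
  have hfp₀ : Algebra.FinitePresentation R (MvPolynomial s R ⧸ I₀) :=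
    Algebra.FinitePresentation.quotient ⟨_, hI₀.symm⟩
  have hkill : ∀ a ∈ I₀, ((eps R L).comp (rename (R := R) (Subtype.val : s → L))) a = 0 := by
    intro a ha
    have hle : I₀ ≤ RingHom.ker ((eps R L).comp (rename (R := R) (Subtype.val : s → L))) := by
      rw [hI₀, Ideal.span_le]
      intro b hb
      obtain ⟨κ, hκ, rfl⟩ := Finset.mem_image.mp (Finset.mem_coe.mp hb)
      rw [SetLike.mem_coe, RingHom.mem_ker, AlgHom.comp_apply, rename_ret _ _ (hKs κ hκ)]
      exact hK κ hκ
    exact hle ha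
  obtain ⟨S, _, _, hS, g₀, h₀, hgh⟩ := h _ hfp₀ (Ideal.Quotient.liftₐ _ _ hkill)
  refine ⟨R' ⊗[R] S, inferInstance, inferInstance, inferInstance, ?_⟩
  -- `θ : R'[Y_s] → R' ⊗ S`
  let θ : MvPolynomial s R' →ₐ[R'] R' ⊗[R] S :=
    aeval (fun y => 1 ⊗ₜ[R] g₀ (Ideal.Quotient.mk I₀ (X y)))
  have hθ : ∀ q : MvPolynomial s R, θ (MvPolynomial.map (algebraMap R R') q) =
      1 ⊗ₜ[R] g₀ (Ideal.Quotient.mk I₀ q) := by
    intro q
    induction q using MvPolynomial.induction_on with
    | C a =>
      have h1 : Ideal.Quotient.mk I₀ (C a) = algebraMap R _ a := rfl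
      have h2 : (algebraMap R R' a) ⊗ₜ[R] (1 : S) = 1 ⊗ₜ[R] (algebraMap R S a) := by
        rw [Algebra.algebraMap_eq_smul_one, Algebra.algebraMap_eq_smul_one,
          TensorProduct.smul_tmul]
      rw [map_C, ← MvPolynomial.algebraMap_eq, AlgHom.commutes, h1, AlgHom.commutes,
        Algebra.TensorProduct.algebraMap_apply, ← h2]
      rfl
    | add p q hp hq => rw [map_add, map_add, hp, hq, map_add, map_add, TensorProduct.tmul_add]
    | mul_X p i hp =>
      rw [map_mul, map_mul, hp, map_X, map_mul, map_mul]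
      simp only [θ, aeval_X, Algebra.TensorProduct.tmul_mul_tmul, mul_one]
  -- `G : R'[X_1..X_n] → R' ⊗ S`
  let G : MvPolynomial (Fin n) R' →ₐ[R'] R' ⊗[R] S := aeval (fun i => θ (ret R' s (z i)))
  have hG : ∀ p, G p = θ (ret R' s ((aeval z : MvPolynomial (Fin n) R' →ₐ[R'] _) p)) := by
    intro p
    have : G = (θ.comp (ret R' s)).comp (aeval z) := by
      apply MvPolynomial.algHom_ext
      intro i
      simp [G]
    rw [this]
    rfl
  have hGker : RingHom.ker π'.toRingHom ≤ RingHom.ker G.toRingHom := by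
    rw [← hT, Ideal.span_le]
    intro x hx
    rw [SetLike.mem_coe, RingHom.mem_ker]
    change G x = 0
    rw [hG]
    have hmem := hTK _ (Finset.mem_image_of_mem _ hx)
    have hle : (Ideal.span (K : Set (MvPolynomial L R))).map
        (MvPolynomial.map (σ := L) (algebraMap R R')) ≤ RingHom.ker (θ.comp (ret R' s)) := by
      rw [Ideal.map_le_iff_le_comap, Ideal.span_le]
      intro κ hκ
      rw [SetLike.mem_coe, Ideal.mem_comap, RingHom.mem_ker, AlgHom.comp_apply]
      rw [← rename_ret s κ (hKs κ hκ), MvPolynomial.map_rename, ret_rename, hθ]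
      have : Ideal.Quotient.mk I₀ (ret R s κ) = 0 :=
        Ideal.Quotient.eq_zero_iff_mem.mpr
          (hI₀ ▸ Ideal.subset_span (Finset.mem_coe.mpr (Finset.mem_image_of_mem _ hκ)))
      rw [this, map_zero, TensorProduct.tmul_zero]
    exact hle hmem
  refine ⟨AlgHom.liftOfSurjective π' hπ' G hGker,
    Algebra.TensorProduct.map (AlgHom.id R' R') h₀, ?_⟩
  apply AlgHom.ext
  intro a
  obtain ⟨p, rfl⟩ := hπ' a
  rw [AlgHom.comp_apply, AlgHom.liftOfSurjective_apply]
  have key : (Algebra.TensorProduct.map (AlgHom.id R' R') h₀).comp G = f'.comp π' := by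
    rw [← hΨ]
    apply MvPolynomial.algHom_ext
    intro i
    simp only [AlgHom.comp_apply, G, aeval_X]
    conv_rhs => rw [← rename_ret s (z i) (hzs i)]
    generalize ret R' s (z i) = q
    have h3 : ((Algebra.TensorProduct.map (AlgHom.id R' R') h₀).comp θ) =
        (eps' R R' L).comp (rename Subtype.val) := by
      apply MvPolynomial.algHom_ext
      intro y
      simp only [AlgHom.comp_apply, θ, aeval_X, Algebra.TensorProduct.map_tmul, rename_X, eps'_X,
        AlgHom.coe_id, id_eq]
      have h4 := congrArg (fun φ => φ (Ideal.Quotient.mk I₀ (X y))) hgh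
      simp only [AlgHom.comp_apply, Ideal.Quotient.liftₐ_apply, Ideal.Quotient.lift_mk] at h4
      rw [h4]
      simp
    exact congrArg (fun φ => φ q) h3
  exact congrArg (fun φ => φ p) key

end Main

end Groth.Agent.H34.PopBaseChange
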