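import Mathlib
import Groth.Agent.S2022

/-!
# Ind-smoothness of an Artinian-type local extension by descent (helper lemma for Popescu, char p)
-/

namespace Groth.Agent.H34.PopDescent

open IsLocalRing TensorProduct

universe u

/-- If `S → T` is faithfully flat and `T` is flat over `R`, then `S` is flat over `R`. -/
theorem flat_of_flat_of_faithfullyFlat (R S T : Type u) [CommRing R] [CommRing S] [CommRing T]
    [Algebra R S] [Algebra S T] [Algebra R T] [IsScalarTower R S T]
    [Module.FaithfullyFlat S T] [Module.Flat R T] : Module.Flat R S := by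
  rw [Module.Flat.iff_lTensor_preserves_injective_linearMap]
  intro N N' _ _ _ _ f hf
  have h1 : Function.Injective (f.lTensor T) :=
    Module.Flat.lTensor_preserves_injective_linearMap f hf
  let g : S ⊗[R] N →ₗ[S] S ⊗[R] N' := TensorProduct.AlgebraTensorModule.lTensor S S f
  have hg : (g : S ⊗[R] N → S ⊗[R] N') = f.lTensor S := rfl
  rw [← hg, ← Module.FaithfullyFlat.lTensor_injective_iff_injective S T g]
  have key := TensorProduct.AlgebraTensorModule.lTensor_comp_cancelBaseChange
    (R := R) (A := S) (B := T) (M := T) f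
  have h2 : Function.Injective ((TensorProduct.AlgebraTensorModule.lTensor T T f) ∘ₗ
      (TensorProduct.AlgebraTensorModule.cancelBaseChange R S T T N).toLinearMap) := by
    rw [LinearMap.coe_comp]
    exact Function.Injective.comp h1 (LinearEquiv.injective _)
  rw [key] at h2
  rw [LinearMap.coe_comp] at h2
  exact Function.Injective.of_comp h2

/-- a finitely generated formally unramified field extension is étale -/
theorem etale_of_formallyUnramified_field (K L : Type u) [Field K] [Field L] [Algebra K L]
    [Algebra.EssFiniteType K L] [Algebra.FormallyUnramified K L] : Algebra.Etale K L := by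
  haveI : Algebra.IsSeparable K L := (Algebra.FormallyUnramified.iff_isSeparable K L).mp inferInstance
  haveI : Algebra.FormallyEtale K L := Algebra.FormallyEtale.of_isSeparable K L
  haveI : Module.Finite K L := Algebra.FormallyUnramified.finite_of_free (R := K) (S := L)
  haveI : Algebra.FiniteType K L := inferInstance
  haveI : Algebra.FinitePresentation K L := Algebra.FinitePresentation.of_finiteType.mp inferInstance
  exact ⟨inferInstance, inferInstance⟩

theorem indSmooth_of_descent {R₀ D Λb : Type u} [CommRing R₀] [IsLocalRing R₀]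
    [IsNoetherianRing R₀] (hnil : IsNilpotent (IsLocalRing.maximalIdeal R₀))
    [CommRing D] [IsLocalRing D] [Algebra R₀ D] [IsLocalHom (algebraMap R₀ D)]
    [CommRing Λb] [Algebra D Λb] [Algebra R₀ Λb] [IsScalarTower R₀ D Λb]
    [Module.Flat R₀ Λb] [Module.FaithfullyFlat D Λb]
    (hmax : (IsLocalRing.maximalIdeal R₀).map (algebraMap R₀ Λb) =
      (IsLocalRing.maximalIdeal D).map (algebraMap D Λb))
    [Algebra.EssFiniteType (IsLocalRing.ResidueField R₀) (IsLocalRing.ResidueField D)]
    [Algebra.FormallyUnramified (IsLocalRing.ResidueField R₀) (IsLocalRing.ResidueField D)] :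
    Smoothing.IndSmooth R₀ D := by
  haveI : Module.Flat R₀ D := flat_of_flat_of_faithfullyFlat R₀ D Λb
  -- the maximal ideal of `R₀` generates that of `D`
  have hm : (maximalIdeal R₀).map (algebraMap R₀ D) = maximalIdeal D := by
    rw [← Ideal.comap_map_eq_self_of_faithfullyFlat (B := Λb) ((maximalIdeal R₀).map (algebraMap R₀ D)),
      ← Ideal.comap_map_eq_self_of_faithfullyFlat (B := Λb) (maximalIdeal D), Ideal.map_map,
      ← IsScalarTower.algebraMap_eq, hmax]
  haveI : Algebra.Etale (ResidueField R₀) (ResidueField D) :=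
    etale_of_formallyUnramified_field _ _
  -- `D/𝔪_{R₀}D` is the residue field of `D`, compatibly with the algebra structures
  let e₀ : (D ⧸ (maximalIdeal R₀).map (algebraMap R₀ D)) ≃+* ResidueField D :=
    Ideal.quotEquivOfEq hm
  letI : Algebra (R₀ ⧸ maximalIdeal R₀) (ResidueField D) :=
    (inferInstance : Algebra (ResidueField R₀) (ResidueField D))
  let e : (D ⧸ (maximalIdeal R₀).map (algebraMap R₀ D)) ≃ₐ[R₀ ⧸ maximalIdeal R₀] ResidueField D :=
    AlgEquiv.ofRingEquiv (f := e₀) (by
      intro x
      obtain ⟨r, rfl⟩ := Ideal.Quotient.mk_surjective x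
      rfl)
  haveI : Algebra.Smooth (R₀ ⧸ maximalIdeal R₀) (ResidueField D) :=
    (inferInstance : Algebra.Smooth (ResidueField R₀) (ResidueField D))
  haveI : Algebra.Smooth (R₀ ⧸ maximalIdeal R₀) (D ⧸ (maximalIdeal R₀).map (algebraMap R₀ D)) :=
    Algebra.Smooth.of_equiv e.symm
  refine Groth.Agent.S2022.result (maximalIdeal R₀) hnil ?_
  intro A _ _ _ f
  exact ⟨D ⧸ (maximalIdeal R₀).map (algebraMap R₀ D), inferInstance, inferInstance, inferInstance,
    f, AlgHom.id _ _, AlgHom.id_comp f⟩

end Groth.Agent.H34.PopDescent
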