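import Mathlib
import Groth.Agent.S2024
import Groth.Agent.S2028
import Groth.Agent.H34.PopDesA
import Groth.Agent.Lib.Helper81.PopLocal2

/-!
# Stacks 07CU: lifting along `π⁸` and desingularizing (helper34)
-/

set_option autoImplicit false
universe u

namespace Groth.Agent.H34.PopLift8

open Groth.Agent.Lib.Helper81

theorem isSmoothAt_congr' {R C : Type*} [CommRing R] [CommRing C] [Algebra R C] {I J : Ideal C}
    [I.IsPrime] [J.IsPrime] (h : I = J) (hJ : Algebra.IsSmoothAt R J) :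
    Algebra.IsSmoothAt R I := by
  subst h
  exact hJ

theorem core {R Λ A C : Type u} [CommRing R] [IsNoetherianRing R] [CommRing Λ]
    [Algebra R Λ] (π : R) (hR : ∀ r : R, π ^ 2 * r = 0 → π * r = 0)
    (hΛ : ∀ x : Λ, π ^ 2 • x = 0 → π • x = 0) [CommRing A] [Algebra R A]
    [Algebra.FinitePresentation R A] (φ : A →ₐ[R] Λ)
    (hπ : Smoothing.IsStrictlyStandard R A (algebraMap R A π))
    (K : Ideal R) (hK : K = Ideal.span {(π ^ 4) ^ 2}) (KΛ : Ideal Λ)
    (hKΛ : KΛ = Ideal.span {algebraMap R Λ ((π ^ 4) ^ 2)})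
    [CommRing C] [Algebra R C] [Algebra (R ⧸ K) C] [IsScalarTower R (R ⧸ K) C]
    [Algebra.FinitePresentation (R ⧸ K) C]
    (γ : A →ₐ[R] C) (g : C →ₐ[R] Λ ⧸ KΛ)
    (hfac : ∀ a : A, g (γ a) = Ideal.Quotient.mk KΛ (φ a)) :
    ∃ (B : Type u) (_ : CommRing B) (_ : Algebra R B), Algebra.FinitePresentation R B ∧
      ∃ (α : A →ₐ[R] B) (β : B →ₐ[R] Λ), β.comp α = φ ∧
        (∀ (Q : Ideal B) [Q.IsPrime], algebraMap R B π ∉ Q → Algebra.IsSmoothAt R Q) ∧
        (Smoothing.singularIdeal (R ⧸ K) C).map g ≤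
          ((Smoothing.singularIdeal R B).map β).radical.map (Ideal.Quotient.mk KΛ) := by
  classical
  subst hK hKΛ
  have hR4 : ∀ r : R, (π ^ 4) ^ 2 * r = 0 → π ^ 4 * r = 0 := by
    intro r hr
    have h1 : π ^ (7 + 1) • r = 0 := by rw [smul_eq_mul, ← hr]; ring
    have h2 := Groth.Agent.H34.PopDesA.smul_eq_zero_of_pow_smul π
      (fun x hx => by rw [smul_eq_mul] at hx ⊢; exact hR x hx) 7 r h1
    rw [smul_eq_mul] at h2
    have : π ^ 4 * r = π ^ 3 * (π * r) := by ring
    rw [this, h2, mul_zero]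
  have hΛ4 : ∀ x : Λ, (π ^ 4) ^ 2 • x = 0 → π ^ 4 • x = 0 := by
    intro x hx
    have h1 : π ^ (7 + 1) • x = 0 := by rw [← hx]; congr 1; ring
    have h2 := Groth.Agent.H34.PopDesA.smul_eq_zero_of_pow_smul π hΛ 7 x h1
    have : π ^ 4 • x = π ^ 3 • (π • x) := by rw [smul_smul]; congr 1; ring
    rw [this, h2, smul_zero]
  obtain ⟨D, instD, algD, hfpD, δ, ψ, ha, hb, hc⟩ := Groth.Agent.S2024.result (π ^ 4) hR4 hΛ4 g
  have hψ' : ∀ (a : A) (d : D), Ideal.Quotient.mk (Ideal.span {algebraMap R D (π ^ 4)}) d =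
      (ψ.comp γ) a → δ d - φ a ∈ Ideal.span {algebraMap R Λ (π ^ 4)} := by
    intro a d hd
    exact ha (γ a) d (φ a) hd (hfac a).symm
  obtain ⟨B, instB, algRB, algDB, tower, hfpB, α, β, hβα, hβδ, hDB, hRB⟩ :=
    Groth.Agent.S2028.result π hR hΛ φ δ hπ (ψ.comp γ) hψ'
  have hI : ∀ (Q : Ideal B) [Q.IsPrime], algebraMap R B π ∉ Q → Algebra.IsSmoothAt R Q := by
    intro Q _ hπQ
    by_contra hns
    have hq : Algebra.IsSmoothAt R (Q.comap (algebraMap D B)) := by
      apply hb
      intro hmem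
      apply hπQ
      have h1 : algebraMap D B (algebraMap R D (π ^ 4)) ∈ Q := hmem
      rw [← IsScalarTower.algebraMap_apply, map_pow] at h1
      exact Ideal.IsPrime.mem_of_pow_mem inferInstance _ h1
    rw [Pop.isSmoothAt_iff_not_singularIdeal_le] at hq
    apply hq
    intro d hd
    have h2 : algebraMap D B d ∈ Smoothing.singularIdeal R B := hRB (Ideal.mem_map_of_mem _ hd)
    exact (Pop.mem_singularIdeal_iff _).1 h2 Q hns
  refine ⟨B, instB, algRB, hfpB, α, β, hβα, hI, ?_⟩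
  have hπB : algebraMap R B π ∈ Smoothing.singularIdeal R B := by
    rw [Pop.mem_singularIdeal_iff]
    intro Q _ hQ
    by_contra hπQ
    exact hQ (hI Q hπQ)
  rw [Ideal.map_le_iff_le_comap]
  intro c hc'
  rw [Ideal.mem_comap]
  obtain ⟨d, hd⟩ := Ideal.Quotient.mk_surjective (ψ c)
  obtain ⟨l, hl⟩ := Ideal.Quotient.mk_surjective (g c)
  have hdl := ha c d l hd hl
  -- `d` lies in the singular ideal of `D`
  have hdH : d ∈ Smoothing.singularIdeal R D := by
    rw [Pop.mem_singularIdeal_iff]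
    intro q _ hq
    by_contra hdq
    apply hq
    have hπq : algebraMap R D (π ^ 4) ∈ q := by
      by_contra h
      exact hq (hb q h)
    have hle : RingHom.ker (Ideal.Quotient.mk (Ideal.span {algebraMap R D (π ^ 4)})) ≤ q := by
      rw [Ideal.mk_ker, Ideal.span_le]
      intro x hx
      rw [Set.mem_singleton_iff] at hx
      rw [hx]
      exact hπq
    haveI : (q.map (Ideal.Quotient.mk (Ideal.span {algebraMap R D (π ^ 4)}))).IsPrime :=
      Ideal.map_isPrime_of_surjective Ideal.Quotient.mk_surjective hle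
    have hcomap : (q.map (Ideal.Quotient.mk (Ideal.span {algebraMap R D (π ^ 4)}))).comap
        (Ideal.Quotient.mk (Ideal.span {algebraMap R D (π ^ 4)})) = q := by
      rw [Ideal.comap_map_of_surjective _ Ideal.Quotient.mk_surjective, sup_eq_left]
      exact hle
    have hcQ : c ∉ (q.map (Ideal.Quotient.mk (Ideal.span {algebraMap R D (π ^ 4)}))).comap ψ := by
      intro hmem
      apply hdq
      rw [← hcomap, Ideal.mem_comap, hd]
      exact hmem
    have hsmC : Algebra.IsSmoothAt (R ⧸ Ideal.span {(π ^ 4) ^ 2})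
        ((q.map (Ideal.Quotient.mk (Ideal.span {algebraMap R D (π ^ 4)}))).comap ψ) := by
      by_contra hns
      exact hcQ ((Pop.mem_singularIdeal_iff c).1 hc' _ hns)
    exact isSmoothAt_congr' hcomap.symm (hc _ hsmC)
  have h1 : algebraMap D B d ∈ Smoothing.singularIdeal R B := hRB (Ideal.mem_map_of_mem _ hdH)
  have h2 : δ d ∈ (Smoothing.singularIdeal R B).map β := by
    have : δ d = β (algebraMap D B d) := by
      rw [← hβδ]; rfl
    rw [this]
    exact Ideal.mem_map_of_mem _ h1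
  have h3 : algebraMap R Λ (π ^ 4) ∈ (Smoothing.singularIdeal R B).map β := by
    have : algebraMap R Λ (π ^ 4) = β (algebraMap R B π ^ 4) := by
      rw [← map_pow, AlgHom.commutes]
    rw [this]
    exact Ideal.mem_map_of_mem _ (Ideal.pow_mem_of_mem _ hπB 4 (by norm_num))
  have h4 : l ∈ (Smoothing.singularIdeal R B).map β := by
    have : l = δ d - (δ d - l) := by ring
    rw [this]
    refine sub_mem h2 ?_
    obtain ⟨z, hz⟩ := Ideal.mem_span_singleton'.1 hdl
    rw [← hz]
    exact Ideal.mul_mem_left _ _ h3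
  rw [← hl]
  exact Ideal.mem_map_of_mem _ (Ideal.le_radical h4)

end Groth.Agent.H34.PopLift8
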