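import Mathlib
import Groth.Prelude.Def_Smoothing
import Groth.Agent.Lib.Helper94.SurjLoc
import Groth.Agent.Lib.Helper81.PopLocal

/-!
# Reduction modulo an ideal and smoothness (helper34)
-/

set_option autoImplicit false
universe u

namespace Groth.Agent.H34.PopRed

open Groth.Agent.Lib.Helper81

/-- Base change of formal smoothness along a surjection of base rings, in "quotient" form. -/
theorem formallySmooth_of_surjective {R₁ R₂ S₁ S₂ : Type u} [CommRing R₁] [CommRing R₂]
    [CommRing S₁] [CommRing S₂] [Algebra R₁ R₂] [Algebra R₁ S₁] [Algebra R₂ S₂]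
    (hsurj : Function.Surjective (algebraMap R₁ R₂)) (v : S₁ →+* S₂)
    (hv : Function.Surjective v)
    (hcompat : ∀ r, v (algebraMap R₁ S₁ r) = algebraMap R₂ S₂ (algebraMap R₁ R₂ r))
    (hker : RingHom.ker v ≤ (RingHom.ker (algebraMap R₁ R₂)).map (algebraMap R₁ S₁))
    [Algebra.FormallySmooth R₁ S₁] : Algebra.FormallySmooth R₂ S₂ := by
  refine Algebra.FormallySmooth.of_comp_surjective fun T _ _ N hN f => ?_
  letI : Algebra R₁ T := ((algebraMap R₂ T).comp (algebraMap R₁ R₂)).toAlgebra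
  haveI : IsScalarTower R₁ R₂ T := IsScalarTower.of_algebraMap_eq (fun _ => rfl)
  let f₁ : S₁ →ₐ[R₁] T ⧸ N :=
    { toRingHom := f.toRingHom.comp v
      commutes' := fun r => by
        show f (v (algebraMap R₁ S₁ r)) = algebraMap R₁ (T ⧸ N) r
        rw [hcompat, AlgHom.commutes]
        rfl }
  obtain ⟨f', hf'⟩ := Algebra.FormallySmooth.comp_surjective R₁ S₁ N hN f₁
  have hkill : RingHom.ker v ≤ RingHom.ker f'.toRingHom := by
    refine hker.trans ?_
    rw [Ideal.map_le_iff_le_comap]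
    intro j hj
    show f' (algebraMap R₁ S₁ j) = 0
    rw [AlgHom.commutes]
    show algebraMap R₂ T (algebraMap R₁ R₂ j) = 0
    rw [(RingHom.mem_ker).1 hj, map_zero]
  let f'' : S₂ →+* T := RingHom.liftOfSurjective v hv ⟨f'.toRingHom, hkill⟩
  have hf'' : ∀ s, f'' (v s) = f' s := fun s =>
    RingHom.liftOfSurjective_comp_apply v hv ⟨f'.toRingHom, hkill⟩ s
  refine ⟨{ toRingHom := f'', commutes' := ?_ }, ?_⟩
  · intro r₂
    obtain ⟨r, rfl⟩ := hsurj r₂
    show f'' (algebraMap R₂ S₂ (algebraMap R₁ R₂ r)) = _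
    rw [← hcompat, hf'', AlgHom.commutes]
    rfl
  · apply AlgHom.ext
    intro s₂
    obtain ⟨s, rfl⟩ := hv s₂
    show Ideal.Quotient.mk N (f'' (v s)) = f (v s)
    rw [hf'']
    exact AlgHom.congr_fun hf' s

/-- Base change of smoothness at a prime along a surjection of base rings. -/
theorem isSmoothAt_of_surjective_base {R₁ R₂ A₁ A₂ : Type u} [CommRing R₁] [CommRing R₂]
    [CommRing A₁] [CommRing A₂] [Algebra R₁ R₂] [Algebra R₁ A₁] [Algebra R₂ A₂]
    (hsurj : Function.Surjective (algebraMap R₁ R₂)) (uA : A₁ →+* A₂)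
    (huA : Function.Surjective uA)
    (hcompat : ∀ r, uA (algebraMap R₁ A₁ r) = algebraMap R₂ A₂ (algebraMap R₁ R₂ r))
    (hker : RingHom.ker uA ≤ (RingHom.ker (algebraMap R₁ R₂)).map (algebraMap R₁ A₁))
    (Q : Ideal A₂) [Q.IsPrime] (h : Algebra.IsSmoothAt R₁ (Q.comap uA)) :
    Algebra.IsSmoothAt R₂ Q := by
  haveI : Algebra.FormallySmooth R₁ (Localization.AtPrime (Q.comap uA)) := h
  refine formallySmooth_of_surjective hsurj (Groth.Agent.Lib.Helper94.SurjLoc.locHom uA Q)
    (Groth.Agent.Lib.Helper94.SurjLoc.locHom_surjective uA Q huA) ?_ ?_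
  · intro r
    rw [IsScalarTower.algebraMap_apply R₁ A₁ (Localization.AtPrime (Q.comap uA)),
      Groth.Agent.Lib.Helper94.SurjLoc.locHom_algebraMap, hcompat,
      ← IsScalarTower.algebraMap_apply]
  · rw [Groth.Agent.Lib.Helper94.SurjLoc.ker_locHom uA Q huA]
    refine (Ideal.map_mono hker).trans ?_
    rw [Ideal.map_map]
    apply le_of_eq
    congr 1

/-- Smoothness at a prime over a base `R₂` implies smoothness over `R₁` if `R₁ → R₂` is
bijective. -/
theorem isSmoothAt_of_bijective_base {R₁ R₂ C : Type u} [CommRing R₁] [CommRing R₂]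
    [CommRing C] [Algebra R₁ R₂] [Algebra R₁ C] [Algebra R₂ C] [IsScalarTower R₁ R₂ C]
    (hbij : Function.Bijective (algebraMap R₁ R₂))
    (Q : Ideal C) [Q.IsPrime] (h : Algebra.IsSmoothAt R₂ Q) : Algebra.IsSmoothAt R₁ Q := by
  haveI : Algebra.FormallySmooth R₂ (Localization.AtPrime Q) := h
  haveI : Algebra.FormallySmooth R₁ R₂ :=
    Algebra.FormallySmooth.of_equiv (AlgEquiv.ofBijective (Algebra.ofId R₁ R₂) hbij)
  haveI : IsScalarTower R₁ R₂ (Localization.AtPrime Q) :=
    IsScalarTower.of_algebraMap_eq fun x => by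
      rw [IsScalarTower.algebraMap_apply R₁ C (Localization.AtPrime Q),
        IsScalarTower.algebraMap_apply R₁ R₂ C,
        ← IsScalarTower.algebraMap_apply R₂ C (Localization.AtPrime Q)]
  exact Algebra.FormallySmooth.comp R₁ R₂ (Localization.AtPrime Q)

theorem singularIdeal_le_of_bijective_base {R₁ R₂ C : Type u} [CommRing R₁] [CommRing R₂]
    [CommRing C] [Algebra R₁ R₂] [Algebra R₁ C] [Algebra R₂ C] [IsScalarTower R₁ R₂ C]
    (hbij : Function.Bijective (algebraMap R₁ R₂)) :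
    Smoothing.singularIdeal R₂ C ≤ Smoothing.singularIdeal R₁ C := by
  intro c hc
  rw [Pop.mem_singularIdeal_iff] at hc ⊢
  intro Q _ hQ
  exact hc Q (fun h => hQ (isSmoothAt_of_bijective_base hbij Q h))

/-- Extension of the singular ideal along a base change by a surjection. -/
theorem map_singularIdeal_le_of_surjective_base {R₁ R₂ A₁ A₂ : Type u} [CommRing R₁]
    [CommRing R₂] [CommRing A₁] [CommRing A₂] [Algebra R₁ R₂] [Algebra R₁ A₁] [Algebra R₂ A₂]
    (hsurj : Function.Surjective (algebraMap R₁ R₂)) (uA : A₁ →+* A₂)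
    (huA : Function.Surjective uA)
    (hcompat : ∀ r, uA (algebraMap R₁ A₁ r) = algebraMap R₂ A₂ (algebraMap R₁ R₂ r))
    (hker : RingHom.ker uA ≤ (RingHom.ker (algebraMap R₁ R₂)).map (algebraMap R₁ A₁))
    (a : A₁) (ha : a ∈ Smoothing.singularIdeal R₁ A₁) :
    uA a ∈ Smoothing.singularIdeal R₂ A₂ := by
  rw [Pop.mem_singularIdeal_iff] at ha ⊢
  intro Q _ hQ
  exact ha (Q.comap uA)
    (fun h => hQ (isSmoothAt_of_surjective_base hsurj uA huA hcompat hker Q h))

end Groth.Agent.H34.PopRed
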