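import Mathlib
import Groth.Agent.H34.PopLift8
import Groth.Agent.H34.PopRed

/-!
# One step of the reduction modulo `π⁸`, in flexible form (helper34)
-/

set_option autoImplicit false
universe u

namespace Groth.Agent.H34.PopFOS

open Groth.Agent.Lib.Helper81 Smoothing

/-- If the problem reduced modulo `π⁸` can be resolved, so can the problem itself. The reduced
situation `R₂ → A₂ → Λ₂` is any model of the reduction modulo `π⁸`. -/
theorem fos {R₁ A₁ Λ₁ R₂ A₂ Λ₂ : Type u} [CommRing R₁] [IsNoetherianRing R₁] [CommRing A₁]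
    [Algebra R₁ A₁] [Algebra.FinitePresentation R₁ A₁] [CommRing Λ₁] [Algebra R₁ Λ₁]
    (φ₁ : A₁ →ₐ[R₁] Λ₁) (𝔮₁ : Ideal Λ₁) [𝔮₁.IsPrime] (π : R₁)
    (hπ𝔮 : algebraMap R₁ Λ₁ π ∈ 𝔮₁)
    (hR : ∀ r : R₁, π ^ 2 * r = 0 → π * r = 0)
    (hΛ : ∀ x : Λ₁, π ^ 2 • x = 0 → π • x = 0)
    (hstd : Smoothing.IsStrictlyStandard R₁ A₁ (algebraMap R₁ A₁ π))
    [CommRing R₂] [Algebra R₁ R₂] [CommRing A₂] [Algebra R₂ A₂] [CommRing Λ₂] [Algebra R₂ Λ₂]
    (hR₂ : Function.Surjective (algebraMap R₁ R₂))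
    (hkerR : RingHom.ker (algebraMap R₁ R₂) = Ideal.span {π ^ 8})
    (uA : A₁ →+* A₂) (huA : Function.Surjective uA)
    (hcompA : ∀ r, uA (algebraMap R₁ A₁ r) = algebraMap R₂ A₂ (algebraMap R₁ R₂ r))
    (hkerA : RingHom.ker uA ≤ (Ideal.span {π ^ 8}).map (algebraMap R₁ A₁))
    (uΛ : Λ₁ →+* Λ₂) (huΛ : Function.Surjective uΛ)
    (hcompΛ : ∀ r, uΛ (algebraMap R₁ Λ₁ r) = algebraMap R₂ Λ₂ (algebraMap R₁ R₂ r))
    (hkerΛ : RingHom.ker uΛ = Ideal.span {algebraMap R₁ Λ₁ (π ^ 8)})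
    (φ₂ : A₂ →ₐ[R₂] Λ₂) (hφ₂ : ∀ a, φ₂ (uA a) = uΛ (φ₁ a))
    (hres : Smoothing.Resolvable R₂ φ₂ (𝔮₁.map uΛ)) :
    Smoothing.Resolvable R₁ φ₁ 𝔮₁ := by
  classical
  obtain ⟨C, instC, algC, hfpC, g₂, h₂, hcomp₂, hle₂, hnot₂⟩ := hres
  letI algR₁C : Algebra R₁ C := ((algebraMap R₂ C).comp (algebraMap R₁ R₂)).toAlgebra
  haveI : IsScalarTower R₁ R₂ C := IsScalarTower.of_algebraMap_eq (fun _ => rfl)
  have hKker : ∀ x ∈ Ideal.span {π ^ 8}, algebraMap R₁ R₂ x = 0 := fun x hx => by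
    rw [← RingHom.mem_ker, hkerR]; exact hx
  letI algKR₂ : Algebra (R₁ ⧸ Ideal.span {π ^ 8}) R₂ :=
    (Ideal.Quotient.lift (Ideal.span {π ^ 8}) (algebraMap R₁ R₂) hKker).toAlgebra
  have halgK : ∀ x : R₁, algebraMap (R₁ ⧸ Ideal.span {π ^ 8}) R₂ (Ideal.Quotient.mk _ x) =
      algebraMap R₁ R₂ x := fun x => rfl
  letI algKC : Algebra (R₁ ⧸ Ideal.span {π ^ 8}) C :=
    ((algebraMap R₂ C).comp (algebraMap (R₁ ⧸ Ideal.span {π ^ 8}) R₂)).toAlgebra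
  haveI : IsScalarTower (R₁ ⧸ Ideal.span {π ^ 8}) R₂ C :=
    IsScalarTower.of_algebraMap_eq (fun _ => rfl)
  haveI : IsScalarTower R₁ (R₁ ⧸ Ideal.span {π ^ 8}) C :=
    IsScalarTower.of_algebraMap_eq (fun x => rfl)
  have hbij : Function.Bijective (algebraMap (R₁ ⧸ Ideal.span {π ^ 8}) R₂) := by
    constructor
    · rw [injective_iff_map_eq_zero]
      intro x hx
      obtain ⟨y, rfl⟩ := Ideal.Quotient.mk_surjective x
      rw [halgK] at hx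
      rw [Ideal.Quotient.eq_zero_iff_mem, ← hkerR]
      exact hx
    · intro z
      obtain ⟨y, rfl⟩ := hR₂ z
      exact ⟨Ideal.Quotient.mk _ y, rfl⟩
  haveI : Algebra.FinitePresentation (R₁ ⧸ Ideal.span {π ^ 8}) R₂ :=
    Algebra.FinitePresentation.equiv
      (AlgEquiv.ofBijective (Algebra.ofId (R₁ ⧸ Ideal.span {π ^ 8}) R₂) hbij)
  haveI : Algebra.FinitePresentation (R₁ ⧸ Ideal.span {π ^ 8}) C :=
    Algebra.FinitePresentation.trans (R₁ ⧸ Ideal.span {π ^ 8}) R₂ C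
  obtain ⟨γ, hγ⟩ : ∃ γ : A₁ →ₐ[R₁] C, ∀ a, γ a = g₂ (uA a) :=
    ⟨{ toRingHom := g₂.toRingHom.comp uA
       commutes' := fun r => by
        show g₂ (uA (algebraMap R₁ A₁ r)) = algebraMap R₁ C r
        rw [hcompA, AlgHom.commutes]
        rfl }, fun a => rfl⟩
  obtain ⟨ι, hι⟩ : ∃ ι : Λ₂ →+* Λ₁ ⧸ Ideal.span {algebraMap R₁ Λ₁ (π ^ 8)},
      ∀ l, ι (uΛ l) = Ideal.Quotient.mk _ l :=
    ⟨RingHom.liftOfSurjective uΛ huΛ ⟨Ideal.Quotient.mk _, by rw [hkerΛ, Ideal.mk_ker]⟩,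
      fun l => RingHom.liftOfSurjective_comp_apply uΛ huΛ _ l⟩
  have hιinj : Function.Injective ι := by
    rw [injective_iff_map_eq_zero]
    intro z hz
    obtain ⟨l, rfl⟩ := huΛ z
    rw [hι, Ideal.Quotient.eq_zero_iff_mem, ← hkerΛ] at hz
    exact hz
  obtain ⟨g, hg⟩ : ∃ g : C →ₐ[R₁] Λ₁ ⧸ Ideal.span {algebraMap R₁ Λ₁ (π ^ 8)},
      ∀ c, g c = ι (h₂ c) :=
    ⟨{ toRingHom := ι.comp h₂.toRingHom
       commutes' := fun r => by
        show ι (h₂ (algebraMap R₂ C (algebraMap R₁ R₂ r))) = _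
        rw [AlgHom.commutes, ← hcompΛ, hι]
        rfl }, fun c => rfl⟩
  have hfac : ∀ a, g (γ a) = Ideal.Quotient.mk _ (φ₁ a) := by
    intro a
    have h1 : h₂ (g₂ (uA a)) = φ₂ (uA a) := AlgHom.congr_fun hcomp₂ (uA a)
    rw [hg, hγ, h1, hφ₂, hι]
  obtain ⟨B, instB, algB, hfpB, α, β, hβα, hI, hII⟩ :=
    Groth.Agent.H34.PopLift8.core π hR hΛ φ₁ hstd (Ideal.span {π ^ 8}) (by rw [← pow_mul])
      (Ideal.span {algebraMap R₁ Λ₁ (π ^ 8)}) (by rw [← pow_mul]) γ g hfac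
  have hπB : algebraMap R₁ B π ∈ singularIdeal R₁ B := by
    rw [Pop.mem_singularIdeal_iff]
    intro Q _ hQ
    by_contra hπQ
    exact hQ (hI Q hπQ)
  have hKΛle : RingHom.ker uΛ ≤ ((singularIdeal R₁ B).map β).radical := by
    rw [hkerΛ, Ideal.span_le]
    intro x hx
    rw [Set.mem_singleton_iff] at hx
    rw [hx]
    have : algebraMap R₁ Λ₁ (π ^ 8) = β (algebraMap R₁ B π ^ 8) := by
      rw [← map_pow, AlgHom.commutes]
    rw [this]
    exact Ideal.le_radical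
      (Ideal.mem_map_of_mem _ (Ideal.pow_mem_of_mem _ hπB 8 (by norm_num)))
  have hcomap : (((singularIdeal R₁ B).map β).radical.map uΛ).comap uΛ =
      ((singularIdeal R₁ B).map β).radical := by
    rw [Ideal.comap_map_of_surjective uΛ huΛ, sup_eq_left]
    exact hKΛle
  have hHC : singularIdeal R₂ C ≤ singularIdeal (R₁ ⧸ Ideal.span {π ^ 8}) C :=
    Groth.Agent.H34.PopRed.singularIdeal_le_of_bijective_base hbij
  have hkey : (singularIdeal R₂ C).map h₂ ≤ ((singularIdeal R₁ B).map β).radical.map uΛ := by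
    rw [Ideal.map_le_iff_le_comap]
    intro c hc
    rw [Ideal.mem_comap]
    have h1 : g c ∈ (singularIdeal (R₁ ⧸ Ideal.span {π ^ 8}) C).map g :=
      Ideal.mem_map_of_mem _ (hHC hc)
    obtain ⟨l, hl, hlg⟩ := (Ideal.mem_map_iff_of_surjective _ Ideal.Quotient.mk_surjective).1
      (hII h1)
    have h2 : uΛ l = h₂ c := by
      apply hιinj
      rw [hι, hlg, hg]
    rw [← h2]
    exact Ideal.mem_map_of_mem _ hl
  refine ⟨B, instB, algB, hfpB, α, β, hβα, ?_, ?_⟩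
  · -- singRad R₁ φ₁ ≤ singRad R₁ β
    show ((singularIdeal R₁ A₁).map φ₁).radical ≤ ((singularIdeal R₁ B).map β).radical
    rw [Ideal.radical_le_radical_iff, Ideal.map_le_iff_le_comap]
    intro a ha
    rw [Ideal.mem_comap]
    have h1 : uA a ∈ singularIdeal R₂ A₂ :=
      Groth.Agent.H34.PopRed.map_singularIdeal_le_of_surjective_base hR₂ uA huA hcompA
        (by rw [hkerR]; exact hkerA) a ha
    have h2 : φ₂ (uA a) ∈ singRad R₂ φ₂ := Ideal.le_radical (Ideal.mem_map_of_mem _ h1)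
    have h3 : φ₂ (uA a) ∈ ((singularIdeal R₂ C).map h₂).radical := hle₂ h2
    obtain ⟨N, hN⟩ := h3
    have h4 := hkey hN
    rw [hφ₂, ← map_pow] at h4
    have h5 : φ₁ a ^ N ∈ (((singularIdeal R₁ B).map β).radical.map uΛ).comap uΛ := h4
    rw [hcomap] at h5
    exact Ideal.radical_isRadical _ ⟨N, h5⟩
  · -- ¬ singRad R₁ β ≤ 𝔮₁
    intro hle
    apply hnot₂
    have hker𝔮 : RingHom.ker uΛ ≤ 𝔮₁ := by
      rw [hkerΛ, Ideal.span_le]
      intro x hx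
      rw [Set.mem_singleton_iff] at hx
      rw [hx, map_pow]
      exact Ideal.pow_mem_of_mem _ hπ𝔮 8 (by norm_num)
    haveI : (𝔮₁.map uΛ).IsPrime := Ideal.map_isPrime_of_surjective huΛ hker𝔮
    show ((singularIdeal R₂ C).map h₂).radical ≤ 𝔮₁.map uΛ
    rw [Ideal.IsPrime.radical_le_iff inferInstance]
    exact hkey.trans (Ideal.map_mono hle)

end Groth.Agent.H34.PopFOS
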