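import Mathlib
import Groth.Prelude.Def_Smoothing
import Groth.Agent.Lib.Helper81.PopJac
import Groth.Agent.Lib.Helper81.PopLocal2

/-!
# If the singular ideal extends to the unit ideal, factor through a smooth algebra (helper34)

Stacks Lemma 07CE-style: `H_{B/R} Λ = Λ` implies `B → Λ` factors through a smooth `R`-algebra.
-/

set_option autoImplicit false
universe u

namespace Groth.Agent.H34.PopTop

open MvPolynomial Groth.Agent.Lib.Helper81 Smoothing

theorem exists_smooth_of_map_singularIdeal_eq_top {R B Λ : Type u} [CommRing R] [CommRing B]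
    [Algebra R B] [Algebra.FinitePresentation R B] [CommRing Λ] [Algebra R Λ] (β : B →ₐ[R] Λ)
    (htop : (singularIdeal R B).map β = ⊤) :
    ∃ (B' : Type u) (_ : CommRing B') (_ : Algebra R B'), Algebra.Smooth R B' ∧
      ∃ (g : B →ₐ[R] B') (h : B' →ₐ[R] Λ), h.comp g = β := by
  classical
  have h1 : (1 : Λ) ∈ Submodule.span Λ ((β : B → Λ) '' (singularIdeal R B : Set B)) := by
    have : (1 : Λ) ∈ (singularIdeal R B).map β := by rw [htop]; exact Submodule.mem_top
    exact this
  obtain ⟨n, lam, gg, hsum⟩ := Submodule.mem_span_set'.1 h1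
  have hb : ∀ i, ∃ b : B, b ∈ singularIdeal R B ∧ β b = (gg i : Λ) := fun i => (gg i).2
  choose b hbH hbβ using hb
  have hsum' : ∑ i, lam i * β (b i) = 1 := by
    rw [← hsum]
    refine Finset.sum_congr rfl fun i _ => ?_
    rw [hbβ, smul_eq_mul]
  -- the algebra
  obtain ⟨F, hF⟩ : ∃ F : MvPolynomial (Fin n) B, F = 1 - ∑ i, C (b i) * X i := ⟨_, rfl⟩
  obtain ⟨J, hJ⟩ : ∃ J : Ideal (MvPolynomial (Fin n) B), J = Ideal.span {F} := ⟨_, rfl⟩
  -- map to Λ
  letI algBΛ : Algebra B Λ := β.toRingHom.toAlgebra
  haveI : IsScalarTower R B Λ := IsScalarTower.of_algebraMap_eq (fun r => (β.commutes r).symm)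
  have hev : ∀ x ∈ J, (aeval lam : MvPolynomial (Fin n) B →ₐ[B] Λ) x = 0 := by
    intro x hx
    have hle : J ≤ RingHom.ker (aeval lam : MvPolynomial (Fin n) B →ₐ[B] Λ).toRingHom := by
      rw [hJ, Ideal.span_le]
      intro y hy
      rw [Set.mem_singleton_iff] at hy
      rw [hy, SetLike.mem_coe, RingHom.mem_ker, hF]
      show (aeval lam : MvPolynomial (Fin n) B →ₐ[B] Λ) (1 - ∑ i, C (b i) * X i) = 0
      rw [map_sub, map_one, map_sum]
      have : ∀ i, (aeval lam : MvPolynomial (Fin n) B →ₐ[B] Λ) (C (b i) * X i) =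
          lam i * β (b i) := by
        intro i
        rw [map_mul, aeval_C, aeval_X, mul_comm]
        rfl
      simp only [this]
      rw [hsum', sub_self]
    exact hle hx
  haveI : Algebra.FinitePresentation B (MvPolynomial (Fin n) B ⧸ J) := by
    apply Algebra.FinitePresentation.quotient
    rw [hJ]
    exact ⟨{F}, by simp⟩
  haveI : Algebra.FinitePresentation R (MvPolynomial (Fin n) B ⧸ J) :=
    Algebra.FinitePresentation.trans R B _
  have hsmooth : Algebra.FormallySmooth R (MvPolynomial (Fin n) B ⧸ J) := by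
    rw [← Algebra.smoothLocus_eq_univ_iff, Set.eq_univ_iff_forall]
    intro Qp
    show Algebra.IsSmoothAt R Qp.asIdeal
    haveI := Qp.isPrime
    -- some `b i` is not in `Q`
    have hex : ∃ i, Ideal.Quotient.mk J (C (b i)) ∉ Qp.asIdeal := by
      by_contra hall
      push_neg at hall
      have h1 : Ideal.Quotient.mk J (∑ i, C (b i) * X i) ∈ Qp.asIdeal := by
        rw [map_sum]
        refine Ideal.sum_mem _ fun i _ => ?_
        rw [map_mul]
        exact Ideal.mul_mem_right _ _ (hall i)
      have h2 : Ideal.Quotient.mk J (∑ i, C (b i) * X i) = 1 := by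
        have : Ideal.Quotient.mk J F = 0 := by
          rw [Ideal.Quotient.eq_zero_iff_mem, hJ]
          exact Ideal.mem_span_singleton_self F
        rw [hF, map_sub, map_one, sub_eq_zero] at this
        exact this.symm
      rw [h2] at h1
      exact Qp.isPrime.ne_top ((Ideal.eq_top_iff_one _).2 h1)
    obtain ⟨i, hi⟩ := hex
    have hA : Algebra.IsSmoothAt B Qp.asIdeal := by
      refine Pop.isSmoothAt_quotient_of_jacobian J (fun _ : Unit => F)
        (fun _ => by rw [hJ]; exact Ideal.mem_span_singleton_self F) (fun _ => i)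
        (fun _ _ _ => rfl) Qp.asIdeal ?_ ?_
      · have hdet : Matrix.det (Matrix.of fun _ _ : Unit => pderiv i F) = - C (b i) := by
          rw [Matrix.det_unique, Matrix.of_apply, hF, map_sub]
          have h1 : pderiv i (1 : MvPolynomial (Fin n) B) = 0 := pderiv_one
          rw [h1, zero_sub, map_sum]
          congr 1
          rw [Finset.sum_eq_single i]
          · rw [pderiv_C_mul, pderiv_X_self, mul_one]
          · intro j _ hj
            rw [pderiv_C_mul, pderiv_X_of_ne hj, mul_zero]
          · intro h; exact absurd (Finset.mem_univ _) h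
        rw [hdet, map_neg]
        exact fun h => hi (by simpa using h)
      · intro t ht
        refine ⟨1, ?_, ?_⟩
        · rw [map_one]
          exact fun h1 => Qp.isPrime.ne_top ((Ideal.eq_top_iff_one _).2 h1)
        · rw [one_mul]
          have : Set.range (fun _ : Unit => F) = {F} := by
            ext x; simp [eq_comm]
          rw [this, ← hJ]
          exact ht
    have hB : Algebra.IsSmoothAt R (Qp.asIdeal.comap
        (algebraMap B (MvPolynomial (Fin n) B ⧸ J))) := by
      by_contra hns
      apply hi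
      exact (Pop.mem_singularIdeal_iff (b i)).1 (hbH i) _ hns
    exact Pop.isSmoothAt_trans Qp.asIdeal hB hA
  refine ⟨MvPolynomial (Fin n) B ⧸ J, inferInstance, inferInstance, ⟨hsmooth, inferInstance⟩,
    IsScalarTower.toAlgHom R B _,
    (Ideal.Quotient.liftₐ J (aeval lam : MvPolynomial (Fin n) B →ₐ[B] Λ) hev).restrictScalars R,
    ?_⟩
  apply AlgHom.ext
  intro x
  show (Ideal.Quotient.liftₐ J (aeval lam : MvPolynomial (Fin n) B →ₐ[B] Λ) hev)
    (algebraMap B _ x) = β x
  rw [AlgHom.commutes]
  rfl

end Groth.Agent.H34.PopTop
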