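import Mathlib
import Groth.Prelude.Def_Smoothing
import Groth.Prelude.Def_Found
import Groth.Agent.H34.PopTop
import Groth.Agent.Lib.Helper50.GeomReduced

/-!
# Popescu's theorem over a field, from the two resolution lemmas (helper34)
-/

set_option autoImplicit false
universe u

namespace Groth.Agent.H34.PopField

open Smoothing TensorProduct

/-- The statement of Stacks 07FB (separable residue field case), as a proposition. -/
def SepStatement : Prop :=
  ∀ {k A Λ : Type u} [Field k] [CommRing A] [Algebra k A] [Algebra.FinitePresentation k A]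
    [CommRing Λ] [Algebra k Λ] [IsNoetherianRing Λ] (φ : A →ₐ[k] Λ) (𝔮 : Ideal Λ) [𝔮.IsPrime]
    (_ : 𝔮 ∈ (Smoothing.singRad k φ).minimalPrimes)
    [IsRegularLocalRing (Localization.AtPrime 𝔮)]
    [Algebra.IsGeometricallyReduced k 𝔮.ResidueField], Smoothing.Resolvable k φ 𝔮

/-- The statement of the characteristic `p` case, as a proposition. -/
def InsepStatement : Prop :=
  ∀ {k A Λ : Type u} [Field k] (p : ℕ) [Fact p.Prime] [CharP k p] [CommRing A] [Algebra k A]
    [Algebra.FinitePresentation k A] [CommRing Λ] [Algebra k Λ] [IsNoetherianRing Λ]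
    (_ : CAlg.IsGeometricallyRegular k Λ) (φ : A →ₐ[k] Λ) (𝔮 : Ideal Λ) [𝔮.IsPrime]
    (_ : 𝔮 ∈ (Smoothing.singRad k φ).minimalPrimes), Smoothing.Resolvable k φ 𝔮

theorem isGeometricallyReduced_of_charZero {k T : Type*} [Field k] [CharZero k] [CommRing T]
    [IsReduced T] [Algebra k T] : Algebra.IsGeometricallyReduced k T := by
  rw [Algebra.isGeometricallyReduced_field_iff]
  have h1 : IsReduced (T ⊗[k] AlgebraicClosure k) :=
    Groth.Agent.Lib.Helper50.isReduced_tensor_of_isSeparable
  exact isReduced_of_injective (Algebra.TensorProduct.comm k (AlgebraicClosure k) T)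
    (Algebra.TensorProduct.comm k (AlgebraicClosure k) T).injective

theorem isRegularRing_of_isGeometricallyRegular {k Λ : Type u} [Field k] [CommRing Λ]
    [Algebra k Λ] (h : CAlg.IsGeometricallyRegular k Λ) : IsRegularRing Λ := by
  haveI : IsRegularRing (k ⊗[k] Λ) := h k inferInstance
  exact IsRegularRing.of_ringEquiv (Algebra.TensorProduct.lid k Λ).toRingEquiv

/-- Resolution over a field, any characteristic. -/
theorem resolvable_field (hsep : SepStatement.{u}) (hinsep : InsepStatement.{u})
    {k A Λ : Type u} [Field k] [CommRing A] [Algebra k A] [Algebra.FinitePresentation k A]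
    [CommRing Λ] [Algebra k Λ] [IsNoetherianRing Λ] (hreg : CAlg.IsGeometricallyRegular k Λ)
    (φ : A →ₐ[k] Λ) (𝔮 : Ideal Λ) [𝔮.IsPrime]
    (hmin : 𝔮 ∈ (Smoothing.singRad k φ).minimalPrimes) : Smoothing.Resolvable k φ 𝔮 := by
  obtain ⟨p, hp⟩ := CharP.exists k
  rcases CharP.char_is_prime_or_zero k p with hpp | hp0
  · haveI : Fact p.Prime := ⟨hpp⟩
    exact hinsep p hreg φ 𝔮 hmin
  · subst hp0
    haveI : CharZero k := CharP.charP_to_charZero k
    haveI : IsRegularRing Λ := isRegularRing_of_isGeometricallyRegular hreg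
    haveI : Algebra.IsGeometricallyReduced k 𝔮.ResidueField := isGeometricallyReduced_of_charZero
    exact hsep φ 𝔮 hmin

/-- Popescu's theorem over a field. -/
theorem indSmooth_field (hsep : SepStatement.{u}) (hinsep : InsepStatement.{u})
    {k Λ : Type u} [Field k] [CommRing Λ] [Algebra k Λ] [IsNoetherianRing Λ]
    (hreg : CAlg.IsGeometricallyRegular k Λ) : Smoothing.IndSmooth k Λ := by
  have key : ∀ J : Ideal Λ, ∀ (A : Type u) [CommRing A] [Algebra k A]
      [Algebra.FinitePresentation k A] (φ : A →ₐ[k] Λ), singRad k φ = J →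
      ∃ (B : Type u) (_ : CommRing B) (_ : Algebra k B), Algebra.Smooth k B ∧
        ∃ (g : A →ₐ[k] B) (h : B →ₐ[k] Λ), h.comp g = φ := by
    intro J
    induction J using IsNoetherian.induction with
    | hgt J ih =>
      intro A _ _ _ φ hJ
      by_cases htop : J = ⊤
      · refine Groth.Agent.H34.PopTop.exists_smooth_of_map_singularIdeal_eq_top φ ?_
        rw [← Ideal.radical_eq_top]
        rw [← htop, ← hJ]
        rfl
      · obtain ⟨M, hM, hJM⟩ := Ideal.exists_le_maximal J htop
        obtain ⟨𝔮, h𝔮min, -⟩ := Ideal.exists_minimalPrimes_le hJM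
        haveI : 𝔮.IsPrime := h𝔮min.1.1
        have hres := resolvable_field hsep hinsep hreg φ 𝔮 (by rw [hJ]; exact h𝔮min)
        obtain ⟨B, instB, algB, hfpB, g, h, hcomp, hle, hnot⟩ := hres
        have hlt : J < singRad k h := by
          refine lt_of_le_of_ne (hJ ▸ hle) ?_
          intro heq
          apply hnot
          rw [← heq]
          exact h𝔮min.1.2
        obtain ⟨B', instB', algB', hsm, g', h', hcomp'⟩ := ih (singRad k h) hlt B h rfl
        refine ⟨B', instB', algB', hsm, g'.comp g, h', ?_⟩
        rw [← AlgHom.comp_assoc, hcomp', hcomp]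
  intro A _ _ hfp φ
  exact key (singRad k φ) A φ rfl

end Groth.Agent.H34.PopField
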