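import Mathlib
import Groth.Agent.H34.PopFOS
import Groth.Agent.S6829

/-!
# Induction for the reduction modulo `(π₁⁸, …, π_r⁸)` (helper34)
-/

set_option autoImplicit false
universe u

namespace Groth.Agent.H34.PopInd

open Smoothing TensorProduct

/-- strictly standard elements are preserved by algebra isomorphisms -/
theorem isStrictlyStandard_of_equiv {R A A' : Type u} [CommRing R] [CommRing A] [Algebra R A]
    [CommRing A'] [Algebra R A'] (e : A ≃ₐ[R] A') (a : A) (h : IsStrictlyStandard R A a) :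
    IsStrictlyStandard R A' (e a) := by
  obtain ⟨P, hmin, hkt⟩ := h
  let P' : MarkedPresentation R A' :=
    { n := P.n
      m := P.m
      c := P.c
      hcn := P.hcn
      hcm := P.hcm
      rel := P.rel
      hom := e.toAlgHom.comp P.hom
      surj := e.surjective.comp P.surj
      ker_eq := by
        rw [← P.ker_eq]
        ext x
        simp only [RingHom.mem_ker]
        show e (P.hom x) = 0 ↔ P.hom x = 0
        exact map_eq_zero_iff e e.injective }
  refine ⟨P', ?_, ?_⟩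
  · have h1 := Ideal.mem_map_of_mem (e : A →+* A') hmin
    rw [Ideal.map_span, ← Set.range_comp] at h1
    exact h1
  · intro a' ha' j hj
    have h2 : P.hom a' = a := e.injective ha'
    exact hkt a' h2 j hj

/-- strictly standard elements pass to quotients by ideals of the base -/
theorem isStrictlyStandard_quotient {R A : Type u} [CommRing R] [CommRing A] [Algebra R A]
    [Algebra.FinitePresentation R A] (I : Ideal R) (p : R)
    (h : IsStrictlyStandard R A (algebraMap R A p)) :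
    IsStrictlyStandard (R ⧸ I) (A ⧸ I.map (algebraMap R A))
      (algebraMap (R ⧸ I) (A ⧸ I.map (algebraMap R A)) (Ideal.Quotient.mk I p)) := by
  have h1 := (Groth.Agent.S6829.result (R := R) (A := A) (R' := R ⧸ I) (algebraMap R A p)).2 h
  have h2 := isStrictlyStandard_of_equiv
    (Algebra.TensorProduct.quotIdealMapEquivQuotTensor A I).symm _ h1
  have h3 : (Algebra.TensorProduct.quotIdealMapEquivQuotTensor A I).symm
      ((1 : R ⧸ I) ⊗ₜ[R] (algebraMap R A p)) =
      algebraMap (R ⧸ I) (A ⧸ I.map (algebraMap R A)) (Ideal.Quotient.mk I p) := by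
    rw [AlgEquiv.symm_apply_eq]
    rfl
  rw [h3] at h2
  exact h2

theorem finitePresentation_quotient {R A : Type u} [CommRing R] [CommRing A] [Algebra R A]
    [Algebra.FinitePresentation R A] (I : Ideal R) :
    Algebra.FinitePresentation (R ⧸ I) (A ⧸ I.map (algebraMap R A)) :=
  Algebra.FinitePresentation.equiv (Algebra.TensorProduct.quotIdealMapEquivQuotTensor A I).symm

/-- kernel of the transition map between quotients -/
theorem ker_factor {S : Type*} [CommRing S] (I K : Ideal S) (q : S) (hK : K = I ⊔ Ideal.span {q})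
    (hIK : I ≤ K) :
    RingHom.ker (Ideal.Quotient.factor hIK) = Ideal.span {Ideal.Quotient.mk I q} := by
  apply le_antisymm
  · intro x hx
    obtain ⟨y, rfl⟩ := Ideal.Quotient.mk_surjective x
    rw [RingHom.mem_ker, Ideal.Quotient.factor_mk, Ideal.Quotient.eq_zero_iff_mem, hK] at hx
    obtain ⟨i, hi, j, hj, rfl⟩ := Submodule.mem_sup.1 hx
    obtain ⟨z, rfl⟩ := Ideal.mem_span_singleton'.1 hj
    rw [map_add, Ideal.Quotient.eq_zero_iff_mem.2 hi, zero_add, map_mul]
    exact Ideal.mul_mem_left _ _ (Ideal.mem_span_singleton_self _)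
  · rw [Ideal.span_le]
    intro x hx
    rw [Set.mem_singleton_iff] at hx
    rw [hx, SetLike.mem_coe, RingHom.mem_ker, Ideal.Quotient.factor_mk,
      Ideal.Quotient.eq_zero_iff_mem, hK]
    exact Ideal.mem_sup_right (Ideal.mem_span_singleton_self _)


/-- One step: from the quotient by `K = I + (p⁸)` to the quotient by `I`. -/
theorem quotStep {R A Λ : Type u} [CommRing R] [IsNoetherianRing R] [CommRing A] [Algebra R A]
    [Algebra.FinitePresentation R A] [CommRing Λ] [Algebra R Λ] (φ : A →ₐ[R] Λ) (𝔮 : Ideal Λ)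
    [𝔮.IsPrime] (I : Ideal R) (hI𝔮 : I.map (algebraMap R Λ) ≤ 𝔮) (p : R)
    (hp𝔮 : algebraMap R Λ p ∈ 𝔮)
    (hRI : ∀ x : R ⧸ I, Ideal.Quotient.mk I p ^ 2 * x = 0 → Ideal.Quotient.mk I p * x = 0)
    (hΛI : ∀ x : Λ ⧸ I.map (algebraMap R Λ),
      Ideal.Quotient.mk _ (algebraMap R Λ p) ^ 2 * x = 0 →
        Ideal.Quotient.mk _ (algebraMap R Λ p) * x = 0)
    (hstd : IsStrictlyStandard R A (algebraMap R A p))
    (K : Ideal R) (hK : K = I ⊔ Ideal.span {p ^ 8})
    (φI : (A ⧸ I.map (algebraMap R A)) →ₐ[R ⧸ I] (Λ ⧸ I.map (algebraMap R Λ)))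
    (hφI : ∀ a : A, φI (Ideal.Quotient.mk _ a) = Ideal.Quotient.mk _ (φ a))
    (φK : (A ⧸ K.map (algebraMap R A)) →ₐ[R ⧸ K] (Λ ⧸ K.map (algebraMap R Λ)))
    (hφK : ∀ a : A, φK (Ideal.Quotient.mk _ a) = Ideal.Quotient.mk _ (φ a))
    (hres : Resolvable (R ⧸ K) φK (𝔮.map (Ideal.Quotient.mk (K.map (algebraMap R Λ))))) :
    Resolvable (R ⧸ I) φI (𝔮.map (Ideal.Quotient.mk (I.map (algebraMap R Λ)))) := by
  have hIK : I ≤ K := by rw [hK]; exact le_sup_left
  have hIKA : I.map (algebraMap R A) ≤ K.map (algebraMap R A) := Ideal.map_mono hIK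
  have hIKΛ : I.map (algebraMap R Λ) ≤ K.map (algebraMap R Λ) := Ideal.map_mono hIK
  haveI : Algebra.FinitePresentation (R ⧸ I) (A ⧸ I.map (algebraMap R A)) :=
    finitePresentation_quotient I
  haveI : (𝔮.map (Ideal.Quotient.mk (I.map (algebraMap R Λ)))).IsPrime :=
    Ideal.map_isPrime_of_surjective Ideal.Quotient.mk_surjective
      (by rw [Ideal.mk_ker]; exact hI𝔮)
  letI : Algebra (R ⧸ I) (R ⧸ K) := (Ideal.Quotient.factor hIK).toAlgebra
  have hKA : K.map (algebraMap R A) =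
      I.map (algebraMap R A) ⊔ Ideal.span {algebraMap R A (p ^ 8)} := by
    rw [hK, Ideal.map_sup, Ideal.map_span, Set.image_singleton]
  have hKΛ : K.map (algebraMap R Λ) =
      I.map (algebraMap R Λ) ⊔ Ideal.span {algebraMap R Λ (p ^ 8)} := by
    rw [hK, Ideal.map_sup, Ideal.map_span, Set.image_singleton]
  have h𝔮 : (𝔮.map (Ideal.Quotient.mk (I.map (algebraMap R Λ)))).map
      (Ideal.Quotient.factor hIKΛ) = 𝔮.map (Ideal.Quotient.mk (K.map (algebraMap R Λ))) := by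
    rw [Ideal.map_map, Ideal.Quotient.factor_comp_mk]
  refine Groth.Agent.H34.PopFOS.fos φI _ (Ideal.Quotient.mk I p) ?_ hRI ?_
    (isStrictlyStandard_quotient I p hstd)
    (Ideal.Quotient.factor_surjective hIK) ?_
    (Ideal.Quotient.factor hIKA) (Ideal.Quotient.factor_surjective hIKA) ?_ ?_
    (Ideal.Quotient.factor hIKΛ) (Ideal.Quotient.factor_surjective hIKΛ) ?_ ?_
    φK ?_ ?_
  · exact Ideal.mem_map_of_mem _ hp𝔮
  · intro x hx
    rw [Algebra.smul_def] at hx ⊢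
    rw [map_pow] at hx
    exact hΛI x hx
  · have h1 := ker_factor I K (p ^ 8) hK hIK
    rw [map_pow] at h1
    exact h1
  · intro r
    obtain ⟨r₀, rfl⟩ := Ideal.Quotient.mk_surjective r
    rfl
  · rw [ker_factor _ _ (algebraMap R A (p ^ 8)) hKA hIKA, Ideal.map_span, Set.image_singleton,
      ← map_pow]
    exact le_of_eq rfl
  · intro r
    obtain ⟨r₀, rfl⟩ := Ideal.Quotient.mk_surjective r
    rfl
  · rw [ker_factor _ _ (algebraMap R Λ (p ^ 8)) hKΛ hIKΛ, ← map_pow]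
    rfl
  · intro a
    obtain ⟨a₀, rfl⟩ := Ideal.Quotient.mk_surjective a
    rw [Ideal.Quotient.factor_mk, hφK, hφI, Ideal.Quotient.factor_mk]
  · rw [h𝔮]
    exact hres


/-- The base step: `K = (p⁸)`. -/
theorem baseStep {R A Λ : Type u} [CommRing R] [IsNoetherianRing R] [CommRing A] [Algebra R A]
    [Algebra.FinitePresentation R A] [CommRing Λ] [Algebra R Λ] (φ : A →ₐ[R] Λ) (𝔮 : Ideal Λ)
    [𝔮.IsPrime] (p : R) (hp𝔮 : algebraMap R Λ p ∈ 𝔮)
    (hR : ∀ r : R, p ^ 2 * r = 0 → p * r = 0)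
    (hΛ : ∀ x : Λ, algebraMap R Λ p ^ 2 * x = 0 → algebraMap R Λ p * x = 0)
    (hstd : IsStrictlyStandard R A (algebraMap R A p))
    (K : Ideal R) (hK : K = Ideal.span {p ^ 8})
    (φK : (A ⧸ K.map (algebraMap R A)) →ₐ[R ⧸ K] (Λ ⧸ K.map (algebraMap R Λ)))
    (hφK : ∀ a : A, φK (Ideal.Quotient.mk _ a) = Ideal.Quotient.mk _ (φ a))
    (hres : Resolvable (R ⧸ K) φK (𝔮.map (Ideal.Quotient.mk (K.map (algebraMap R Λ))))) :
    Resolvable R φ 𝔮 := by
  refine Groth.Agent.H34.PopFOS.fos φ 𝔮 p hp𝔮 hR ?_ hstd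
    (R₂ := R ⧸ K) (A₂ := A ⧸ K.map (algebraMap R A)) (Λ₂ := Λ ⧸ K.map (algebraMap R Λ))
    Ideal.Quotient.mk_surjective ?_
    (Ideal.Quotient.mk _) Ideal.Quotient.mk_surjective ?_ ?_
    (Ideal.Quotient.mk _) Ideal.Quotient.mk_surjective ?_ ?_
    φK hφK hres
  · intro x hx
    rw [Algebra.smul_def] at hx ⊢
    rw [map_pow] at hx
    exact hΛ x hx
  · rw [Ideal.Quotient.algebraMap_eq, Ideal.mk_ker, hK]
  · intro r
    rfl
  · rw [Ideal.mk_ker, hK]
  · intro r
    rfl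
  · rw [Ideal.mk_ker, hK, Ideal.map_span, Set.image_singleton]

theorem ann_transport {S : Type*} [CommRing S] (J₁ J₂ : Ideal S) (h : J₁ = J₂) (p : S)
    (H : ∀ x : S ⧸ J₁, Ideal.Quotient.mk J₁ p ^ 2 * x = 0 → Ideal.Quotient.mk J₁ p * x = 0) :
    ∀ x : S ⧸ J₂, Ideal.Quotient.mk J₂ p ^ 2 * x = 0 → Ideal.Quotient.mk J₂ p * x = 0 := by
  subst h
  exact H

theorem ann_of_quot_bot {S : Type*} [CommRing S] (J : Ideal S) (hJ : J = ⊥) (p : S)
    (H : ∀ x : S ⧸ J, Ideal.Quotient.mk J p ^ 2 * x = 0 → Ideal.Quotient.mk J p * x = 0) :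
    ∀ r : S, p ^ 2 * r = 0 → p * r = 0 := by
  intro r hr
  have h1 := H (Ideal.Quotient.mk J r) (by rw [← map_pow, ← map_mul, hr, map_zero])
  rw [← map_mul, Ideal.Quotient.eq_zero_iff_mem, hJ, Ideal.mem_bot] at h1
  exact h1

theorem exists_quotMap {R A Λ : Type u} [CommRing R] [CommRing A] [Algebra R A] [CommRing Λ]
    [Algebra R Λ] (φ : A →ₐ[R] Λ) (I : Ideal R) :
    ∃ φI : (A ⧸ I.map (algebraMap R A)) →ₐ[R ⧸ I] (Λ ⧸ I.map (algebraMap R Λ)),
      ∀ a : A, φI (Ideal.Quotient.mk _ a) = Ideal.Quotient.mk _ (φ a) := by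
  have h : I.map (algebraMap R A) ≤ (I.map (algebraMap R Λ)).comap (φ : A →+* Λ) := by
    rw [Ideal.map_le_iff_le_comap]
    intro x hx
    rw [Ideal.mem_comap, Ideal.mem_comap]
    show φ (algebraMap R A x) ∈ _
    rw [φ.commutes]
    exact Ideal.mem_map_of_mem _ hx
  refine ⟨{ toRingHom := Ideal.quotientMap (I.map (algebraMap R Λ)) (φ : A →+* Λ) h
            commutes' := ?_ }, fun a => rfl⟩
  intro r
  obtain ⟨r₀, rfl⟩ := Ideal.Quotient.mk_surjective r
  show Ideal.quotientMap (I.map (algebraMap R Λ)) (φ : A →+* Λ) h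
    (Ideal.Quotient.mk _ (algebraMap R A r₀)) = Ideal.Quotient.mk _ (algebraMap R Λ r₀)
  rw [Ideal.quotientMap_mk]
  show Ideal.Quotient.mk _ (φ (algebraMap R A r₀)) = _
  rw [φ.commutes]

theorem range_lt_castSucc {S : Type*} {r : ℕ} (f : Fin (r + 1) → S) (b : ℕ) (hb : b ≤ r) :
    (Set.range fun j : {j : Fin (r + 1) // (j : ℕ) < b} => f j) =
      Set.range fun j : {j : Fin r // (j : ℕ) < b} => f (Fin.castSucc j) := by
  ext x
  constructor
  · rintro ⟨⟨j, hj⟩, rfl⟩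
    exact ⟨⟨⟨j, lt_of_lt_of_le hj hb⟩, hj⟩, rfl⟩
  · rintro ⟨⟨j, hj⟩, rfl⟩
    exact ⟨⟨Fin.castSucc j, hj⟩, rfl⟩

theorem range_lt_last {S : Type*} {r : ℕ} (f : Fin (r + 1) → S) :
    (Set.range fun j : {j : Fin (r + 1) // (j : ℕ) < ((Fin.last r : Fin (r + 1)) : ℕ)} => f j) =
      Set.range fun j : Fin r => f (Fin.castSucc j) := by
  ext x
  constructor
  · rintro ⟨⟨j, hj⟩, rfl⟩
    exact ⟨⟨j, hj⟩, rfl⟩
  · rintro ⟨j, rfl⟩
    exact ⟨⟨Fin.castSucc j, j.2⟩, rfl⟩

theorem span_range_succ {S : Type*} [CommRing S] {r : ℕ} (f : Fin (r + 1) → S) :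
    Ideal.span (Set.range f) =
      Ideal.span (Set.range fun j : Fin r => f (Fin.castSucc j)) ⊔ Ideal.span {f (Fin.last r)} := by
  rw [← Ideal.span_union]
  congr 1
  ext x
  constructor
  · rintro ⟨j, rfl⟩
    refine Fin.lastCases ?_ (fun i => ?_) j
    · exact Or.inr rfl
    · exact Or.inl ⟨i, rfl⟩
  · rintro (⟨i, rfl⟩ | h)
    · exact ⟨_, rfl⟩
    · rw [Set.mem_singleton_iff] at h
      exact ⟨Fin.last r, h.symm⟩


/-- The induction: Stacks 07CV. -/
theorem main {R A Λ : Type u} [CommRing R] [IsNoetherianRing R]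
    [CommRing A] [Algebra R A] [Algebra.FinitePresentation R A] [CommRing Λ] [Algebra R Λ]
    (φ : A →ₐ[R] Λ) (𝔮 : Ideal Λ) [𝔮.IsPrime] :
    ∀ (r : ℕ) (_ : 0 < r) (π : Fin r → R)
    (_ : ∀ i, algebraMap R Λ (π i) ∈ 𝔮)
    (_ : ∀ i : Fin r, ∀ x : R ⧸ Ideal.span
        (Set.range fun j : {j : Fin r // (j : ℕ) < (i : ℕ)} => π j ^ 8),
      Ideal.Quotient.mk _ (π i) ^ 2 * x = 0 → Ideal.Quotient.mk _ (π i) * x = 0)
    (_ : ∀ i : Fin r, ∀ x : Λ ⧸ Ideal.span
        (Set.range fun j : {j : Fin r // (j : ℕ) < (i : ℕ)} => algebraMap R Λ (π j) ^ 8),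
      Ideal.Quotient.mk _ (algebraMap R Λ (π i)) ^ 2 * x = 0 →
        Ideal.Quotient.mk _ (algebraMap R Λ (π i)) * x = 0)
    (_ : ∀ i, Smoothing.IsStrictlyStandard R A (algebraMap R A (π i)))
    (K : Ideal R) (_ : K = Ideal.span (Set.range fun i => π i ^ 8))
    (φK : (A ⧸ K.map (algebraMap R A)) →ₐ[R ⧸ K] (Λ ⧸ K.map (algebraMap R Λ)))
    (_ : ∀ a : A, φK (Ideal.Quotient.mk _ a) = Ideal.Quotient.mk _ (φ a))
    (_ : Smoothing.Resolvable (R ⧸ K) φK
      (𝔮.map (Ideal.Quotient.mk (K.map (algebraMap R Λ))))),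
    Smoothing.Resolvable R φ 𝔮 := by
  intro r
  induction r with
  | zero => intro hr; exact absurd hr (lt_irrefl 0)
  | succ r ih =>
    intro _ π hπ𝔮 hR hΛ hstd K hK φK hφK hres
    rcases Nat.eq_zero_or_pos r with h0 | hpos
    · subst h0
      have hi : ∀ i : Fin (0 + 1), i = 0 := fun i => Fin.ext (by have := i.2; omega)
      have hK1 : K = Ideal.span {π 0 ^ 8} := by
        rw [hK]
        congr 1
        ext x
        constructor
        · rintro ⟨i, rfl⟩
          rw [hi i]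
          rfl
        · intro hx
          rw [Set.mem_singleton_iff] at hx
          exact ⟨0, hx.symm⟩
      refine baseStep φ 𝔮 (π 0) (hπ𝔮 0) ?_ ?_ (hstd 0) K hK1 φK hφK hres
      · refine ann_of_quot_bot _ ?_ (π 0) (hR 0)
        rw [Ideal.span_eq_bot]
        rintro x ⟨⟨j, hj⟩, rfl⟩
        exact absurd hj (Nat.not_lt_zero _)
      · refine ann_of_quot_bot _ ?_ (algebraMap R Λ (π 0)) (hΛ 0)
        rw [Ideal.span_eq_bot]
        rintro x ⟨⟨j, hj⟩, rfl⟩
        exact absurd hj (Nat.not_lt_zero _)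
    · obtain ⟨K', hK'⟩ : ∃ K' : Ideal R,
          K' = Ideal.span (Set.range fun i : Fin r => π (Fin.castSucc i) ^ 8) := ⟨_, rfl⟩
      have hKK' : K = K' ⊔ Ideal.span {π (Fin.last r) ^ 8} := by
        rw [hK, hK', span_range_succ (fun i => π i ^ 8)]
      have hI𝔮 : K'.map (algebraMap R Λ) ≤ 𝔮 := by
        rw [hK', Ideal.map_span, Ideal.span_le]
        rintro _ ⟨_, ⟨i, rfl⟩, rfl⟩
        rw [SetLike.mem_coe, map_pow]
        exact Ideal.pow_mem_of_mem _ (hπ𝔮 _) 8 (by norm_num)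
      obtain ⟨φK', hφK'⟩ := exists_quotMap φ K'
      have hRI : ∀ x : R ⧸ K', Ideal.Quotient.mk K' (π (Fin.last r)) ^ 2 * x = 0 →
          Ideal.Quotient.mk K' (π (Fin.last r)) * x = 0 := by
        refine ann_transport _ _ ?_ _ (hR (Fin.last r))
        rw [hK', range_lt_last (fun j => π j ^ 8)]
      have hΛI : ∀ x : Λ ⧸ K'.map (algebraMap R Λ),
          Ideal.Quotient.mk _ (algebraMap R Λ (π (Fin.last r))) ^ 2 * x = 0 →
            Ideal.Quotient.mk _ (algebraMap R Λ (π (Fin.last r))) * x = 0 := by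
        refine ann_transport _ _ ?_ _ (hΛ (Fin.last r))
        rw [range_lt_last (fun j => algebraMap R Λ (π j) ^ 8), hK', Ideal.map_span,
          ← Set.range_comp]
        congr 2
        funext i
        simp only [Function.comp_apply, map_pow]
      have hres' := quotStep φ 𝔮 K' hI𝔮 (π (Fin.last r)) (hπ𝔮 _) hRI hΛI (hstd _) K hKK'
        φK' hφK' φK hφK hres
      refine ih hpos (fun i => π (Fin.castSucc i)) (fun i => hπ𝔮 _) ?_ ?_ (fun i => hstd _)
        K' hK' φK' hφK' hres'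
      · intro i
        refine ann_transport _ _ ?_ _ (hR (Fin.castSucc i))
        exact congrArg Ideal.span (range_lt_castSucc (fun j => π j ^ 8) i (le_of_lt i.2))
      · intro i
        refine ann_transport _ _ ?_ _ (hΛ (Fin.castSucc i))
        exact congrArg Ideal.span
          (range_lt_castSucc (fun j => algebraMap R Λ (π j) ^ 8) i (le_of_lt i.2))

end Groth.Agent.H34.PopInd
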