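import Mathlib
import Groth.Prelude.Def_Smoothing
import Groth.Prelude.Def_Found
import Groth.Agent.H34.PopTop
import Groth.Agent.H34.PopLift8
import Groth.Agent.H34.PopInd
import Groth.Agent.H8.FinReg
import Groth.Agent.S4695
import Groth.Agent.S2022
import Groth.Agent.S2029
import Groth.Agent.S2026
import Groth.Agent.Lib.Helper81.PopFieldInd
import Groth.Agent.Lib.Helper81.PopTors

/-!
# Popescu's theorem: reduction to the case of a base field (Stacks 07F1) (helper34)
-/

set_option autoImplicit false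
universe u

namespace Groth.Agent.H34.PopMain

open Smoothing TensorProduct Groth.Agent.Lib.Helper81

/-- regular homomorphisms pass to quotients of the base -/
theorem isRegularHom_quotient {R Λ : Type u} [CommRing R] [IsNoetherianRing R] [CommRing Λ]
    [IsNoetherianRing Λ] [Algebra R Λ] (hreg : CAlg.IsRegularHom R Λ) (J : Ideal R) :
    CAlg.IsRegularHom (R ⧸ J) (Λ ⧸ J.map (algebraMap R Λ)) := by
  haveI : Algebra.FiniteType R (R ⧸ J) :=
    Algebra.FiniteType.of_surjective (Algebra.ofId R (R ⧸ J)) Ideal.Quotient.mk_surjective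
  haveI : IsNoetherianRing ((R ⧸ J) ⊗[R] Λ) :=
    isNoetherianRing_of_ringEquiv _
      (Algebra.TensorProduct.quotIdealMapEquivQuotTensor Λ J).toRingEquiv
  have h1 : CAlg.IsRegularHom (R ⧸ J) ((R ⧸ J) ⊗[R] Λ) :=
    (Groth.Agent.S4695.result R Λ (R ⧸ J) (Or.inr inferInstance)).1 hreg
  exact Groth.Agent.H8.FinReg.isRegularHom_of_algEquiv
    (Algebra.TensorProduct.quotIdealMapEquivQuotTensor Λ J).symm h1

/-- a marked presentation gives a finite presentation -/
theorem finitePresentation_of_marked {R B : Type u} [CommRing R] [CommRing B] [Algebra R B]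
    (P : MarkedPresentation R B) : Algebra.FinitePresentation R B := by
  classical
  refine Algebra.FinitePresentation.of_surjective P.surj ?_
  rw [P.ker_eq]
  exact ⟨Finset.univ.image P.rel, by simp⟩

theorem smooth_of_subsingleton {R A : Type u} [CommRing R] [Subsingleton R] [CommRing A]
    [Algebra R A] [Algebra.FinitePresentation R A] : Algebra.Smooth R A := by
  haveI : Subsingleton A := by
    refine subsingleton_of_zero_eq_one ?_
    rw [← map_one (algebraMap R A), ← map_zero (algebraMap R A), Subsingleton.elim (1 : R) 0]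
  have hbij : Function.Bijective (Algebra.ofId R A) :=
    ⟨fun x y _ => Subsingleton.elim x y, fun y => ⟨0, Subsingleton.elim _ _⟩⟩
  exact ⟨Algebra.FormallySmooth.of_equiv (AlgEquiv.ofBijective (Algebra.ofId R A) hbij),
    inferInstance⟩


/-- at a minimal prime of a reduced ring the residue field is the localization -/
theorem isLocalization_residueField_of_minimal {R : Type u} [CommRing R] [IsReduced R]
    (p : Ideal R) [p.IsPrime] (hp : p ∈ minimalPrimes R) :
    IsLocalization p.primeCompl p.ResidueField := by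
  haveI : Ring.KrullDimLE 0 (Localization.AtPrime p) :=
    Ring.KrullDimLE.of_isLocalization p hp _
  have hfield : IsField (Localization.AtPrime p) := Ring.KrullDimLE.isField_of_isReduced
  have hmax : IsLocalRing.maximalIdeal (Localization.AtPrime p) = ⊥ :=
    IsLocalRing.isField_iff_maximalIdeal_eq.1 hfield
  have hbij : Function.Bijective
      (IsScalarTower.toAlgHom R (Localization.AtPrime p) p.ResidueField) := by
    constructor
    · rw [injective_iff_map_eq_zero]
      intro x hx
      have h1 : IsLocalRing.residue (Localization.AtPrime p) x = 0 := hx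
      rw [IsLocalRing.residue_eq_zero_iff, hmax] at h1
      exact h1
    · exact IsLocalRing.residue_surjective
  exact IsLocalization.isLocalization_of_algEquiv p.primeCompl
    (AlgEquiv.ofBijective (IsScalarTower.toAlgHom R (Localization.AtPrime p) p.ResidueField)
      hbij)

/-- In a reduced ring, `Ann(π²) = Ann(π)`. -/
theorem mul_eq_zero_of_sq_mul_eq_zero {R : Type*} [CommRing R] [IsReduced R] (π r : R)
    (h : π ^ 2 * r = 0) : π * r = 0 := by
  apply IsReduced.eq_zero
  refine ⟨2, ?_⟩
  have : (π * r) ^ 2 = π ^ 2 * r * r := by ring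
  rw [this, h, zero_mul]

/-- The inductive step of the reduction to a base field: Stacks 07F1. -/
theorem claim
    (hf : ∀ {k Λ' : Type u} [Field k] [CommRing Λ'] [Algebra k Λ'] [IsNoetherianRing Λ'],
      CAlg.IsGeometricallyRegular k Λ' → IndSmooth k Λ')
    {R Λ : Type u} [CommRing R] [IsNoetherianRing R] [CommRing Λ] [IsNoetherianRing Λ]
    [Algebra R Λ] (hreg : CAlg.IsRegularHom R Λ)
    (hq : ∀ J : Ideal R, J ≠ ⊥ → IndSmooth (R ⧸ J) (Λ ⧸ J.map (algebraMap R Λ))) :
    IndSmooth R Λ := by
  classical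
  haveI hflat : Module.Flat R Λ := hreg.1
  by_cases hred : IsReduced R
  swap
  · -- the non-reduced case
    have hN : nilradical R ≠ ⊥ := by
      intro h0
      apply hred
      rw [← nilradical_eq_bot_iff]
      exact h0
    exact Groth.Agent.S2022.result (nilradical R) (IsNoetherianRing.isNilpotent_nilradical R)
      (hq _ hN)
  by_cases hnt : Nontrivial R
  swap
  · haveI : Subsingleton R := not_nontrivial_iff_subsingleton.1 hnt
    intro A _ _ hfp φ
    haveI := hfp
    exact ⟨A, inferInstance, inferInstance, smooth_of_subsingleton, AlgHom.id R A, φ,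
      AlgHom.comp_id φ⟩
  -- the main case: `R` reduced and nontrivial
  obtain ⟨M, hM⟩ := Ideal.exists_maximal R
  obtain ⟨p₁, hp₁min, -⟩ := Ideal.exists_minimalPrimes_le (bot_le : (⊥ : Ideal R) ≤ M)
  haveI : p₁.IsPrime := hp₁min.1.1
  haveI hloc : IsLocalization p₁.primeCompl p₁.ResidueField :=
    isLocalization_residueField_of_minimal p₁ hp₁min
  obtain ⟨hNoeth, hgeo⟩ := hreg.2 p₁
  haveI := hNoeth
  have hind : IndSmooth p₁.ResidueField (p₁.Fiber Λ) := hf hgeo
  intro A _ _ hfp φ
  haveI := hfp
  -- the generic factorization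
  obtain ⟨B', instB', algB', hsmB', g', h', hcomp'⟩ :=
    hind (p₁.ResidueField ⊗[R] A) inferInstance
      (Algebra.TensorProduct.map (AlgHom.id p₁.ResidueField p₁.ResidueField) φ)
  haveI := hsmB'
  obtain ⟨B, instB, algB, α, β, hβα, s, hsS, hstd⟩ :=
    Groth.Agent.S2029.result φ p₁.primeCompl g' h' hcomp'
  have hstd' : IsStrictlyStandard R B (algebraMap R B s) :=
    Groth.Agent.S2026.isStrictlyStandard_of_isElementaryStandard _ hstd
  haveI hfpB : Algebra.FinitePresentation R B := by
    obtain ⟨P, -, -⟩ := hstd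
    exact finitePresentation_of_marked P
  -- `s ≠ 0`
  have hs0 : s ≠ 0 := by
    intro h0
    apply hsS
    rw [h0]
    exact zero_mem _
  have hK8 : Ideal.span {s ^ 8} ≠ (⊥ : Ideal R) := by
    intro h0
    apply hs0
    have h1 : s ^ 8 = 0 := by
      rw [Ideal.span_singleton_eq_bot] at h0
      exact h0
    exact IsReduced.eq_zero s ⟨8, h1⟩
  have hindK := hq _ hK8
  haveI : Algebra.FinitePresentation (R ⧸ Ideal.span {s ^ 8})
      (B ⧸ (Ideal.span {s ^ 8}).map (algebraMap R B)) :=
    Groth.Agent.H34.PopInd.finitePresentation_quotient _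
  obtain ⟨φK, hφK⟩ := Groth.Agent.H34.PopInd.exists_quotMap β (Ideal.span {s ^ 8})
  obtain ⟨C, instC, algC, hsmC, gC, hC, hcompC⟩ := hindK _ inferInstance φK
  haveI := hsmC
  letI algRC : Algebra R C :=
    ((algebraMap (R ⧸ Ideal.span {s ^ 8}) C).comp (algebraMap R (R ⧸ Ideal.span {s ^ 8}))).toAlgebra
  haveI : IsScalarTower R (R ⧸ Ideal.span {s ^ 8}) C :=
    IsScalarTower.of_algebraMap_eq (fun _ => rfl)
  obtain ⟨γ, hγ⟩ : ∃ γ : B →ₐ[R] C, ∀ b, γ b = gC (Ideal.Quotient.mk _ b) :=
    ⟨{ toRingHom := gC.toRingHom.comp (Ideal.Quotient.mk _)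
       commutes' := fun r => by
        show gC (Ideal.Quotient.mk _ (algebraMap R B r)) = algebraMap R C r
        have : Ideal.Quotient.mk ((Ideal.span {s ^ 8}).map (algebraMap R B)) (algebraMap R B r) =
            algebraMap (R ⧸ Ideal.span {s ^ 8}) _ (Ideal.Quotient.mk _ r) := rfl
        rw [this, AlgHom.commutes]
        rfl }, fun b => rfl⟩
  have hfac : ∀ b : B, (hC.restrictScalars R) (γ b) = Ideal.Quotient.mk _ (β b) := by
    intro b
    show hC (γ b) = _
    rw [hγ]
    have := AlgHom.congr_fun hcompC (Ideal.Quotient.mk _ b)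
    rw [AlgHom.comp_apply] at this
    rw [this, hφK]
  have hRs : ∀ r : R, s ^ 2 * r = 0 → s * r = 0 := fun r => mul_eq_zero_of_sq_mul_eq_zero s r
  have hΛs : ∀ x : Λ, s ^ 2 • x = 0 → s • x = 0 := fun x hx =>
    Pop.smul_eq_zero_of_sq_smul_eq_zero_of_flat s hRs x hx
  obtain ⟨B₂, instB₂, algB₂, hfpB₂, α₂, β₂, hβα₂, hI, hII⟩ :=
    Groth.Agent.H34.PopLift8.core s hRs hΛs β hstd' (Ideal.span {s ^ 8}) (by rw [← pow_mul])
      ((Ideal.span {s ^ 8}).map (algebraMap R Λ))
      (by rw [Ideal.map_span, Set.image_singleton, ← pow_mul]) γ (hC.restrictScalars R) hfac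
  haveI := hfpB₂
  -- the singular ideal of `B₂` extends to the unit ideal
  have hπB : algebraMap R B₂ s ∈ singularIdeal R B₂ := by
    rw [Pop.mem_singularIdeal_iff]
    intro Q _ hQ
    by_contra hπQ
    exact hQ (hI Q hπQ)
  have hKle : (Ideal.span {s ^ 8}).map (algebraMap R Λ) ≤ (singularIdeal R B₂).map β₂ := by
    rw [Ideal.map_span, Set.image_singleton, Ideal.span_le]
    intro x hx
    rw [Set.mem_singleton_iff] at hx
    rw [hx]
    have : algebraMap R Λ (s ^ 8) = β₂ (algebraMap R B₂ s ^ 8) := by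
      rw [← map_pow, AlgHom.commutes]
    rw [this]
    exact Ideal.mem_map_of_mem _ (Ideal.pow_mem_of_mem _ hπB 8 (by norm_num))
  have htop : (singularIdeal R B₂).map β₂ = ⊤ := by
    rw [← Ideal.radical_eq_top, Ideal.eq_top_iff_one]
    have h1 : (1 : Λ ⧸ (Ideal.span {s ^ 8}).map (algebraMap R Λ)) ∈
        (singularIdeal (R ⧸ Ideal.span {s ^ 8}) C).map (hC.restrictScalars R) := by
      rw [Pop.singularIdeal_eq_top_of_smooth, Ideal.map_top]
      exact Submodule.mem_top
    obtain ⟨l, hl, hl1⟩ := (Ideal.mem_map_iff_of_surjective _ Ideal.Quotient.mk_surjective).1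
      (hII h1)
    have h2 : l - 1 ∈ (Ideal.span {s ^ 8}).map (algebraMap R Λ) := by
      rw [← Ideal.Quotient.eq_zero_iff_mem, map_sub, hl1, map_one, sub_self]
    have h3 : (1 : Λ) = l - (l - 1) := by ring
    rw [h3]
    exact sub_mem hl (Ideal.le_radical (hKle h2))
  obtain ⟨B₃, instB₃, algB₃, hsmB₃, g₃, h₃, hcomp₃⟩ :=
    Groth.Agent.H34.PopTop.exists_smooth_of_map_singularIdeal_eq_top β₂ htop
  refine ⟨B₃, instB₃, algB₃, hsmB₃, (g₃.comp α₂).comp α, h₃, ?_⟩
  rw [← AlgHom.comp_assoc, ← AlgHom.comp_assoc, hcomp₃, hβα₂, hβα]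

/-- Reduction to a base field: Stacks 07F1, factorization form. -/
theorem indSmooth_of_regular
    (hf : ∀ {k Λ' : Type u} [Field k] [CommRing Λ'] [Algebra k Λ'] [IsNoetherianRing Λ'],
      CAlg.IsGeometricallyRegular k Λ' → IndSmooth k Λ')
    {R Λ : Type u} [CommRing R] [IsNoetherianRing R] [CommRing Λ] [IsNoetherianRing Λ]
    [Algebra R Λ] (hreg : CAlg.IsRegularHom R Λ) : IndSmooth R Λ := by
  have key : ∀ I : Ideal R, ∀ (R' : Type u) [CommRing R'] [Algebra R R'],
      Function.Surjective (algebraMap R R') → RingHom.ker (algebraMap R R') = I →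
      ∀ (Λ' : Type u) [CommRing Λ'] [IsNoetherianRing Λ'] [Algebra R' Λ'],
        CAlg.IsRegularHom R' Λ' → IndSmooth R' Λ' := by
    intro I
    induction I using IsNoetherian.induction with
    | hgt I ih =>
      intro R' _ _ hsurj hker Λ' _ _ _ hreg'
      haveI : IsNoetherianRing R' := isNoetherianRing_of_surjective R R' (algebraMap R R') hsurj
      refine claim hf hreg' ?_
      intro J hJ
      refine ih (J.comap (algebraMap R R')) ?_ (R' ⧸ J) ?_ ?_ (Λ' ⧸ J.map (algebraMap R' Λ'))
        (isRegularHom_quotient hreg' J)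
      · refine lt_of_le_of_ne ?_ ?_
        · rw [← hker]
          exact Ideal.comap_mono bot_le
        · intro heq
          apply hJ
          rw [eq_bot_iff]
          intro x hx
          obtain ⟨r, rfl⟩ := hsurj x
          have hr : r ∈ J.comap (algebraMap R R') := hx
          rw [← heq, ← hker] at hr
          rw [Ideal.mem_bot]
          exact hr
      · intro x
        obtain ⟨y, rfl⟩ := Ideal.Quotient.mk_surjective x
        obtain ⟨r, rfl⟩ := hsurj y
        exact ⟨r, rfl⟩
      · ext r
        rw [RingHom.mem_ker, Ideal.mem_comap]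
        show Ideal.Quotient.mk J (algebraMap R R' r) = 0 ↔ _
        rw [Ideal.Quotient.eq_zero_iff_mem]
  refine key ⊥ R (fun x => ⟨x, rfl⟩) ?_ Λ hreg
  rw [Algebra.algebraMap_self]
  exact (RingHom.ker_eq_bot_iff_eq_zero _).2 fun x hx => hx

end Groth.Agent.H34.PopMain

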