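import Mathlib
import Groth.Agent.H34.PopField
import Groth.Agent.H34.PopMain

/-!
# Popescu's theorem from the two resolution lemmas over fields (helper34)
-/

set_option autoImplicit false
universe u

namespace Groth.Agent.H34.PopFinal

open Smoothing Groth.Agent.H34.PopField Groth.Agent.H34.PopMain

/-- Popescu's theorem (factorization form), given the separable and the characteristic `p`
resolution lemmas over fields. -/
theorem popescu (hsep : SepStatement.{u}) (hinsep : InsepStatement.{u})
    (R : Type u) [CommRing R] [IsNoetherianRing R] (Λ : Type u)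
    [CommRing Λ] [IsNoetherianRing Λ] [Algebra R Λ] (hreg : CAlg.IsRegularHom R Λ) (A : Type u)
    [CommRing A] [Algebra R A] [Algebra.FinitePresentation R A] (f : A →ₐ[R] Λ) :
    ∃ (B : Type u) (_ : CommRing B) (_ : Algebra R B), Algebra.Smooth R B ∧
      ∃ (g : A →ₐ[R] B) (h : B →ₐ[R] Λ), h.comp g = f :=
  indSmooth_of_regular (fun hreg' => indSmooth_field hsep hinsep hreg') hreg A inferInstance f

end Groth.Agent.H34.PopFinal
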