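import Mathlib

/-!
# Three small lemmas for the characteristic `p` case of Popescu's theorem (for helper81)
-/

namespace Groth.Agent.H34.PopSmall

universe u

/-- (D2) clearing denominators in a relation `x^N = ∑ a_j μ_j` in a localization at a prime. -/
theorem exists_clear_denominators {Λ : Type u} [CommRing Λ] (𝔮 : Ideal Λ) [𝔮.IsPrime] {r : ℕ}
    (a : Fin r → Λ) (x : Λ) (N : ℕ) (hN : 1 ≤ N) (μ : Fin r → Localization.AtPrime 𝔮)
    (h : algebraMap Λ (Localization.AtPrime 𝔮) x ^ N =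
      ∑ j, algebraMap Λ (Localization.AtPrime 𝔮) (a j) * μ j) :
    ∃ δ ∈ 𝔮.primeCompl, ∃ lam : Fin r → Λ, (δ * x) ^ N = ∑ j, a j * lam j ∧
      ∀ j, algebraMap Λ (Localization.AtPrime 𝔮) (lam j) =
        algebraMap Λ (Localization.AtPrime 𝔮) δ ^ N * μ j := by
  obtain ⟨s, hs⟩ := IsLocalization.exist_integer_multiples_of_finite 𝔮.primeCompl μ
  choose m hm using hs
  -- `hm j : algebraMap (m j) = s • μ j`
  have hm' : ∀ j, algebraMap Λ (Localization.AtPrime 𝔮) (m j) =
      algebraMap Λ (Localization.AtPrime 𝔮) (s : Λ) * μ j := by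
    intro j
    rw [hm j, Algebra.smul_def]
  have h0 : algebraMap Λ (Localization.AtPrime 𝔮) ((s : Λ) * x ^ N - ∑ j, a j * m j) = 0 := by
    rw [map_sub, map_mul, map_pow, h, map_sum, Finset.mul_sum, sub_eq_zero]
    refine Finset.sum_congr rfl fun j _ => ?_
    rw [map_mul, hm']
    ring
  obtain ⟨s', hs'⟩ := (IsLocalization.map_eq_zero_iff 𝔮.primeCompl (Localization.AtPrime 𝔮) _).mp h0
  obtain ⟨N', rfl⟩ : ∃ N', N = N' + 1 := ⟨N - 1, by omega⟩
  refine ⟨(s' : Λ) * (s : Λ), 𝔮.primeCompl.mul_mem s'.2 s.2,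
    fun j => ((s' : Λ) * (s : Λ)) ^ N' * (s' : Λ) * m j, ?_, ?_⟩
  · have h1 : (s' : Λ) * ((s : Λ) * x ^ (N' + 1)) = (s' : Λ) * ∑ j, a j * m j := by
      have := hs'
      rw [mul_sub, sub_eq_zero] at this
      exact this
    calc ((s' : Λ) * (s : Λ) * x) ^ (N' + 1)
        = ((s' : Λ) * (s : Λ)) ^ N' * ((s' : Λ) * ((s : Λ) * x ^ (N' + 1))) := by ring
      _ = ((s' : Λ) * (s : Λ)) ^ N' * ((s' : Λ) * ∑ j, a j * m j) := by rw [h1]
      _ = ∑ j, a j * (((s' : Λ) * (s : Λ)) ^ N' * (s' : Λ) * m j) := by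
        rw [Finset.mul_sum, Finset.mul_sum]
        refine Finset.sum_congr rfl fun j _ => ?_
        ring
  · intro j
    rw [map_mul, map_mul, map_pow, map_mul, hm']
    ring

/-- (D3) elements of `J^(M+N)` are combinations of the `a_j` with coefficients in `J^M`, when
`J^N ≤ (a_j)`. -/
theorem exists_sum_mul_of_mem_pow {L : Type u} [CommRing L] (J : Ideal L) {r : ℕ} (a : Fin r → L)
    (M N : ℕ) (hpow : J ^ N ≤ Ideal.span (Set.range a)) (z : L) (hz : z ∈ J ^ (M + N)) :
    ∃ ν : Fin r → L, (∀ j, ν j ∈ J ^ M) ∧ z = ∑ j, a j * ν j := by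
  have h1 : z ∈ J ^ M • Submodule.span L (Set.range a) := by
    rw [pow_add] at hz
    exact Ideal.mul_mono_right hpow hz
  obtain ⟨c, hc, rfl⟩ := (Submodule.mem_ideal_smul_span_iff_exists_sum _ a z).mp h1
  refine ⟨fun j => c j, hc, ?_⟩
  rw [Finsupp.sum_fintype _ _ (fun i => by simp)]
  exact Finset.sum_congr rfl fun j _ => by rw [smul_eq_mul, mul_comm]

/-- (D4) membership in a finitely generated ideal descends along a faithfully flat map. -/
theorem exists_coeffs_of_faithfullyFlat {D Λb : Type u} [CommRing D] [CommRing Λb] [Algebra D Λb]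
    [Module.FaithfullyFlat D Λb] {r : ℕ} (a : Fin r → D) (z : D)
    (hz : algebraMap D Λb z ∈ Ideal.span (Set.range fun j => algebraMap D Λb (a j))) :
    ∃ μ : Fin r → D, z = ∑ j, a j * μ j := by
  have h1 : Ideal.span (Set.range fun j => algebraMap D Λb (a j)) =
      (Ideal.span (Set.range a)).map (algebraMap D Λb) := by
    rw [Ideal.map_span, ← Set.range_comp]
    rfl
  rw [h1] at hz
  have h2 : z ∈ ((Ideal.span (Set.range a)).map (algebraMap D Λb)).comap (algebraMap D Λb) := hz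
  rw [Ideal.comap_map_eq_self_of_faithfullyFlat] at h2
  obtain ⟨μ, hμ⟩ := Ideal.mem_span_range_iff_exists_fun.mp h2
  exact ⟨μ, by rw [← hμ]; exact Finset.sum_congr rfl (fun j _ => mul_comm _ _)⟩

end Groth.Agent.H34.PopSmall
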