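import Mathlib
import Groth.Agent.H34.PopSmall
import Groth.Agent.Lib.Helper86.AnnPolyB

/-!
# Choice of parameters on the `Λ`-side (for the characteristic `p` case of Popescu, helper81)
-/

namespace Groth.Agent.H34.PopParam

open IsLocalRing

universe u

set_option maxHeartbeats 1600000 in
theorem exists_params {Λ : Type u} [CommRing Λ] [IsNoetherianRing Λ] (𝔮 : Ideal Λ) [𝔮.IsPrime]
    [IsRegularLocalRing (Localization.AtPrime 𝔮)] {d : ℕ}
    (hdL : (maximalIdeal (Localization.AtPrime 𝔮)).spanFinrank = d)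
    (N M n e : ℕ) (hN : 1 ≤ N) (he : 0 < e) (hn : n = M + N)
    {D : Type u} [CommRing D]
    [Algebra D (Localization.AtPrime 𝔮 ⧸ maximalIdeal (Localization.AtPrime 𝔮) ^ n)]
    [Module.FaithfullyFlat D (Localization.AtPrime 𝔮 ⧸ maximalIdeal (Localization.AtPrime 𝔮) ^ n)]
    {r : ℕ} (aΛ : Fin r → Λ) (aD : Fin r → D)
    (haD : ∀ j, algebraMap D (Localization.AtPrime 𝔮 ⧸ maximalIdeal (Localization.AtPrime 𝔮) ^ n)
      (aD j) = Ideal.Quotient.mk _ (algebraMap Λ (Localization.AtPrime 𝔮) (aΛ j)))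
    (hpow : maximalIdeal (Localization.AtPrime 𝔮) ^ N ≤
      Ideal.span (Set.range fun j => algebraMap Λ (Localization.AtPrime 𝔮) (aΛ j)))
    (xΛ : Fin d → Λ) (xD : Fin d → D)
    (hxD : ∀ i, algebraMap D (Localization.AtPrime 𝔮 ⧸ maximalIdeal (Localization.AtPrime 𝔮) ^ n)
      (xD i) = Ideal.Quotient.mk _ (algebraMap Λ (Localization.AtPrime 𝔮) (xΛ i)))
    (hxgen : Ideal.span (Set.range fun i => algebraMap Λ (Localization.AtPrime 𝔮) (xΛ i)) =
      maximalIdeal (Localization.AtPrime 𝔮)) :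
    ∃ (μ : Fin d → Fin r → D) (δ : Fin d → Λ) (lam : Fin d → Fin r → Λ),
      (∀ i, xD i ^ N = ∑ j, aD j * μ i j) ∧ (∀ i, δ i ∉ 𝔮) ∧
      (∀ i, (δ i * xΛ i) ^ N = ∑ j, aΛ j * lam i j) ∧
      (∀ i j, ∃ μ' : Localization.AtPrime 𝔮,
        Ideal.Quotient.mk (maximalIdeal (Localization.AtPrime 𝔮) ^ n) μ' =
          algebraMap D (Localization.AtPrime 𝔮 ⧸ maximalIdeal (Localization.AtPrime 𝔮) ^ n)
            (μ i j) ∧
        algebraMap Λ (Localization.AtPrime 𝔮) (lam i j) -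
          algebraMap Λ (Localization.AtPrime 𝔮) (δ i) ^ N * μ' ∈
            maximalIdeal (Localization.AtPrime 𝔮) ^ M) ∧
      (∀ (i : Fin d) (y : Λ),
        (δ i * xΛ i) ^ 2 * y ∈
          Ideal.span (Set.range fun j : {j : Fin d // (j : ℕ) < (i : ℕ)} =>
            (δ j * xΛ j) ^ e) →
        (δ i * xΛ i) * y ∈
          Ideal.span (Set.range fun j : {j : Fin d // (j : ℕ) < (i : ℕ)} =>
            (δ j * xΛ j) ^ e)) := by
  classical
  have hx'm : ∀ i, algebraMap Λ (Localization.AtPrime 𝔮) (xΛ i) ∈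
      maximalIdeal (Localization.AtPrime 𝔮) := by
    intro i
    rw [← hxgen]
    exact Ideal.subset_span ⟨i, rfl⟩
  -- Step 1: coefficients in `D`
  have h1 : ∀ i, ∃ μ : Fin r → D, xD i ^ N = ∑ j, aD j * μ j := by
    intro i
    apply Groth.Agent.H34.PopSmall.exists_coeffs_of_faithfullyFlat
      (Λb := Localization.AtPrime 𝔮 ⧸ maximalIdeal (Localization.AtPrime 𝔮) ^ n) aD
    have h2 : algebraMap Λ (Localization.AtPrime 𝔮) (xΛ i) ^ N ∈
        Ideal.span (Set.range fun j => algebraMap Λ (Localization.AtPrime 𝔮) (aΛ j)) :=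
      hpow (Ideal.pow_mem_pow (hx'm i) N)
    have h3 := Ideal.mem_map_of_mem
      (Ideal.Quotient.mk (maximalIdeal (Localization.AtPrime 𝔮) ^ n)) h2
    rw [Ideal.map_span, ← Set.range_comp] at h3
    rw [map_pow, hxD, ← map_pow]
    have h4 : (fun j => algebraMap D
        (Localization.AtPrime 𝔮 ⧸ maximalIdeal (Localization.AtPrime 𝔮) ^ n) (aD j)) =
        (Ideal.Quotient.mk (maximalIdeal (Localization.AtPrime 𝔮) ^ n)) ∘
          fun j => algebraMap Λ (Localization.AtPrime 𝔮) (aΛ j) := by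
      funext j
      exact haD j
    rw [h4]
    exact h3
  choose μ hμ using h1
  -- Step 2: lifts and correction
  choose μt hμt using fun i j => Ideal.Quotient.mk_surjective
    (I := maximalIdeal (Localization.AtPrime 𝔮) ^ n)
    (algebraMap D (Localization.AtPrime 𝔮 ⧸ maximalIdeal (Localization.AtPrime 𝔮) ^ n) (μ i j))
  have hz : ∀ i, algebraMap Λ (Localization.AtPrime 𝔮) (xΛ i) ^ N -
      ∑ j, algebraMap Λ (Localization.AtPrime 𝔮) (aΛ j) * μt i j ∈
      maximalIdeal (Localization.AtPrime 𝔮) ^ (M + N) := by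
    intro i
    rw [← hn, ← Ideal.Quotient.eq_zero_iff_mem, map_sub, map_pow, ← hxD, ← map_pow, hμ i, map_sum,
      map_sum, sub_eq_zero]
    refine Finset.sum_congr rfl fun j _ => ?_
    rw [map_mul, map_mul, hμt, haD]
  choose ν hνM hν using fun i => Groth.Agent.H34.PopSmall.exists_sum_mul_of_mem_pow
    (maximalIdeal (Localization.AtPrime 𝔮))
    (fun j => algebraMap Λ (Localization.AtPrime 𝔮) (aΛ j)) M N hpow _ (hz i)
  have hx'N : ∀ i, algebraMap Λ (Localization.AtPrime 𝔮) (xΛ i) ^ N =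
      ∑ j, algebraMap Λ (Localization.AtPrime 𝔮) (aΛ j) * (μt i j + ν i j) := by
    intro i
    have := hν i
    simp only [mul_add, Finset.sum_add_distrib]
    rw [← this]
    ring
  -- Step 3: clearing denominators
  choose δ0 hδ0 lam0 hlam0 hlam0' using fun i =>
    Groth.Agent.H34.PopSmall.exists_clear_denominators 𝔮 aΛ (xΛ i) N hN
      (fun j => μt i j + ν i j) (hx'N i)
  -- Step 4: rescaling
  have hπ₀ : Ideal.span (Set.range fun i => algebraMap Λ (Localization.AtPrime 𝔮)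
      (δ0 i * xΛ i)) = maximalIdeal (Localization.AtPrime 𝔮) := by
    rw [← hxgen]
    have := Groth.Agent.Lib.Helper87.Smoothing.span_range_mul_unit
      (fun i => algebraMap Λ (Localization.AtPrime 𝔮) (xΛ i))
      (fun i => algebraMap Λ (Localization.AtPrime 𝔮) (δ0 i))
      (fun i => IsLocalization.map_units (Localization.AtPrime 𝔮) (⟨δ0 i, hδ0 i⟩ : 𝔮.primeCompl))
    rw [← this]
    congr 2
    funext i
    rw [map_mul, mul_comm]
  obtain ⟨s, hs, hQ⟩ := Groth.Agent.Lib.Helper86.AnnPoly.exists_rescale_QS 𝔮 hdL e he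
    (fun i => δ0 i * xΛ i) hπ₀ d le_rfl
  -- Step 5: assemble
  refine ⟨μ, fun i => s i * δ0 i, fun i j => s i ^ N * lam0 i j, hμ, ?_, ?_, ?_, ?_⟩
  · intro i
    exact 𝔮.primeCompl.mul_mem (hs i) (hδ0 i)
  · intro i
    rw [mul_assoc, mul_pow, hlam0 i, Finset.mul_sum]
    refine Finset.sum_congr rfl fun j _ => ?_
    ring
  · intro i j
    refine ⟨μt i j, hμt i j, ?_⟩
    have : algebraMap Λ (Localization.AtPrime 𝔮) (s i ^ N * lam0 i j) -
        algebraMap Λ (Localization.AtPrime 𝔮) (s i * δ0 i) ^ N * μt i j =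
        algebraMap Λ (Localization.AtPrime 𝔮) (s i) ^ N *
          algebraMap Λ (Localization.AtPrime 𝔮) (δ0 i) ^ N * ν i j := by
      rw [map_mul, map_pow, hlam0' i j, map_mul]
      ring
    rw [this]
    exact Ideal.mul_mem_left _ _ (hνM i j)
  · intro i y hy
    have hset : (Set.range fun j : {j : Fin d // (j : ℕ) < (i : ℕ)} =>
        (s j * δ0 j * xΛ j) ^ e) =
        (fun j => (s j * (δ0 j * xΛ j)) ^ e) '' {j : Fin d | j < i} := by
      ext w
      constructor
      · rintro ⟨⟨j, hj⟩, rfl⟩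
        exact ⟨j, hj, by simp only [mul_assoc]⟩
      · rintro ⟨j, hj, rfl⟩
        exact ⟨⟨j, hj⟩, by simp only [mul_assoc]⟩
    rw [hset] at hy ⊢
    have := hQ i i.2 {j : Fin d | j < i} (fun j hj => hj) y
    simp only [mul_assoc] at hy ⊢ this
    exact this hy

end Groth.Agent.H34.PopParam
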