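import Mathlib
import Groth.Prelude.Def_CAlg
import Groth.Agent.Lib.Helper29.DepthRees

/-!
Helper lemmas (helper34): a finite module of depth `≥ 2` over a Noetherian local domain whose
double-dual evaluation map has kernel and cokernel killed by a power of the maximal ideal is reflexive.
-/

set_option autoImplicit false
universe u v

namespace Groth.Agent.H34

open RingTheory.Sequence IsLocalRing
open scoped Pointwise

/-- Uniform denominators from a submonoid: if every element of a finite module is multiplied into a
submodule `P` by some element of `S`, then one element of `S` works for all. -/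
theorem exists_uniform_smul_mem_of_submonoid {R : Type u} [CommRing R] (S : Submonoid R) {M : Type v}
    [AddCommGroup M] [Module R M] [Module.Finite R M] (P : Submodule R M)
    (h : ∀ x : M, ∃ c ∈ S, c • x ∈ P) : ∃ c ∈ S, ∀ x : M, c • x ∈ P := by
  classical
  obtain ⟨s, hs⟩ := Module.Finite.fg_top (R := R) (M := M)
  choose c hcS hc using h
  refine ⟨∏ m ∈ s, c m, Submonoid.prod_mem S (fun m _ => hcS m), ?_⟩
  have : (⊤ : Submodule R M) ≤ P.comap ((∏ m ∈ s, c m) • (LinearMap.id : M →ₗ[R] M)) := by
    rw [← hs, Submodule.span_le]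
    intro m hm
    obtain ⟨k, hk⟩ := Finset.dvd_prod_of_mem c hm
    change (∏ m ∈ s, c m) • m ∈ P
    rw [hk, mul_comm, mul_smul]
    exact P.smul_mem _ (hc m)
  intro x
  exact this (Submodule.mem_top (x := x))

theorem isReflexive_of_subsingleton (A : Type u) [CommRing A] (N : Type v) [AddCommGroup N]
    [Module A N] [Subsingleton N] : Module.IsReflexive A N := by
  refine ⟨⟨fun a b _ => Subsingleton.elim a b, fun w => ⟨0, ?_⟩⟩⟩
  apply LinearMap.ext
  intro φ
  have : φ = 0 := LinearMap.ext fun n => by rw [Subsingleton.elim n 0, map_zero, map_zero]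
  rw [this, map_zero, map_zero]

/-- The local lemma: depth `≥ 2` plus "kernel and cokernel of `N → N**` are killed by `𝔪ⁿ`"
implies `N` reflexive. -/
theorem isReflexive_of_depth_of_pow_le (A : Type u) [CommRing A] [IsDomain A] [IsNoetherianRing A]
    [IsLocalRing A] (N : Type u) [AddCommGroup N] [Module A N] [Module.Finite A N]
    (hd : 2 ≤ LocCoh.depth A N) (n : ℕ)
    (hker : ∀ r ∈ maximalIdeal A ^ n, ∀ k : N, Module.Dual.eval A N k = 0 → r • k = 0)
    (hrange : ∀ r ∈ maximalIdeal A ^ n, ∀ w : Module.Dual A (Module.Dual A N),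
      r • w ∈ LinearMap.range (Module.Dual.eval A N)) :
    Module.IsReflexive A N := by
  have h' : ((2 : ℕ) : ℕ∞) ≤ LocCoh.idealDepth (maximalIdeal A) N := by exact_mod_cast hd
  rw [Groth.Agent.Lib.Helper29.le_idealDepth_iff] at h'
  rcases h' with h' | ⟨rs, hlen, hmem, hreg⟩
  · have h1 : (⊤ : Submodule A N) = ⊥ :=
      Submodule.eq_bot_of_le_smul_of_le_jacobson_bot (maximalIdeal A) ⊤ Module.Finite.fg_top
        h'.ge (maximalIdeal_le_jacobson _)
    have : Subsingleton N := by
      refine ⟨fun a b => ?_⟩
      have ha : a ∈ (⊥ : Submodule A N) := h1 ▸ Submodule.mem_top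
      have hb : b ∈ (⊥ : Submodule A N) := h1 ▸ Submodule.mem_top
      rw [(Submodule.mem_bot A).mp ha, (Submodule.mem_bot A).mp hb]
    exact isReflexive_of_subsingleton A N
  · obtain ⟨x, y, rfl⟩ := List.length_eq_two.mp hlen
    rw [isWeaklyRegular_cons_iff, isWeaklyRegular_singleton_iff] at hreg
    obtain ⟨hx, hy⟩ := hreg
    have hxm : x ∈ maximalIdeal A := hmem x (by simp)
    have hym : y ∈ maximalIdeal A := hmem y (by simp)
    by_cases hx0 : x = 0
    · have : Subsingleton N := ⟨fun a b => hx (by simp [hx0])⟩
      exact isReflexive_of_subsingleton A N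
    -- injectivity
    have hinj : Function.Injective (Module.Dual.eval A N) := by
      rw [injective_iff_map_eq_zero]
      intro k hk
      have h1 : x ^ n • k = 0 := hker _ (Ideal.pow_mem_pow hxm n) k hk
      exact (hx.pow n) (by change x ^ n • k = x ^ n • (0 : N); rw [h1, smul_zero])
    -- `x` is regular on the double dual
    have hxreg : IsSMulRegular (Module.Dual A (Module.Dual A N)) x := by
      intro φ ψ hφψ
      apply LinearMap.ext
      intro m
      have := LinearMap.congr_fun hφψ m
      simp only [LinearMap.smul_apply, smul_eq_mul] at this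
      exact mul_left_cancel₀ hx0 this
    -- the descending step
    have hstep : ∀ j : ℕ, (∀ r ∈ maximalIdeal A ^ (j + 1),
        ∀ w : Module.Dual A (Module.Dual A N), r • w ∈ LinearMap.range (Module.Dual.eval A N)) →
        ∀ r ∈ maximalIdeal A ^ j, ∀ w : Module.Dual A (Module.Dual A N),
          r • w ∈ LinearMap.range (Module.Dual.eval A N) := by
      intro j hj r hr w
      have hxr : r * x ∈ maximalIdeal A ^ (j + 1) := by
        rw [pow_succ]; exact Ideal.mul_mem_mul hr hxm
      have hyr : r * y ∈ maximalIdeal A ^ (j + 1) := by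
        rw [pow_succ]; exact Ideal.mul_mem_mul hr hym
      obtain ⟨n₁, hn₁⟩ := hj _ hxr w
      obtain ⟨n₂, hn₂⟩ := hj _ hyr w
      have h1 : y • n₁ = x • n₂ := by
        apply hinj
        rw [map_smul, map_smul, hn₁, hn₂, smul_smul, smul_smul]
        congr 1
        ring
      -- `n₁ ∈ x N`
      have h2 : (Submodule.Quotient.mk n₁ : QuotSMulTop x N) = 0 := by
        apply hy
        change y • (Submodule.Quotient.mk n₁ : QuotSMulTop x N) = y • (0 : QuotSMulTop x N)
        rw [smul_zero, ← Submodule.Quotient.mk_smul, h1, Submodule.Quotient.mk_eq_zero]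
        exact (Submodule.mem_smul_pointwise_iff_exists _ _ _).mpr ⟨n₂, trivial, rfl⟩
      rw [Submodule.Quotient.mk_eq_zero] at h2
      obtain ⟨n₃, -, hn₃⟩ := (Submodule.mem_smul_pointwise_iff_exists _ _ _).mp h2
      refine ⟨n₃, ?_⟩
      apply hxreg
      change x • Module.Dual.eval A N n₃ = x • r • w
      rw [← map_smul, hn₃, hn₁, mul_comm, mul_smul]
    have hall : ∀ j : ℕ, (∀ r ∈ maximalIdeal A ^ j,
        ∀ w : Module.Dual A (Module.Dual A N), r • w ∈ LinearMap.range (Module.Dual.eval A N)) →
        ∀ w : Module.Dual A (Module.Dual A N), w ∈ LinearMap.range (Module.Dual.eval A N) := by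
      intro j
      induction j with
      | zero =>
        intro h w
        have := h 1 (by simp) w
        rwa [one_smul] at this
      | succ j ih =>
        intro h
        exact ih (hstep j h)
    exact ⟨⟨hinj, fun w => hall n hrange w⟩⟩

end Groth.Agent.H34
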