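import Groth.Agent.S2019
import Groth.Agent.S14953
import Groth.Agent.S6916

/-!
# Relative Milnor gluing: reduction to the absolute fibre square `D ×_C C'`
-/

set_option autoImplicit false
universe u
open TensorProduct

namespace Groth.Agent.H34.RelMilnor

section rel

variable (B' B A' A : Type u) [CommRing B'] [CommRing B] [CommRing A'] [CommRing A]
    [Algebra B' B] [Algebra B' A'] [Algebra B A] [Algebra A' A] [Algebra B' A] [IsScalarTower B' B A] [IsScalarTower B' A' A]
    (D' D C' C : Type u) [CommRing D'] [CommRing D] [CommRing C'] [CommRing C]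
    [Algebra B' D'] [Algebra B D] [Algebra A' C'] [Algebra A C]
    [Algebra D' D] [Algebra B' D] [IsScalarTower B' B D] [IsScalarTower B' D' D] [Algebra.IsPushout B' B D' D]
    [Algebra D' C'] [Algebra B' C'] [IsScalarTower B' A' C'] [IsScalarTower B' D' C'] [Algebra.IsPushout B' A' D' C']
    [Algebra D' C] [Algebra B' C] [IsScalarTower B' A C] [IsScalarTower B' D' C] [Algebra.IsPushout B' A D' C]
    [Algebra D C] [IsScalarTower D' D C] [Algebra B C] [IsScalarTower B A C] [IsScalarTower B D C]
    [Algebra C' C] [IsScalarTower D' C' C] [Algebra A' C] [IsScalarTower A' A C] [IsScalarTower A' C' C]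

include B' A' A D' in
theorem surjective_algebraMap (hs : Function.Surjective (algebraMap A' A)) :
    Function.Surjective (algebraMap C' C) := by
  intro c
  have h : IsBaseChange A (IsScalarTower.toAlgHom B' D' C).toLinearMap :=
    (inferInstance : Algebra.IsPushout B' A D' C).out
  induction c using h.inductionOn with
  | zero => exact ⟨0, map_zero _⟩
  | tmul d' =>
    refine ⟨algebraMap D' C' d', ?_⟩
    simp [← IsScalarTower.algebraMap_apply]
  | smul a c ih =>
    obtain ⟨c', rfl⟩ := ih
    obtain ⟨a', rfl⟩ := hs a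
    refine ⟨algebraMap A' C' a' * c', ?_⟩
    rw [map_mul, Algebra.smul_def, ← IsScalarTower.algebraMap_apply, ← IsScalarTower.algebraMap_apply]
  | add c₁ c₂ h₁ h₂ =>
    obtain ⟨x₁, rfl⟩ := h₁
    obtain ⟨x₂, rfl⟩ := h₂
    exact ⟨x₁ + x₂, map_add _ _ _⟩

theorem pair_surjective (hsq : EtMil.IsFibreSquare B' B A' A) (d : D) (c' : C')
    (h : algebraMap D C d = algebraMap C' C c') :
    ∃ d' : D', algebraMap D' D d' = d ∧ algebraMap D' C' d' = c' := by
  set eB := Algebra.IsPushout.equiv B' B D' D
  set eA' := Algebra.IsPushout.equiv B' A' D' C'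
  set eA := Algebra.IsPushout.equiv B' A D' C
  have h1 : ∀ x : B ⊗[B'] D', eA ((IsScalarTower.toAlgHom B' B A).toLinearMap.rTensor D' x)
      = algebraMap D C (eB x) := by
    intro x
    induction x with
    | zero => simp
    | add x y hx hy => simp only [map_add, hx, hy]
    | tmul b d' =>
      simp only [LinearMap.rTensor_tmul, AlgHom.toLinearMap_apply, IsScalarTower.coe_toAlgHom', eA, eB,
        Algebra.IsPushout.equiv_tmul, map_mul, ← IsScalarTower.algebraMap_apply]
  have h2 : ∀ y : A' ⊗[B'] D', eA ((IsScalarTower.toAlgHom B' A' A).toLinearMap.rTensor D' y)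
      = algebraMap C' C (eA' y) := by
    intro y
    induction y with
    | zero => simp
    | add x y hx hy => simp only [map_add, hx, hy]
    | tmul b d' =>
      simp only [LinearMap.rTensor_tmul, AlgHom.toLinearMap_apply, IsScalarTower.coe_toAlgHom', eA, eA',
        Algebra.IsPushout.equiv_tmul, map_mul, ← IsScalarTower.algebraMap_apply]
  obtain ⟨l, hl1, hl2⟩ := Groth.Agent.S6916.result B' B A' A hsq D' (eB.symm d) (eA'.symm c') (by
    apply eA.injective
    rw [h1, h2, AlgEquiv.apply_symm_apply, AlgEquiv.apply_symm_apply, h])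
  refine ⟨l, ?_, ?_⟩
  · have := congrArg eB hl1
    rw [AlgEquiv.apply_symm_apply] at this
    rw [← this]
    simp [eB, Algebra.IsPushout.equiv_tmul]
  · have := congrArg eA' hl2
    rw [AlgEquiv.apply_symm_apply] at this
    rw [← this]
    simp [eA', Algebra.IsPushout.equiv_tmul]

end rel

section abs

variable {D' D C' C : Type u} [CommRing D'] [CommRing D] [CommRing C'] [CommRing C]
  [Algebra D' D] [Algebra D' C'] [Algebra D C] [Algebra C' C] [Algebra D' C]
  [IsScalarTower D' D C] [IsScalarTower D' C' C]

variable (D C' C) in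
/-- The honest fibre product `D ×_C C'`. -/
abbrev FP : Subring (D × C') :=
  RingHom.eqLocus ((algebraMap D C).comp (RingHom.fst D C')) ((algebraMap C' C).comp (RingHom.snd D C'))

noncomputable instance algFPD : Algebra (FP D C' C) D :=
  ((RingHom.fst D C').comp (FP D C' C).subtype).toAlgebra
noncomputable instance algFPC' : Algebra (FP D C' C) C' :=
  ((RingHom.snd D C').comp (FP D C' C).subtype).toAlgebra
noncomputable instance algFPC : Algebra (FP D C' C) C :=
  ((algebraMap D C).comp (algebraMap (FP D C' C) D)).toAlgebra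

instance towerFPDC : IsScalarTower (FP D C' C) D C := IsScalarTower.of_algebraMap_eq (fun _ => rfl)
instance towerFPC'C : IsScalarTower (FP D C' C) C' C := IsScalarTower.of_algebraMap_eq (fun x => x.2)

theorem isFibreSquare_FP (hs : Function.Surjective (algebraMap C' C)) :
    EtMil.IsFibreSquare (FP D C' C) D C' C := by
  refine ⟨hs, fun d c' h => ⟨⟨(d, c'), h⟩, ⟨rfl, rfl⟩, ?_⟩⟩
  rintro ⟨⟨d₁, c₁⟩, h₁⟩ ⟨h2, h3⟩
  change d₁ = d at h2
  change c₁ = c' at h3
  subst h2 h3
  rfl

variable {N M' : Type u} [AddCommGroup N] [Module D N] [Module D' N] [IsScalarTower D' D N]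
    [AddCommGroup M'] [Module C' M'] [Module D' M'] [IsScalarTower D' C' M']

/-- the comparison map `D' → D ×_C C'`. -/
noncomputable def toFP : D' →+* FP D C' C where
  toFun d' := ⟨(algebraMap D' D d', algebraMap D' C' d'), by
    change algebraMap D C (algebraMap D' D d') = algebraMap C' C (algebraMap D' C' d')
    rw [← IsScalarTower.algebraMap_apply, ← IsScalarTower.algebraMap_apply]⟩
  map_one' := by ext <;> simp
  map_mul' x y := by ext <;> simp
  map_zero' := by ext <;> simp
  map_add' x y := by ext <;> simp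

theorem toFP_surjective
    (hp : ∀ (d : D) (c' : C'), algebraMap D C d = algebraMap C' C c' →
      ∃ d' : D', algebraMap D' D d' = d ∧ algebraMap D' C' d' = c') :
    Function.Surjective (toFP (D' := D') (D := D) (C' := C') (C := C)) := by
  rintro ⟨⟨d, c'⟩, h⟩
  obtain ⟨d', h1, h2⟩ := hp d c' h
  refine ⟨d', ?_⟩
  apply Subtype.ext
  exact Prod.ext h1 h2

theorem finite_glue_of_pair_surjective (φ : C ⊗[D] N ≃ₗ[C] C ⊗[C'] M')
    (hs : Function.Surjective (algebraMap C' C))
    (hp : ∀ (d : D) (c' : C'), algebraMap D C d = algebraMap C' C c' →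
      ∃ d' : D', algebraMap D' D d' = d ∧ algebraMap D' C' d' = c')
    [Module.Finite D N] [Module.Finite C' M'] : Module.Finite D' ↥(EtMil.glue D' φ) := by
  letI : Module (FP D C' C) N := Module.compHom N (algebraMap (FP D C' C) D)
  letI : Module (FP D C' C) M' := Module.compHom M' (algebraMap (FP D C' C) C')
  haveI : IsScalarTower (FP D C' C) D N := IsScalarTower.of_algebraMap_smul (fun _ _ => rfl)
  haveI : IsScalarTower (FP D C' C) C' M' := IsScalarTower.of_algebraMap_smul (fun _ _ => rfl)
  have hsq := isFibreSquare_FP (D := D) (C' := C') (C := C) hs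
  obtain ⟨hb1, hb2⟩ := Groth.Agent.S2019.result (FP D C' C) D C' C hsq N M' φ
  haveI : Module.Finite D (D ⊗[FP D C' C] ↥(EtMil.glue (FP D C' C) φ)) :=
    Module.Finite.equiv (LinearEquiv.ofBijective _ hb1).symm
  haveI : Module.Finite C' (C' ⊗[FP D C' C] ↥(EtMil.glue (FP D C' C) φ)) :=
    Module.Finite.equiv (LinearEquiv.ofBijective _ hb2).symm
  have hfin : Module.Finite (FP D C' C) ↥(EtMil.glue (FP D C' C) φ) :=
    Groth.Agent.S14953.result (FP D C' C) D C' C hsq _
  -- transfer to `D'`
  have hsurj := toFP_surjective (D' := D') (D := D) (C' := C') (C := C) hp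
  letI : Algebra D' (FP D C' C) := (toFP (D' := D') (D := D) (C' := C') (C := C)).toAlgebra
  haveI : Module.Finite D' (FP D C' C) := Module.Finite.of_surjective (Algebra.linearMap D' (FP D C' C)) hsurj
  letI : Module D' ↥(EtMil.glue (FP D C' C) φ) :=
    Module.compHom _ (algebraMap D' (FP D C' C))
  haveI : IsScalarTower D' (FP D C' C) ↥(EtMil.glue (FP D C' C) φ) :=
    IsScalarTower.of_algebraMap_smul (fun _ _ => rfl)
  haveI : Module.Finite D' ↥(EtMil.glue (FP D C' C) φ) := Module.Finite.trans (FP D C' C) _
  let f : ↥(EtMil.glue (FP D C' C) φ) →ₗ[D'] ↥(EtMil.glue D' φ) :=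
    { toFun := fun x => ⟨x.1, x.2⟩
      map_add' := fun x y => rfl
      map_smul' := fun d' x => by
        apply Subtype.ext
        apply Prod.ext
        · change algebraMap D' D d' • x.1.1 = d' • x.1.1
          rw [algebraMap_smul]
        · change algebraMap D' C' d' • x.1.2 = d' • x.1.2
          rw [algebraMap_smul] }
  exact Module.Finite.of_surjective f (fun y => ⟨⟨y.1, y.2⟩, rfl⟩)

end abs

end Groth.Agent.H34.RelMilnor
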