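import Mathlib
import Groth.Prelude.Def_W4bk4boschfrg79
import Groth.Agent.S11544
import Groth.Agent.Lib.Helper95.BoschH
import Groth.Agent.Lib.Helper47.ComplMapFinite

/-!
# Rig-points: admissible local domains of dimension one (Bosch, FRG 8.3) (helper34)

`R` complete valuation ring of height one, `t` a pseudo-uniformizer, `B` an admissible `R`-algebra
which is a local domain of dimension one.  Then `B` is finite over `R` and the integral closure of
`B` in its fraction field is a valuation ring.
-/

set_option autoImplicit false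
set_option linter.style.haveILetI false
universe u

namespace Groth.Agent.H34.RigPoint

open IsLocalRing

section general

/-- Integrality lifts through an ideal contained in the nilradical. -/
theorem isIntegral_of_quotient_nil {R C : Type*} [CommRing R] [CommRing C] [Algebra R C]
    (𝔞 : Ideal C) (h𝔞 : 𝔞 ≤ nilradical C) (hint : Algebra.IsIntegral R (C ⧸ 𝔞)) :
    Algebra.IsIntegral R C := by
  refine ⟨fun c => ?_⟩
  obtain ⟨p, hp, hpc⟩ := hint.isIntegral (Ideal.Quotient.mk 𝔞 c)
  have h1 : Polynomial.eval₂ (algebraMap R C) c p ∈ 𝔞 := by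
    rw [← Ideal.Quotient.eq_zero_iff_mem, Polynomial.hom_eval₂]
    have : (Ideal.Quotient.mk 𝔞).comp (algebraMap R C) = algebraMap R (C ⧸ 𝔞) := rfl
    rw [this]
    exact hpc
  obtain ⟨e, he⟩ := h𝔞 h1
  refine ⟨p ^ e, hp.pow e, ?_⟩
  rw [Polynomial.eval₂_pow, he]

/-- A finite type algebra of Krull dimension zero over a local ring, killed by the maximal
ideal, is integral. -/
theorem isIntegral_of_krullDimLE_zero {R D : Type*} [CommRing R] [IsLocalRing R] [CommRing D]
    [Algebra R D] [Algebra (ResidueField R) D] [IsScalarTower R (ResidueField R) D]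
    [Algebra.FiniteType R D] [Ring.KrullDimLE 0 D] : Algebra.IsIntegral R D := by
  haveI : Algebra.FiniteType (ResidueField R) D :=
    Algebra.FiniteType.of_restrictScalars_finiteType R (ResidueField R) D
  haveI : Module.Finite (ResidueField R) D :=
    (Module.finite_iff_krullDimLE_zero (ResidueField R) D).mpr inferInstance
  haveI : Algebra.IsIntegral (ResidueField R) D := inferInstance
  haveI : Algebra.IsIntegral R (ResidueField R) :=
    Algebra.isIntegral_of_surjective (IsLocalRing.residue_surjective)
  exact Algebra.IsIntegral.trans (ResidueField R)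

/-- Integrality lifts along a surjection whose kernel is nil. -/
theorem isIntegral_of_surjective_nil {R C D : Type*} [CommRing R] [CommRing C] [CommRing D]
    [Algebra R C] [Algebra R D] (f : C →ₐ[R] D)
    (hker : RingHom.ker f.toRingHom ≤ nilradical C) [hint : Algebra.IsIntegral R D] :
    Algebra.IsIntegral R C := by
  refine ⟨fun c => ?_⟩
  obtain ⟨p, hp, hpc⟩ := hint.isIntegral (f c)
  have h1 : Polynomial.eval₂ (algebraMap R C) c p ∈ RingHom.ker f.toRingHom := by
    rw [RingHom.mem_ker]
    change f.toRingHom (Polynomial.eval₂ (algebraMap R C) c p) = 0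
    rw [Polynomial.hom_eval₂]
    have : f.toRingHom.comp (algebraMap R C) = algebraMap R D := f.comp_algebraMap
    rw [this]
    exact hpc
  obtain ⟨e, he⟩ := hker h1
  refine ⟨p ^ e, hp.pow e, ?_⟩
  rw [Polynomial.eval₂_pow, he]

end general

section finite

open AdicRing

variable (R : Type u) [CommRing R] [IsDomain R] [ValuationRing R] [Ring.KrullDimLE 1 R]
  (t : R) (ht : t ≠ 0) [IsAdicComplete (Ideal.span {t}) R]

include ht in
theorem isBase : AdicRing.IsBase R (Ideal.span {t}) :=
  ⟨inferInstance, Or.inr ⟨inferInstance, inferInstance, inferInstance, t, ht, rfl⟩⟩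

variable (B : Type u) [CommRing B] [Algebra R B]
  (hB : AdicRing.TopFiniteType R (Ideal.span {t}) B)

include hB in
/-- quotients of `B` by ideals containing `tB` are of finite type over `R`. -/
theorem finiteType_quotient (J : Ideal B) (hJ : (Ideal.span {t}).map (algebraMap R B) ≤ J) :
    Algebra.FiniteType R (B ⧸ J) := by
  obtain ⟨n, φ, hφ⟩ := hB
  have hI : (Ideal.span {t} : Ideal R).FG := ⟨{t}, by simp⟩
  let ψ : MvPolynomial (Fin n) R →ₐ[R] (B ⧸ J) :=
    (Ideal.Quotient.mkₐ R J).comp
      (φ.comp (IsScalarTower.toAlgHom R (MvPolynomial (Fin n) R) (RPow R (Ideal.span {t}) n)))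
  refine Algebra.FiniteType.of_surjective ψ ?_
  intro y
  obtain ⟨b, rfl⟩ := Ideal.Quotient.mk_surjective y
  obtain ⟨x, rfl⟩ := hφ b
  obtain ⟨p, hp⟩ := Groth.Agent.Lib.Helper95.Bosch.exists_poly_sub_mem R (Ideal.span {t}) n hI x
  refine ⟨p, ?_⟩
  change Ideal.Quotient.mk J (φ (algebraMap (MvPolynomial (Fin n) R) (RPow R (Ideal.span {t}) n) p)) = _
  symm
  rw [Ideal.Quotient.eq, ← map_sub]
  apply hJ
  have h1 : φ (x - algebraMap (MvPolynomial (Fin n) R) (RPow R (Ideal.span {t}) n) p) ∈
      ((Ideal.span {t}).map (algebraMap R (RPow R (Ideal.span {t}) n))).map φ.toRingHom :=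
    Ideal.mem_map_of_mem _ hp
  rw [Ideal.map_map] at h1
  have h2 : φ.toRingHom.comp (algebraMap R (RPow R (Ideal.span {t}) n)) = algebraMap R B :=
    φ.comp_algebraMap
  rw [h2] at h1
  exact h1

variable [IsDomain B] [IsLocalRing B]
  (hnt : AdicRing.NoPowTorsion (Ideal.span {t}) B) (hdim : ringKrullDim B = 1)

include hnt in
theorem algebraMap_t_ne_zero : algebraMap R B t ≠ 0 := by
  intro h0
  have h1 : (1 : B) = 0 := by
    apply hnt 1 1
    intro a ha
    rw [pow_one, Ideal.mem_span_singleton] at ha
    obtain ⟨s, rfl⟩ := ha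
    rw [Algebra.smul_def, map_mul, h0, zero_mul, zero_mul]
  exact one_ne_zero h1

include ht hB hnt hdim in
/-- `B` is a finite `R`-module. -/
theorem finite_of_local_dim_one : Module.Finite R B := by
  classical
  have hR := isBase R t ht
  have htB := algebraMap_t_ne_zero R t B hnt
  haveI hcomp : IsAdicComplete ((Ideal.span {t}).map (algebraMap R B)) B :=
    Groth.Agent.Lib.Helper95.Bosch.isAdicComplete_of_topFiniteType hR B hB
  haveI hcompR : IsAdicComplete (Ideal.span {t}) B :=
    (IsAdicComplete.map_algebraMap_iff _ _).mp hcomp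
  haveI hK1 : Ring.KrullDimLE 1 B := Ring.krullDimLE_iff.mpr (le_of_eq hdim)
  set IB : Ideal B := (Ideal.span {t}).map (algebraMap R B) with hIB
  set J : Ideal B := (maximalIdeal R).map (algebraMap R B) with hJ
  have htIB : algebraMap R B t ∈ IB :=
    Ideal.mem_map_of_mem _ (Ideal.mem_span_singleton_self t)
  have htu : ¬ IsUnit t := Groth.Agent.Lib.Helper95.Bosch.not_isUnit_of_isHausdorff t
  have hIBJ : IB ≤ J := by
    apply Ideal.map_mono
    rw [Ideal.span_singleton_le_iff_mem]
    exact (mem_maximalIdeal t).mpr htu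
  -- `J ≤ rad(IB)`
  have hJrad : J ≤ IB.radical := by
    rw [hJ, Ideal.map_le_iff_le_comap]
    intro a ha
    have hau : ¬ IsUnit a := (mem_maximalIdeal a).mp ha
    obtain ⟨e, s, hs⟩ := Groth.Agent.Lib.Helper95.Bosch.exists_dvd_pow_of_not_isUnit t ht hau
    refine ⟨e, ?_⟩
    rw [← map_pow, hs, map_mul]
    exact IB.mul_mem_right _ htIB
  -- the quotients
  haveI hftC : Algebra.FiniteType R (B ⧸ IB) := finiteType_quotient R t B hB IB le_rfl
  haveI hftD : Algebra.FiniteType R (B ⧸ J) := finiteType_quotient R t B hB J hIBJ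
  -- `D = B/J` has dimension zero
  haveI hD0 : Ring.KrullDimLE 0 (B ⧸ J) := by
    rw [Ring.krullDimLE_zero_iff]
    intro Q hQ
    have hPprime : (Q.comap (Ideal.Quotient.mk J)).IsPrime := Ideal.comap_isPrime _ Q
    have hPne : Q.comap (Ideal.Quotient.mk J) ≠ ⊥ := by
      intro hbot
      have h1 : algebraMap R B t ∈ Q.comap (Ideal.Quotient.mk J) := by
        rw [Ideal.mem_comap, Ideal.Quotient.eq_zero_iff_mem.mpr (hIBJ htIB)]
        exact Q.zero_mem
      rw [hbot, Ideal.mem_bot] at h1
      exact htB h1
    have hPmax : (Q.comap (Ideal.Quotient.mk J)).IsMaximal := hPprime.isMaximal_of_ne_bot hPne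
    have hQeq : Q = (Q.comap (Ideal.Quotient.mk J)).map (Ideal.Quotient.mk J) :=
      (Ideal.map_comap_of_surjective _ Ideal.Quotient.mk_surjective Q).symm
    rcases Ideal.map_eq_top_or_isMaximal_of_surjective (Ideal.Quotient.mk J)
      Ideal.Quotient.mk_surjective hPmax with h | h
    · rw [← hQeq] at h
      exact absurd h hQ.ne_top
    · rw [hQeq]
      exact h
  -- algebra structure of `D` over the residue field
  have hkill : ∀ a ∈ maximalIdeal R, algebraMap R (B ⧸ J) a = 0 := by
    intro a ha
    change Ideal.Quotient.mk J (algebraMap R B a) = 0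
    rw [Ideal.Quotient.eq_zero_iff_mem]
    exact Ideal.mem_map_of_mem _ ha
  letI algD : Algebra (ResidueField R) (B ⧸ J) :=
    (Ideal.Quotient.lift (maximalIdeal R) (algebraMap R (B ⧸ J)) hkill).toAlgebra
  haveI : IsScalarTower R (ResidueField R) (B ⧸ J) :=
    IsScalarTower.of_algebraMap_eq (fun r => rfl)
  haveI hDint : Algebra.IsIntegral R (B ⧸ J) := isIntegral_of_krullDimLE_zero
  -- `C = B/IB` is integral, hence finite
  let f : (B ⧸ IB) →ₐ[R] (B ⧸ J) := Ideal.Quotient.factorₐ R hIBJ
  haveI hCint : Algebra.IsIntegral R (B ⧸ IB) := by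
    refine isIntegral_of_surjective_nil f ?_
    intro c hc
    obtain ⟨b, rfl⟩ := Ideal.Quotient.mk_surjective c
    rw [RingHom.mem_ker] at hc
    have hb : b ∈ J := by
      rw [← Ideal.Quotient.eq_zero_iff_mem]
      exact hc
    obtain ⟨e, he⟩ := hJrad hb
    refine ⟨e, ?_⟩
    rw [← map_pow]
    exact Ideal.Quotient.eq_zero_iff_mem.mpr he
  haveI hCfin : Module.Finite R (B ⧸ IB) := Algebra.IsIntegral.finite
  -- complete Nakayama
  obtain ⟨n, s, hs⟩ := Module.Finite.exists_fin (R := R) (M := B ⧸ IB)
  choose b hb using fun i => Ideal.Quotient.mk_surjective (s i)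
  refine Groth.Agent.Lib.Helper47.ComplMap.finite_of_isPrecomplete_of_isHausdorff (Ideal.span {t})
    (Submodule.span R (Set.range b)) (Submodule.fg_span (Set.finite_range b)) ?_
  intro m
  have hm : Ideal.Quotient.mk IB m ∈ Submodule.span R (Set.range s) := by
    rw [hs]
    exact Submodule.mem_top
  obtain ⟨c, hc⟩ := (Submodule.mem_span_range_iff_exists_fun R).mp hm
  refine ⟨∑ i, c i • b i, Submodule.sum_mem _ (fun i _ =>
    Submodule.smul_mem _ _ (Submodule.subset_span ⟨i, rfl⟩)), ?_⟩
  have h1 : Ideal.Quotient.mk IB (m - ∑ i, c i • b i) = 0 := by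
    rw [map_sub, map_sum, ← hc, sub_eq_zero]
    refine Finset.sum_congr rfl (fun i _ => ?_)
    rw [← hb i]
    rfl
  rw [Ideal.Quotient.eq_zero_iff_mem] at h1
  rw [Ideal.smul_top_eq_map]
  exact h1

end finite

section valuation

open IntermediateField

variable (R : Type u) [CommRing R] [IsDomain R] [ValuationRing R] [Ring.KrullDimLE 1 R]
  (t : R) (ht : t ≠ 0) [IsAdicComplete (Ideal.span {t}) R]

include ht in
/-- In an algebraic extension of the fraction field of a complete valuation ring of height one,
every element or its inverse is integral. -/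
theorem isIntegral_or_isIntegral_inv (L : Type u) [Field L] [Algebra R L]
    [Algebra (FractionRing R) L] [IsScalarTower R (FractionRing R) L]
    [Algebra.IsAlgebraic (FractionRing R) L] (x : L) : IsIntegral R x ∨ IsIntegral R x⁻¹ := by
  by_cases hx0 : x = 0
  · left
    rw [hx0]
    exact isIntegral_zero
  rw [Groth.Agent.S11544.result R t ht L x, Groth.Agent.S11544.result R t ht L x⁻¹]
  have h : (FractionRing R)⟮x⁻¹⟯ = (FractionRing R)⟮x⟯ := by
    apply le_antisymm
    · rw [adjoin_simple_le_iff]
      exact inv_mem (mem_adjoin_simple_self _ x)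
    · rw [adjoin_simple_le_iff]
      have := inv_mem (mem_adjoin_simple_self (FractionRing R) x⁻¹)
      rwa [inv_inv] at this
  have hgen : equivOfEq h (AdjoinSimple.gen (FractionRing R) x⁻¹) =
      (AdjoinSimple.gen (FractionRing R) x)⁻¹ := by
    apply Subtype.ext
    rfl
  have h1 : Algebra.norm (FractionRing R) (AdjoinSimple.gen (FractionRing R) x⁻¹) =
      Algebra.norm (FractionRing R) (AdjoinSimple.gen (FractionRing R) x)⁻¹ := by
    rw [← hgen, Algebra.norm_eq_of_algEquiv]
  have hg0 : AdjoinSimple.gen (FractionRing R) x ≠ 0 := by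
    intro h0
    apply hx0
    have := congrArg Subtype.val h0
    exact this
  have h2 : Algebra.norm (FractionRing R) (AdjoinSimple.gen (FractionRing R) x)⁻¹ *
      Algebra.norm (FractionRing R) (AdjoinSimple.gen (FractionRing R) x) = 1 := by
    rw [← map_mul, inv_mul_cancel₀ hg0, map_one]
  rw [h1, eq_inv_of_mul_eq_one_left h2]
  rcases ValuationRing.isInteger_or_isInteger R
    (Algebra.norm (FractionRing R) (AdjoinSimple.gen (FractionRing R) x)) with ⟨r, hr⟩ | ⟨r, hr⟩
  · exact Or.inl ⟨r, hr⟩
  · exact Or.inr ⟨r, hr⟩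

include ht in
/-- The integral closure of a finite torsion-free domain over `R` in its fraction field is a
valuation ring. -/
theorem valuationRing_integralClosure (B : Type u) [CommRing B] [Algebra R B] [IsDomain B]
    [Module.Finite R B] (hinj : Function.Injective (algebraMap R B)) :
    ValuationRing (integralClosure B (FractionRing B)) := by
  haveI : IsScalarTower R B (FractionRing B) := inferInstance
  have hinjL : Function.Injective (algebraMap R (FractionRing B)) := by
    rw [IsScalarTower.algebraMap_eq R B (FractionRing B)]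
    exact (IsFractionRing.injective B (FractionRing B)).comp hinj
  letI algKL : Algebra (FractionRing R) (FractionRing B) :=
    (IsFractionRing.lift hinjL).toAlgebra
  haveI : IsScalarTower R (FractionRing R) (FractionRing B) :=
    IsScalarTower.of_algebraMap_eq (fun r => (IsFractionRing.lift_algebraMap hinjL r).symm)
  haveI : Algebra.IsIntegral R B := Algebra.IsIntegral.of_finite R B
  haveI : Algebra.IsAlgebraic B (FractionRing B) :=
    IsFractionRing.comap_isAlgebraic_iff.mpr
      (inferInstance : Algebra.IsAlgebraic (FractionRing B) (FractionRing B))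
  haveI : Algebra.IsAlgebraic R (FractionRing B) :=
    Algebra.IsIntegral.trans_isAlgebraic R B (FractionRing B)
  haveI : Algebra.IsAlgebraic (FractionRing R) (FractionRing B) :=
    IsFractionRing.comap_isAlgebraic_iff.mp
      (inferInstance : Algebra.IsAlgebraic R (FractionRing B))
  haveI : IsFractionRing (integralClosure B (FractionRing B)) (FractionRing B) :=
    integralClosure.isFractionRing_of_algebraic (A := B) (L := FractionRing B)
      (fun x hx => (IsFractionRing.injective B (FractionRing B)) (by rw [hx, map_zero]))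
  rw [ValuationRing.iff_isInteger_or_isInteger (integralClosure B (FractionRing B))
    (FractionRing B)]
  intro x
  rcases isIntegral_or_isIntegral_inv R t ht (FractionRing B) x with hx | hx
  · exact Or.inl ⟨⟨x, hx.tower_top⟩, rfl⟩
  · exact Or.inr ⟨⟨x⁻¹, hx.tower_top⟩, rfl⟩

end valuation

section main

variable (R : Type u) [CommRing R] [IsDomain R] [ValuationRing R] [Ring.KrullDimLE 1 R]
  (t : R) (ht : t ≠ 0) [IsAdicComplete (Ideal.span {t}) R]
  (B : Type u) [CommRing B] [Algebra R B]

theorem algebraMap_injective_of_noPowTorsion [Nontrivial B]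
    (hnt : AdicRing.NoPowTorsion (Ideal.span {t}) B) : Function.Injective (algebraMap R B) := by
  haveI : Module.Flat R B := Groth.Agent.Lib.Helper95.Bosch.flat_of_noPowTorsion t hnt
  rw [injective_iff_map_eq_zero]
  intro r hr
  by_contra hr0
  haveI : Module.IsTorsionFree R B := inferInstance
  have h1 : r • (1 : B) = 0 := by rw [Algebra.smul_def, mul_one, hr]
  exact one_ne_zero ((smul_eq_zero_iff_right hr0).mp h1)

include ht in
theorem main [IsDomain B] [IsLocalRing B] (hB : AdicRing.Admissible R (Ideal.span {t}) B)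
    (hdim : ringKrullDim B = 1) :
    Module.Finite R B ∧ ValuationRing (integralClosure B (FractionRing B)) := by
  obtain ⟨⟨n, φ, hφ, -⟩, hnt⟩ := hB
  have hTFT : AdicRing.TopFiniteType R (Ideal.span {t}) B := ⟨n, φ, hφ⟩
  haveI hfin : Module.Finite R B := finite_of_local_dim_one R t ht B hTFT hnt hdim
  exact ⟨hfin, valuationRing_integralClosure R t ht B
    (algebraMap_injective_of_noPowTorsion R t B hnt)⟩

end main

end Groth.Agent.H34.RigPoint
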