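import Groth.Agent.H34.RigPoint
import Groth.Agent.Lib.Helper55.KrullDimIntegral

/-!
# Rig-points and blowing up (Bosch FRG 8.3) (helper34)

For `B` an admissible local domain of dimension one and `b_1, …, b_n ∈ B` not all zero, there is a
finite local sub-`B`-algebra `B'` of `Frac B` of dimension one in which the ideal `(b_j)` is
generated by one of the `b_i`.
-/

set_option autoImplicit false
set_option linter.style.haveILetI false
universe u

namespace Groth.Agent.H34.RigPointB

open IsLocalRing

/-- A subring `B'` of a field `L`, between `B` and a local integral closure. -/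
theorem isLocalRing_of_le_integralClosure {B L : Type*} [CommRing B] [Field L] [Algebra B L]
    (B' : Subalgebra B L) (hle : B' ≤ integralClosure B L)
    [hO : IsLocalRing (integralClosure B L)] : IsLocalRing B' := by
  -- `O` is integral over `B'`
  let ι : B' →+* integralClosure B L := (Subalgebra.inclusion hle).toRingHom
  have hι : Function.Injective ι := Subalgebra.inclusion_injective hle
  letI : Algebra B' (integralClosure B L) := ι.toAlgebra
  haveI : IsScalarTower B B' (integralClosure B L) := IsScalarTower.of_algebraMap_eq (fun _ => rfl)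
  haveI : Algebra.IsIntegral B (integralClosure B L) := inferInstance
  haveI : Algebra.IsIntegral B' (integralClosure B L) :=
    Algebra.IsIntegral.tower_top (R := B) (S := B') (T := integralClosure B L)
  haveI : Nontrivial B' := inferInstance
  refine IsLocalRing.of_unique_max_ideal ⟨(maximalIdeal (integralClosure B L)).comap ι, ?_, ?_⟩
  · -- it is maximal
    obtain ⟨𝔫, h𝔫⟩ := Ideal.exists_maximal B'
    obtain ⟨Q, hQmax, hQ⟩ := Ideal.exists_ideal_over_maximal_of_isIntegral
      (S := integralClosure B L) 𝔫 (by
        change RingHom.ker ι ≤ 𝔫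
        rw [(RingHom.injective_iff_ker_eq_bot _).mp hι]
        exact bot_le)
    rw [IsLocalRing.eq_maximalIdeal hQmax] at hQ
    change (maximalIdeal (integralClosure B L)).comap ι = 𝔫 at hQ
    rw [hQ]
    exact h𝔫
  · intro 𝔫 h𝔫
    obtain ⟨Q, hQmax, hQ⟩ := Ideal.exists_ideal_over_maximal_of_isIntegral
      (S := integralClosure B L) 𝔫 (by
        change RingHom.ker ι ≤ 𝔫
        rw [(RingHom.injective_iff_ker_eq_bot _).mp hι]
        exact bot_le)
    rw [IsLocalRing.eq_maximalIdeal hQmax] at hQ
    exact hQ.symm

section main

variable (R : Type u) [CommRing R] [IsDomain R] [ValuationRing R] [Ring.KrullDimLE 1 R]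
  (t : R) (ht : t ≠ 0) [IsAdicComplete (Ideal.span {t}) R]
  (B : Type u) [CommRing B] [Algebra R B] [IsDomain B] [IsLocalRing B]

include ht in
theorem main (hB : AdicRing.Admissible R (Ideal.span {t}) B) (hdim : ringKrullDim B = 1)
    (n : ℕ) (b : Fin n → B) (hb : ∃ i, b i ≠ 0) :
    ∃ B' : Subalgebra B (FractionRing B), Module.Finite B ↥B' ∧ IsLocalRing ↥B' ∧
      ringKrullDim ↥B' = 1 ∧
      ∃ i, Ideal.span (Set.range (fun j => algebraMap B ↥B' (b j))) =
        Ideal.span {algebraMap B ↥B' (b i)} := by
  classical
  haveI hV : ValuationRing (integralClosure B (FractionRing B)) :=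
    (Groth.Agent.H34.RigPoint.main R t ht B hB hdim).2
  haveI : IsLocalRing (integralClosure B (FractionRing B)) := inferInstance
  have hinjL : Function.Injective (algebraMap B (FractionRing B)) :=
    IsFractionRing.injective B (FractionRing B)
  haveI : Algebra.IsAlgebraic B (FractionRing B) :=
    IsFractionRing.comap_isAlgebraic_iff.mpr
      (inferInstance : Algebra.IsAlgebraic (FractionRing B) (FractionRing B))
  haveI : IsFractionRing (integralClosure B (FractionRing B)) (FractionRing B) :=
    integralClosure.isFractionRing_of_algebraic (A := B) (L := FractionRing B)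
      (fun x hx => hinjL (by rw [hx, map_zero]))
  set v := ValuationRing.valuation (integralClosure B (FractionRing B)) (FractionRing B) with hv
  obtain ⟨i₀, hi₀⟩ := hb
  obtain ⟨i, -, hi⟩ := Finset.exists_max_image Finset.univ
    (fun j => v (algebraMap B (FractionRing B) (b j))) ⟨i₀, Finset.mem_univ _⟩
  have hbi : algebraMap B (FractionRing B) (b i) ≠ 0 := by
    intro h0
    have h1 := hi i₀ (Finset.mem_univ _)
    rw [h0, map_zero, le_zero_iff, map_eq_zero] at h1
    exact hi₀ (hinjL (by rw [h1, map_zero]))
  set c : Fin n → FractionRing B :=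
    fun j => algebraMap B (FractionRing B) (b j) / algebraMap B (FractionRing B) (b i) with hc
  have hcmem : ∀ j, c j ∈ integralClosure B (FractionRing B) := by
    intro j
    have h1 : v (c j) ≤ 1 := by
      rw [hc, map_div₀]
      exact div_le_one_of_le₀ (hi j (Finset.mem_univ _)) zero_le
    rw [← Valuation.mem_integer_iff, ValuationRing.mem_integer_iff] at h1
    obtain ⟨a, ha⟩ := h1
    rw [← ha]
    exact a.2
  have hcb : ∀ j, c j * algebraMap B (FractionRing B) (b i) =
      algebraMap B (FractionRing B) (b j) := fun j => div_mul_cancel₀ _ hbi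
  have hfg : (Algebra.adjoin B (Set.range c)).toSubmodule.FG := by
    refine fg_adjoin_of_finite (Set.finite_range c) ?_
    rintro _ ⟨j, rfl⟩
    exact hcmem j
  have hfin : Module.Finite B (Algebra.adjoin B (Set.range c)) :=
    (Module.Finite.iff_fg (N := (Algebra.adjoin B (Set.range c)).toSubmodule)).mpr hfg
  refine ⟨Algebra.adjoin B (Set.range c), ?_, ?_, ?_, i, ?_⟩
  · exact hfin
  · refine isLocalRing_of_le_integralClosure _ (Algebra.adjoin_le ?_)
    rintro _ ⟨j, rfl⟩
    exact hcmem j
  · haveI : Module.Finite B (Algebra.adjoin B (Set.range c)) := hfin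
    haveI : Algebra.IsIntegral B (Algebra.adjoin B (Set.range c)) :=
      Algebra.IsIntegral.of_finite B _
    have hinj' : Function.Injective (algebraMap B (Algebra.adjoin B (Set.range c))) := by
      intro x y hxy
      apply hinjL
      exact congrArg Subtype.val hxy
    rw [Groth.Agent.Lib.Helper55.ringKrullDim_eq_of_isIntegral_of_injective B _ hinj', hdim]
  · apply le_antisymm
    · rw [Ideal.span_le]
      rintro _ ⟨j, rfl⟩
      rw [SetLike.mem_coe, Ideal.mem_span_singleton']
      refine ⟨⟨c j, Algebra.subset_adjoin ⟨j, rfl⟩⟩, ?_⟩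
      apply Subtype.ext
      exact hcb j
    · rw [Ideal.span_le, Set.singleton_subset_iff]
      exact Ideal.subset_span ⟨i, rfl⟩

end main

end Groth.Agent.H34.RigPointB
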