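import Groth.Agent.H34.RigPoint
import Groth.Agent.Lib.Helper95.BoschT
import Groth.Agent.Lib.Helper55.KrullDimIntegral

/-!
# Integral Noether normalization for topologically finite type algebras (helper34)

`R` complete valuation ring of height one.  If `B` is a topologically finite type `R`-algebra which
is a domain without `t`-torsion all of whose nonzero primes contain `t` (i.e. `B[1/t]` is a field),
then `B` is finite over `R`.
-/

set_option autoImplicit false
set_option linter.style.haveILetI false
universe u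

namespace Groth.Agent.H34.RigPointC

open IsLocalRing Groth.Agent.H34.RigPoint

section nakayama

/-- Complete Nakayama, quotient form. -/
theorem finite_of_surjective_of_ker_le {P : Type*} [CommRing P] (I : Ideal P) [IsPrecomplete I P]
    {M N : Type*} [AddCommGroup M] [Module P M] [AddCommGroup N] [Module P N] [IsHausdorff I M]
    (π : M →ₗ[P] N) (hπ : Function.Surjective π)
    (hker : LinearMap.ker π ≤ I • (⊤ : Submodule P M))
    [Module.Finite P N] : Module.Finite P M := by
  classical
  obtain ⟨n, s, hs⟩ := Module.Finite.exists_fin (R := P) (M := N)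
  choose b hb using fun i => hπ (s i)
  refine Groth.Agent.Lib.Helper47.ComplMap.finite_of_isPrecomplete_of_isHausdorff I
    (Submodule.span P (Set.range b)) (Submodule.fg_span (Set.finite_range b)) ?_
  intro m
  have hm : π m ∈ Submodule.span P (Set.range s) := by
    rw [hs]
    exact Submodule.mem_top
  obtain ⟨c, hc⟩ := (Submodule.mem_span_range_iff_exists_fun P).mp hm
  refine ⟨∑ i, c i • b i, Submodule.sum_mem _ (fun i _ =>
    Submodule.smul_mem _ _ (Submodule.subset_span ⟨i, rfl⟩)), hker ?_⟩
  rw [LinearMap.mem_ker, map_sub, map_sum, ← hc, sub_eq_zero]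
  refine Finset.sum_congr rfl (fun i _ => ?_)
  rw [map_smul, hb]

end nakayama

section val

variable {R : Type*} [CommRing R] [IsDomain R] [ValuationRing R]

/-- A nonempty finite subset of a valuation ring has an element dividing all the others. -/
theorem exists_dvd_all (s : Finset R) (hs : s.Nonempty) : ∃ a ∈ s, ∀ b ∈ s, a ∣ b := by
  classical
  induction hs using Finset.Nonempty.cons_induction with
  | singleton a => exact ⟨a, Finset.mem_singleton_self a, fun b hb => by
      rw [Finset.mem_singleton] at hb; rw [hb]⟩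
  | cons a s ha hs ih =>
    obtain ⟨c, hc, hcs⟩ := ih
    rcases ValuationRing.dvd_total a c with h | h
    · refine ⟨a, Finset.mem_cons_self a s, fun b hb => ?_⟩
      rcases Finset.mem_cons.mp hb with rfl | hb
      · exact dvd_rfl
      · exact h.trans (hcs b hb)
    · refine ⟨c, Finset.mem_cons.mpr (Or.inr hc), fun b hb => ?_⟩
      rcases Finset.mem_cons.mp hb with rfl | hb
      · exact h
      · exact hcs b hb

/-- Content lemma for polynomials over a valuation ring. -/
theorem exists_content {σ : Type*} (p : MvPolynomial σ R) (τ : R)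
    (hp : ∃ α, ¬ τ ∣ p.coeff α) :
    ∃ (c s : R) (p' : MvPolynomial σ R), p = MvPolynomial.C c * p' ∧ c * s = τ ∧ ¬ IsUnit s ∧
      ∃ α, p'.coeff α = 1 := by
  classical
  obtain ⟨α₁, hα₁⟩ := hp
  have hα₁s : α₁ ∈ p.support := by
    rw [MvPolynomial.mem_support_iff]
    intro h0
    rw [h0] at hα₁
    exact hα₁ (dvd_zero τ)
  obtain ⟨a, ha, hall⟩ := exists_dvd_all (p.support.image p.coeff)
    ⟨p.coeff α₁, Finset.mem_image_of_mem _ hα₁s⟩
  obtain ⟨α₀, hα₀s, rfl⟩ := Finset.mem_image.mp ha
  have ha0 : p.coeff α₀ ≠ 0 := MvPolynomial.mem_support_iff.mp hα₀s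
  have hdiv : ∀ β, p.coeff α₀ ∣ p.coeff β := by
    intro β
    by_cases hβ : β ∈ p.support
    · exact hall _ (Finset.mem_image_of_mem _ hβ)
    · rw [MvPolynomial.notMem_support_iff.mp hβ]
      exact dvd_zero _
  choose q hq using hdiv
  have hnd : ¬ τ ∣ p.coeff α₀ := fun h => hα₁ (h.trans (hq α₁ ▸ Dvd.intro _ rfl))
  obtain ⟨s, hs⟩ : p.coeff α₀ ∣ τ := (ValuationRing.dvd_total _ _).resolve_right hnd
  refine ⟨p.coeff α₀, s, ∑ β ∈ p.support, MvPolynomial.monomial β (q β), ?_, hs.symm, ?_, α₀, ?_⟩
  · ext β
    rw [MvPolynomial.coeff_C_mul, MvPolynomial.coeff_sum]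
    simp only [MvPolynomial.coeff_monomial]
    rw [Finset.sum_ite_eq' p.support β]
    split_ifs with hβ
    · exact hq β
    · rw [mul_zero]
      exact MvPolynomial.notMem_support_iff.mp hβ
  · intro hu
    apply hnd
    obtain ⟨u, hu'⟩ := hu.exists_left_inv
    refine ⟨u, ?_⟩
    rw [hs, mul_assoc, mul_comm s u, hu', mul_one]
  · rw [MvPolynomial.coeff_sum]
    simp only [MvPolynomial.coeff_monomial]
    rw [Finset.sum_ite_eq' p.support α₀, if_pos hα₀s]
    have h1 := hq α₀
    have h2 : p.coeff α₀ * q α₀ = p.coeff α₀ * 1 := by rw [← h1, mul_one]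
    exact mul_left_cancel₀ ha0 h2

end val

section finite

open AdicRing

variable (R : Type u) [CommRing R] [IsDomain R] [ValuationRing R] [Ring.KrullDimLE 1 R]
  (t : R) (ht : t ≠ 0) [IsAdicComplete (Ideal.span {t}) R]
  (B : Type u) [CommRing B] [Algebra R B]
  (hB : AdicRing.TopFiniteType R (Ideal.span {t}) B)

include ht in
/-- `𝔪_R B ⊆ rad(tB)`. -/
theorem map_maximalIdeal_le_radical :
    (maximalIdeal R).map (algebraMap R B) ≤
      ((Ideal.span {t}).map (algebraMap R B)).radical := by
  rw [Ideal.map_le_iff_le_comap]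
  intro a ha
  have hau : ¬ IsUnit a := (mem_maximalIdeal a).mp ha
  obtain ⟨e, s, hs⟩ := Groth.Agent.Lib.Helper95.Bosch.exists_dvd_pow_of_not_isUnit t ht hau
  refine ⟨e, ?_⟩
  rw [← map_pow, hs, map_mul]
  exact Ideal.mul_mem_right _ _ (Ideal.mem_map_of_mem _ (Ideal.mem_span_singleton_self t))

theorem map_span_le_map_maximalIdeal :
    (Ideal.span {t}).map (algebraMap R B) ≤ (maximalIdeal R).map (algebraMap R B) := by
  apply Ideal.map_mono
  rw [Ideal.span_singleton_le_iff_mem]
  exact (mem_maximalIdeal t).mpr (Groth.Agent.Lib.Helper95.Bosch.not_isUnit_of_isHausdorff t)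

include ht hB in
/-- If `B/𝔪_R B` is integral over `R` then `B` is finite over `R`. -/
theorem finite_of_isIntegral_quotient
    (hD : Algebra.IsIntegral R (B ⧸ (maximalIdeal R).map (algebraMap R B))) :
    Module.Finite R B := by
  classical
  have hR := isBase R t ht
  haveI hcomp : IsAdicComplete ((Ideal.span {t}).map (algebraMap R B)) B :=
    Groth.Agent.Lib.Helper95.Bosch.isAdicComplete_of_topFiniteType hR B hB
  haveI hcompR : IsAdicComplete (Ideal.span {t}) B :=
    (IsAdicComplete.map_algebraMap_iff _ _).mp hcomp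
  set IB : Ideal B := (Ideal.span {t}).map (algebraMap R B) with hIB
  set J : Ideal B := (maximalIdeal R).map (algebraMap R B) with hJ
  have hIBJ : IB ≤ J := map_span_le_map_maximalIdeal R t B
  have hJrad : J ≤ IB.radical := map_maximalIdeal_le_radical R t ht B
  haveI hftC : Algebra.FiniteType R (B ⧸ IB) := finiteType_quotient R t B hB IB le_rfl
  let f : (B ⧸ IB) →ₐ[R] (B ⧸ J) := Ideal.Quotient.factorₐ R hIBJ
  haveI hCint : Algebra.IsIntegral R (B ⧸ IB) := by
    refine isIntegral_of_surjective_nil f ?_
    intro c hc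
    obtain ⟨b, rfl⟩ := Ideal.Quotient.mk_surjective c
    rw [RingHom.mem_ker] at hc
    have hb : b ∈ J := by
      rw [← Ideal.Quotient.eq_zero_iff_mem]
      exact hc
    obtain ⟨e, he⟩ := hJrad hb
    refine ⟨e, ?_⟩
    rw [← map_pow]
    exact Ideal.Quotient.eq_zero_iff_mem.mpr he
  haveI hCfin : Module.Finite R (B ⧸ IB) := Algebra.IsIntegral.finite
  refine finite_of_surjective_of_ker_le (Ideal.span {t})
    ((Ideal.Quotient.mkₐ R IB).toLinearMap) Ideal.Quotient.mk_surjective ?_
  intro x hx
  rw [LinearMap.mem_ker] at hx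
  have hx' : Ideal.Quotient.mk IB x = 0 := hx
  rw [Ideal.Quotient.eq_zero_iff_mem] at hx'
  rw [Ideal.smul_top_eq_map]
  exact hx'

end finite

section maps

open AdicRing MvPolynomial Groth.Agent.Lib.Helper95.Bosch

variable (R : Type u) [CommRing R] [IsDomain R] [ValuationRing R] [Ring.KrullDimLE 1 R]
  (t : R) (ht : t ≠ 0) [IsAdicComplete (Ideal.span {t}) R]

theorem residue_t_eq_zero : residue R t = 0 := by
  rw [residue_eq_zero_iff]
  exact (mem_maximalIdeal t).mpr (not_isUnit_of_isHausdorff t)

/-- the reduction map `R⟨Y⟩ → k[Y]`. -/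
theorem exists_reduction (d : ℕ) :
    ∃ ρ : RPow R (Ideal.span {t}) d →ₐ[R] MvPolynomial (Fin d) (ResidueField R),
      ∀ p : MvPolynomial (Fin d) R,
        ρ (algebraMap (MvPolynomial (Fin d) R) (RPow R (Ideal.span {t}) d) p) =
          MvPolynomial.map (residue R) p := by
  have hbot : (Ideal.span {t}).map (algebraMap R (MvPolynomial (Fin d) (ResidueField R))) = ⊥ := by
    rw [Ideal.map_span, Set.image_singleton, Ideal.span_singleton_eq_bot]
    change MvPolynomial.C (algebraMap R (ResidueField R) t) = 0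
    have : algebraMap R (ResidueField R) t = 0 := residue_t_eq_zero R t
    rw [this, map_zero]
  haveI : IsAdicComplete ((Ideal.span {t}).map
      (algebraMap R (MvPolynomial (Fin d) (ResidueField R))))
      (MvPolynomial (Fin d) (ResidueField R)) := by
    rw [hbot]
    infer_instance
  obtain ⟨ρ, hρ⟩ := exists_lift_rPow (Ideal.span {t}) (MvPolynomial (Fin d) (ResidueField R)) d
    (fun i => (X i : MvPolynomial (Fin d) (ResidueField R)))
  refine ⟨ρ, fun p => ?_⟩
  rw [hρ]
  induction p using MvPolynomial.induction_on with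
  | C a =>
    rw [MvPolynomial.aeval_C, MvPolynomial.map_C]
    rfl
  | add p q hp hq => rw [map_add, map_add, hp, hq]
  | mul_X p i hp => rw [map_mul, map_mul, hp, MvPolynomial.aeval_X, MvPolynomial.map_X]

/-- evaluation at the origin `R⟨Y⟩ → R`. -/
theorem exists_eval_zero (d : ℕ) :
    ∃ ε : RPow R (Ideal.span {t}) d →ₐ[R] R,
      ∀ p : MvPolynomial (Fin d) R,
        ε (algebraMap (MvPolynomial (Fin d) R) (RPow R (Ideal.span {t}) d) p) =
          MvPolynomial.aeval (fun _ => (0 : R)) p := by
  haveI : IsAdicComplete ((Ideal.span {t}).map (algebraMap R R)) R := by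
    rw [Algebra.algebraMap_self, Ideal.map_id]
    infer_instance
  exact exists_lift_rPow (Ideal.span {t}) R d (fun _ => (0 : R))

/-- every element of `R⟨Y⟩` is a polynomial plus a multiple of `t^N`. -/
theorem exists_poly_add (d N : ℕ) (x : RPow R (Ideal.span {t}) d) :
    ∃ (p : MvPolynomial (Fin d) R) (x' : RPow R (Ideal.span {t}) d),
      x = algebraMap (MvPolynomial (Fin d) R) (RPow R (Ideal.span {t}) d) p +
        algebraMap R (RPow R (Ideal.span {t}) d) (t ^ N) * x' := by
  have hI : (Ideal.span {t} : Ideal R).FG := ⟨{t}, by simp⟩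
  obtain ⟨p, hp⟩ := exists_poly_sub_mem_pow R (Ideal.span {t}) d hI N x
  have key : ((Ideal.span {t} : Ideal R) ^ N).map (algebraMap R (RPow R (Ideal.span {t}) d)) =
      Ideal.span {algebraMap R (RPow R (Ideal.span {t}) d) (t ^ N)} := by
    have h1 : (Ideal.span {t} : Ideal R) ^ N = Ideal.span {t ^ N} := Ideal.span_singleton_pow t N
    have h2 := Ideal.map_span (algebraMap R (RPow R (Ideal.span {t}) d)) ({t ^ N} : Set R)
    rw [Set.image_singleton] at h2
    exact (congrArg (Ideal.map (algebraMap R (RPow R (Ideal.span {t}) d))) h1).trans h2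
  have hp' := key ▸ hp
  obtain ⟨x', hx'⟩ := Ideal.mem_span_singleton.mp hp'
  exact ⟨p, x', by rw [← hx']; ring⟩

end maps

section inj

open AdicRing MvPolynomial Groth.Agent.Lib.Helper95.Bosch

variable (R : Type u) [CommRing R] [IsDomain R] [ValuationRing R] [Ring.KrullDimLE 1 R]
  (t : R) (ht : t ≠ 0) [IsAdicComplete (Ideal.span {t}) R]

include ht in
/-- Injectivity criterion: a map out of `R⟨Y⟩` into a torsion-free algebra which is injective modulo
the maximal ideal of `R` is injective. -/
theorem injective_of_reduction (d : ℕ) (B : Type u) [CommRing B] [Algebra R B]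
    (htf : ∀ c : R, c ≠ 0 → ∀ b : B, algebraMap R B c * b = 0 → b = 0)
    (φ : RPow R (Ideal.span {t}) d →ₐ[R] B)
    (ρ : RPow R (Ideal.span {t}) d →ₐ[R] MvPolynomial (Fin d) (ResidueField R))
    (hρ : ∀ p : MvPolynomial (Fin d) R,
      ρ (algebraMap (MvPolynomial (Fin d) R) (RPow R (Ideal.span {t}) d) p) =
        MvPolynomial.map (residue R) p)
    (hker : ∀ x, φ x = 0 → ρ x = 0) : Function.Injective φ := by
  classical
  have hI : (Ideal.span {t} : Ideal R).FG := ⟨{t}, by simp⟩
  haveI hcompP := isAdicComplete_rPow R (Ideal.span {t}) d hI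
  rw [injective_iff_map_eq_zero]
  intro x hx
  have hH : IsHausdorff ((Ideal.span {t}).map (algebraMap R (RPow R (Ideal.span {t}) d)))
      (RPow R (Ideal.span {t}) d) := inferInstance
  apply hH.haus'
  intro N
  rw [SModEq.zero, smul_eq_mul, Ideal.mul_top]
  obtain ⟨p, x', hxp⟩ := exists_poly_add R t d N x
  have htN : algebraMap R (RPow R (Ideal.span {t}) d) (t ^ N) ∈
      (Ideal.span {t}).map (algebraMap R (RPow R (Ideal.span {t}) d)) ^ N := by
    rw [map_pow]
    exact Ideal.pow_mem_pow (Ideal.mem_map_of_mem _ (Ideal.mem_span_singleton_self t)) N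
  by_cases hbad : ∃ α, ¬ t ^ N ∣ p.coeff α
  · exfalso
    obtain ⟨c, s, p', hp', hcs, hsu, α, hα⟩ := exists_content p (t ^ N) hbad
    have hc0 : c ≠ 0 := by
      rintro rfl
      rw [zero_mul] at hcs
      exact pow_ne_zero N ht hcs.symm
    set gx := algebraMap (MvPolynomial (Fin d) R) (RPow R (Ideal.span {t}) d) p' +
      algebraMap R (RPow R (Ideal.span {t}) d) s * x' with hgx
    have hxg : x = algebraMap R (RPow R (Ideal.span {t}) d) c * gx := by
      rw [hxp, hp', map_mul, ← hcs, map_mul, hgx, mul_add, mul_assoc]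
      congr 2
    have h1 : algebraMap R B c * φ gx = 0 := by
      rw [← φ.commutes, ← map_mul, ← hxg, hx]
    have h2 : φ gx = 0 := htf c hc0 _ h1
    have h3 := hker gx h2
    rw [hgx, map_add, map_mul, hρ, ρ.commutes] at h3
    have hs0 : algebraMap R (MvPolynomial (Fin d) (ResidueField R)) s = 0 := by
      change MvPolynomial.C (algebraMap R (ResidueField R) s) = 0
      have : algebraMap R (ResidueField R) s = 0 :=
        (residue_eq_zero_iff s).mpr ((mem_maximalIdeal s).mpr hsu)
      rw [this, map_zero]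
    rw [hs0, zero_mul, add_zero] at h3
    have h4 := congrArg (MvPolynomial.coeff α) h3
    rw [MvPolynomial.coeff_map, hα, map_one, MvPolynomial.coeff_zero] at h4
    exact one_ne_zero h4
  · push Not at hbad
    choose q hq using hbad
    have hp' : p = MvPolynomial.C (t ^ N) * ∑ β ∈ p.support, MvPolynomial.monomial β (q β) := by
      ext β
      rw [MvPolynomial.coeff_C_mul, MvPolynomial.coeff_sum]
      simp only [MvPolynomial.coeff_monomial]
      rw [Finset.sum_ite_eq' p.support β]
      split_ifs with hβ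
      · exact hq β
      · rw [mul_zero]
        exact MvPolynomial.notMem_support_iff.mp hβ
    rw [hxp, hp', map_mul]
    refine Ideal.add_mem _ (Ideal.mul_mem_right _ _ ?_) (Ideal.mul_mem_right _ _ htN)
    exact htN

end inj

section main

open AdicRing MvPolynomial Groth.Agent.Lib.Helper95.Bosch

variable (R : Type u) [CommRing R] [IsDomain R] [ValuationRing R] [Ring.KrullDimLE 1 R]
  (t : R) (ht : t ≠ 0) [IsAdicComplete (Ideal.span {t}) R]

include ht in
/-- **Integral Noether normalization, dimension-zero case.**  If `B` is a topologically finite type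
torsion-free domain over `R` all of whose nonzero primes contain `t`, then `B` is finite
over `R`. -/
theorem finite_of_forall_prime_mem (B : Type u) [CommRing B] [Algebra R B] [IsDomain B]
    (hB : AdicRing.TopFiniteType R (Ideal.span {t}) B)
    (hnt : AdicRing.NoPowTorsion (Ideal.span {t}) B)
    (hprime : ∀ Q : Ideal B, Q.IsPrime → Q ≠ ⊥ → algebraMap R B t ∈ Q) :
    Module.Finite R B := by
  classical
  have hR := isBase R t ht
  have hI : (Ideal.span {t} : Ideal R).FG := ⟨{t}, by simp⟩
  haveI hcomp : IsAdicComplete ((Ideal.span {t}).map (algebraMap R B)) B :=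
    isAdicComplete_of_topFiniteType hR B hB
  haveI hcompR : IsAdicComplete (Ideal.span {t}) B :=
    (IsAdicComplete.map_algebraMap_iff _ _).mp hcomp
  haveI hflat : Module.Flat R B := flat_of_noPowTorsion t hnt
  have htf : ∀ c : R, c ≠ 0 → ∀ b : B, algebraMap R B c * b = 0 → b = 0 := by
    intro c hc b hb
    haveI : Module.IsTorsionFree R B := inferInstance
    rw [← Algebra.smul_def] at hb
    exact (smul_eq_zero_iff_right hc).mp hb
  set IB : Ideal B := (Ideal.span {t}).map (algebraMap R B) with hIB
  set J : Ideal B := (maximalIdeal R).map (algebraMap R B) with hJ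
  have hIBJ : IB ≤ J := map_span_le_map_maximalIdeal R t B
  have hJrad : J ≤ IB.radical := map_maximalIdeal_le_radical R t ht B
  have htJ : algebraMap R B t ∈ J :=
    hIBJ (Ideal.mem_map_of_mem _ (Ideal.mem_span_singleton_self t))
  -- `D = B/J` is a nontrivial finite type `k`-algebra
  have hJtop : J ≠ ⊤ := by
    intro h
    have h1 : IB.radical = ⊤ := top_le_iff.mp (h ▸ hJrad)
    have h2 : IB = ⊤ := Ideal.radical_eq_top.mp h1
    have h3 : (1 : B) ∈ (⊥ : Ideal B).jacobson :=
      IsAdicComplete.le_jacobson_bot IB (h2 ▸ Submodule.mem_top)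
    have h4 : (⊥ : Ideal B).jacobson = ⊤ := (Ideal.eq_top_iff_one _).mpr h3
    exact (Ideal.jacobson_eq_top_iff.mp h4 ▸ bot_ne_top (α := Ideal B)) rfl
  haveI : Nontrivial (B ⧸ J) := Ideal.Quotient.nontrivial_iff.mpr hJtop
  haveI hftD : Algebra.FiniteType R (B ⧸ J) := finiteType_quotient R t B hB J hIBJ
  have hkill : ∀ a ∈ maximalIdeal R, algebraMap R (B ⧸ J) a = 0 := by
    intro a ha
    change Ideal.Quotient.mk J (algebraMap R B a) = 0
    rw [Ideal.Quotient.eq_zero_iff_mem]
    exact Ideal.mem_map_of_mem _ ha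
  letI algD : Algebra (ResidueField R) (B ⧸ J) :=
    (Ideal.Quotient.lift (maximalIdeal R) (algebraMap R (B ⧸ J)) hkill).toAlgebra
  haveI : IsScalarTower R (ResidueField R) (B ⧸ J) :=
    IsScalarTower.of_algebraMap_eq (fun r => rfl)
  haveI : Algebra.FiniteType (ResidueField R) (B ⧸ J) :=
    Algebra.FiniteType.of_restrictScalars_finiteType R (ResidueField R) (B ⧸ J)
  obtain ⟨d, g, hginj, hgint⟩ := exists_integral_inj_algHom_of_fg (ResidueField R) (B ⧸ J)
  -- lifts
  choose y hy using fun i => Ideal.Quotient.mk_surjective (g (X i))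
  obtain ⟨φ, hφ⟩ := exists_lift_rPow (Ideal.span {t}) B d y
  obtain ⟨ρ, hρ⟩ := exists_reduction R t d
  obtain ⟨ε, hε⟩ := exists_eval_zero R t d
  -- compatibility on polynomials
  have hcompat_poly : ∀ p : MvPolynomial (Fin d) R,
      g (MvPolynomial.map (residue R) p) = Ideal.Quotient.mk J (MvPolynomial.aeval y p) := by
    intro p
    induction p using MvPolynomial.induction_on with
    | C a =>
      rw [MvPolynomial.map_C, MvPolynomial.aeval_C]
      have : g (MvPolynomial.C (residue R a)) = algebraMap (ResidueField R) (B ⧸ J) (residue R a) :=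
        g.commutes (residue R a)
      rw [this]
      rfl
    | add p q hp hq => rw [map_add, map_add, map_add, map_add, hp, hq]
    | mul_X p i hp =>
      rw [map_mul, map_mul, map_mul, map_mul, hp, MvPolynomial.map_X, MvPolynomial.aeval_X, hy]
  have hρt : ρ (algebraMap R (RPow R (Ideal.span {t}) d) t) = 0 := by
    rw [ρ.commutes]
    change MvPolynomial.C (algebraMap R (ResidueField R) t) = 0
    have : algebraMap R (ResidueField R) t = 0 := residue_t_eq_zero R t
    rw [this, map_zero]
  have hcompat : ∀ x : RPow R (Ideal.span {t}) d, g (ρ x) = Ideal.Quotient.mk J (φ x) := by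
    intro x
    obtain ⟨p, x', hx⟩ := exists_poly_add R t d 1 x
    have hφ' : ∀ p, φ (algebraMap (MvPolynomial (Fin d) R) (RPow R (Ideal.span {t}) d) p) =
        MvPolynomial.aeval y p := hφ
    have e1 : ρ x = MvPolynomial.map (residue R) p := by
      rw [hx, pow_one, map_add, map_mul, hρ, hρt, zero_mul, add_zero]
    have this : Ideal.Quotient.mk J (algebraMap R B t) = 0 :=
      Ideal.Quotient.eq_zero_iff_mem.mpr htJ
    have e2 : Ideal.Quotient.mk J (φ x) = Ideal.Quotient.mk J (MvPolynomial.aeval y p) := by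
      rw [hx, pow_one, map_add, map_mul, hφ', φ.commutes, map_add, map_mul, this, zero_mul,
        add_zero]
    rw [e1, e2, hcompat_poly]
  -- injectivity of `φ`
  have hφinj : Function.Injective φ := by
    refine injective_of_reduction R t ht d B htf φ ρ hρ ?_
    intro x hx
    apply hginj
    rw [hcompat, hx, map_zero, map_zero]
  -- the case distinction
  rcases Nat.eq_zero_or_pos d with hd0 | hdpos
  · -- `D` is integral over `R`
    subst hd0
    refine finite_of_isIntegral_quotient R t ht B hB ⟨fun x => ?_⟩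
    have hsurj : Function.Surjective (algebraMap R (MvPolynomial (Fin 0) (ResidueField R))) := by
      intro q
      obtain ⟨r, hr⟩ := residue_surjective (MvPolynomial.coeff 0 q)
      refine ⟨r, ?_⟩
      rw [MvPolynomial.eq_C_of_isEmpty q, ← hr]
      rfl
    have h1 : (g.toRingHom.comp
        (algebraMap R (MvPolynomial (Fin 0) (ResidueField R)))).IsIntegral :=
      RingHom.IsIntegral.trans _ _ (RingHom.isIntegral_of_surjective _ hsurj) hgint
    have h2 : g.toRingHom.comp (algebraMap R (MvPolynomial (Fin 0) (ResidueField R))) =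
        algebraMap R (B ⧸ J) := by
      ext r
      change g (MvPolynomial.C (residue R r)) = _
      have : g (MvPolynomial.C (residue R r)) =
          algebraMap (ResidueField R) (B ⧸ J) (residue R r) := g.commutes (residue R r)
      rw [this]
      rfl
    rw [h2] at h1
    exact h1 x
  · exfalso
    haveI hcompP : IsAdicComplete ((Ideal.span {t}).map
        (algebraMap R (RPow R (Ideal.span {t}) d))) (RPow R (Ideal.span {t}) d) :=
      isAdicComplete_rPow R (Ideal.span {t}) d hI
    -- `P`-algebra structure on `B`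
    letI algPB : Algebra (RPow R (Ideal.span {t}) d) B := φ.toRingHom.toAlgebra
    haveI : IsScalarTower R (RPow R (Ideal.span {t}) d) B :=
      IsScalarTower.of_algebraMap_eq (fun r => (φ.commutes r).symm)
    have hρsurj : Function.Surjective ρ := by
      intro q
      obtain ⟨q', hq'⟩ := MvPolynomial.map_surjective (residue R) residue_surjective q
      exact ⟨algebraMap _ (RPow R (Ideal.span {t}) d) q', by rw [hρ, hq']⟩
    haveI hDintP : Algebra.IsIntegral (RPow R (Ideal.span {t}) d) (B ⧸ J) := by
      refine ⟨fun x => ?_⟩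
      have h1 : (g.toRingHom.comp ρ.toRingHom).IsIntegral :=
        RingHom.IsIntegral.trans _ _ (RingHom.isIntegral_of_surjective _ hρsurj) hgint
      have h2 : g.toRingHom.comp ρ.toRingHom =
          algebraMap (RPow R (Ideal.span {t}) d) (B ⧸ J) := by
        ext x
        exact hcompat x
      rw [h2] at h1
      exact h1 x
    haveI hftC : Algebra.FiniteType R (B ⧸ IB) := finiteType_quotient R t B hB IB le_rfl
    haveI : Algebra.FiniteType (RPow R (Ideal.span {t}) d) (B ⧸ IB) :=
      Algebra.FiniteType.of_restrictScalars_finiteType R (RPow R (Ideal.span {t}) d) (B ⧸ IB)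
    let f : (B ⧸ IB) →ₐ[RPow R (Ideal.span {t}) d] (B ⧸ J) :=
      Ideal.Quotient.factorₐ (RPow R (Ideal.span {t}) d) hIBJ
    haveI hCint : Algebra.IsIntegral (RPow R (Ideal.span {t}) d) (B ⧸ IB) := by
      refine isIntegral_of_surjective_nil f ?_
      intro c hc
      obtain ⟨b, rfl⟩ := Ideal.Quotient.mk_surjective c
      rw [RingHom.mem_ker] at hc
      have hb : b ∈ J := by
        rw [← Ideal.Quotient.eq_zero_iff_mem]
        exact hc
      obtain ⟨e, he⟩ := hJrad hb
      refine ⟨e, ?_⟩
      rw [← map_pow]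
      exact Ideal.Quotient.eq_zero_iff_mem.mpr he
    haveI : Module.Finite (RPow R (Ideal.span {t}) d) (B ⧸ IB) := Algebra.IsIntegral.finite
    haveI : IsHausdorff ((Ideal.span {t}).map (algebraMap R (RPow R (Ideal.span {t}) d))) B :=
      IsHausdorff.map_algebraMap_iff.mpr inferInstance
    haveI hBfin : Module.Finite (RPow R (Ideal.span {t}) d) B := by
      refine finite_of_surjective_of_ker_le
        ((Ideal.span {t}).map (algebraMap R (RPow R (Ideal.span {t}) d)))
        ((Ideal.Quotient.mkₐ (RPow R (Ideal.span {t}) d) IB).toLinearMap)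
        Ideal.Quotient.mk_surjective ?_
      intro x hx
      rw [LinearMap.mem_ker] at hx
      have hx' : Ideal.Quotient.mk IB x = 0 := hx
      rw [Ideal.Quotient.eq_zero_iff_mem] at hx'
      rw [Ideal.smul_top_eq_map, Ideal.map_map, ← IsScalarTower.algebraMap_eq]
      exact hx'
    haveI : Algebra.IsIntegral (RPow R (Ideal.span {t}) d) B :=
      Algebra.IsIntegral.of_finite (RPow R (Ideal.span {t}) d) B
    -- every nonzero prime of `P` contains `t`
    have hPprime : ∀ 𝔮 : Ideal (RPow R (Ideal.span {t}) d), 𝔮.IsPrime → 𝔮 ≠ ⊥ →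
        algebraMap R (RPow R (Ideal.span {t}) d) t ∈ 𝔮 := by
      intro 𝔮 h𝔮 hne
      have hcb : (⊥ : Ideal B).comap (algebraMap (RPow R (Ideal.span {t}) d) B) = ⊥ :=
        Ideal.comap_bot_of_injective _ hφinj
      obtain ⟨Q, -, hQp, hQ⟩ := Ideal.exists_ideal_over_prime_of_isIntegral (S := B) 𝔮
        (⊥ : Ideal B) (by rw [hcb]; exact bot_le)
      have hQne : Q ≠ ⊥ := by
        rintro rfl
        exact hne (hQ ▸ hcb)
      have h1 := hprime Q hQp hQne
      rw [← hQ, Ideal.mem_comap, ← IsScalarTower.algebraMap_apply]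
      exact h1
    -- contradiction
    set Y₁ : RPow R (Ideal.span {t}) d :=
      algebraMap (MvPolynomial (Fin d) R) (RPow R (Ideal.span {t}) d) (X ⟨0, hdpos⟩) with hY₁def
    have hY₁ : Y₁ ≠ 0 := by
      intro h0
      have h1 := congrArg ρ h0
      rw [hY₁def, hρ, MvPolynomial.map_X, map_zero] at h1
      exact MvPolynomial.X_ne_zero _ h1
    have hε1 : ε Y₁ = 0 := by rw [hY₁def, hε, MvPolynomial.aeval_X]
    by_cases hdis : Disjoint ((Ideal.span {Y₁} : Ideal (RPow R (Ideal.span {t}) d)) :
        Set (RPow R (Ideal.span {t}) d))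
        (Submonoid.powers (algebraMap R (RPow R (Ideal.span {t}) d) t) :
          Set (RPow R (Ideal.span {t}) d))
    · obtain ⟨𝔮, h𝔮, hle, hd'⟩ := Ideal.exists_le_prime_disjoint _ _ hdis
      have hne : 𝔮 ≠ ⊥ := by
        rintro rfl
        exact hY₁ ((Ideal.mem_bot).mp (hle (Ideal.mem_span_singleton_self Y₁)))
      have h1 := hPprime 𝔮 h𝔮 hne
      exact Set.disjoint_left.mp hd' h1 (Submonoid.mem_powers _)
    · rw [Set.not_disjoint_iff] at hdis
      obtain ⟨z, hz1, ⟨e, rfl⟩⟩ := hdis
      obtain ⟨h, hh⟩ := Ideal.mem_span_singleton.mp hz1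
      have h1 := congrArg ε hh
      rw [map_pow, ε.commutes, map_mul, hε1, zero_mul] at h1
      exact pow_ne_zero e ht h1

end main

end Groth.Agent.H34.RigPointC
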