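import Groth.Agent.H34.RigPointC

/-!
# Rig-points of an admissible algebra (Bosch FRG 8.3) (helper34)

Non-open primes `p` of an admissible `R`-algebra `A` with `dim A/p = 1` correspond to maximal ideals
of `A ⊗_R K`.
-/

set_option autoImplicit false
set_option linter.style.haveILetI false
universe u

namespace Groth.Agent.H34.RigPointD

open IsLocalRing TensorProduct Groth.Agent.H34.RigPoint Groth.Agent.H34.RigPointC
  Groth.Agent.Lib.Helper95.Bosch

section loc

variable (R : Type u) [CommRing R] [IsDomain R] [ValuationRing R] [Ring.KrullDimLE 1 R]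
  (t : R) (ht : t ≠ 0) [IsAdicComplete (Ideal.span {t}) R]

include ht in
/-- `K = R[1/t]`. -/
theorem isLocalization_away_fractionRing : IsLocalization.Away t (FractionRing R) := by
  refine (IsLocalization.iff_of_le_of_exists_dvd (Submonoid.powers t) (nonZeroDivisors R) ?_ ?_).mpr
    inferInstance
  · rintro _ ⟨n, rfl⟩
    exact pow_mem (mem_nonZeroDivisors_of_ne_zero ht) n
  · intro a ha
    obtain ⟨k, hk⟩ := exists_dvd_pow_of_ne_zero t (nonZeroDivisors.ne_zero ha)
    exact ⟨t ^ k, ⟨k, rfl⟩, hk⟩

/-- In a ring `A` with `dim A/p = 1`, primes strictly containing `p` are maximal. -/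
theorem isMaximal_of_lt {A : Type*} [CommRing A] (p q : Ideal A) [hp : p.IsPrime] [hq : q.IsPrime]
    (hdim : ringKrullDim (A ⧸ p) = 1) (hpq : p < q) : q.IsMaximal := by
  haveI : Ring.KrullDimLE 1 (A ⧸ p) := Ring.krullDimLE_iff.mpr (le_of_eq hdim)
  have hker : RingHom.ker (Ideal.Quotient.mk p) ≤ q := by
    rw [Ideal.mk_ker]
    exact hpq.le
  have hQp : (q.map (Ideal.Quotient.mk p)).IsPrime :=
    Ideal.map_isPrime_of_surjective Ideal.Quotient.mk_surjective hker
  have hcm : (q.map (Ideal.Quotient.mk p)).comap (Ideal.Quotient.mk p) = q := by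
    rw [Ideal.comap_map_of_surjective _ Ideal.Quotient.mk_surjective, ← RingHom.ker_eq_comap_bot,
      Ideal.mk_ker]
    exact sup_eq_left.mpr hpq.le
  have hQne : q.map (Ideal.Quotient.mk p) ≠ ⊥ := by
    intro h
    rw [h, ← RingHom.ker_eq_comap_bot, Ideal.mk_ker] at hcm
    exact hpq.ne hcm
  haveI hQmax : (q.map (Ideal.Quotient.mk p)).IsMaximal := hQp.isMaximal_of_ne_bot hQne
  rw [← hcm]
  exact Ideal.comap_isMaximal_of_surjective _ Ideal.Quotient.mk_surjective

end loc

section main

variable (R : Type u) [CommRing R] [IsDomain R] [ValuationRing R] [Ring.KrullDimLE 1 R]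
  (t : R) (ht : t ≠ 0) [IsAdicComplete (Ideal.span {t}) R]
  (A : Type u) [CommRing A] [Algebra R A]

theorem ringKrullDim_eq_one_of {B : Type*} [CommRing B] (h1 : ringKrullDim B ≤ 1)
    (h0 : ¬ Ring.KrullDimLE 0 B) : ringKrullDim B = 1 := by
  rw [Ring.krullDimLE_iff] at h0
  refine le_antisymm h1 ?_
  rw [not_le] at h0
  cases h : ringKrullDim B with
  | bot => rw [h] at h0; exact absurd h0 (by simp)
  | coe n =>
    rw [h] at h0
    have h0' : (0 : ℕ∞) < n := by exact_mod_cast h0
    have : (1 : ℕ∞) ≤ n := Order.one_le_iff_pos.mpr h0'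
    exact_mod_cast this

include ht in
/-- The quotient by a prime not containing `t` has dimension one as soon as no prime strictly
between survives in `A[1/t]`. -/
theorem ringKrullDim_quotient_eq_one (hA : AdicRing.TopFiniteType R (Ideal.span {t}) A)
    (p : Ideal A) [hp : p.IsPrime] (htp : algebraMap R A t ∉ p)
    (hmax : ∀ q : Ideal A, q.IsPrime → p < q → algebraMap R A t ∈ q) :
    ringKrullDim (A ⧸ p) = 1 := by
  have hR := isBase R t ht
  -- `B = A/p`
  have hBtft : AdicRing.TopFiniteType R (Ideal.span {t}) (A ⧸ p) := by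
    obtain ⟨n, φ, hφ⟩ := hA
    exact ⟨n, (Ideal.Quotient.mkₐ R p).comp φ,
      (Ideal.Quotient.mkₐ_surjective R p).comp hφ⟩
  have hBnt : AdicRing.NoPowTorsion (Ideal.span {t}) (A ⧸ p) := by
    intro x N hx
    obtain ⟨a, rfl⟩ := Ideal.Quotient.mk_surjective x
    have h1 := hx (t ^ N) (Ideal.pow_mem_pow (Ideal.mem_span_singleton_self t) N)
    rw [Algebra.smul_def] at h1
    have h2 : Ideal.Quotient.mk p (algebraMap R A (t ^ N) * a) = 0 := h1
    rw [Ideal.Quotient.eq_zero_iff_mem, map_pow] at h2
    rcases hp.mem_or_mem h2 with h3 | h3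
    · exact absurd (hp.mem_of_pow_mem N h3) htp
    · exact Ideal.Quotient.eq_zero_iff_mem.mpr h3
  have htB : algebraMap R (A ⧸ p) t ≠ 0 := by
    intro h
    have : Ideal.Quotient.mk p (algebraMap R A t) = 0 := h
    exact htp (Ideal.Quotient.eq_zero_iff_mem.mp this)
  have hprime : ∀ Q : Ideal (A ⧸ p), Q.IsPrime → Q ≠ ⊥ → algebraMap R (A ⧸ p) t ∈ Q := by
    intro Q hQ hQne
    have hQ'p : (Q.comap (Ideal.Quotient.mk p)).IsPrime := Ideal.comap_isPrime _ Q
    have hlt : p < Q.comap (Ideal.Quotient.mk p) := by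
      refine lt_of_le_of_ne ?_ ?_
      · intro a ha
        rw [Ideal.mem_comap, Ideal.Quotient.eq_zero_iff_mem.mpr ha]
        exact Q.zero_mem
      · intro h
        apply hQne
        rw [eq_bot_iff]
        intro x hx
        obtain ⟨a, rfl⟩ := Ideal.Quotient.mk_surjective x
        have : a ∈ Q.comap (Ideal.Quotient.mk p) := hx
        rw [← h] at this
        exact (Ideal.mem_bot).mpr (Ideal.Quotient.eq_zero_iff_mem.mpr this)
    exact hmax _ hQ'p hlt
  haveI hfin : Module.Finite R (A ⧸ p) :=
    finite_of_forall_prime_mem R t ht (A ⧸ p) hBtft hBnt hprime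
  haveI : Algebra.IsIntegral R (A ⧸ p) := Algebra.IsIntegral.of_finite R (A ⧸ p)
  have hle : ringKrullDim (A ⧸ p) ≤ 1 :=
    (Groth.Agent.Lib.Helper55.ringKrullDim_le_of_isIntegral R (A ⧸ p)).trans
      (Ring.krullDimLE_iff.mp inferInstance)
  refine ringKrullDim_eq_one_of hle ?_
  intro h0
  rw [Ring.krullDimLE_zero_iff] at h0
  have hbotmax : (⊥ : Ideal (A ⧸ p)).IsMaximal := h0 ⊥ Ideal.isPrime_bot
  have h1 : (Ideal.span {t}).map (algebraMap R (A ⧸ p)) ≤ ⊥ :=
    map_le_of_isMaximal hR (A ⧸ p) hBtft ⊥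
  exact htB ((Ideal.mem_bot).mp (h1 (Ideal.mem_map_of_mem _ (Ideal.mem_span_singleton_self t))))

end main

section final

variable (R : Type u) [CommRing R] [IsDomain R] [ValuationRing R] [Ring.KrullDimLE 1 R]
  (t : R) (ht : t ≠ 0) [IsAdicComplete (Ideal.span {t}) R]
  (A : Type u) [CommRing A] [Algebra R A]

include ht in
theorem main (hA : AdicRing.Admissible R (Ideal.span {t}) A) :
    (∀ p : Ideal A, p.IsPrime → algebraMap R A t ∉ p → ringKrullDim (A ⧸ p) = 1 →
        (p.map (Algebra.TensorProduct.includeLeftRingHom :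
          A →+* A ⊗[R] FractionRing R)).IsMaximal ∧
        (p.map (Algebra.TensorProduct.includeLeftRingHom :
          A →+* A ⊗[R] FractionRing R)).comap (Algebra.TensorProduct.includeLeftRingHom :
          A →+* A ⊗[R] FractionRing R) = p) ∧
      (∀ m : Ideal (A ⊗[R] FractionRing R), m.IsMaximal →
        algebraMap R A t ∉ m.comap (Algebra.TensorProduct.includeLeftRingHom :
            A →+* A ⊗[R] FractionRing R) ∧
          ringKrullDim (A ⧸ m.comap (Algebra.TensorProduct.includeLeftRingHom :
            A →+* A ⊗[R] FractionRing R)) = 1 ∧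
          (m.comap (Algebra.TensorProduct.includeLeftRingHom :
            A →+* A ⊗[R] FractionRing R)).map (Algebra.TensorProduct.includeLeftRingHom :
            A →+* A ⊗[R] FractionRing R) = m) := by
  classical
  have hR := isBase R t ht
  obtain ⟨⟨n, φ, hφ, -⟩, hnt⟩ := hA
  have hTFT : AdicRing.TopFiniteType R (Ideal.span {t}) A := ⟨n, φ, hφ⟩
  haveI hK : IsLocalization.Away t (FractionRing R) := isLocalization_away_fractionRing R t ht
  haveI hAK : IsLocalization.Away (algebraMap R A t) (A ⊗[R] FractionRing R) := inferInstance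
  have hι : (Algebra.TensorProduct.includeLeftRingHom : A →+* A ⊗[R] FractionRing R) =
      algebraMap A (A ⊗[R] FractionRing R) := rfl
  rw [hι]
  set M := Submonoid.powers (algebraMap R A t) with hM
  have hunit : IsUnit (algebraMap A (A ⊗[R] FractionRing R) (algebraMap R A t)) :=
    IsLocalization.map_units (A ⊗[R] FractionRing R) (⟨_, Submonoid.mem_powers _⟩ : M)
  have hdisj : ∀ q : Ideal A, q.IsPrime → algebraMap R A t ∉ q → Disjoint (M : Set A) q := by
    intro q hq htq
    rw [Set.disjoint_left]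
    rintro _ ⟨k, rfl⟩ hk
    exact htq (hq.mem_of_pow_mem k hk)
  have hnotmem : ∀ m : Ideal (A ⊗[R] FractionRing R), m ≠ ⊤ →
      algebraMap R A t ∉ m.comap (algebraMap A (A ⊗[R] FractionRing R)) := by
    intro m hm h
    exact hm (Ideal.eq_top_of_isUnit_mem _ (Ideal.mem_comap.mp h) hunit)
  constructor
  · intro p hp htp hdim
    have hcm : (p.map (algebraMap A (A ⊗[R] FractionRing R))).comap
        (algebraMap A (A ⊗[R] FractionRing R)) = p :=
      IsLocalization.under_map_of_isPrime_disjoint M (A ⊗[R] FractionRing R) hp (hdisj p hp htp)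
    refine ⟨?_, hcm⟩
    have hne : p.map (algebraMap A (A ⊗[R] FractionRing R)) ≠ ⊤ := by
      intro h
      rw [h, Ideal.comap_top] at hcm
      exact hp.ne_top hcm.symm
    obtain ⟨m, hm, hle⟩ := Ideal.exists_le_maximal _ hne
    have hq'p : (m.comap (algebraMap A (A ⊗[R] FractionRing R))).IsPrime :=
      Ideal.comap_isPrime _ m
    have hpq' : p ≤ m.comap (algebraMap A (A ⊗[R] FractionRing R)) := by
      rw [← hcm]
      exact Ideal.comap_mono hle
    have hmc : (m.comap (algebraMap A (A ⊗[R] FractionRing R))).map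
        (algebraMap A (A ⊗[R] FractionRing R)) = m :=
      IsLocalization.map_under M (A ⊗[R] FractionRing R) m
    rcases eq_or_lt_of_le hpq' with heq | hlt
    · rw [heq, hmc]
      exact hm
    · exfalso
      haveI := hp
      haveI := hq'p
      have hmax := isMaximal_of_lt p _ hdim hlt
      have h1 : (Ideal.span {t}).map (algebraMap R A) ≤
          m.comap (algebraMap A (A ⊗[R] FractionRing R)) :=
        @map_le_of_isMaximal R _ _ hR A _ _ hTFT _ hmax
      exact hnotmem m hm.ne_top
        (h1 (Ideal.mem_map_of_mem _ (Ideal.mem_span_singleton_self t)))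
  · intro m hm
    have hmc : (m.comap (algebraMap A (A ⊗[R] FractionRing R))).map
        (algebraMap A (A ⊗[R] FractionRing R)) = m :=
      IsLocalization.map_under M (A ⊗[R] FractionRing R) m
    haveI hpp : (m.comap (algebraMap A (A ⊗[R] FractionRing R))).IsPrime :=
      Ideal.comap_isPrime _ m
    refine ⟨hnotmem m hm.ne_top, ?_, hmc⟩
    refine ringKrullDim_quotient_eq_one R t ht A hTFT _ (hnotmem m hm.ne_top) ?_
    intro q hq hlt
    by_contra htq
    have hqprime : (q.map (algebraMap A (A ⊗[R] FractionRing R))).IsPrime :=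
      IsLocalization.isPrime_of_isPrime_disjoint M (A ⊗[R] FractionRing R) q hq
        (hdisj q hq htq)
    have hqcm : (q.map (algebraMap A (A ⊗[R] FractionRing R))).comap
        (algebraMap A (A ⊗[R] FractionRing R)) = q :=
      IsLocalization.under_map_of_isPrime_disjoint M (A ⊗[R] FractionRing R) hq (hdisj q hq htq)
    have hle : m ≤ q.map (algebraMap A (A ⊗[R] FractionRing R)) := by
      rw [← hmc]
      exact Ideal.map_mono hlt.le
    have heq : m = q.map (algebraMap A (A ⊗[R] FractionRing R)) :=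
      hm.eq_of_le hqprime.ne_top hle
    rw [heq, hqcm] at hlt
    exact lt_irrefl _ hlt

end final

end Groth.Agent.H34.RigPointD
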