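import Mathlib

/-!
# Length of `R ⧸ I^n` for an ideal generated by `d` elements

`length (R ⧸ I^(n+1)) ≤ C(n+d, d) * length (R ⧸ I)` and the resulting bound on the
multiplicity limit.
-/

namespace Groth.Agent.H34.SopLength

open Finset Filter

variable {R : Type*} [CommRing R]

/-- The monomial in `g` with exponent vector `s`. -/
noncomputable def mon {d : ℕ} (g : Fin d → R) (s : Fin d →₀ ℕ) : R := ∏ i, g i ^ s i

lemma mon_mem {d : ℕ} (g : Fin d → R) (s : Fin d →₀ ℕ) (n : ℕ) (hs : s.degree = n) :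
    mon g s ∈ Ideal.span (Set.range g) ^ n := by
  rw [Ideal.mem_span_pow_iff_exists_isHomogeneous]
  refine ⟨MvPolynomial.monomial s 1, MvPolynomial.isHomogeneous_monomial _ hs, ?_⟩
  rw [MvPolynomial.eval_monomial, one_mul, Finsupp.prod_fintype _ _ (fun i => pow_zero _)]
  rfl

lemma length_le_of_le_range {M : Type*} [AddCommGroup M] [Module R M] (I : Ideal R)
    {J : Type*} [Fintype J] (ψ : (J → R ⧸ I) →ₗ[R] M) (K : Submodule R M)
    (hK : K ≤ LinearMap.range ψ) :
    Module.length R K ≤ (Fintype.card J : ℕ∞) * Module.length R (R ⧸ I) := by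
  calc Module.length R K ≤ Module.length R (LinearMap.range ψ) :=
        Module.length_le_of_injective (Submodule.inclusion hK) (Submodule.inclusion_injective hK)
    _ ≤ Module.length R (J → R ⧸ I) :=
        Module.length_le_of_surjective ψ.rangeRestrict ψ.surjective_rangeRestrict
    _ = _ := by
        rw [Module.length_pi]; simp

/-- The linear map `R ⧸ I → M` sending `1` to `m`, for `m` killed by `I`. -/
noncomputable def single {M : Type*} [AddCommGroup M] [Module R M] (I : Ideal R)
    (m : M) (hm : ∀ a ∈ I, a • m = 0) : (R ⧸ I) →ₗ[R] M :=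
  Submodule.liftQ I (LinearMap.toSpanSingleton R M m) (fun a ha => by
    simpa [LinearMap.mem_ker] using hm a ha)

lemma single_mk {M : Type*} [AddCommGroup M] [Module R M] (I : Ideal R)
    (m : M) (hm : ∀ a ∈ I, a • m = 0) (a : R) :
    single I m hm (Ideal.Quotient.mk I a) = a • m := by
  change Submodule.liftQ I _ _ (Submodule.Quotient.mk a) = _
  rw [Submodule.liftQ_apply]; simp

lemma length_step {d : ℕ} (g : Fin d → R) (n : ℕ) :
    Module.length R (R ⧸ Ideal.span (Set.range g) ^ (n + 1)) ≤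
      Module.length R (R ⧸ Ideal.span (Set.range g) ^ n) +
        (Nat.multichoose d n : ℕ∞) * Module.length R (R ⧸ Ideal.span (Set.range g)) := by
  classical
  set I := Ideal.span (Set.range g) with hI
  have hle : I ^ (n + 1) ≤ Submodule.comap (LinearMap.id : R →ₗ[R] R) (I ^ n) := by
    intro x hx
    exact Ideal.pow_le_pow_right (Nat.le_succ n) hx
  let f : (R ⧸ I ^ (n + 1)) →ₗ[R] (R ⧸ I ^ n) := Submodule.mapQ (I ^ (n + 1)) (I ^ n) LinearMap.id hle
  have hf : Function.Surjective f := by
    intro y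
    obtain ⟨y, rfl⟩ := Submodule.Quotient.mk_surjective _ y
    exact ⟨Submodule.Quotient.mk y, rfl⟩
  rw [Module.length_eq_add_of_exact (LinearMap.ker f).subtype f (Submodule.subtype_injective _) hf
    (LinearMap.exact_subtype_ker_map f), add_comm]
  gcongr
  -- the index type
  let J := {s // s ∈ (Finset.univ : Finset (Fin d)).finsuppAntidiag n}
  have hJ : Fintype.card J = Nat.multichoose d n := by
    rw [Fintype.card_coe, Finset.card_finsuppAntidiag_nat_eq_multichoose]; simp
  have hdeg : ∀ j : J, (j.1).degree = n := by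
    intro j
    have := j.2
    rw [Finset.mem_finsuppAntidiag] at this
    rw [Finsupp.degree_eq_sum]; exact this.1
  have hkill : ∀ j : J, ∀ a ∈ I, a • (Ideal.Quotient.mk (I ^ (n + 1)) (mon g j.1)) = 0 := by
    intro j a ha
    rw [Algebra.smul_def, Ideal.Quotient.algebraMap_eq, ← map_mul, Ideal.Quotient.eq_zero_iff_mem,
      pow_succ']
    exact Ideal.mul_mem_mul ha (mon_mem g j.1 n (hdeg j))
  let ψ : (J → R ⧸ I) →ₗ[R] (R ⧸ I ^ (n + 1)) :=
    ∑ j : J, (single I _ (hkill j)) ∘ₗ (LinearMap.proj j)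
  rw [← hJ]
  apply length_le_of_le_range I ψ
  intro x hx
  obtain ⟨y, rfl⟩ := Ideal.Quotient.mk_surjective x
  have hy : y ∈ I ^ n := by
    rw [LinearMap.mem_ker] at hx
    have : f (Ideal.Quotient.mk _ y) = Ideal.Quotient.mk _ y := rfl
    rw [this, Ideal.Quotient.eq_zero_iff_mem] at hx
    exact hx
  rw [hI, Ideal.mem_span_pow_iff_exists_isHomogeneous] at hy
  obtain ⟨p, hp, rfl⟩ := hy
  refine ⟨fun j => Ideal.Quotient.mk I (p.coeff j.1), ?_⟩
  simp only [ψ, LinearMap.sum_apply, LinearMap.comp_apply, LinearMap.proj_apply, single_mk]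
  rw [MvPolynomial.eval_eq', map_sum]
  have hsub : p.support ⊆ (Finset.univ : Finset (Fin d)).finsuppAntidiag n := by
    intro s hs
    rw [Finset.mem_finsuppAntidiag]
    refine ⟨?_, Finset.subset_univ _⟩
    rw [← Finsupp.degree_eq_sum, Finsupp.degree_eq_weight_one]
    exact hp (MvPolynomial.mem_support_iff.mp hs)
  rw [Finset.sum_subset hsub]
  · rw [← Finset.sum_coe_sort ((Finset.univ : Finset (Fin d)).finsuppAntidiag n)]
    apply Finset.sum_congr rfl
    intro j _
    rw [Algebra.smul_def, Ideal.Quotient.algebraMap_eq, ← map_mul]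
    rfl
  · intro s _ hs
    rw [MvPolynomial.notMem_support_iff] at hs
    rw [hs, zero_mul, map_zero]

lemma length_le_sum {d : ℕ} (g : Fin d → R) (n : ℕ) :
    Module.length R (R ⧸ Ideal.span (Set.range g) ^ n) ≤
      ((∑ k ∈ Finset.range n, Nat.multichoose d k : ℕ) : ℕ∞) *
        Module.length R (R ⧸ Ideal.span (Set.range g)) := by
  induction n with
  | zero =>
    have : Subsingleton (R ⧸ Ideal.span (Set.range g) ^ 0) := by
      rw [pow_zero, Ideal.one_eq_top]; exact Ideal.Quotient.subsingleton_iff.mpr rfl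
    rw [Module.length_eq_zero]
    exact zero_le
  | succ n ih =>
    refine (length_step g n).trans ?_
    rw [Finset.sum_range_succ, Nat.cast_add, add_mul]
    gcongr

lemma length_le_choose {d : ℕ} (g : Fin d → R) (n : ℕ) :
    Module.length R (R ⧸ Ideal.span (Set.range g) ^ (n + 1)) ≤
      ((n + d).choose d : ℕ∞) * Module.length R (R ⧸ Ideal.span (Set.range g)) := by
  have := length_le_sum g (n + 1)
  rwa [Nat.sum_range_multichoose] at this

theorem main {d : ℕ} (g : Fin d → R) (e : ℕ)
    (he : Tendsto (fun n : ℕ => (d.factorial : ℝ) *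
      ((Module.length R (R ⧸ Ideal.span (Set.range g) ^ n)).toNat : ℝ) / (n : ℝ) ^ d)
      atTop (nhds (e : ℝ))) :
    (e : ℕ∞) ≤ Module.length R (R ⧸ Ideal.span (Set.range g)) := by
  by_cases htop : Module.length R (R ⧸ Ideal.span (Set.range g)) = ⊤
  · rw [htop]; exact le_top
  obtain ⟨L, hL⟩ := ENat.ne_top_iff_exists.mp htop
  rw [← hL]
  have hlen : ∀ n, (Module.length R (R ⧸ Ideal.span (Set.range g) ^ (n + 1))).toNat ≤
      (n + d).choose d * L := by
    intro n
    have h1 := length_le_choose g n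
    rw [← hL] at h1
    have : ((n + d).choose d : ℕ∞) * (L : ℕ∞) = (((n + d).choose d * L : ℕ) : ℕ∞) := by
      push_cast; rfl
    rw [this] at h1
    exact ENat.toNat_le_of_le_natCast h1
  -- real inequality
  have hreal : ∀ n : ℕ, 1 ≤ n → (d.factorial : ℝ) *
      ((Module.length R (R ⧸ Ideal.span (Set.range g) ^ n)).toNat : ℝ) / (n : ℝ) ^ d ≤
        (1 + (d : ℝ) / n) ^ d * L := by
    intro n hn
    obtain ⟨m, rfl⟩ : ∃ m, n = m + 1 := ⟨n - 1, by omega⟩
    have h1 : d.factorial * (Module.length R (R ⧸ Ideal.span (Set.range g) ^ (m + 1))).toNat ≤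
        (m + d) ^ d * L := by
      calc _ ≤ d.factorial * ((m + d).choose d * L) := Nat.mul_le_mul_left _ (hlen m)
        _ = (d.factorial * (m + d).choose d) * L := by ring
        _ = (m + d).descFactorial d * L := by rw [Nat.descFactorial_eq_factorial_mul_choose]
        _ ≤ _ := Nat.mul_le_mul_right _ (Nat.descFactorial_le_pow _ _)
    have hpos : (0 : ℝ) < ((m + 1 : ℕ) : ℝ) ^ d := by positivity
    rw [div_le_iff₀ hpos]
    have : (1 + (d : ℝ) / ((m + 1 : ℕ) : ℝ)) ^ d * L * ((m + 1 : ℕ) : ℝ) ^ d =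
        (((m + 1 : ℕ) : ℝ) + d) ^ d * L := by
      rw [mul_right_comm, ← mul_pow]; congr 2; field_simp
    rw [this]
    calc (d.factorial : ℝ) *
          ((Module.length R (R ⧸ Ideal.span (Set.range g) ^ (m + 1))).toNat : ℝ)
        = ((d.factorial *
            (Module.length R (R ⧸ Ideal.span (Set.range g) ^ (m + 1))).toNat : ℕ) : ℝ) := by
          push_cast; ring
      _ ≤ (((m + d) ^ d * L : ℕ) : ℝ) := by exact_mod_cast h1
      _ ≤ _ := by push_cast; gcongr; linarith
  have hlim : Tendsto (fun n : ℕ => (1 + (d : ℝ) / n) ^ d * (L : ℝ)) atTop (nhds L) := by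
    have h0 : Tendsto (fun n : ℕ => (d : ℝ) / n) atTop (nhds 0) :=
      tendsto_const_div_atTop_nhds_zero_nat (d : ℝ)
    have h1 : Tendsto (fun n : ℕ => (1 + (d : ℝ) / n) ^ d) atTop (nhds ((1 + 0) ^ d)) :=
      (h0.const_add 1).pow d
    have := h1.mul_const (L : ℝ)
    simpa using this
  have := le_of_tendsto_of_tendsto he hlim (Filter.eventually_atTop.mpr ⟨1, hreal⟩)
  exact_mod_cast this

end Groth.Agent.H34.SopLength
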