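import Mathlib

/-! Helper lemmas (helper34): finite modules over a domain, maps to finite free modules. -/

set_option autoImplicit false
universe u v
open TensorProduct

namespace Groth.Agent.H34

open Module in
/-- For a finite module `M` over a domain `R` there is a linear map `M → R^n`, `n = finrank R M`,
with torsion kernel and torsion cokernel. -/
theorem exists_map_to_fin_fun (R : Type u) [CommRing R] [IsDomain R] (M : Type v) [AddCommGroup M]
    [Module R M] [Module.Finite R M] :
    ∃ h : M →ₗ[R] (Fin (Module.finrank R M) → R),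
      (∀ x : M, h x = 0 → ∃ c : R, c ≠ 0 ∧ c • x = 0) ∧
      (∀ y : Fin (Module.finrank R M) → R, ∃ c : R, c ≠ 0 ∧ c • y ∈ LinearMap.range h) := by
  classical
  let S := nonZeroDivisors R
  let K := FractionRing R
  let V := LocalizedModule S M
  let ι : M →ₗ[R] V := LocalizedModule.mkLinearMap S M
  have hfin : Module.Finite K V := Module.Finite.of_isLocalizedModule S (Rₚ := K) ι
  have hrank : Module.finrank K V = Module.finrank R M := by
    rw [IsLocalization.finrank_eq (N := V) K S le_rfl]
    exact IsLocalizedModule.finrank_eq S ι le_rfl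
  let b : Basis (Fin (Module.finrank R M)) K V := Module.finBasisOfFinrankEq K V hrank
  let n := Module.finrank R M
  let ψ : M →ₗ[R] (Fin n → K) := (b.equivFun.toLinearMap.restrictScalars R) ∘ₗ ι
  obtain ⟨s, hs⟩ := Module.Finite.fg_top (R := R) (M := M)
  obtain ⟨d, hd⟩ := IsLocalization.exist_integer_multiples S (s ×ˢ (Finset.univ : Finset (Fin n)))
    (fun p : M × Fin n => ψ p.1 p.2)
  have hd0 : (d : R) ≠ 0 := nonZeroDivisors.ne_zero d.2
  let χ : M →ₗ[R] (Fin n → K) := (d : R) • ψ
  let j : (Fin n → R) →ₗ[R] (Fin n → K) := (Algebra.linearMap R K).compLeft (Fin n)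
  have hj : Function.Injective j := by
    intro x y hxy
    funext i
    have := congrFun hxy i
    exact IsFractionRing.injective R K this
  have hχj : ∀ m, χ m ∈ LinearMap.range j := by
    have : (⊤ : Submodule R M) ≤ (LinearMap.range j).comap χ := by
      rw [← hs, Submodule.span_le]
      intro m hm
      have hm' : ∀ i : Fin n, ∃ r : R, algebraMap R K r = (d : R) • ψ m i := fun i =>
        hd (m, i) (Finset.mem_product.mpr ⟨hm, Finset.mem_univ i⟩)
      choose r hr using hm'
      refine ⟨r, ?_⟩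
      funext i
      simp [j, χ, hr]
    intro m
    exact this (Submodule.mem_top)
  let χ' : M →ₗ[R] LinearMap.range j := χ.codRestrict _ hχj
  let h : M →ₗ[R] (Fin n → R) := (LinearEquiv.ofInjective j hj).symm.toLinearMap ∘ₗ χ'
  have hjh : ∀ m, j (h m) = χ m := by
    intro m
    have := (LinearEquiv.ofInjective j hj).apply_symm_apply (χ' m)
    exact congrArg Subtype.val this
  refine ⟨h, ?_, ?_⟩
  · intro x hx
    have h1 : χ x = 0 := by rw [← hjh, hx, map_zero]
    have h2 : (d : R) • ψ x = 0 := h1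
    have h3 : ψ x = 0 := by
      rcases smul_eq_zero.mp h2 with h | h
      · exact absurd h hd0
      · exact h
    have h4 : ι x = 0 := by
      have : b.equivFun (ι x) = 0 := h3
      simpa using this
    have h5 : x ∈ LinearMap.ker ι := h4
    rw [LocalizedModule.mem_ker_mkLinearMap_iff] at h5
    obtain ⟨r, hr, hrx⟩ := h5
    exact ⟨r, nonZeroDivisors.ne_zero hr, hrx⟩
  · intro y
    obtain ⟨⟨m, t⟩, hmt⟩ := IsLocalizedModule.mk'_surjective S ι (b.equivFun.symm (j y))
    simp only [Function.uncurry_apply_pair] at hmt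
    have h1 : ι m = (t : R) • b.equivFun.symm (j y) := by
      rw [← hmt, ← Submonoid.smul_def, IsLocalizedModule.mk'_cancel']
    refine ⟨(d : R) * (t : R), mul_ne_zero hd0 (nonZeroDivisors.ne_zero t.2), m, ?_⟩
    apply hj
    rw [hjh]
    change (d : R) • (b.equivFun (ι m)) = _
    rw [h1]
    have : b.equivFun ((t : R) • b.equivFun.symm (j y)) = (t : R) • j y := by
      rw [← algebraMap_smul K, map_smul, LinearEquiv.apply_symm_apply, algebraMap_smul]
    rw [this, map_smul, mul_smul]


/-- A submodule with pointwise-torsion quotient of a finite module has uniformly torsion quotient. -/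
theorem exists_uniform_smul_mem {R : Type u} [CommRing R] [IsDomain R] {M : Type v} [AddCommGroup M]
    [Module R M] [Module.Finite R M] (P : Submodule R M)
    (h : ∀ x : M, ∃ c : R, c ≠ 0 ∧ c • x ∈ P) : ∃ c : R, c ≠ 0 ∧ ∀ x : M, c • x ∈ P := by
  classical
  obtain ⟨s, hs⟩ := Module.Finite.fg_top (R := R) (M := M)
  choose c hc0 hc using h
  refine ⟨∏ m ∈ s, c m, Finset.prod_ne_zero_iff.mpr (fun m _ => hc0 m), ?_⟩
  have : (⊤ : Submodule R M) ≤ P.comap ((∏ m ∈ s, c m) • (LinearMap.id : M →ₗ[R] M)) := by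
    rw [← hs, Submodule.span_le]
    intro m hm
    obtain ⟨k, hk⟩ := Finset.dvd_prod_of_mem c hm
    change (∏ m ∈ s, c m) • m ∈ P
    rw [hk, mul_comm, mul_smul]
    exact P.smul_mem k (hc m)
  intro x
  exact this (Submodule.mem_top (x := x))

/-- Given `h : M → R^n` with torsion cokernel there are `c ≠ 0` and `g : R^n → M` with
`h ∘ g = c • id`. -/
theorem exists_quasi_section {R : Type u} [CommRing R] [IsDomain R] {M : Type v} [AddCommGroup M]
    [Module R M] {n : ℕ} (h : M →ₗ[R] (Fin n → R))
    (hcoker : ∀ y : Fin n → R, ∃ c : R, c ≠ 0 ∧ c • y ∈ LinearMap.range h) :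
    ∃ (c : R) (g : (Fin n → R) →ₗ[R] M), c ≠ 0 ∧ ∀ y, h (g y) = c • y := by
  classical
  obtain ⟨c, hc0, hc⟩ := exists_uniform_smul_mem (LinearMap.range h) hcoker
  choose m hm using hc
  let g : (Fin n → R) →ₗ[R] M := (Pi.basisFun R (Fin n)).constr R
    (fun i => m (Pi.basisFun R (Fin n) i))
  refine ⟨c, g, hc0, ?_⟩
  have : h ∘ₗ g = c • LinearMap.id := by
    apply (Pi.basisFun R (Fin n)).ext
    intro i
    simp only [LinearMap.comp_apply, g, Module.Basis.constr_basis, hm, LinearMap.smul_apply,
      LinearMap.id_apply]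
  intro y
  exact LinearMap.congr_fun this y

/-- the data of a "quasi-isomorphism up to torsion" between a finite module over a domain and a
finite free module. -/
theorem exists_quasi_iso (R : Type u) [CommRing R] [IsDomain R] (M : Type v) [AddCommGroup M]
    [Module R M] [Module.Finite R M] :
    ∃ (h : M →ₗ[R] (Fin (Module.finrank R M) → R))
      (g : (Fin (Module.finrank R M) → R) →ₗ[R] M) (c₁ c₂ : R), c₁ ≠ 0 ∧ c₂ ≠ 0 ∧
      (∀ y, h (g y) = c₂ • y) ∧ (∀ x, h x = 0 → c₁ • x = 0) ∧ (∀ x, c₁ • g (h x) = (c₁ * c₂) • x) ∧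
      Function.Injective g := by
  obtain ⟨h, hker, hcoker⟩ := exists_map_to_fin_fun R M
  obtain ⟨c₂, g, hc₂, hg⟩ := exists_quasi_section h hcoker
  have hginj : Function.Injective g := by
    rw [injective_iff_map_eq_zero]
    intro y hy
    have : c₂ • y = 0 := by rw [← hg, hy, map_zero]
    rcases smul_eq_zero.mp this with h0 | h0
    · exact absurd h0 hc₂
    · exact h0
  -- cokernel of g is torsion
  have hgcoker : ∀ x : M, ∃ c : R, c ≠ 0 ∧ c • x ∈ LinearMap.range g := by
    intro x
    have hx : h (c₂ • x - g (h x)) = 0 := by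
      rw [map_sub, hg, map_smul, sub_self]
    obtain ⟨c, hc, hcx⟩ := hker _ hx
    refine ⟨c * c₂, mul_ne_zero hc hc₂, c • h x, ?_⟩
    rw [smul_sub, sub_eq_zero] at hcx
    rw [map_smul, ← hcx, mul_smul]
  obtain ⟨c₁, hc₁, hc₁'⟩ := exists_uniform_smul_mem (LinearMap.range g) hgcoker
  have hkill : ∀ x, h x = 0 → c₁ • x = 0 := by
    intro x hx
    obtain ⟨y, hy⟩ := hc₁' x
    have h1 : c₂ • y = 0 := by
      rw [← hg, hy, map_smul, hx, smul_zero]
    have h2 : y = 0 := by
      rcases smul_eq_zero.mp h1 with h0 | h0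
      · exact absurd h0 hc₂
      · exact h0
    rw [← hy, h2, map_zero]
  refine ⟨h, g, c₁, c₂, hc₁, hc₂, hg, hkill, ?_, hginj⟩
  intro x
  have hx : h (g (h x) - c₂ • x) = 0 := by
    rw [map_sub, hg, map_smul, sub_self]
  have := hkill _ hx
  rw [smul_sub, sub_eq_zero] at this
  rw [this, mul_smul]

end Groth.Agent.H34
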