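import Mathlib
import Groth.Prelude.Def_FlatCA
import Groth.Agent.H34.NilProj

/-!
# Inverse limits of finite flat modules along nil-surjective towers (helper34)
-/

set_option autoImplicit false
universe u

namespace Groth.Agent.H34.TowerProj

open Groth.Agent.H34.NilProj

section

variable (A : Type u) [CommRing A] (An : ℕ → Type u) [∀ n, CommRing (An n)]
  (t : ∀ n, An (n + 1) →+* An n) (π : ∀ n, A →+* An n)
  (M : ℕ → Type u) [∀ n, AddCommGroup (M n)] [∀ n, Module (An n) (M n)]
  (u : ∀ n, M (n + 1) →ₛₗ[t n] M n)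

include u in
theorem proj_all (ht : ∀ n, Function.Surjective (t n))
    (hnil : ∀ n (x : An (n + 1)), t n x = 0 → IsNilpotent x)
    [Module.Projective (An 0) (M 0)] (hfin : ∀ n, Module.Finite (An n) (M n))
    (hflat : ∀ n, Module.Flat (An n) (M n))
    (hu : ∀ n, Function.Surjective (u n) ∧
      LinearMap.ker (u n) = RingHom.ker (t n) • (⊤ : Submodule (An (n + 1)) (M (n + 1)))) :
    ∀ n, Module.Projective (An n) (M n) := by
  intro n
  induction n with
  | zero => infer_instance
  | succ n ih =>
    haveI := ih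
    haveI := hfin (n + 1)
    haveI := hflat (n + 1)
    exact projective_of_nil (t n) (ht n) (hnil n) (u n) (hu n).1 (hu n).2

variable {An M} in
/-- Compatible lifts of a generating family. -/
noncomputable def gens (hsurj : ∀ n, Function.Surjective (u n)) {N : ℕ} (g₀ : Fin N → M 0) :
    ∀ n, Fin N → M n
  | 0 => g₀
  | n + 1 => fun i => Classical.choose (hsurj n (gens hsurj g₀ n i))

theorem gens_compat (hsurj : ∀ n, Function.Surjective (u n)) {N : ℕ} (g₀ : Fin N → M 0) (n : ℕ)
    (i : Fin N) : u n (gens t u hsurj g₀ (n + 1) i) = gens t u hsurj g₀ n i :=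
  Classical.choose_spec (hsurj n (gens t u hsurj g₀ n i))

theorem lc_compat (hsurj : ∀ n, Function.Surjective (u n)) {N : ℕ} (g₀ : Fin N → M 0) (n : ℕ)
    (c : Fin N → An (n + 1)) :
    Fintype.linearCombination (An n) (gens t u hsurj g₀ n) (t n ∘ c) =
      u n (Fintype.linearCombination (An (n + 1)) (gens t u hsurj g₀ (n + 1)) c) := by
  rw [← linearCombination_compat (t n) (u n) (gens t u hsurj g₀ (n + 1)) c]
  congr 2
  funext i
  exact (gens_compat An t M u hsurj g₀ n i).symm

theorem gens_surj (ht : ∀ n, Function.Surjective (t n))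
    (hnil : ∀ n (x : An (n + 1)), t n x = 0 → IsNilpotent x)
    (hfin : ∀ n, Module.Finite (An n) (M n))
    (hu : ∀ n, Function.Surjective (u n) ∧
      LinearMap.ker (u n) = RingHom.ker (t n) • (⊤ : Submodule (An (n + 1)) (M (n + 1))))
    {N : ℕ} (g₀ : Fin N → M 0) (h₀ : Function.Surjective (Fintype.linearCombination (An 0) g₀)) :
    ∀ n, Function.Surjective
      (Fintype.linearCombination (An n) (gens t u (fun n => (hu n).1) g₀ n)) := by
  intro n
  induction n with
  | zero => exact h₀
  | succ n ih =>
    haveI := hfin (n + 1)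
    have hjac : RingHom.ker (t n) ≤ (⊥ : Ideal (An (n + 1))).jacobson := by
      intro x hx
      rw [Ideal.jacobson_bot]
      exact nilradical_le_jacobson _ (hnil n x hx)
    rw [← LinearMap.range_eq_top]
    apply top_le_iff.mp
    apply Submodule.le_of_le_smul_of_le_jacobson_bot (Module.Finite.fg_top) hjac
    intro m _
    obtain ⟨c₀, hc₀⟩ := ih (u n m)
    obtain ⟨c, rfl⟩ := exists_comp_eq (t n) (ht n) c₀
    rw [lc_compat] at hc₀
    set ψ := Fintype.linearCombination (An (n + 1)) (gens t u (fun n => (hu n).1) g₀ (n + 1))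
    have h1 : m = ψ c + (m - ψ c) := by abel
    rw [h1]
    apply Submodule.add_mem_sup
    · exact ⟨c, rfl⟩
    · rw [← (hu n).2, LinearMap.mem_ker, map_sub, hc₀, sub_self]


theorem exists_idems (ht : ∀ n, Function.Surjective (t n))
    (hproj : ∀ n, Module.Projective (An n) (M n))
    (hu : ∀ n, Function.Surjective (u n) ∧
      LinearMap.ker (u n) = RingHom.ker (t n) • (⊤ : Submodule (An (n + 1)) (M (n + 1))))
    {N : ℕ} (g : ∀ n, Fin N → M n) (hg : ∀ n i, u n (g (n + 1) i) = g n i)
    (hψ : ∀ n, Function.Surjective (Fintype.linearCombination (An n) (g n))) :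
    ∃ E : ∀ n, Matrix (Fin N) (Fin N) (An n),
      (∀ n, IsIdempotentElem (E n) ∧
        ∀ c, Fintype.linearCombination (An n) (g n) c = 0 ↔ (E n).mulVec c = 0) ∧
      ∀ n, (t n).mapMatrix (E (n + 1)) = E n := by
  classical
  have hstep : ∀ n (e : {e : Matrix (Fin N) (Fin N) (An n) // IsIdempotentElem e ∧
        ∀ c, Fintype.linearCombination (An n) (g n) c = 0 ↔ e.mulVec c = 0}),
      ∃ e' : {e' : Matrix (Fin N) (Fin N) (An (n + 1)) // IsIdempotentElem e' ∧
        ∀ c, Fintype.linearCombination (An (n + 1)) (g (n + 1)) c = 0 ↔ e'.mulVec c = 0},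
        (t n).mapMatrix e'.1 = e.1 := by
    rintro n ⟨e, he, hk⟩
    haveI := hproj (n + 1)
    have hk' : ∀ c₀, Fintype.linearCombination (An n) (fun i => u n (g (n + 1) i)) c₀ = 0 ↔
        e.mulVec c₀ = 0 := by
      have : (fun i => u n (g (n + 1) i)) = g n := funext (hg n)
      rw [this]
      exact hk
    obtain ⟨e', he', hk'', hmap⟩ := idem_step (t n) (ht n) (u n) (hu n).2 (g (n + 1))
      (hψ (n + 1)) e he hk'
    exact ⟨⟨e', he', hk''⟩, hmap⟩
  haveI := hproj 0
  obtain ⟨e0, he0, hk0, -⟩ := idem_of_projective (g 0) (hψ 0)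
  let E : ∀ n, {e : Matrix (Fin N) (Fin N) (An n) // IsIdempotentElem e ∧
        ∀ c, Fintype.linearCombination (An n) (g n) c = 0 ↔ e.mulVec c = 0} := fun n =>
    Nat.rec (motive := fun n => {e : Matrix (Fin N) (Fin N) (An n) // IsIdempotentElem e ∧
        ∀ c, Fintype.linearCombination (An n) (g n) c = 0 ↔ e.mulVec c = 0})
      ⟨e0, he0, hk0⟩ (fun n e => Classical.choose (hstep n e)) n
  exact ⟨fun n => (E n).1, fun n => (E n).2, fun n => Classical.choose_spec (hstep n (E n))⟩


include u in
theorem main (ht : ∀ n, Function.Surjective (t n))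
    (hnil : ∀ n (x : An (n + 1)), t n x = 0 → IsNilpotent x)
    (hA : FlatCA.IsRingLimit A An t π)
    [Module.Projective (An 0) (M 0)] (hfin : ∀ n, Module.Finite (An n) (M n))
    (hflat : ∀ n, Module.Flat (An n) (M n))
    (hu : ∀ n, Function.Surjective (u n) ∧
      LinearMap.ker (u n) = RingHom.ker (t n) • (⊤ : Submodule (An (n + 1)) (M (n + 1)))) :
    ∃ (P : Type u) (_ : AddCommGroup P) (_ : Module A P) (p : ∀ n, P →ₛₗ[π n] M n),
      Module.Finite A P ∧ Module.Projective A P ∧ (∀ n (x : P), u n (p (n + 1) x) = p n x) ∧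
      (∀ n, Function.Surjective (p n) ∧
        LinearMap.ker (p n) = RingHom.ker (π n) • (⊤ : Submodule A P)) ∧
      (∀ x : (∀ n, M n), (∀ n, u n (x (n + 1)) = x n) → ∃! q : P, ∀ n, p n q = x n) := by
  classical
  obtain ⟨h1, h2, h3⟩ := hA
  have h1' : ∀ n (a : A), t n (π (n + 1) a) = π n a := fun n a => by
    rw [← h1 n]; rfl
  have hproj := proj_all An t M u ht hnil hfin hflat hu
  -- generators
  obtain ⟨N, g₀, hg₀⟩ := Module.Finite.exists_fin (R := An 0) (M := M 0)
  have h₀ : Function.Surjective (Fintype.linearCombination (An 0) g₀) := by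
    rw [← LinearMap.range_eq_top, Fintype.range_linearCombination]
    exact hg₀
  set g := gens t u (fun n => (hu n).1) g₀ with hgdef
  have hg : ∀ n i, u n (g (n + 1) i) = g n i := gens_compat An t M u _ g₀
  have hψ : ∀ n, Function.Surjective (Fintype.linearCombination (An n) (g n)) :=
    gens_surj An t M u ht hnil hfin hu g₀ h₀
  have hlc : ∀ n (c : Fin N → An (n + 1)),
      Fintype.linearCombination (An n) (g n) (t n ∘ c) =
        u n (Fintype.linearCombination (An (n + 1)) (g (n + 1)) c) :=
    lc_compat An t M u _ g₀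
  obtain ⟨E, hE, hEt⟩ := exists_idems An t M u ht hproj hu g hg hψ
  have hEψ : ∀ n c, Fintype.linearCombination (An n) (g n) ((E n).mulVec c) =
      Fintype.linearCombination (An n) (g n) c := by
    intro n c
    have : Fintype.linearCombination (An n) (g n) (c - (E n).mulVec c) = 0 := by
      rw [(hE n).2, Matrix.mulVec_sub, Matrix.mulVec_mulVec, (hE n).1.eq, sub_self]
    rw [map_sub, sub_eq_zero] at this
    exact this.symm
  -- the limit idempotent
  have hex : ∀ i j, ∃ a : A, ∀ n, π n a = E n i j := by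
    intro i j
    apply h3 (fun n => E n i j)
    intro n
    have := congrFun (congrFun (hEt n) i) j
    simpa using this
  choose e he using hex
  let eM : Matrix (Fin N) (Fin N) A := Matrix.of e
  have heM : ∀ n, (π n).mapMatrix eM = E n := by
    intro n
    ext i j
    exact he i j n
  have hvec_ext : ∀ c d : Fin N → A, (∀ n, π n ∘ c = π n ∘ d) → c = d := by
    intro c d h
    funext i
    exact h2 _ _ fun n => congrFun (h n) i
  have heM_idem : IsIdempotentElem eM := by
    apply Matrix.ext
    intro i j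
    apply h2
    intro n
    have h4 : (π n).mapMatrix (eM * eM) = (π n).mapMatrix eM := by
      rw [map_mul, heM, (hE n).1.eq]
    exact congrFun (congrFun h4 i) j
  -- the module of compatible sequences
  letI modA : ∀ n, Module A (M n) := fun n => Module.compHom (M n) (π n)
  have hsmul : ∀ n (a : A) (m : M n), a • m = π n a • m := fun _ _ _ => rfl
  let Psub : Submodule A (∀ n, M n) :=
    { carrier := {x | ∀ n, u n (x (n + 1)) = x n}
      add_mem' := by
        intro x y hx hy n
        simp only [Pi.add_apply, map_add, hx n, hy n]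
      zero_mem' := by
        intro n
        simp
      smul_mem' := by
        intro a x hx n
        simp only [Pi.smul_apply]
        rw [hsmul, hsmul, map_smulₛₗ, hx n, h1'] }
  let p : ∀ n, ↥Psub →ₛₗ[π n] M n := fun n =>
    { toFun := fun x => x.1 n
      map_add' := fun x y => rfl
      map_smul' := fun a x => rfl }
  have hp : ∀ n (x : ↥Psub), p n x = x.1 n := fun _ _ => rfl
  let G : Fin N → ↥Psub := fun i => ⟨fun n => g n i, fun n => hg n i⟩
  let Ψ : (Fin N → A) →ₗ[A] ↥Psub := Fintype.linearCombination A G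
  have hΨ : ∀ c n, (Ψ c).1 n = Fintype.linearCombination (An n) (g n) (π n ∘ c) := by
    intro c n
    simp only [Ψ, Fintype.linearCombination_apply, Submodule.coe_sum, Finset.sum_apply,
      Function.comp_apply]
    apply Finset.sum_congr rfl
    intro i _
    rfl
  have hmapvec : ∀ n (c : Fin N → A), π n ∘ (eM.mulVec c) = (E n).mulVec (π n ∘ c) := by
    intro n c
    rw [map_mulVec', heM]
  have htvec : ∀ n (c : Fin N → An (n + 1)),
      t n ∘ ((E (n + 1)).mulVec c) = (E n).mulVec (t n ∘ c) := by
    intro n c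
    rw [map_mulVec', hEt]
  have hΨsurj : Function.Surjective Ψ := by
    rintro ⟨x, hx⟩
    choose c hc using fun n => hψ n (x n)
    let d : ∀ n, Fin N → An n := fun n => (E n).mulVec (c n)
    have hd : ∀ n, Fintype.linearCombination (An n) (g n) (d n) = x n := fun n => by
      rw [hEψ, hc]
    have hdcompat : ∀ n, t n ∘ d (n + 1) = d n := by
      intro n
      simp only [d]
      rw [htvec]
      have : (E n).mulVec (t n ∘ c (n + 1) - c n) = 0 := by
        rw [← (hE n).2, map_sub, hlc, hc, hc, hx n, sub_self]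
      rw [Matrix.mulVec_sub, sub_eq_zero] at this
      exact this
    have hexa : ∀ i, ∃ a : A, ∀ n, π n a = d n i := by
      intro i
      apply h3 (fun n => d n i)
      intro n
      exact congrFun (hdcompat n) i
    choose a ha using hexa
    refine ⟨a, ?_⟩
    apply Subtype.ext
    funext n
    rw [hΨ]
    have : π n ∘ a = d n := funext fun i => ha i n
    rw [this, hd]
  have hΨker : ∀ c, Ψ c = 0 ↔ eM.mulVec c = 0 := by
    intro c
    constructor
    · intro h
      apply hvec_ext
      intro n
      have hz : π n ∘ (0 : Fin N → A) = 0 := by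
        funext i; simp
      rw [hmapvec, hz, ← (hE n).2, ← hΨ, h]
      rfl
    · intro h
      apply Subtype.ext
      funext n
      rw [hΨ]
      show _ = (0 : M n)
      have hz : π n ∘ (0 : Fin N → A) = 0 := by
        funext i; simp
      rw [(hE n).2, ← hmapvec, h, hz]
  have heM_mul : ∀ c, eM.mulVec (eM.mulVec c) = eM.mulVec c := fun c => by
    rw [Matrix.mulVec_mulVec, heM_idem.eq]
  have hΨe : ∀ c, Ψ (eM.mulVec c) = Ψ c := by
    intro c
    have : Ψ (c - eM.mulVec c) = 0 := by
      rw [hΨker, Matrix.mulVec_sub, heM_mul, sub_self]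
    rw [map_sub, sub_eq_zero] at this
    exact this.symm
  -- projectivity
  let e' : (Fin N → A) →ₗ[A] (Fin N → A) := eM.mulVecLin
  let P' : Submodule A (Fin N → A) := LinearMap.range e'
  have hP' : Module.Projective A ↥P' := by
    apply Module.Projective.of_split P'.subtype e'.rangeRestrict
    apply LinearMap.ext
    rintro ⟨x, c, rfl⟩
    apply Subtype.ext
    exact heM_mul c
  let Φ : ↥P' →ₗ[A] ↥Psub := Ψ ∘ₗ P'.subtype
  have hΦinj : Function.Injective Φ := by
    rw [← LinearMap.ker_eq_bot, LinearMap.ker_eq_bot']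
    rintro ⟨x, c, rfl⟩ hx
    apply Subtype.ext
    have h4 : eM.mulVec (eM.mulVec c) = 0 := (hΨker _).mp hx
    rw [heM_mul] at h4
    exact h4
  have hΦsurj : Function.Surjective Φ := by
    intro y
    obtain ⟨c, rfl⟩ := hΨsurj y
    exact ⟨⟨e' c, c, rfl⟩, hΨe c⟩
  have hprojP : Module.Projective A ↥Psub :=
    Module.Projective.of_equiv (LinearEquiv.ofBijective Φ ⟨hΦinj, hΦsurj⟩)
  have hfinP : Module.Finite A ↥Psub := Module.Finite.of_surjective Ψ hΨsurj
  refine ⟨↥Psub, inferInstance, inferInstance, p, hfinP, hprojP, ?_, ?_, ?_⟩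
  · intro n x
    exact x.2 n
  · intro n
    constructor
    · intro m
      obtain ⟨x, hx, hxn⟩ := lift_seq n M (fun n => ⇑(u n)) (fun n => (hu n).1) m
      exact ⟨⟨x, hx⟩, hxn⟩
    · apply le_antisymm
      · intro x hx
        rw [LinearMap.mem_ker, hp] at hx
        obtain ⟨c', rfl⟩ := hΨsurj x
        rw [← hΨe] at hx ⊢
        set c := eM.mulVec c' with hc
        have hcc : eM.mulVec c = c := heM_mul c'
        rw [hΨ, (hE n).2, ← hmapvec, hcc] at hx
        have hci : ∀ i, c i ∈ RingHom.ker (π n) := fun i => congrFun hx i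
        show Fintype.linearCombination A G c ∈ _
        rw [Fintype.linearCombination_apply]
        exact Submodule.sum_mem _ fun i _ => Submodule.smul_mem_smul (hci i) trivial
      · rw [Submodule.smul_le]
        intro a ha x _
        rw [LinearMap.mem_ker, map_smulₛₗ, (RingHom.mem_ker).mp ha, zero_smul]
  · intro x hx
    refine ⟨⟨x, hx⟩, fun n => rfl, ?_⟩
    intro q hq
    apply Subtype.ext
    funext n
    exact hq n

end

end Groth.Agent.H34.TowerProj
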